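import Groth.Agent.H95.TopCech3

/-!
`H^0(P^0_R, O(d))` for `d < 0`, and the top cohomology of `O(-(n+1+k))` on `P^n_R` (helper95).
-/

set_option autoImplicit false
universe u
open CategoryTheory CategoryTheory.Limits AlgebraicGeometry TopologicalSpace Opposite MvPolynomial

namespace Groth.Agent.H95.TopCech

open Groth.Agent.Lead.Cech Groth.Agent.H18.CechContract Groth.Agent.H18.PSL Groth.Agent.H18
  Groth.Agent.H62.NL

theorem smulAb_app_top {X : Scheme.{u}} (M : X.Modules) (g : Coh.Γtop X)
    (m : (Coh.toAb M).obj.obj (op (⊤ : X.Opens))) :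
    (Coh.smulAb M g).hom.app (op ⊤) m =
      @HSMul.hSMul (X.ringCatSheaf.obj.obj (op ⊤)) (M.val.obj (op ⊤)) (M.val.obj (op ⊤)) _ g m := by
  rw [Coh.smulAb_app, HH0.resTop_top]

variable (R : Type u) [CommRing R]

theorem top_eq_monoOpen_zero :
    (⊤ : (CohB1.ProjSpace 0 R).Opens) = monoOpen 0 R (Finsupp.single (0 : Fin 1) 1) := by
  refine le_antisymm (fun x _ => ?_) le_top
  obtain ⟨i, hi⟩ := exists_mem_stdO 0 R x
  have h0 : i = 0 := @Subsingleton.elim (Fin 1) _ i 0
  rw [h0] at hi
  exact hi

/-- the Laurent coefficients of a global section of `O(d)` on `P^0_R` -/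
noncomputable def phi0 (d : ℤ) :
    Γ(Twist.twist (CohB1.polyGrading 0 R) d, (⊤ : (CohB1.ProjSpace 0 R).Opens)) →+
      (topSet 0 d → R) where
  toFun s t := lauSect 0 R d (Finsupp.single (0 : Fin 1) 1) (degree_single_one 0 0) ⊤
    (top_eq_monoOpen_zero R) s t.1
  map_zero' := by
    funext t
    rw [lauSect_zero]
    rfl
  map_add' s s' := by
    funext t
    rw [lauSect_add]
    rfl

theorem phi0_apply (d : ℤ)
    (s : Γ(Twist.twist (CohB1.polyGrading 0 R) d, (⊤ : (CohB1.ProjSpace 0 R).Opens)))
    (t : topSet 0 d) :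
    phi0 R d s t = lauSect 0 R d (Finsupp.single (0 : Fin 1) 1) (degree_single_one 0 0) ⊤
      (top_eq_monoOpen_zero R) s t.1 := rfl

theorem phi0_bijective (d : ℤ) (hd : d < 0) : Function.Bijective (phi0 R d) := by
  classical
  constructor
  · rw [injective_iff_map_eq_zero]
    intro s hs
    apply lauSect_injective 0 R (degree_single_one 0 0) (top_eq_monoOpen_zero R) s
    funext a
    by_contra hne
    obtain ⟨h1, -⟩ := lauSect_ne_zero_imp 0 R (degree_single_one 0 0) (top_eq_monoOpen_zero R) s hne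
    have ha : a ∈ topSet 0 d := by
      refine ⟨h1, fun i => ?_⟩
      have h0 : i = 0 := @Subsingleton.elim (Fin 1) _ i 0
      rw [Fin.sum_univ_one] at h1
      rw [h0, h1]
      exact hd
    exact hne (congrFun hs ⟨a, ha⟩)
  · intro L
    obtain ⟨s, hs⟩ := exists_lauSect_eq 0 R (d := d) (degree_single_one 0 0)
      (top_eq_monoOpen_zero R)
      (fun a => if h : a ∈ topSet 0 d then L ⟨a, h⟩ else 0)
      ((topSet_finite 0 d).subset fun a ha => by
        by_contra h
        exact ha (dif_neg h))
      (fun a ha => by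
        have haT : a ∈ topSet 0 d := by
          by_contra h
          exact ha (dif_neg h)
        refine ⟨haT.1, fun i _ => ?_⟩
        have h0 : i = 0 := @Subsingleton.elim (Fin 1) _ i 0
        rw [h0, Finsupp.single_eq_same]
        exact Nat.one_pos)
    refine ⟨s, ?_⟩
    funext t
    rw [phi0_apply, hs]
    change (if h : t.1 ∈ topSet 0 d then L ⟨t.1, h⟩ else 0) = L t
    rw [dif_pos t.2]

/-- `H^0(P^0_R, O(d))`, `d < 0`, is the module of functions on the top index set -/
theorem nonempty_HH0_linearEquiv_topSet (d : ℤ) (hd : d < 0) :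
    Nonempty (Coh.HH (CohB1.ProjSpace 0 R) (Twist.twistProjSpace 0 R d) 0 ≃ₗ[R]
      (topSet 0 d → R)) := by
  let e := HH0.equiv (X := CohB1.ProjSpace 0 R) (Twist.twistProjSpace 0 R d)
  let φ : Coh.HH (CohB1.ProjSpace 0 R) (Twist.twistProjSpace 0 R d) 0 →ₗ[R] (topSet 0 d → R) :=
    { toFun := fun x => phi0 R d (e x)
      map_add' := fun x y =>
        (congrArg (phi0 R d) (e.map_add x y)).trans ((phi0 R d).map_add _ _)
      map_smul' := fun r x => by
        rw [RingHom.id_apply, HH0.smul_def', HH0.equiv_smul]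
        have h1 : (Coh.toGlobal (CohB1.ProjSpace 0 R ↘ Spec (CommRingCat.of R)) r) • e x =
            (Coh.smulAb (Twist.twistProjSpace 0 R d)
              (Coh.toGlobal (CohB1.ProjSpace.toSpec 0 R) r)).hom.app (op ⊤) (e x) :=
          (smulAb_app_top (Twist.twistProjSpace 0 R d)
            (Coh.toGlobal (CohB1.ProjSpace.toSpec 0 R) r) (e x)).symm
        rw [h1]
        funext t
        exact congrFun (lauSect_smulAb 0 R (degree_single_one 0 0) (top_eq_monoOpen_zero R)
          (e x) r) t.1 }
  have hφ : Function.Bijective φ := by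
    have : (φ : _ → _) = phi0 R d ∘ e := rfl
    rw [this]
    exact (phi0_bijective R d hd).comp e.bijective
  exact ⟨LinearEquiv.ofBijective φ hφ⟩

end Groth.Agent.H95.TopCech
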