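import Groth.Agent.H95.TopCech4
import Groth.Agent.H95.TopCech5

/-!
Top cohomology of `O(-(n+1+k))` on `P^n_R` (helper95): `H^n(P^n_R, O(-(n+1+k)))` is the module of
homogeneous polynomials of degree `k` in `n + 1` variables.
-/

set_option autoImplicit false
universe u
open CategoryTheory CategoryTheory.Limits AlgebraicGeometry TopologicalSpace Opposite MvPolynomial

namespace Groth.Agent.H95.TopCech

variable (R : Type u) [CommRing R]

/-- `H^n(P^n_R, O(d))` is the module of functions on the set of the Laurent exponents of degree `d`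
with all entries negative (for `n = 0` we need `d < 0`) -/
theorem nonempty_HH_top_linearEquiv_topSet (n : ℕ) (d : ℤ) (hd : d < 0) :
    Nonempty (Coh.HH (CohB1.ProjSpace n R) (Twist.twistProjSpace n R d) n ≃ₗ[R]
      (topSet n d → R)) := by
  rcases n with _ | p
  · exact nonempty_HH0_linearEquiv_topSet R d hd
  · obtain ⟨e1⟩ := nonempty_topSet_linearEquiv_HH R p d
    exact ⟨e1.symm⟩

theorem top_cohomology (n k : ℕ) :
    Nonempty (Coh.HH (CohB1.ProjSpace n R) (Twist.twistProjSpace n R (-((n : ℤ) + 1 + k))) n ≃ₗ[R]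
      ↥(MvPolynomial.homogeneousSubmodule (Fin (n + 1)) R k)) := by
  obtain ⟨e2⟩ := nonempty_topSet_linearEquiv n R k
  obtain ⟨e1⟩ := nonempty_HH_top_linearEquiv_topSet R n (-((n : ℤ) + 1 + k)) (by
    have h1 : (0 : ℤ) ≤ (n : ℤ) := Int.natCast_nonneg n
    have h2 : (0 : ℤ) ≤ (k : ℤ) := Int.natCast_nonneg k
    omega)
  exact ⟨e1.trans e2⟩

end Groth.Agent.H95.TopCech
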