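import Groth.Agent.H95.HHLes
import Groth.Agent.H95.TopCech6
import Groth.Agent.Lead.Coh.SigmaSplit
import Groth.Agent.Lead.Coh.ProjSpaceCover
import Groth.Agent.H97.ProjProper
import Groth.Agent.S4402
import Groth.Agent.S0022
import Groth.Agent.S0026
import Groth.Agent.H18.TwistPow
import Groth.Agent.H18.ResProp.Ample
import Groth.Agent.H71.QCoh.LocFreeRank

/-!
Serre's finiteness theorem on projective space over a Noetherian ring (helper95).
-/

set_option autoImplicit false
universe u
open CategoryTheory CategoryTheory.Limits AlgebraicGeometry TopologicalSpace Opposite MvPolynomial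

namespace Groth.Agent.H95.SerreFin

open Groth.Agent.H95.TopCech Groth.Agent.H95.HHLes Groth.Agent.H18.PSL Groth.Agent.Lead.SigmaSplit

theorem subsingleton_HH_of_isZero {X : Scheme.{u}} (M : X.Modules) (hM : IsZero M) (i : ℕ) :
    Subsingleton (Coh.HH X M i) := by
  have hz : IsZero (Coh.toAb M) := (SheafOfModules.toSheaf X.ringCatSheaf).map_isZero hM
  refine ⟨fun x y => ?_⟩
  have key : ∀ z : Coh.HH X M i, z = 0 := by
    intro z
    have h1 : z.comp (Abelian.Ext.mk₀ (𝟙 (Coh.toAb M))) (add_zero i) = z :=
      Abelian.Ext.comp_mk₀_id z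
    rw [hz.eq_of_src (𝟙 _) 0, Abelian.Ext.mk₀_zero, Abelian.Ext.comp_zero] at h1
    exact h1.symm
  rw [key x, key y]

variable (n : ℕ) (R : Type u) [CommRing R]

/-- `H^i(P^n_R, O(d))` is a finite `R`-module -/
theorem finite_HH_twist (d : ℤ) (i : ℕ) :
    Module.Finite R (Coh.HH (CohB1.ProjSpace n R) (Twist.twistProjSpace n R d) i) := by
  by_cases h₀ : i = 0 ∧ 0 ≤ d
  · obtain ⟨rfl, hd⟩ := h₀
    obtain ⟨k, rfl⟩ := Int.eq_ofNat_of_zero_le hd
    obtain ⟨e1⟩ := nonempty_HH0_linearEquiv n R k
    obtain ⟨e2⟩ := nonempty_topSet_linearEquiv n R k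
    have : Finite (topSet n (-((n : ℤ) + 1 + k))) := (topSet_finite n _).to_subtype
    exact Module.Finite.equiv (e2.trans e1.symm)
  · by_cases hn : i = n ∧ d ≤ -((n : ℤ) + 1)
    · obtain ⟨rfl, hd⟩ := hn
      obtain ⟨e1⟩ := nonempty_HH_top_linearEquiv_topSet R i d (by
        have : (0 : ℤ) ≤ (i : ℤ) := Int.natCast_nonneg i
        omega)
      have : Finite (topSet i d) := (topSet_finite i d).to_subtype
      exact Module.Finite.equiv e1.symm
    · have := subsingleton_HH_twist n R d i h₀ hn
      infer_instance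

theorem isInvertible_twist (d : ℤ) : PicF.IsInvertible (Twist.twistProjSpace n R d) := by
  refine Groth.Agent.H18.isInvertible_twist (CohB1.polyGrading n R) (fun x => ?_) d
  obtain ⟨i, hi⟩ := exists_mem_stdO n R x
  refine ⟨mono n R (Finsupp.single i 1), ?_, (mem_monoOpen n R _ x).mp hi⟩
  have h := mono_mem n R (Finsupp.single i 1)
  rwa [Finsupp.degree_single] at h

theorem isFT_twist (d : ℤ) : CohB1.IsFT (Twist.twistProjSpace n R d) :=
  Groth.Agent.H71.QCoh.isFiniteType_of_isFinLocFree _
    (Groth.Agent.H18.ResProp.isFinLocFree_of_isInvertible (isInvertible_twist n R d))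

theorem isCoh_twist (d : ℤ) : Coh.IsCoh (Twist.twistProjSpace n R d) :=
  ⟨isQCoh_twistProjSpace n R d, isFT_twist n R d⟩

variable [IsNoetherianRing R]

instance isLocallyNoetherian_projSpace : IsLocallyNoetherian (CohB1.ProjSpace n R) :=
  LocallyOfFiniteType.isLocallyNoetherian (CohB1.ProjSpace.toSpec n R)

/-- finite sums of copies of `O(d)` -/
theorem finite_HH_pow (d : ℤ) (k i : ℕ) :
    Module.Finite R (Coh.HH (CohB1.ProjSpace n R) (pow (Twist.twistProjSpace n R d) k) i) := by
  induction k with
  | zero =>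
    have hz : IsZero (pow (Twist.twistProjSpace n R d) 0) := isZero_pow_zero _
    have : Subsingleton (Coh.HH (CohB1.ProjSpace n R) (pow (Twist.twistProjSpace n R d) 0) i) :=
      subsingleton_HH_of_isZero _ hz i
    infer_instance
  | succ k ih =>
    exact finite_mid (ses (Twist.twistProjSpace n R d) k)
      (splitting (Twist.twistProjSpace n R d) k).shortExact R i (finite_HH_twist n R d i) ih

/-- **Serre's finiteness theorem** on `P^n_R` -/
theorem finite_HH (M : (CohB1.ProjSpace n R).Modules) (hM : Coh.IsCoh M) (i : ℕ) :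
    Module.Finite R (Coh.HH (CohB1.ProjSpace n R) M i) := by
  have key : ∀ j i : ℕ, n + 1 ≤ i + j → ∀ M : (CohB1.ProjSpace n R).Modules, Coh.IsCoh M →
      Module.Finite R (Coh.HH (CohB1.ProjSpace n R) M i) := by
    intro j
    induction j with
    | zero =>
      intro i hi M hM
      have : Coh.IsQCoh M := hM.1
      have := Groth.Agent.S0022.result n R M i (by omega)
      infer_instance
    | succ j ih =>
      intro i hi M hM
      classical
      have hs1 : ∀ f ∈ (Finset.univ.image (X : Fin (n + 1) → MvPolynomial (Fin (n + 1)) R)),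
          f ∈ CohB1.polyGrading n R 1 := by
        intro f hf
        obtain ⟨a, -, rfl⟩ := Finset.mem_image.mp hf
        exact (mem_homogeneousSubmodule _ _).mpr (isHomogeneous_X R a)
      have hs : (HomogeneousIdeal.irrelevant (CohB1.polyGrading n R)).toIdeal =
          Ideal.span ((Finset.univ.image (X : Fin (n + 1) → MvPolynomial (Fin (n + 1)) R) :
            Finset _) : Set (MvPolynomial (Fin (n + 1)) R)) := by
        rw [Finset.coe_image, Finset.coe_univ, Set.image_univ]
        refine le_antisymm (Groth.Agent.Lead.Coh.irrelevant_le_span_X n R) ?_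
        rw [Ideal.span_le]
        rintro _ ⟨a, rfl⟩
        exact HomogeneousIdeal.mem_irrelevant_of_mem _ Nat.one_pos
          ((mem_homogeneousSubmodule _ _).mpr (isHomogeneous_X R a))
      obtain ⟨n₀, hn₀⟩ := Groth.Agent.S4402.result (CohB1.polyGrading n R) _ hs1 hs M hM.1 hM.2
      obtain ⟨k, p₀, hp₀⟩ := hn₀ n₀ le_rfl
      let p : pow (Twist.twistProjSpace n R (-(n₀ : ℤ))) k ⟶ M := p₀
      have hp : Epi p := hp₀
      let E : ShortComplex (CohB1.ProjSpace n R).Modules :=
        ShortComplex.mk (kernel.ι p) p (kernel.condition p)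
      have hE : E.ShortExact :=
        { exact := ShortComplex.exact_of_f_is_kernel _ (kernelIsKernel p)
          mono_f := inferInstanceAs (Mono (kernel.ι p))
          epi_g := hp }
      have hpow : Coh.IsCoh (pow (Twist.twistProjSpace n R (-(n₀ : ℤ))) k) :=
        isCoh_pow _ (isCoh_twist n R _) k
      have hK : Coh.IsCoh (kernel p) := Groth.Agent.S0026.isCoh_kernel _ _ p hpow hM
      exact finite_right E hE R i (finite_HH_pow n R (-(n₀ : ℤ)) k i)
        (ih (i + 1) (by omega) (kernel p) hK)
  exact key (n + 1) i (by omega) M hM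

end Groth.Agent.H95.SerreFin
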