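import Mathlib.LinearAlgebra.PiTensorProduct.Basic
import Mathlib.Algebra.Module.Projective
import Mathlib.LinearAlgebra.Projection
import Mathlib.LinearAlgebra.Multilinear.Basic
import Mathlib.RingTheory.Finiteness.Basic
import Mathlib.Tactic

set_option autoImplicit false
universe u v

namespace Groth.Agent.H95

open scoped TensorProduct
open PiTensorProduct

section
variable {R : Type u} [CommRing R] {M : Type v} [AddCommGroup M] [Module R M]

theorem eq_zero_of_forall_dual_eq_zero [Module.Projective R M] (m : M)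
    (h : ∀ ψ : M →ₗ[R] R, ψ m = 0) : m = 0 := by
  obtain ⟨s, hs⟩ := (Module.projective_def' (R := R) (P := M)).mp inferInstance
  have h0 : s m = 0 := by
    ext j
    have := h ((Finsupp.lapply j).comp s)
    simpa using this
  have := LinearMap.congr_fun hs m
  simp only [LinearMap.comp_apply, h0, map_zero, LinearMap.id_apply] at this
  exact this.symm

theorem exists_dual_basis_summand [Module.Finite R M] [Module.Projective R M]
    (F : Submodule R M) (hF : ∃ C : Submodule R M, IsCompl F C) :
    ∃ (n : ℕ) (x : Fin n → M) (φ : Fin n → (M →ₗ[R] R)), (∀ j, x j ∈ F) ∧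
      ∀ y ∈ F, y = ∑ j, φ j y • x j := by
  classical
  obtain ⟨C, hC⟩ := hF
  obtain ⟨n, f, hf⟩ := Module.Finite.exists_fin' R M
  obtain ⟨g, hg⟩ := Module.projective_lifting_property f LinearMap.id hf
  let q : M →ₗ[R] F := F.projectionOnto C hC
  refine ⟨n, fun j => (q (f (Pi.single j 1)) : M), fun j => (LinearMap.proj j).comp g,
    fun j => (q _).2, ?_⟩
  intro y hy
  have h1 : y = f (g y) := by
    have := LinearMap.congr_fun hg y
    simpa using this.symm
  have h2 : f (g y) = ∑ j, (g y) j • f (Pi.single j 1) := by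
    conv_lhs => rw [LinearMap.pi_apply_eq_sum_univ f (g y)]
    apply Finset.sum_congr rfl
    intro j _
    congr 2
    ext l
    simp [Pi.single_apply, eq_comm]
  have h3 : (q y : M) = y := by
    have := Submodule.projectionOnto_apply_left hC ⟨y, hy⟩
    exact congrArg Subtype.val this
  have h4 : (q y : M) = ∑ j, (g y) j • (q (f (Pi.single j 1)) : M) := by
    conv_lhs => rw [h1, h2]
    simp [map_sum]
  conv_lhs => rw [← h3, h4]
  rfl

/-- the functional `⨂ M → R` attached to a family of functionals -/
noncomputable def tensorFunctional (n : ℕ) (g : Fin n → (M →ₗ[R] R)) :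
    (⨂[R] _ : Fin n, M) →ₗ[R] R :=
  PiTensorProduct.lift ((MultilinearMap.mkPiAlgebra R (Fin n) R).compLinearMap g)

theorem tensorFunctional_tprod (n : ℕ) (g : Fin n → (M →ₗ[R] R)) (y : Fin n → M) :
    tensorFunctional n g (tprod R y) = ∏ l, g l (y l) := by
  simp [tensorFunctional]

/-- the vanishing predicate used in the descent -/
def VanishProd (F₁ F₂ : Submodule R M) (n : ℕ) : Prop :=
  ∀ (y : Fin (n + 1) → M), (∀ l, y l ∈ F₁) → ∀ g : Fin (n + 1) → (M →ₗ[R] R),
    (∀ f ∈ F₂, g 0 f = 0) → ∏ l, g l (y l) = 0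

theorem vanishProd_of_range_le (F₁ F₂ : Submodule R M) (n : ℕ)
    (h : LinearMap.range (PiTensorProduct.map (R := R) (fun _ : Fin (n + 1) => F₁.subtype)) ≤
      LinearMap.range (PiTensorProduct.map (R := R) (fun _ : Fin (n + 1) => F₂.subtype))) :
    VanishProd F₁ F₂ n := by
  intro y hy g hg
  rw [← tensorFunctional_tprod]
  have hmem : tprod R y ∈
      LinearMap.range (PiTensorProduct.map (R := R) (fun _ : Fin (n + 1) => F₁.subtype)) := by
    refine ⟨tprod R (fun l => (⟨y l, hy l⟩ : F₁)), ?_⟩
    rw [PiTensorProduct.map_tprod]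
    rfl
  obtain ⟨s, hs⟩ := h hmem
  rw [← hs]
  have hzero : (tensorFunctional (n + 1) g).comp
      (PiTensorProduct.map (R := R) (fun _ : Fin (n + 1) => F₂.subtype)) = 0 := by
    apply PiTensorProduct.ext
    ext z
    simp only [LinearMap.compMultilinearMap_apply, LinearMap.comp_apply, PiTensorProduct.map_tprod,
      tensorFunctional_tprod, LinearMap.zero_apply]
    apply Finset.prod_eq_zero (Finset.mem_univ 0)
    exact hg _ (z 0).2
  exact LinearMap.congr_fun hzero s

theorem vanishProd_descent (F₁ F₂ : Submodule R M) (m : ℕ)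
    (hdb : ∃ (n : ℕ) (x : Fin n → M) (φ : Fin n → (M →ₗ[R] R)), (∀ j, x j ∈ F₁) ∧
      ∀ y ∈ F₁, y = ∑ j, φ j y • x j)
    (h : VanishProd F₁ F₂ (m + 1)) : VanishProd F₁ F₂ m := by
  obtain ⟨n, x, φ, hx, hdec⟩ := hdb
  intro y hy g hg
  rw [Fin.prod_univ_succ]
  have h0 : g 0 (y 0) = ∑ j, φ j (y 0) * g 0 (x j) := by
    conv_lhs => rw [hdec (y 0) (hy 0)]
    simp [map_sum]
  rw [h0, Finset.sum_mul]
  apply Finset.sum_eq_zero
  intro j _
  have := h (Fin.cons (x j) y) (by
      intro l
      refine Fin.cases ?_ (fun l' => ?_) l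
      · simpa using hx j
      · simpa using hy l')
    (Fin.cons (g 0) (Fin.cons (φ j) (fun l => g l.succ))) (by
      intro f hf
      simpa using hg f hf)
  rw [Fin.prod_univ_succ, Fin.prod_univ_succ] at this
  simp only [Fin.cons_zero, Fin.cons_succ] at this
  rw [← this]
  ring

theorem le_of_vanishProd_zero [Module.Projective R M] (F₁ F₂ : Submodule R M)
    (h₂ : ∃ C : Submodule R M, IsCompl F₂ C) (h : VanishProd F₁ F₂ 0) : F₁ ≤ F₂ := by
  obtain ⟨C, hC⟩ := h₂
  intro y hy
  -- projection onto `C` along `F₂`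
  let π : M →ₗ[R] C := C.projectionOnto F₂ hC.symm
  have hπ : π y = 0 := by
    have : ((π y : C) : M) = 0 := by
      apply eq_zero_of_forall_dual_eq_zero (R := R)
      intro ψ
      have := h (fun _ => y) (fun _ => hy) (fun _ => ψ.comp (C.subtype.comp π)) (by
        intro f hf
        have : π f = 0 :=
          (Submodule.projectionOnto_apply_eq_zero_iff hC.symm).mpr hf
        simp [this])
      simpa using this
    exact Subtype.ext this
  exact (Submodule.projectionOnto_apply_eq_zero_iff hC.symm).mp hπ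

theorem le_of_range_tensorPower_le [Module.Finite R M] [Module.Projective R M]
    (F₁ F₂ : Submodule R M) (h₁ : ∃ C : Submodule R M, IsCompl F₁ C)
    (h₂ : ∃ C : Submodule R M, IsCompl F₂ C) (n : ℕ)
    (h : LinearMap.range (PiTensorProduct.map (R := R) (fun _ : Fin (n + 1) => F₁.subtype)) ≤
      LinearMap.range (PiTensorProduct.map (R := R) (fun _ : Fin (n + 1) => F₂.subtype))) :
    F₁ ≤ F₂ := by
  have hdb := exists_dual_basis_summand F₁ h₁
  have key : ∀ m : ℕ, m ≤ n → VanishProd F₁ F₂ (n - m) := by
    intro m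
    induction m with
    | zero => intro _; exact vanishProd_of_range_le F₁ F₂ n h
    | succ m ih =>
      intro hm
      have := ih (by omega)
      have e : n - m = (n - (m + 1)) + 1 := by omega
      rw [e] at this
      exact vanishProd_descent F₁ F₂ _ hdb this
  have h0 := key n le_rfl
  rw [Nat.sub_self] at h0
  exact le_of_vanishProd_zero F₁ F₂ h₂ h0

end
end Groth.Agent.H95
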