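import Groth.Agent.H95.TopCech6

/-!
The Euler characteristic of `O(n)` on `P^r_k` (helper95).
-/

set_option autoImplicit false
universe u
open CategoryTheory CategoryTheory.Limits AlgebraicGeometry TopologicalSpace Opposite MvPolynomial

namespace Groth.Agent.H95.TopCech

open Groth.Agent.H18.PSL

/-- the number of monomials of degree `d` in `r + 1` variables -/
theorem card_degree_eq (r d : ℕ) :
    Nat.card {m : Fin (r + 1) →₀ ℕ | m.degree = d} = (r + d).choose r := by
  classical
  have h : {m : Fin (r + 1) →₀ ℕ | m.degree = d} =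
      ↑(Finset.univ.finsuppAntidiag d : Finset (Fin (r + 1) →₀ ℕ)) := by
    ext m
    simp [Finset.mem_finsuppAntidiag, Finsupp.degree_eq_sum]
  rw [h, Nat.card_coe_set_eq, Set.ncard_coe_finset, Finset.card_finsuppAntidiag_nat_eq_choose,
    Finset.card_univ, Fintype.card_fin, Nat.add_right_comm, Nat.add_sub_cancel,
    Nat.choose_symm_add]

theorem card_topSet (r k' : ℕ) :
    Nat.card (topSet r (-((r : ℤ) + 1 + k'))) = (r + k').choose r := by
  rw [Nat.card_congr (topSetEquiv r k'), card_degree_eq]

theorem finrank_fun (k : Type u) [Field k] (α : Type*) [Finite α] :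
    Module.finrank k (α → k) = Nat.card α := by
  have := Fintype.ofFinite α
  rw [Module.finrank_pi, Nat.card_eq_fintype_card]

theorem finrank_homogeneousSubmodule (k : Type u) [Field k] (r d : ℕ) :
    Module.finrank k ↥(MvPolynomial.homogeneousSubmodule (Fin (r + 1)) k d) = (r + d).choose r := by
  obtain ⟨e⟩ := nonempty_topSet_linearEquiv r k d
  have : Finite (topSet r (-((r : ℤ) + 1 + d))) := (topSet_finite r _).to_subtype
  rw [← e.finrank_eq, finrank_fun, card_topSet]

/-- the Euler characteristic of `O(n)` on `P^r_k` -/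
theorem euler_char (k : Type u) [Field k] (r : ℕ) (hr : 0 < r) (n : ℤ) :
    ((Finset.range (r + 1)).sum fun j => (-1 : ℤ) ^ j *
        (Module.finrank k (Coh.HH (CohB1.ProjSpace r k) (Twist.twistProjSpace r k n) j) : ℤ)) =
      Ring.choose (n + r) r := by
  have hzero : ∀ j, ¬ (j = 0 ∧ 0 ≤ n) → ¬ (j = r ∧ n ≤ -((r : ℤ) + 1)) →
      (Module.finrank k (Coh.HH (CohB1.ProjSpace r k) (Twist.twistProjSpace r k n) j) : ℤ) = 0 := by
    intro j h0 hn
    have := subsingleton_HH_twist r k n j h0 hn
    rw [Module.finrank_zero_of_subsingleton]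
    rfl
  rcases le_or_gt 0 n with hn | hn
  · obtain ⟨d, rfl⟩ := Int.eq_ofNat_of_zero_le hn
    rw [Finset.sum_eq_single 0]
    · obtain ⟨e⟩ := nonempty_HH0_linearEquiv r k d
      rw [e.finrank_eq, finrank_homogeneousSubmodule, pow_zero, one_mul, ← Nat.cast_add,
        Ring.choose_natCast, add_comm]
    · intro j _ hj
      rw [hzero j (fun h => hj h.1) (fun h => by omega), mul_zero]
    · intro h
      exact absurd (Finset.mem_range.mpr (Nat.succ_pos r)) h
  · rcases lt_or_ge (-((r : ℤ) + 1)) n with hn2 | hn2
    · rw [Finset.sum_eq_zero]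
      · obtain ⟨m, hm⟩ := Int.eq_ofNat_of_zero_le (show 0 ≤ n + r by omega)
        rw [hm, Ring.choose_natCast, Nat.choose_eq_zero_of_lt (by omega)]
        rfl
      · intro j _
        rw [hzero j (fun h => by omega) (fun h => by omega), mul_zero]
    · obtain ⟨k', hk'⟩ := Int.eq_ofNat_of_zero_le (show 0 ≤ -n - r - 1 by omega)
      have hn' : n = -((r : ℤ) + 1 + k') := by omega
      rw [Finset.sum_eq_single r]
      · obtain ⟨e⟩ := nonempty_HH_top_linearEquiv_topSet k r n hn
        have : Finite (topSet r n) := (topSet_finite r n).to_subtype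
        rw [e.finrank_eq, finrank_fun]
        have h1 : Nat.card (topSet r n) = (r + k').choose r := by
          rw [hn']
          exact card_topSet r k'
        have h2 : n + r = -(((1 + k' : ℕ) : ℤ)) := by
          push_cast
          omega
        rw [h1, h2, Ring.choose_neg, Units.smul_def, Int.coe_negOnePow_natCast, smul_eq_mul]
        congr 1
        have h3 : (((1 + k' : ℕ) : ℤ)) + (r : ℤ) - 1 = ((r + k' : ℕ) : ℤ) := by
          push_cast
          ring
        rw [h3, Ring.choose_natCast]
      · intro j _ hj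
        rw [hzero j (fun h => by omega) (fun h => hj h.1), mul_zero]
      · intro h
        exact absurd (Finset.mem_range.mpr (Nat.lt_succ_self r)) h

end Groth.Agent.H95.TopCech
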