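import Mathlib
import Groth.Agent.H13.AlgClosedGeom

/-!
# Products of integral schemes over an algebraically closed field are integral
-/

universe u

namespace Groth.Agent.H95.ProdIntegral

open CategoryTheory CategoryTheory.Limits AlgebraicGeometry

/-- `Spec K ⟶ Spec k` is geometrically reduced for `k` algebraically closed. -/
theorem geometricallyReduced_specMap_of_isAlgClosed (k K : Type u) [Field k] [IsAlgClosed k]
    [Field K] [Algebra k K] :
    GeometricallyReduced (Spec.map (CommRingCat.ofHom (algebraMap k K))) := by
  refine ⟨geometrically_iff_of_commRing_of_isClosedUnderIsomorphisms.mpr fun L _ _ => ?_⟩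
  have : _root_.IsReduced (TensorProduct k K L) :=
    Groth.Agent.H13.isReduced_tensorProduct_of_isAlgClosed k K L
  have : IsReduced (Spec (CommRingCat.of (TensorProduct k K L))) := inferInstance
  exact isReduced_of_isOpenImmersion (pullbackSpecIso k K L).hom

/-- An integral locally noetherian scheme over an algebraically closed field is geometrically
integral. -/
theorem geometricallyIntegral_of_isAlgClosed (k : Type u) [Field k] [IsAlgClosed k]
    (X : Scheme.{u}) (f : X ⟶ Spec (CommRingCat.of k)) [IsIntegral X] [IsLocallyNoetherian X] :
    GeometricallyIntegral f := by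
  rw [GeometricallyIntegral.eq_geometricallyReduced_inf_geometricallyIrreducible]
  refine ⟨⟨?_⟩, ⟨?_⟩⟩
  · refine geometrically_iff_of_commRing_of_isClosedUnderIsomorphisms.mpr fun K _ _ => ?_
    have := geometricallyReduced_specMap_of_isAlgClosed k K
    infer_instance
  · refine geometrically_iff_of_commRing_of_isClosedUnderIsomorphisms.mpr fun K _ _ => ?_
    have := Groth.Agent.H13.geometricallyIrreducible_specMap_of_isAlgClosed k K
    infer_instance

/-- The product of integral schemes locally of finite type over an algebraically closed field is
integral. -/
theorem isIntegral_pullback (k : Type u) [Field k] [IsAlgClosed k] (X Y : Scheme.{u})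
    (f : X ⟶ Spec (CommRingCat.of k)) (g : Y ⟶ Spec (CommRingCat.of k))
    [IsIntegral X] [IsIntegral Y] [LocallyOfFiniteType f] [LocallyOfFiniteType g] :
    IsIntegral (pullback f g) := by
  have hX : IsLocallyNoetherian X := LocallyOfFiniteType.isLocallyNoetherian f
  have hY : IsLocallyNoetherian Y := LocallyOfFiniteType.isLocallyNoetherian g
  have hgi : GeometricallyIntegral f := geometricallyIntegral_of_isAlgClosed k X f
  infer_instance

end Groth.Agent.H95.ProdIntegral
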