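import Mathlib
import Groth.Prelude.Def_Curves
import Groth.Agent.H95.CiExt
import Groth.Agent.H95.TsenLang

/-!
# `C_m` fields: finitely generated transcendence degree `t` gives `C_{m+t}`
-/

namespace Groth.Agent.H95.CiTrdeg

open MvPolynomial IntermediateField

universe u v

theorem isCi_of_ringEquiv {K : Type u} {K' : Type v} [Field K] [Field K'] (e : K ≃+* K') {i : ℕ}
    (h : Curves.IsCi K i) : Curves.IsCi K' i := by
  intro r n f d hhom hd hsum
  obtain ⟨a, ha0, ha⟩ := h r n (fun ρ => MvPolynomial.map (e.symm : K' →+* K) (f ρ)) d
    (fun ρ => (hhom ρ).map _) hd hsum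
  refine ⟨fun j => e (a j), ?_, ?_⟩
  · intro h0
    apply ha0
    funext j
    have := congrFun h0 j
    simp only [Pi.zero_apply] at this
    exact e.injective (by rw [this, Pi.zero_apply, map_zero])
  · intro ρ
    have h1 := eval₂_comp (e : K →+* K') a (MvPolynomial.map (e.symm : K' →+* K) (f ρ))
    rw [ha ρ, map_zero, ← eval_map, MvPolynomial.map_map] at h1
    have h2 : ((e : K →+* K').comp (e.symm : K' →+* K)) = RingHom.id K' := by
      ext z; simp
    rw [h2, MvPolynomial.map_id] at h1
    exact h1.symm

theorem main : ∀ (t : ℕ) (F K : Type v) [Field F] [Field K] [Algebra F K] (x : Fin t → K),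
    IsTranscendenceBasis F x → ∀ m : ℕ, Curves.IsCi F m → Curves.IsCi K (m + t)
  | 0, F, K, _, _, _, x, hx, m, hm => by
    have : Algebra.IsAlgebraic F K := hx.isEmpty_iff_isAlgebraic.1 inferInstance
    exact CiExt.isCi_of_isAlgebraic m hm
  | t + 1, F, K, _, _, _, x, hx, m, hm => by
    have hind : AlgebraicIndependent F x := hx.1
    set x' : Fin t → K := x ∘ Fin.castSucc with hx'def
    set a : K := x (Fin.last t) with hadef
    have h1 : AlgebraicIndependent F (fun o : Option (Fin t) => o.elim a x') := by
      have : (fun o : Option (Fin t) => o.elim a x') = x ∘ finSuccEquivLast.symm := by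
        funext o
        cases o <;> simp [a, x']
      rw [this]
      exact (algebraicIndependent_equiv finSuccEquivLast.symm).2 hind
    obtain ⟨hx', htr⟩ := AlgebraicIndependent.option_iff.1 h1
    let E : IntermediateField F K := IntermediateField.adjoin F (Set.range x')
    have htrE : Transcendental E a := IntermediateField.transcendental_adjoin_iff.2 htr
    -- a transcendence basis of `E`
    let e := hx'.aevalEquivField
    have hb0 : IsTranscendenceBasis F (MvPolynomial.X : Fin t → MvPolynomial (Fin t) F) :=
      IsTranscendenceBasis.mvPolynomial (Fin t) F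
    have : Algebra.IsAlgebraic (MvPolynomial (Fin t) F) (FractionRing (MvPolynomial (Fin t) F)) :=
      IsLocalization.isAlgebraic _ (nonZeroDivisors (MvPolynomial (Fin t) F))
    have hb1 := hb0.algebraMap_comp (A := FractionRing (MvPolynomial (Fin t) F))
    have hb2 := e.isTranscendenceBasis hb1
    have hE : Curves.IsCi E (m + t) := main t F E _ hb2 m hm
    -- the field `E(a)`
    let E' : IntermediateField E K := IntermediateField.adjoin E {a}
    have hRat : Curves.IsCi (RatFunc E) (m + t + 1) := TsenLang.isCi_succ_ratFunc _ hE
    have hE' : Curves.IsCi E' (m + t + 1) :=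
      isCi_of_ringEquiv (RatFunc.algEquivOfTranscendental a htrE).toRingEquiv hRat
    -- `K` is algebraic over `E(a)`
    have halg : Algebra.IsAlgebraic E' K := by
      have h0 := hx.isAlgebraic_field
      have hle : IntermediateField.adjoin F (Set.range x) ≤ E'.restrictScalars F := by
        rw [IntermediateField.adjoin_le_iff]
        rintro _ ⟨i, rfl⟩
        refine Fin.lastCases ?_ (fun j => ?_) i
        · exact IntermediateField.mem_adjoin_simple_self E a
        · have hj : x' j ∈ E := IntermediateField.subset_adjoin F _ ⟨j, rfl⟩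
          exact E'.algebraMap_mem ⟨x' j, hj⟩
      refine ⟨fun z => ?_⟩
      have hz : IsAlgebraic (IntermediateField.adjoin F (Set.range x)) z := h0.isAlgebraic z
      have := IsAlgebraic.tower_top_of_subalgebra_le
        (A := (IntermediateField.adjoin F (Set.range x)).toSubalgebra)
        (B := (E'.restrictScalars F).toSubalgebra) hle hz
      exact this
    exact CiExt.isCi_of_isAlgebraic (m + t + 1) hE'

end Groth.Agent.H95.CiTrdeg

namespace Groth.Agent.H95.CiTrdeg

universe u v

theorem isCi_add_of_isTranscendenceBasis (k : Type u) [Field k] (K : Type v) [Field K] [Algebra k K]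
    (m t : ℕ) (x : Fin t → K) (hx : IsTranscendenceBasis k x) (hk : Curves.IsCi k m) :
    Curves.IsCi K (m + t) := by
  let F : IntermediateField k K := ⊥
  have hF : Curves.IsCi F m :=
    isCi_of_ringEquiv (IntermediateField.botEquiv k K).symm.toRingEquiv hk
  have : Algebra.IsAlgebraic k F :=
    Algebra.IsAlgebraic.of_injective (IntermediateField.botEquiv k K).toAlgHom
      (IntermediateField.botEquiv k K).injective
  have hxF : IsTranscendenceBasis F x := (Algebra.IsAlgebraic.isTranscendenceBasis_iff k F).1 hx
  exact main t F K x hxF m hF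

end Groth.Agent.H95.CiTrdeg
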