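import Groth.Agent.H95.GrJordan1

open DirectSum

namespace Groth.Agent.H95.GrJordan

universe u v w

set_option linter.unusedSectionVars false

section Main

variable {k : Type u} [Field k] {Λ : Type v} [AddCommGroup Λ] [DecidableEq Λ]
  {V : Type w} [AddCommGroup V] [Module k V] [FiniteDimensional k V]
  (𝒱 : Λ → Submodule k V) [DirectSum.Decomposition 𝒱]

theorem main (A : Module.End k V) (hA : IsNilpotent A) (χ : Λ)
    (hhom : ∀ (μ : Λ) (v : V), v ∈ 𝒱 μ → A v ∈ 𝒱 (μ + χ)) :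
    ∀ (d : ℕ) (W : Submodule k V), Module.finrank k W = d → (∀ w ∈ W, A w ∈ W) →
      (∀ w ∈ W, ∀ μ, proj 𝒱 μ w ∈ W) → Concl 𝒱 A W := by
  intro d
  induction d using Nat.strong_induction_on with
  | _ d ih =>
  intro W hd hst hgr
  by_cases hW : W = ⊥
  · subst hW
    exact Concl_bot 𝒱 A
  · obtain ⟨N, hN⟩ := hA
    have hex : ∃ M, ∀ w ∈ W, (A ^ M) w = 0 := ⟨N, fun w _ => by rw [hN]; rfl⟩
    classical
    have hM := Nat.find_spec hex
    have hM0 : Nat.find hex ≠ 0 := by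
      intro h0
      apply hW
      rw [Submodule.eq_bot_iff]
      intro w hw
      have := hM w hw
      rw [h0] at this
      simpa using this
    obtain ⟨m, hm⟩ := Nat.exists_eq_succ_of_ne_zero hM0
    have hmin : ¬ ∀ w ∈ W, (A ^ m) w = 0 := Nat.find_min hex (by omega)
    rw [hm] at hM
    push Not at hmin
    obtain ⟨w, hwW, hw⟩ := hmin
    -- a homogeneous vector of maximal height
    obtain ⟨μ₀, hμ₀⟩ : ∃ μ₀, (A ^ m) (proj 𝒱 μ₀ w) ≠ 0 := by
      by_contra hcon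
      push Not at hcon
      apply hw
      have hs := sum_proj 𝒱 w
      rw [← hs, map_sum]
      exact Finset.sum_eq_zero (fun μ _ => hcon μ)
    have hv₀W : proj 𝒱 μ₀ w ∈ W := hgr w hwW μ₀
    have hv₀μ : proj 𝒱 μ₀ w ∈ 𝒱 μ₀ := proj_mem 𝒱 μ₀ w
    generalize proj 𝒱 μ₀ w = v₀ at hμ₀ hv₀W hv₀μ
    have hv₀ : (A ^ (m + 1)) v₀ = 0 := hM v₀ hv₀W
    obtain ⟨φ₀, hφ₀⟩ : ∃ φ₀ : Module.Dual k V, φ₀ ((A ^ m) v₀) ≠ 0 := by
      by_contra hcon
      push Not at hcon
      exact hμ₀ ((Module.forall_dual_apply_eq_zero_iff k _).mp hcon)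
    have hpc : ∀ (j : ℕ) (y : V), proj 𝒱 (μ₀ + m • χ) ((A ^ j) y) =
        (A ^ j) (proj 𝒱 (μ₀ + m • χ - j • χ) y) := fun j y =>
      LinearMap.congr_fun (proj_comp_pow 𝒱 A χ hhom j (μ₀ + m • χ)) y
    obtain ⟨φ, hφdef⟩ : ∃ φ : V →ₗ[k] k, ∀ y, φ y = φ₀ (proj 𝒱 (μ₀ + m • χ) y) :=
      ⟨φ₀ ∘ₗ proj 𝒱 (μ₀ + m • χ), fun _ => rfl⟩
    have hφu : φ ((A ^ m) v₀) ≠ 0 := by
      rw [hφdef, proj_of_mem_same 𝒱 (pow_mem 𝒱 A χ hhom m μ₀ v₀ hv₀μ)]
      exact hφ₀
    -- the complement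
    obtain ⟨W', memW'⟩ : ∃ W' : Submodule k V,
        ∀ x, x ∈ W' ↔ x ∈ W ∧ ∀ j : ℕ, φ ((A ^ j) x) = 0 :=
      ⟨W ⊓ ⨅ j : ℕ, LinearMap.ker (φ ∘ₗ (A ^ j)), fun x => by
        simp [Submodule.mem_inf, Submodule.mem_iInf, LinearMap.mem_ker]⟩
    have hW'le : W' ≤ W := fun x hx => ((memW' x).mp hx).1
    have hv₀W' : v₀ ∉ W' := fun h => hφu (((memW' v₀).mp h).2 m)
    have hlt : W' < W := lt_of_le_of_ne hW'le (fun e => hv₀W' (e ▸ hv₀W))
    have hst' : ∀ x ∈ W', A x ∈ W' := by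
      intro x hx
      rw [memW'] at hx ⊢
      refine ⟨hst x hx.1, fun j => ?_⟩
      have := hx.2 (j + 1)
      rwa [pow_succ, Module.End.mul_apply] at this
    have hgr' : ∀ x ∈ W', ∀ μ, proj 𝒱 μ x ∈ W' := by
      intro x hx μ
      rw [memW'] at hx ⊢
      refine ⟨hgr x hx.1 μ, fun j => ?_⟩
      rw [hφdef, hpc]
      by_cases h : μ = μ₀ + m • χ - j • χ
      · rw [← h, proj_of_mem_same 𝒱 (proj_mem 𝒱 μ x), h, ← hpc, ← hφdef]
        exact hx.2 j
      · rw [proj_of_mem_ne 𝒱 (proj_mem 𝒱 μ x) h, map_zero, map_zero]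
    have hConcl' : Concl 𝒱 A W' :=
      ih (Module.finrank k W') (hd ▸ Submodule.finrank_lt_finrank_of_lt hlt) W' rfl hst' hgr'
    -- chain facts
    have hpowW : ∀ (i : ℕ), (A ^ i) v₀ ∈ W := by
      intro i
      induction i with
      | zero => simpa using hv₀W
      | succ i ih => rw [pow_succ', Module.End.mul_apply]; exact hst _ ih
    have hsumW : ∀ c : Fin (m + 1) → k, (∑ i, c i • (A ^ (i : ℕ)) v₀) ∈ W := fun c =>
      Submodule.sum_mem _ (fun i _ => Submodule.smul_mem _ _ (hpowW i))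
    have hcore : ∀ c : Fin (m + 1) → k,
        (∀ j : ℕ, j ≤ m → φ ((A ^ j) (∑ i, c i • (A ^ (i : ℕ)) v₀)) = 0) → c = 0 :=
      fun c hc => core A φ m v₀ hv₀ hφu c hc
    have hLI : LinearIndependent k (fun i : Fin (m + 1) => (A ^ (i : ℕ)) v₀) := by
      rw [Fintype.linearIndependent_iff]
      intro g hg i
      have := hcore g (fun j _ => by rw [hg, map_zero, map_zero])
      rw [this]; rfl
    have hdisj : Disjoint
        (Submodule.span k (Set.range (fun i : Fin (m + 1) => (A ^ (i : ℕ)) v₀))) W' := by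
      rw [Submodule.disjoint_def]
      intro x hx hx'
      obtain ⟨c, rfl⟩ := (Submodule.mem_span_range_iff_exists_fun k).mp hx
      have := hcore c (fun j _ => ((memW' _).mp hx').2 j)
      rw [this]; simp
    have hsup : Submodule.span k (Set.range (fun i : Fin (m + 1) => (A ^ (i : ℕ)) v₀)) ⊔ W'
        = W := by
      apply le_antisymm
      · refine sup_le ?_ hW'le
        rw [Submodule.span_le]
        rintro _ ⟨i, rfl⟩
        exact hpowW i
      · intro x hx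
        -- the triangular map
        let T : (Fin (m + 1) → k) →ₗ[k] (Fin (m + 1) → k) :=
          (LinearMap.pi (fun j : Fin (m + 1) => φ ∘ₗ (A ^ (j : ℕ)))) ∘ₗ
            (Fintype.linearCombination k (fun i : Fin (m + 1) => (A ^ (i : ℕ)) v₀))
        have hT : ∀ (c : Fin (m + 1) → k) (j : Fin (m + 1)),
            T c j = φ ((A ^ (j : ℕ)) (∑ i, c i • (A ^ (i : ℕ)) v₀)) := fun c j => rfl
        have hTinj : Function.Injective T := by
          rw [← LinearMap.ker_eq_bot, LinearMap.ker_eq_bot']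
          intro c hc
          apply hcore c
          intro j hj
          have := congrFun hc ⟨j, by omega⟩
          rw [hT] at this
          exact this
        have hTsurj : Function.Surjective T := LinearMap.injective_iff_surjective.mp hTinj
        obtain ⟨c, hc⟩ := hTsurj (fun j => φ ((A ^ (j : ℕ)) x))
        have hmem : x - ∑ i, c i • (A ^ (i : ℕ)) v₀ ∈ W' := by
          rw [memW']
          refine ⟨Submodule.sub_mem _ hx (hsumW c), fun j => ?_⟩
          by_cases hj : j ≤ m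
          · have := congrFun hc ⟨j, by omega⟩
            rw [hT] at this
            rw [map_sub, map_sub, this]
            simp
          · have hxW : x - ∑ i, c i • (A ^ (i : ℕ)) v₀ ∈ W :=
              Submodule.sub_mem _ hx (hsumW c)
            rw [pow_apply_eq_zero_of_le A (hM _ hxW) (by omega), map_zero]
        have hspan : (∑ i, c i • (A ^ (i : ℕ)) v₀) ∈
            Submodule.span k (Set.range (fun i : Fin (m + 1) => (A ^ (i : ℕ)) v₀)) :=
          (Submodule.mem_span_range_iff_exists_fun k).mpr ⟨c, rfl⟩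
        have : x = (∑ i, c i • (A ^ (i : ℕ)) v₀) + (x - ∑ i, c i • (A ^ (i : ℕ)) v₀) := by abel
        rw [this]
        exact Submodule.add_mem_sup hspan hmem
    exact Concl_extend 𝒱 A χ hhom W W' m v₀ μ₀ hv₀μ hv₀ hLI hdisj hsup hConcl'

theorem main_top (A : Module.End k V) (hA : IsNilpotent A) (χ : Λ)
    (hhom : ∀ (μ : Λ) (v : V), v ∈ 𝒱 μ → A v ∈ 𝒱 (μ + χ)) : Concl 𝒱 A ⊤ :=
  main 𝒱 A hA χ hhom _ ⊤ rfl (fun _ _ => Submodule.mem_top) (fun _ _ _ => Submodule.mem_top)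

end Main

end Groth.Agent.H95.GrJordan
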