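import Groth.Agent.H95.AffBasisSheaf

set_option autoImplicit false
set_option backward.isDefEq.respectTransparency.types false

universe u

namespace Groth.Agent.H95.AffBasisSheaf

open AlgebraicGeometry CategoryTheory TopologicalSpace Opposite

variable {X : Scheme.{u}}


lemma exists_sheaf_iff (F : (X.affineOpens)ᵒᵖ ⥤ Type u) :
    (∃ G : TopCat.Sheaf (Type u) X.carrier, Nonempty ((ι X).op ⋙ G.1 ≅ F)) ↔
      Presheaf.IsSheaf (J X) F := by
  constructor
  · rintro ⟨G, ⟨e⟩⟩
    have h1 : Presheaf.IsSheaf (J X) ((ι X).op ⋙ G.1) :=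
      (((ι X).sheafPushforwardContinuous (Type u) (J X) (Opens.grothendieckTopology X)).obj G).2
    exact (Presheaf.isSheaf_of_iso_iff e).mp h1
  · intro hF
    let E := (ι X).sheafInducedTopologyEquivOfIsCoverDense (Opens.grothendieckTopology X) (Type u)
    refine ⟨E.functor.obj ⟨F, hF⟩, ⟨?_⟩⟩
    exact (sheafToPresheaf _ _).mapIso (E.unitIso.app ⟨F, hF⟩).symm



/-- basic open as an affine open -/
def bo (U : X.affineOpens) (f : Γ(X, (U : X.Opens))) : X.affineOpens :=
  ⟨X.basicOpen f, U.2.basicOpen f⟩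

lemma bo_le (U : X.affineOpens) (f : Γ(X, (U : X.Opens))) : bo U f ≤ U :=
  X.basicOpen_le f

@[simp] lemma coe_bo (U : X.affineOpens) (f : Γ(X, (U : X.Opens))) :
    ((bo U f : X.affineOpens) : X.Opens) = X.basicOpen f := rfl

/-- restriction of sections between affine opens. -/
noncomputable def res {U Y : X.affineOpens} (h : Y ≤ U) (f : Γ(X, (U : X.Opens))) :
    Γ(X, (Y : X.Opens)) :=
  X.presheaf.map (homOfLE (show (Y : X.Opens) ≤ (U : X.Opens) from h)).op f

lemma basicOpen_res {U Y : X.affineOpens} (h : Y ≤ U) (f : Γ(X, (U : X.Opens))) :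
    X.basicOpen (res h f) = (Y : X.Opens) ⊓ X.basicOpen f :=
  Scheme.basicOpen_res _ _ _

/-- The binary sieve generated by `D(f)` and `D(g)`. -/
def binSieve (U : X.affineOpens) (f g : Γ(X, (U : X.Opens))) : Sieve U where
  arrows Z _ := (Z : X.Opens) ≤ X.basicOpen f ∨ (Z : X.Opens) ≤ X.basicOpen g
  downward_closed := by
    rintro Y Z h (h1 | h1) k
    · exact Or.inl (le_trans (show (Z : X.Opens) ≤ (Y : X.Opens) from k.le) h1)
    · exact Or.inr (le_trans (show (Z : X.Opens) ≤ (Y : X.Opens) from k.le) h1)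

lemma binSieve_pullback {U Y : X.affineOpens} (f g : Γ(X, (U : X.Opens))) (h : Y ⟶ U) :
    (binSieve U f g).pullback h = binSieve Y (res h.le f) (res h.le g) := by
  ext Z k
  have hZ : (Z : X.Opens) ≤ (Y : X.Opens) := k.le
  simp only [Sieve.pullback_apply]
  change ((Z : X.Opens) ≤ X.basicOpen f ∨ (Z : X.Opens) ≤ X.basicOpen g) ↔
    ((Z : X.Opens) ≤ X.basicOpen (res h.le f) ∨ (Z : X.Opens) ≤ X.basicOpen (res h.le g))
  rw [basicOpen_res, basicOpen_res]
  simp [hZ]

/-- condition (b) -/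
def CondB (F : (X.affineOpens)ᵒᵖ ⥤ Type u) : Prop :=
  ∀ (U V W VW : X.affineOpens) (f g : Γ(X, (U : X.Opens))),
    (V : X.Opens) = X.basicOpen f → (W : X.Opens) = X.basicOpen g →
    (VW : X.Opens) = X.basicOpen (f * g) → (U : X.Opens) = (V : X.Opens) ⊔ (W : X.Opens) →
    ∀ (hV : V ≤ U) (hW : W ≤ U) (h1 : VW ≤ V) (h2 : VW ≤ W),
    Function.Injective
      (fun s : F.obj (op U) => (F.map (homOfLE hV).op s, F.map (homOfLE hW).op s)) ∧
    Set.range (fun s : F.obj (op U) => (F.map (homOfLE hV).op s, F.map (homOfLE hW).op s)) =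
      {p | F.map (homOfLE h1).op p.1 = F.map (homOfLE h2).op p.2}

lemma isSheafFor_binSieve {F : (X.affineOpens)ᵒᵖ ⥤ Type u} (hB : CondB F)
    (U : X.affineOpens) (f g : Γ(X, (U : X.Opens)))
    (hU : (U : X.Opens) = X.basicOpen f ⊔ X.basicOpen g) :
    Presieve.IsSheafFor F (binSieve U f g).arrows := by
  have hV : bo U f ≤ U := bo_le U f
  have hW : bo U g ≤ U := bo_le U g
  have h1 : bo U (f * g) ≤ bo U f := by
    change X.basicOpen (f * g) ≤ X.basicOpen f
    rw [Scheme.basicOpen_mul]; exact inf_le_left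
  have h2 : bo U (f * g) ≤ bo U g := by
    change X.basicOpen (f * g) ≤ X.basicOpen g
    rw [Scheme.basicOpen_mul]; exact inf_le_right
  obtain ⟨hinj, hrange⟩ := hB U (bo U f) (bo U g) (bo U (f * g)) f g rfl rfl rfl hU hV hW h1 h2
  intro x hx
  have memV : (binSieve U f g).arrows (homOfLE hV) := Or.inl le_rfl
  have memW : (binSieve U f g).arrows (homOfLE hW) := Or.inr le_rfl
  have hagree : F.map (homOfLE h1).op (x (homOfLE hV) memV) =
      F.map (homOfLE h2).op (x (homOfLE hW) memW) :=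
    hx (homOfLE h1) (homOfLE h2) memV memW (Subsingleton.elim _ _)
  have hmem : (x (homOfLE hV) memV, x (homOfLE hW) memW) ∈
      {p : F.obj (op (bo U f)) × F.obj (op (bo U g)) |
        F.map (homOfLE h1).op p.1 = F.map (homOfLE h2).op p.2} := hagree
  rw [← hrange] at hmem
  obtain ⟨s, hs⟩ := hmem
  have hsV : F.map (homOfLE hV).op s = x (homOfLE hV) memV := congrArg Prod.fst hs
  have hsW : F.map (homOfLE hW).op s = x (homOfLE hW) memW := congrArg Prod.snd hs
  refine ⟨s, ?_, ?_⟩
  · intro Z h hh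
    rcases hh with hZ | hZ
    · let k : Z ⟶ bo U f := homOfLE hZ
      have := hx k (𝟙 Z) (f₂ := h) memV (Or.inl hZ) (Subsingleton.elim _ _)
      rw [op_id, F.map_id] at this
      have e' : F.map h.op s = F.map k.op (F.map (homOfLE hV).op s) := by
        rw [← Functor.map_comp_apply]
        exact congrArg (fun m => F.map m s) (Subsingleton.elim _ _)
      rw [e', hsV, this]
      rfl
    · let k : Z ⟶ bo U g := homOfLE hZ
      have := hx k (𝟙 Z) (f₂ := h) memW (Or.inr hZ) (Subsingleton.elim _ _)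
      rw [op_id, F.map_id] at this
      have e' : F.map h.op s = F.map k.op (F.map (homOfLE hW).op s) := by
        rw [← Functor.map_comp_apply]
        exact congrArg (fun m => F.map m s) (Subsingleton.elim _ _)
      rw [e', hsW, this]
      rfl
  · intro t ht
    apply hinj
    change (F.map (homOfLE hV).op t, F.map (homOfLE hW).op t) =
      (F.map (homOfLE hV).op s, F.map (homOfLE hW).op s)
    rw [ht _ memV, ht _ memW, hsV, hsW]

lemma binSieve_mem_finest {F : (X.affineOpens)ᵒᵖ ⥤ Type u} (hB : CondB F)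
    (U : X.affineOpens) (f g : Γ(X, (U : X.Opens)))
    (hU : (U : X.Opens) = X.basicOpen f ⊔ X.basicOpen g) :
    binSieve U f g ∈ Sheaf.finestTopologySingle F U := by
  intro Y h
  rw [binSieve_pullback]
  apply isSheafFor_binSieve hB
  rw [basicOpen_res, basicOpen_res, ← inf_sup_left, ← hU]
  exact (inf_eq_left.mpr h.le).symm

lemma eq_of_coe_eq_bot {U E : X.affineOpens} (hU : (U : X.Opens) = ⊥) (hE : (E : X.Opens) = ⊥) :
    U = E := Subtype.ext (hU.trans hE.symm)

lemma bot_mem_finest {F : (X.affineOpens)ᵒᵖ ⥤ Type u} (E : X.affineOpens)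
    (hE : (E : X.Opens) = ⊥) (hne : Nonempty (F.obj (op E))) (hss : Subsingleton (F.obj (op E)))
    (U : X.affineOpens) (hU : (U : X.Opens) = ⊥) :
    (⊥ : Sieve U) ∈ Sheaf.finestTopologySingle F U := by
  intro Y h
  have hY : (Y : X.Opens) = ⊥ := by
    have : (Y : X.Opens) ≤ (U : X.Opens) := h.le
    rw [hU] at this
    exact le_bot_iff.mp this
  obtain rfl : Y = E := eq_of_coe_eq_bot hY hE
  intro x hx
  obtain ⟨s⟩ := hne
  refine ⟨s, ?_, fun t _ => Subsingleton.elim _ _⟩
  intro Z k hk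
  exact hk.elim

/-- The sieve generated by the `D(f i)`. -/
def famSieve (U : X.affineOpens) {n : ℕ} (f : Fin n → Γ(X, (U : X.Opens))) : Sieve U where
  arrows Z _ := ∃ i, (Z : X.Opens) ≤ X.basicOpen (f i)
  downward_closed := by
    rintro Y Z h ⟨i, h1⟩ k
    exact ⟨i, le_trans (show (Z : X.Opens) ≤ (Y : X.Opens) from k.le) h1⟩

lemma isUnit_res_bo (U : X.affineOpens) (g : Γ(X, (U : X.Opens))) :
    IsUnit (res (bo_le U g) g) :=
  RingedSpace.isUnit_res_basicOpen X.toRingedSpace g

lemma res_sum {U Y : X.affineOpens} (h : Y ≤ U) {ι : Type*} (s : Finset ι)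
    (a : ι → Γ(X, (U : X.Opens))) : res h (∑ i ∈ s, a i) = ∑ i ∈ s, res h (a i) :=
  map_sum (X.presheaf.map (homOfLE (show (Y : X.Opens) ≤ (U : X.Opens) from h)).op).hom a s

lemma res_mul {U Y : X.affineOpens} (h : Y ≤ U) (a b : Γ(X, (U : X.Opens))) :
    res h (a * b) = res h a * res h b :=
  map_mul (X.presheaf.map (homOfLE (show (Y : X.Opens) ≤ (U : X.Opens) from h)).op).hom a b

lemma famSieve_mem_finest {F : (X.affineOpens)ᵒᵖ ⥤ Type u} (hB : CondB F)
    (E : X.affineOpens) (hE : (E : X.Opens) = ⊥) (hne : Nonempty (F.obj (op E)))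
    (hss : Subsingleton (F.obj (op E))) :
    ∀ (n : ℕ) (U : X.affineOpens) (f : Fin n → Γ(X, (U : X.Opens))),
      Ideal.span (Set.range f) = ⊤ → famSieve U f ∈ Sheaf.finestTopologySingle F U := by
  intro n
  induction n with
  | zero =>
    intro U f hf
    have h0 : (1 : Γ(X, (U : X.Opens))) = 0 := by
      have : (1 : Γ(X, (U : X.Opens))) ∈ Ideal.span (Set.range f) := by rw [hf]; trivial
      rw [Set.range_eq_empty f, Ideal.span_empty] at this
      exact this
    have hU : (U : X.Opens) = ⊥ := by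
      rw [← Scheme.basicOpen_one (X := X) (U := (U : X.Opens)), h0, Scheme.basicOpen_zero]
    exact (Sheaf.finestTopologySingle F).superset_covering bot_le
      (bot_mem_finest E hE hne hss U hU)
  | succ n ih =>
    intro U f hf
    have h1 : (1 : Γ(X, (U : X.Opens))) ∈ Ideal.span (Set.range f) := by rw [hf]; trivial
    obtain ⟨c, hc⟩ := (Ideal.mem_span_range_iff_exists_fun).mp h1
    rw [Fin.sum_univ_succ] at hc
    obtain ⟨g, hg⟩ : ∃ g : Γ(X, (U : X.Opens)), g = ∑ i : Fin n, c i.succ * f i.succ := ⟨_, rfl⟩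
    rw [← hg] at hc
    have hU : (U : X.Opens) = X.basicOpen (f 0) ⊔ X.basicOpen g := by
      apply le_antisymm
      · calc (U : X.Opens) = X.basicOpen (1 : Γ(X, (U : X.Opens))) :=
              (Scheme.basicOpen_one (X := X) (U := (U : X.Opens))).symm
          _ = X.basicOpen (c 0 * f 0 + g) := by rw [hc]
          _ ≤ X.basicOpen (c 0 * f 0) ⊔ X.basicOpen g := Scheme.basicOpen_add_le X _ _
          _ ≤ X.basicOpen (f 0) ⊔ X.basicOpen g := by
            apply sup_le_sup_right
            rw [Scheme.basicOpen_mul]; exact inf_le_right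
      · exact sup_le (X.basicOpen_le _) (X.basicOpen_le _)
    refine (Sheaf.finestTopologySingle F).transitive (binSieve_mem_finest hB U (f 0) g hU) _ ?_
    intro Z h hh
    rcases hh with hZ | hZ
    · have : (famSieve U f).arrows h := ⟨0, hZ⟩
      rw [Sieve.pullback_eq_top_of_mem _ this]
      exact (Sheaf.finestTopologySingle F).top_mem _
    · -- pass to `D(g)`
      let U' : X.affineOpens := bo U g
      let i : U' ⟶ U := homOfLE (bo_le U g)
      let h' : Z ⟶ U' := homOfLE hZ
      have e : h = h' ≫ i := Subsingleton.elim _ _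
      rw [e, Sieve.pullback_comp]
      apply (Sheaf.finestTopologySingle F).pullback_stable
      let f' : Fin n → Γ(X, (U' : X.Opens)) := fun j => res (bo_le U g) (f j.succ)
      have hspan : Ideal.span (Set.range f') = ⊤ := by
        apply Ideal.eq_top_of_isUnit_mem _ _ (isUnit_res_bo U g)
        rw [congrArg (res (bo_le U g)) hg, res_sum]
        refine Ideal.sum_mem _ (fun j _ => ?_)
        rw [res_mul]
        exact Ideal.mul_mem_left _ _ (Ideal.subset_span ⟨j, rfl⟩)
      refine (Sheaf.finestTopologySingle F).superset_covering ?_ (ih U' f' hspan)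
      intro W k hk
      obtain ⟨j, hj⟩ := hk
      refine ⟨j.succ, ?_⟩
      change (W : X.Opens) ≤ X.basicOpen (res (bo_le U g) (f j.succ)) at hj
      rw [basicOpen_res] at hj
      exact hj.trans inf_le_right

lemma J_le_finest {F : (X.affineOpens)ᵒᵖ ⥤ Type u} (hB : CondB F)
    (E : X.affineOpens) (hE : (E : X.Opens) = ⊥) (hne : Nonempty (F.obj (op E)))
    (hss : Subsingleton (F.obj (op E))) {U : X.affineOpens} {S : Sieve U} (hS : S ∈ J X U) :
    S ∈ Sheaf.finestTopologySingle F U := by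
  rw [mem_J] at hS
  let s : Set Γ(X, (U : X.Opens)) := {r | S.arrows (homOfLE (bo_le U r))}
  have hspan : Ideal.span s = ⊤ := by
    rw [← U.2.self_le_iSup_basicOpen_iff]
    intro x hx
    obtain ⟨V, f, hf, hxV⟩ := hS x hx
    obtain ⟨r, hrV, hxr⟩ := U.2.exists_basicOpen_le ⟨x, hxV⟩ hx
    have hrs : r ∈ s := by
      have e : homOfLE (bo_le U r) = (homOfLE hrV : bo U r ⟶ V) ≫ f := Subsingleton.elim _ _
      change S.arrows _
      rw [e]
      exact S.downward_closed hf _
    exact Opens.mem_iSup.mpr ⟨⟨r, hrs⟩, hxr⟩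
  obtain ⟨s', hs's, hs'⟩ := (Ideal.span_eq_top_iff_finite s).mp hspan
  let e := s'.equivFin
  let f : Fin s'.card → Γ(X, (U : X.Opens)) := fun i => (e.symm i).1
  have hrange : Set.range f = (s' : Set Γ(X, (U : X.Opens))) := by
    ext r
    constructor
    · rintro ⟨i, rfl⟩
      exact (e.symm i).2
    · intro hr
      exact ⟨e ⟨r, hr⟩, by simp [f]⟩
  have hmem := famSieve_mem_finest hB E hE hne hss s'.card U f (by rw [hrange]; exact hs')
  refine (Sheaf.finestTopologySingle F).superset_covering ?_ hmem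
  intro Z k hk
  obtain ⟨i, hi⟩ := hk
  have hfi : f i ∈ s := hs's (e.symm i).2
  have e' : k = (homOfLE hi : Z ⟶ bo U (f i)) ≫ homOfLE (bo_le U (f i)) := Subsingleton.elim _ _
  rw [e']
  exact S.downward_closed hfi _

lemma isSheaf_of_conds {F : (X.affineOpens)ᵒᵖ ⥤ Type u} (hB : CondB F)
    (E : X.affineOpens) (hE : (E : X.Opens) = ⊥) (hne : Nonempty (F.obj (op E)))
    (hss : Subsingleton (F.obj (op E))) : Presieve.IsSheaf (J X) F := by
  intro U S hS
  have := J_le_finest hB E hE hne hss hS U (𝟙 U)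
  rwa [Sieve.pullback_id] at this

lemma bot_mem_J (E : X.affineOpens) (hE : (E : X.Opens) = ⊥) : (⊥ : Sieve E) ∈ J X E := by
  rw [mem_J]
  intro x hx
  rw [hE] at hx
  exact hx.elim

lemma binSieve_mem_J (U : X.affineOpens) (f g : Γ(X, (U : X.Opens)))
    (hU : (U : X.Opens) = X.basicOpen f ⊔ X.basicOpen g) : binSieve U f g ∈ J X U := by
  rw [mem_J]
  intro x hx
  rw [hU] at hx
  rcases hx with hx | hx
  · exact ⟨bo U f, homOfLE (bo_le U f), Or.inl le_rfl, hx⟩
  · exact ⟨bo U g, homOfLE (bo_le U g), Or.inr le_rfl, hx⟩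

lemma condA_of_isSheaf {F : (X.affineOpens)ᵒᵖ ⥤ Type u} (hF : Presieve.IsSheaf (J X) F)
    (E : X.affineOpens) (hE : (E : X.Opens) = ⊥) :
    Nonempty (F.obj (op E)) ∧ Subsingleton (F.obj (op E)) := by
  have h := hF _ (bot_mem_J E hE)
  let x : Presieve.FamilyOfElements F (⊥ : Sieve E).arrows := fun _ _ h => h.elim
  have hx : x.Compatible := fun _ _ _ _ _ _ _ h => h.elim
  have hall : ∀ t, x.IsAmalgamation t := fun t _ _ h => h.elim
  obtain ⟨t, _, ht⟩ := h x hx
  exact ⟨⟨t⟩, ⟨fun a b => (ht a (hall a)).trans (ht b (hall b)).symm⟩⟩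

lemma map_map_le {F : (X.affineOpens)ᵒᵖ ⥤ Type u} {A B C : X.affineOpens} (h1 : A ≤ B)
    (h2 : B ≤ C) (s : F.obj (op C)) :
    F.map (homOfLE h1).op (F.map (homOfLE h2).op s) = F.map (homOfLE (h1.trans h2)).op s := by
  rw [← Functor.map_comp_apply]
  rfl

lemma condB_of_isSheaf {F : (X.affineOpens)ᵒᵖ ⥤ Type u} (hF : Presieve.IsSheaf (J X) F) :
    CondB F := by
  intro U V W VW f g hV' hW' hVW' hU' hV hW h1 h2
  obtain rfl : V = bo U f := Subtype.ext hV'
  obtain rfl : W = bo U g := Subtype.ext hW'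
  obtain rfl : VW = bo U (f * g) := Subtype.ext hVW'
  have hsh := hF _ (binSieve_mem_J U f g hU')
  have memV : (binSieve U f g).arrows (homOfLE hV) := Or.inl le_rfl
  have memW : (binSieve U f g).arrows (homOfLE hW) := Or.inr le_rfl
  have hle : ∀ Z : X.affineOpens, Z ≤ bo U f → Z ≤ bo U g → Z ≤ bo U (f * g) := by
    intro Z hZf hZg
    change (Z : X.Opens) ≤ X.basicOpen (f * g)
    rw [Scheme.basicOpen_mul]
    exact le_inf hZf hZg
  constructor
  · intro s t hst
    have hsV : F.map (homOfLE hV).op s = F.map (homOfLE hV).op t := congrArg Prod.fst hst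
    have hsW : F.map (homOfLE hW).op s = F.map (homOfLE hW).op t := congrArg Prod.snd hst
    refine hsh.isSeparatedFor.ext ?_
    intro Z k hk
    rcases hk with hZ | hZ
    · have hZ' : Z ≤ bo U f := hZ
      have e : k = homOfLE (hZ'.trans hV) := Subsingleton.elim _ _
      rw [e, ← map_map_le hZ' hV s, ← map_map_le hZ' hV t, hsV]
    · have hZ' : Z ≤ bo U g := hZ
      have e : k = homOfLE (hZ'.trans hW) := Subsingleton.elim _ _
      rw [e, ← map_map_le hZ' hW s, ← map_map_le hZ' hW t, hsW]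
  · ext ⟨a, b⟩
    constructor
    · rintro ⟨s, hs⟩
      have ha : F.map (homOfLE hV).op s = a := congrArg Prod.fst hs
      have hb : F.map (homOfLE hW).op s = b := congrArg Prod.snd hs
      change F.map (homOfLE h1).op a = F.map (homOfLE h2).op b
      rw [← ha, ← hb, map_map_le, map_map_le]
    · intro hab
      change F.map (homOfLE h1).op a = F.map (homOfLE h2).op b at hab
      have hab' : ∀ (Z : X.affineOpens) (hZf : Z ≤ bo U f) (hZg : Z ≤ bo U g),
          F.map (homOfLE hZf).op a = F.map (homOfLE hZg).op b := by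
        intro Z hZf hZg
        rw [← map_map_le (hle Z hZf hZg) h1 a, ← map_map_le (hle Z hZf hZg) h2 b, hab]
      classical
      obtain ⟨x, hxdef⟩ : ∃ x : Presieve.FamilyOfElements F (binSieve U f g).arrows,
          ∀ (Z : X.affineOpens) (k : Z ⟶ U) (hk : (binSieve U f g).arrows k), x k hk =
            if hZ : Z ≤ bo U f then F.map (homOfLE hZ).op a
            else F.map (homOfLE (show Z ≤ bo U g from hk.resolve_left hZ)).op b :=
        ⟨fun Z k hk => if hZ : Z ≤ bo U f then F.map (homOfLE hZ).op a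
            else F.map (homOfLE (show Z ≤ bo U g from hk.resolve_left hZ)).op b,
          fun _ _ _ => rfl⟩
      have hxf : ∀ (Z : X.affineOpens) (k : Z ⟶ U) (hk : (binSieve U f g).arrows k)
          (hZ : Z ≤ bo U f), x k hk = F.map (homOfLE hZ).op a := by
        intro Z k hk hZ
        rw [hxdef, dif_pos hZ]
      have hxg : ∀ (Z : X.affineOpens) (k : Z ⟶ U) (hk : (binSieve U f g).arrows k)
          (hZ : Z ≤ bo U g), x k hk = F.map (homOfLE hZ).op b := by
        intro Z k hk hZ
        by_cases hZf : Z ≤ bo U f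
        · rw [hxf Z k hk hZf]
          exact hab' Z hZf hZ
        · rw [hxdef, dif_neg hZf]
      have hx : x.Compatible := by
        intro Y₁ Y₂ Z g₁ g₂ k₁ k₂ hk₁ hk₂ _
        have hZ1 : Z ≤ Y₁ := g₁.le
        have hZ2 : Z ≤ Y₂ := g₂.le
        have eg1 : g₁ = homOfLE hZ1 := Subsingleton.elim _ _
        have eg2 : g₂ = homOfLE hZ2 := Subsingleton.elim _ _
        have c1 := hk₁
        have c2 := hk₂
        rcases c1 with h1' | h1' <;> rcases c2 with h2' | h2'
        · have a1 : Y₁ ≤ bo U f := h1'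
          have a2 : Y₂ ≤ bo U f := h2'
          rw [hxf Y₁ k₁ hk₁ a1, hxf Y₂ k₂ hk₂ a2, eg1, eg2, map_map_le, map_map_le]
        · have a1 : Y₁ ≤ bo U f := h1'
          have a2 : Y₂ ≤ bo U g := h2'
          rw [hxf Y₁ k₁ hk₁ a1, hxg Y₂ k₂ hk₂ a2, eg1, eg2, map_map_le, map_map_le]
          exact hab' Z _ _
        · have a1 : Y₁ ≤ bo U g := h1'
          have a2 : Y₂ ≤ bo U f := h2'
          rw [hxg Y₁ k₁ hk₁ a1, hxf Y₂ k₂ hk₂ a2, eg1, eg2, map_map_le, map_map_le]
          exact (hab' Z _ _).symm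
        · have a1 : Y₁ ≤ bo U g := h1'
          have a2 : Y₂ ≤ bo U g := h2'
          rw [hxg Y₁ k₁ hk₁ a1, hxg Y₂ k₂ hk₂ a2, eg1, eg2, map_map_le, map_map_le]
      obtain ⟨s, hs, -⟩ := hsh x hx
      refine ⟨s, ?_⟩
      have e1 : F.map (homOfLE hV).op s = a := by
        rw [hs _ memV, hxf _ _ memV le_rfl]
        have : (homOfLE (le_refl (bo U f))).op = 𝟙 (op (bo U f)) := rfl
        rw [this, F.map_id]
        rfl
      have e2 : F.map (homOfLE hW).op s = b := by
        rw [hs _ memW, hxg _ _ memW le_rfl]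
        have : (homOfLE (le_refl (bo U g))).op = 𝟙 (op (bo U g)) := rfl
        rw [this, F.map_id]
        rfl
      exact Prod.ext e1 e2


theorem main (X : Scheme.{u})
    (F : (X.affineOpens)ᵒᵖ ⥤ Type u) (E : X.affineOpens) (hE : (E : X.Opens) = ⊥) :
    (∃ G : TopCat.Sheaf (Type u) X.carrier,
        Nonempty ((Monotone.functor (f := fun U : X.affineOpens => (U : X.Opens)) (fun _ _ h => h)).op ⋙ G.1 ≅ F)) ↔
    ((Nonempty (F.obj (op E)) ∧ Subsingleton (F.obj (op E))) ∧
      ∀ (U V W VW : X.affineOpens) (f g : Γ(X, (U : X.Opens))),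
        (V : X.Opens) = X.basicOpen f → (W : X.Opens) = X.basicOpen g →
        (VW : X.Opens) = X.basicOpen (f * g) → (U : X.Opens) = (V : X.Opens) ⊔ (W : X.Opens) →
        ∀ (hV : V ≤ U) (hW : W ≤ U) (h1 : VW ≤ V) (h2 : VW ≤ W),
        Function.Injective (fun s : F.obj (op U) => (F.map (homOfLE hV).op s, F.map (homOfLE hW).op s)) ∧
        Set.range (fun s : F.obj (op U) => (F.map (homOfLE hV).op s, F.map (homOfLE hW).op s)) =
          {p | F.map (homOfLE h1).op p.1 = F.map (homOfLE h2).op p.2}) := by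
  refine (exists_sheaf_iff F).trans ?_
  rw [isSheaf_iff_isSheaf_of_type]
  constructor
  · intro hF
    exact ⟨condA_of_isSheaf hF E hE, condB_of_isSheaf hF⟩
  · rintro ⟨⟨hne, hss⟩, hB⟩
    exact isSheaf_of_conds hB E hE hne hss

end Groth.Agent.H95.AffBasisSheaf
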