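import Mathlib

open AlgebraicGeometry CategoryTheory Limits MvPolynomial

universe u

namespace Groth.Agent.H95.AffUnits

open AlgebraicGeometry.AffineSpace

variable (n : Type u)

theorem affine_case (S : Scheme.{u}) [IsAffine S] [IsReduced S] (w : Γ(𝔸(n; S), ⊤))
    (hw : IsUnit w) : ∃ v : Γ(S, ⊤), (𝔸(n; S) ↘ S).appTop v = w := by
  set Φ : MvPolynomial n Γ(S, ⊤) →+* Γ(𝔸(n; S), ⊤) :=
    eval₂Hom ((𝔸(n; S) ↘ S).appTop).hom (coord S) with hΦ
  have hiso : IsIso (CommRingCat.ofHom Φ) := by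
    have h1 : IsIso ((isoOfIsAffine n S).hom.appTop) :=
      inferInstanceAs (IsIso ((isoOfIsAffine n S).hom.app ⊤))
    rw [isoOfIsAffine_hom_appTop] at h1
    exact IsIso.of_isIso_comp_left (Scheme.ΓSpecIso _).hom _
  have hbij : Function.Bijective Φ := by
    have := (ConcreteCategory.isIso_iff_bijective (CommRingCat.ofHom Φ)).mp hiso
    exact this
  obtain ⟨P, rfl⟩ := hbij.2 w
  have hP : IsUnit P := by
    let e : MvPolynomial n Γ(S, ⊤) ≃+* Γ(𝔸(n; S), ⊤) := RingEquiv.ofBijective Φ hbij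
    have : IsUnit (e P) := hw
    exact (isUnit_map_iff e P).mp this
  obtain ⟨r, -, rfl⟩ := MvPolynomial.isUnit_iff_eq_C_of_isReduced.mp hP
  exact ⟨r, by rw [hΦ, coe_eval₂Hom, eval₂_C]⟩

end Groth.Agent.H95.AffUnits
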