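import Mathlib
import Groth.Agent.H95.AffUnits0

open AlgebraicGeometry CategoryTheory Limits MvPolynomial

universe u

namespace Groth.Agent.H95.AffUnits

open AlgebraicGeometry.AffineSpace

variable (n : Type u)

/-- the zero section. -/
noncomputable def zeroSec (X : Scheme.{u}) : X ⟶ 𝔸(n; X) := homOfVector (𝟙 X) 0

theorem zeroSec_over (X : Scheme.{u}) : zeroSec n X ≫ 𝔸(n; X) ↘ X = 𝟙 X :=
  homOfVector_over _ _

theorem zeroSec_natural {U X : Scheme.{u}} (j : U ⟶ X) :
    j ≫ zeroSec n X = zeroSec n U ≫ AffineSpace.map n j := by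
  apply AffineSpace.hom_ext
  · rw [Category.assoc, zeroSec_over, Category.comp_id, Category.assoc, map_over,
      ← Category.assoc, zeroSec_over, Category.id_comp]
  · intro i
    rw [Scheme.Hom.comp_appTop, Scheme.Hom.comp_appTop, CommRingCat.comp_apply,
      CommRingCat.comp_apply, map_appTop_coord]
    unfold zeroSec
    rw [homOfVector_appTop_coord, homOfVector_appTop_coord]
    simp

theorem local_eq {U X : Scheme.{u}} (j : U ⟶ X) [IsOpenImmersion j] [IsAffine U] [IsReduced X]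
    (w : Γ(𝔸(n; X), ⊤)) (hw : IsUnit w) :
    (pullback.fst (𝔸(n; X) ↘ X) j).appTop ((𝔸(n; X) ↘ X).appTop ((zeroSec n X).appTop w)) =
      (pullback.fst (𝔸(n; X) ↘ X) j).appTop w := by
  let J : 𝔸(n; U) ⟶ 𝔸(n; X) := AffineSpace.map n j
  have hpb := isPullback_map (n := n) j
  let e : 𝔸(n; U) ≅ pullback (𝔸(n; X) ↘ X) j := hpb.isoPullback
  have he : e.hom ≫ pullback.fst _ _ = J := hpb.isoPullback_hom_fst
  have hinj : Function.Injective (e.hom.appTop) := by
    have : IsIso e.hom.appTop := inferInstanceAs (IsIso (e.hom.app ⊤))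
    exact ((ConcreteCategory.isIso_iff_bijective _).mp this).1
  have key : J.appTop ((𝔸(n; X) ↘ X).appTop ((zeroSec n X).appTop w)) = J.appTop w := by
    have hunit : IsUnit (J.appTop w) := hw.map _
    have : IsReduced U := isReduced_of_isOpenImmersion j
    obtain ⟨r, hr⟩ := affine_case n U (J.appTop w) hunit
    have h1 : J ≫ 𝔸(n; X) ↘ X = 𝔸(n; U) ↘ U ≫ j := map_over j
    have h2 : J.appTop ((𝔸(n; X) ↘ X).appTop ((zeroSec n X).appTop w)) =
        (𝔸(n; U) ↘ U).appTop ((zeroSec n U).appTop (J.appTop w)) := by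
      have e1 : (zeroSec n X).appTop ≫ (𝔸(n; X) ↘ X).appTop ≫ J.appTop =
          J.appTop ≫ (zeroSec n U).appTop ≫ (𝔸(n; U) ↘ U).appTop := by
        rw [← Scheme.Hom.comp_appTop, ← Scheme.Hom.comp_appTop, ← Scheme.Hom.comp_appTop,
          ← Scheme.Hom.comp_appTop, h1, Category.assoc, zeroSec_natural, Category.assoc]
      exact congrArg (fun φ => φ.hom w) e1
    rw [h2, ← hr]
    have h3 : (zeroSec n U).appTop ((𝔸(n; U) ↘ U).appTop r) = r := by
      have e2 : (𝔸(n; U) ↘ U).appTop ≫ (zeroSec n U).appTop = 𝟙 _ := by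
        rw [← Scheme.Hom.comp_appTop, zeroSec_over]
        rfl
      exact congrArg (fun φ => φ.hom r) e2
    rw [h3]
  -- transfer along the iso
  apply hinj
  have e3 : ∀ a : Γ(𝔸(n; X), ⊤),
      e.hom.appTop ((pullback.fst (𝔸(n; X) ↘ X) j).appTop a) = J.appTop a := by
    intro a
    have : (pullback.fst (𝔸(n; X) ↘ X) j).appTop ≫ e.hom.appTop = J.appTop := by
      rw [← Scheme.Hom.comp_appTop, he]
    exact congrArg (fun φ => φ.hom a) this
  rw [e3, e3, key]

theorem main (X : Scheme.{u}) [IsReduced X] (w : Γ(𝔸(n; X), ⊤)) (hw : IsUnit w) :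
    ∃ v : Γ(X, ⊤), IsUnit v ∧ (𝔸(n; X) ↘ X).appTop v = w := by
  refine ⟨(zeroSec n X).appTop w, hw.map _, ?_⟩
  refine Scheme.OpenCover.ext_elem _ _ (X.affineCover.pullback₁ (𝔸(n; X) ↘ X)) (fun i => ?_)
  have i₀ : X.affineCover.I₀ := i
  have h1 : IsOpenImmersion (X.affineCover.f (i : X.affineCover.I₀)) :=
    inferInstanceAs (IsOpenImmersion (X.affineCover.f (id i : X.affineCover.I₀)))
  have h2 : IsAffine (X.affineCover.X (i : X.affineCover.I₀)) :=
    inferInstanceAs (IsAffine (X.affineCover.X (id i : X.affineCover.I₀)))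
  exact local_eq n (X.affineCover.f i) w hw

end Groth.Agent.H95.AffUnits
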