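import Mathlib
import Groth.Agent.S14128
import Groth.Agent.H64.FinLenAss

set_option autoImplicit false
set_option linter.unusedSectionVars false

namespace Groth.Agent.H95.BEAcyc

open CategoryTheory IsLocalRing RingTheory.Sequence Matrix
open Groth.Agent.H70.Acyc Groth.Agent.H70.Planar Groth.Agent.S14128

universe u
variable {R : Type u} [CommRing R]

/-- exactness after localisation at `p` gives exactness up to a multiplier outside `p` -/
theorem loc_exact {a b c : ℕ} (M₁ : Matrix (Fin a) (Fin b) R) (M₂ : Matrix (Fin b) (Fin c) R)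
    (p : Ideal R) [p.IsPrime]
    (h : LinearMap.ker (M₁.map (algebraMap R (Localization.AtPrime p))).mulVecLin ≤
      LinearMap.range (M₂.map (algebraMap R (Localization.AtPrime p))).mulVecLin)
    (x : Fin b → R) (hx : M₁.mulVecLin x = 0) :
    ∃ s : R, s ∉ p ∧ ∃ y : Fin c → R, M₂.mulVecLin y = s • x := by
  classical
  set f := algebraMap R (Localization.AtPrime p) with hf
  have hx' : (f ∘ x) ∈ LinearMap.ker (M₁.map f).mulVecLin := by
    rw [LinearMap.mem_ker]
    funext i
    rw [Matrix.mulVecLin_apply, ← RingHom.map_mulVec]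
    have := congrFun hx i
    rw [Matrix.mulVecLin_apply] at this
    rw [this]
    simp
  obtain ⟨y', hy'⟩ := h hx'
  rw [Matrix.mulVecLin_apply] at hy'
  obtain ⟨bb, hbb⟩ := IsLocalization.exist_integer_multiples p.primeCompl
    (Finset.univ : Finset (Fin c)) y'
  choose y hy using fun j => hbb j (Finset.mem_univ j)
  -- `f (y j) = bb • y' j`
  have hkey : ∀ i, f ((M₂ *ᵥ y) i - (bb : R) * x i) = 0 := by
    intro i
    rw [map_sub, RingHom.map_mulVec, map_mul]
    have h1 : f ∘ y = (f (bb : R)) • y' := by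
      funext j
      rw [Function.comp_apply, hy j, Pi.smul_apply, Algebra.smul_def, smul_eq_mul]
    rw [h1, Matrix.mulVec_smul, Pi.smul_apply, hy', smul_eq_mul, Function.comp_apply, sub_self]
  have hu : ∀ i, ∃ u : p.primeCompl, (u : R) * ((M₂ *ᵥ y) i - (bb : R) * x i) = 0 := by
    intro i
    have := (IsLocalization.map_eq_zero_iff p.primeCompl (Localization.AtPrime p) _).1 (hkey i)
    exact this
  choose u hu using hu
  set U : p.primeCompl := ∏ i, u i with hU
  have hUi : ∀ i, (U : R) * ((M₂ *ᵥ y) i - (bb : R) * x i) = 0 := by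
    intro i
    have h1 : (U : R) = (∏ j ∈ Finset.univ.erase i, (u j : R)) * (u i : R) := by
      rw [hU, Submonoid.coe_finset_prod, Finset.prod_erase_mul _ _ (Finset.mem_univ i)]
    rw [h1, mul_assoc, hu i, mul_zero]
  refine ⟨(U : R) * (bb : R), ?_, (U : R) • y, ?_⟩
  · exact (U * bb).2
  · rw [map_smul]
    funext i
    rw [Pi.smul_apply, Pi.smul_apply, Matrix.mulVecLin_apply, smul_eq_mul, smul_eq_mul]
    have := hUi i
    linear_combination this


theorem loc_inj {a b : ℕ} (M₁ : Matrix (Fin a) (Fin b) R)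
    (p : Ideal R) [p.IsPrime]
    (h : LinearMap.ker (M₁.map (algebraMap R (Localization.AtPrime p))).mulVecLin = ⊥)
    (x : Fin b → R) (hx : M₁.mulVecLin x = 0) :
    ∃ s : R, s ∉ p ∧ s • x = 0 := by
  obtain ⟨s, hs, y, hy⟩ := loc_exact M₁ (0 : Matrix (Fin b) (Fin 0) R) p (by rw [h]; exact bot_le) x hx
  refine ⟨s, hs, ?_⟩
  rw [← hy]
  simp

section local_
variable [IsLocalRing R] [IsNoetherianRing R]

theorem finLen_homology (S : ShortComplex (ModuleCat.{u} R)) [Module.Finite R S.X₂]
    (h : ∀ (p : Ideal R) [p.IsPrime], p ≠ maximalIdeal R → ∀ x : S.X₂, S.g.hom x = 0 →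
      ∃ s : R, s ∉ p ∧ ∃ y : S.X₁, S.f.hom y = s • x) :
    IsFiniteLength R S.homology := by
  have hfl : IsFiniteLength R (LinearMap.ker S.g.hom ⧸ LinearMap.range S.moduleCatToCycles) := by
    apply Groth.Agent.H64.isFiniteLength_of_support_subset_maximal
    intro P hP
    by_contra hmax
    have hne : P.asIdeal ≠ maximalIdeal R := by
      intro heq
      apply hmax
      rw [heq]
      infer_instance
    revert hP
    rw [imp_false, Module.notMem_support_iff']
    intro q
    obtain ⟨z, rfl⟩ := Submodule.Quotient.mk_surjective _ q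
    obtain ⟨s, hs, y, hy⟩ := h P.asIdeal hne z.1 z.2
    refine ⟨s, hs, ?_⟩
    rw [← Submodule.Quotient.mk_smul, Submodule.Quotient.mk_eq_zero]
    refine ⟨y, Subtype.ext ?_⟩
    exact hy
  exact S.moduleCatHomologyIso.toLinearEquiv.symm.isFiniteLength hfl

theorem D_of_flat_of_regular (rs : List R) (hmem : ∀ x ∈ rs, x ∈ maximalIdeal R)
    (hreg : IsRegular R rs) (F : ModuleCat.{u} R) [Module.Flat R F] : D (kk R) rs.length F := by
  have hw : IsWeaklyRegular F rs :=
    ((TensorProduct.lid R F).isWeaklyRegular_congr rs).mp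
      (hreg.toIsWeaklyRegular.isWeaklyRegular_rTensor (M₂ := F))
  have := subsingleton_ext_of_isWeaklyRegular (kk R) F rs (by
    intro r hr
    refine ⟨1, ?_⟩
    rw [pow_one, Module.mem_annihilator]
    intro z
    obtain ⟨a, rfl⟩ := Submodule.Quotient.mk_surjective _ z
    rw [← Submodule.Quotient.mk_smul, Submodule.Quotient.mk_eq_zero]
    exact Ideal.mul_mem_right _ _ (hmem r hr)) hw
  intro l hl
  exact this l hl

/-- the short complex of two composable matrices -/
noncomputable def sc {a b c : ℕ} (M₁ : Matrix (Fin a) (Fin b) R) (M₂ : Matrix (Fin b) (Fin c) R)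
    (h : M₁ * M₂ = 0) : ShortComplex (ModuleCat.{u} R) :=
  ShortComplex.mk (ModuleCat.ofHom M₂.mulVecLin) (ModuleCat.ofHom M₁.mulVecLin) (by
    rw [← ModuleCat.ofHom_comp, ← Matrix.mulVecLin_mul, h, Matrix.mulVecLin_zero]
    rfl)


/-- one step: top of the complex -/
theorem step_top {a b : ℕ} (M₁ : Matrix (Fin a) (Fin b) R) (N : ℕ) (hN : 1 ≤ N)
    (hD : D (kk R) N (ModuleCat.of R (Fin b → R)))
    (hloc : ∀ (p : Ideal R) [p.IsPrime], p ≠ maximalIdeal R →
      LinearMap.ker (M₁.map (algebraMap R (Localization.AtPrime p))).mulVecLin = ⊥) :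
    LinearMap.ker M₁.mulVecLin = ⊥ ∧
      D (kk R) N (ModuleCat.of R (LinearMap.range M₁.mulVecLin)) := by
  let S := sc M₁ (0 : Matrix (Fin b) (Fin 0) R) (by simp)
  have hfin : Module.Finite R S.X₂ := by
    change Module.Finite R (Fin b → R)
    infer_instance
  have hsub : Subsingleton (LinearMap.range S.f.hom) := by
    refine ⟨fun x y => ?_⟩
    obtain ⟨x, x', rfl⟩ := x
    obtain ⟨y, y', rfl⟩ := y
    congr 1
  have hfl : IsFiniteLength R S.homology := by
    apply finLen_homology
    intro p _ hp x hx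
    obtain ⟨s, hs, hsx⟩ := loc_inj M₁ p (hloc p hp) x hx
    refine ⟨s, hs, 0, ?_⟩
    rw [map_zero]
    exact hsx.symm
  have h1 : D (kk R) 2 (ModuleCat.of R (LinearMap.range S.f.hom)) := D.of_subsingleton _ _
  obtain ⟨_, hker⟩ := E1 S (hD.mono hN) h1 hfl
  have hbot : LinearMap.ker M₁.mulVecLin = ⊥ := by
    change LinearMap.ker S.g.hom = ⊥
    rw [hker]
    exact Submodule.eq_bot_of_subsingleton
  refine ⟨hbot, ?_⟩
  have hsubk : Subsingleton (LinearMap.ker S.g.hom) := by
    change Subsingleton (LinearMap.ker M₁.mulVecLin)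
    rw [hbot]
    infer_instance
  have h2 : D (kk R) (N + 1) (ModuleCat.of R (LinearMap.ker S.g.hom)) := D.of_subsingleton _ _
  exact E2 S hD h2

/-- one step: middle of the complex -/
theorem step_mid {a b c : ℕ} (M₁ : Matrix (Fin a) (Fin b) R) (M₂ : Matrix (Fin b) (Fin c) R)
    (h : M₁ * M₂ = 0) (N : ℕ) (hN : 1 ≤ N)
    (hD : D (kk R) N (ModuleCat.of R (Fin b → R)))
    (hB : D (kk R) (N + 1) (ModuleCat.of R (LinearMap.range M₂.mulVecLin)))
    (hloc : ∀ (p : Ideal R) [p.IsPrime], p ≠ maximalIdeal R →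
      LinearMap.ker (M₁.map (algebraMap R (Localization.AtPrime p))).mulVecLin =
        LinearMap.range (M₂.map (algebraMap R (Localization.AtPrime p))).mulVecLin) :
    LinearMap.ker M₁.mulVecLin = LinearMap.range M₂.mulVecLin ∧
      D (kk R) N (ModuleCat.of R (LinearMap.range M₁.mulVecLin)) := by
  let S := sc M₁ M₂ h
  have hfin : Module.Finite R S.X₂ := by
    change Module.Finite R (Fin b → R)
    infer_instance
  have hfl : IsFiniteLength R S.homology := by
    apply finLen_homology
    intro p _ hp x hx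
    exact loc_exact M₁ M₂ p (hloc p hp).le x hx
  have h1 : D (kk R) 2 (ModuleCat.of R (LinearMap.range S.f.hom)) := hB.mono (by omega)
  obtain ⟨_, hker⟩ := E1 S (hD.mono hN) h1 hfl
  refine ⟨hker, ?_⟩
  have h2 : D (kk R) (N + 1) (ModuleCat.of R (LinearMap.ker S.g.hom)) := by
    rw [hker]
    exact hB
  exact E2 S hD h2

theorem main (e : ℕ) (n : ℕ → ℕ) (A : (i : ℕ) → Matrix (Fin (n i)) (Fin (n (i + 1))) R)
    (hA : ∀ i, i + 2 ≤ e + 1 → A i * A (i + 1) = 0)
    (rs : List R) (hlen : rs.length = e + 1) (hmem : ∀ x ∈ rs, x ∈ IsLocalRing.maximalIdeal R)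
    (hreg : RingTheory.Sequence.IsRegular R rs)
    (hloc : ∀ (p : Ideal R) [p.IsPrime], p ≠ IsLocalRing.maximalIdeal R →
      LinearMap.ker ((A e).map (algebraMap R (Localization.AtPrime p))).mulVecLin = ⊥ ∧
        ∀ i, i + 2 ≤ e + 1 →
          LinearMap.ker ((A i).map (algebraMap R (Localization.AtPrime p))).mulVecLin =
            LinearMap.range ((A (i + 1)).map (algebraMap R (Localization.AtPrime p))).mulVecLin) :
    LinearMap.ker (A e).mulVecLin = ⊥ ∧
      ∀ i, i + 2 ≤ e + 1 → LinearMap.ker (A i).mulVecLin = LinearMap.range (A (i + 1)).mulVecLin := by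
  have hDfree : ∀ b : ℕ, D (kk R) (e + 1) (ModuleCat.of R (Fin b → R)) := by
    intro b
    have : Module.Flat R (ModuleCat.of R (Fin b → R)) := by
      change Module.Flat R (Fin b → R)
      infer_instance
    have := D_of_flat_of_regular rs hmem hreg (ModuleCat.of R (Fin b → R))
    rwa [hlen] at this
  obtain ⟨htop, hDtop⟩ := step_top (A e) (e + 1) (by omega) (hDfree _)
    (fun p _ hp => (hloc p hp).1)
  refine ⟨htop, ?_⟩
  -- downward induction
  have key : ∀ i, i ≤ e → D (kk R) (i + 1) (ModuleCat.of R (LinearMap.range (A i).mulVecLin)) ∧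
      (i + 2 ≤ e + 1 → LinearMap.ker (A i).mulVecLin = LinearMap.range (A (i + 1)).mulVecLin) := by
    intro i hi
    induction hi using Nat.decreasingInduction with
    | self => exact ⟨hDtop, fun h => absurd h (by omega)⟩
    | of_succ k hk ih =>
      obtain ⟨hB, -⟩ := ih
      obtain ⟨hex, hD'⟩ := step_mid (A k) (A (k + 1)) (hA k (by omega)) (k + 1) (by omega)
        ((hDfree _).mono (by omega)) hB (fun p _ hp => (hloc p hp).2 k (by omega))
      exact ⟨hD', fun _ => hex⟩
  intro i hi
  exact (key i (by omega)).2 hi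

end local_

end Groth.Agent.H95.BEAcyc
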