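import Mathlib
import Groth.Agent.H54.MinorsLocal

set_option autoImplicit false
set_option linter.unusedSectionVars false

namespace Groth.Agent.H95.BELinAlg

open Matrix

universe u
variable {R : Type u} [CommRing R] [IsLocalRing R]

/-- complementary submodules of a finite projective module over a local ring are finite free and
their ranks add up -/
theorem isCompl_free {E : Type u} [AddCommGroup E] [Module R E] [Module.Finite R E]
    [Module.Projective R E] (p q : Submodule R E) (h : IsCompl p q) :
    Module.Finite R p ∧ Module.Free R p ∧ Module.Finite R q ∧ Module.Free R q ∧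
      Module.finrank R p + Module.finrank R q = Module.finrank R E := by
  have hfp : Module.Finite R p :=
    Module.Finite.of_surjective (Submodule.projectionOnto p q h)
      (Submodule.projectionOnto_surjective h)
  have hfq : Module.Finite R q :=
    Module.Finite.of_surjective (Submodule.projectionOnto q p h.symm)
      (Submodule.projectionOnto_surjective h.symm)
  have hpp : Module.Projective R p :=
    Module.Projective.of_split p.subtype (Submodule.projectionOnto p q h)
      (Submodule.projectionOnto_comp_subtype h)
  have hpq : Module.Projective R q :=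
    Module.Projective.of_split q.subtype (Submodule.projectionOnto q p h.symm)
      (Submodule.projectionOnto_comp_subtype h.symm)
  have hFp : Module.Free R p := Module.free_of_flat_of_isLocalRing
  have hFq : Module.Free R q := Module.free_of_flat_of_isLocalRing
  refine ⟨hfp, hFp, hfq, hFq, ?_⟩
  rw [← Module.finrank_prod, (Submodule.prodEquivOfIsCompl p q h).finrank_eq]

/-- Exactness from ranks: if the ranges of two composable matrices are direct summands whose ranks
add up to the size of the middle module, then the pair is exact. -/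
theorem ker_eq_range_of_isCompl {a b c : ℕ} (M₁ : Matrix (Fin a) (Fin b) R)
    (M₂ : Matrix (Fin b) (Fin c) R) (h : M₁ * M₂ = 0)
    (N₁ : Submodule R (Fin a → R)) (hc₁ : IsCompl (LinearMap.range M₁.mulVecLin) N₁)
    (N₂ : Submodule R (Fin b → R)) (hc₂ : IsCompl (LinearMap.range M₂.mulVecLin) N₂)
    (hr : Module.finrank R (LinearMap.range M₁.mulVecLin) +
      Module.finrank R (LinearMap.range M₂.mulVecLin) = b) :
    LinearMap.ker M₁.mulVecLin = LinearMap.range M₂.mulVecLin := by
  classical
  set Q := LinearMap.range M₁.mulVecLin with hQ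
  set P := LinearMap.range M₂.mulVecLin with hP
  set K := LinearMap.ker M₁.mulVecLin with hK
  have hPK : P ≤ K := by
    rintro _ ⟨y, rfl⟩
    rw [hK, LinearMap.mem_ker, ← LinearMap.comp_apply, ← Matrix.mulVecLin_mul, h,
      Matrix.mulVecLin_zero, LinearMap.zero_apply]
  obtain ⟨hfQ, hFQ, -, -, -⟩ := isCompl_free Q N₁ hc₁
  obtain ⟨hfP, hFP, -, -, -⟩ := isCompl_free P N₂ hc₂
  -- a section of `M₁ : R^b → Q`
  have hQproj : Module.Projective R Q := Module.Projective.of_free
  obtain ⟨s, hs⟩ := Module.projective_lifting_property M₁.mulVecLin.rangeRestrict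
    (LinearMap.id : Q →ₗ[R] Q) M₁.mulVecLin.surjective_rangeRestrict
  have hbij : Function.Bijective (M₁.mulVecLin.rangeRestrict ∘ₗ s) := by
    rw [hs]
    exact Function.bijective_id
  have hcK : IsCompl (LinearMap.range s) K := by
    have := Groth.Agent.H54.isCompl_range_ker_of_bijective s M₁.mulVecLin.rangeRestrict hbij
    rwa [LinearMap.ker_rangeRestrict] at this
  have hsinj : Function.Injective s := by
    intro x y hxy
    have := congrArg M₁.mulVecLin.rangeRestrict hxy
    rwa [← LinearMap.comp_apply, ← LinearMap.comp_apply, hs] at this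
  obtain ⟨-, -, hfK, hFK, hrk⟩ := isCompl_free (LinearMap.range s) K hcK
  have hrs : Module.finrank R (LinearMap.range s) = Module.finrank R Q :=
    LinearMap.finrank_range_of_inj hsinj
  rw [hrs, Module.finrank_fin_fun] at hrk
  -- inside `K`
  have hKproj : Module.Projective R K := Module.Projective.of_free
  set P' : Submodule R K := P.comap K.subtype with hP'
  set T' : Submodule R K := N₂.comap K.subtype with hT'
  have hcPT : IsCompl P' T' := by
    constructor
    · rw [Submodule.disjoint_def]
      intro x hx1 hx2
      have : (x : Fin b → R) ∈ P ⊓ N₂ := ⟨hx1, hx2⟩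
      rw [hc₂.inf_eq_bot, Submodule.mem_bot] at this
      exact Subtype.ext this
    · rw [codisjoint_iff, eq_top_iff]
      intro x _
      have hx : (x : Fin b → R) ∈ P ⊔ N₂ := by
        rw [hc₂.sup_eq_top]
        trivial
      obtain ⟨p, hp, n, hn, hpn⟩ := Submodule.mem_sup.1 hx
      have hnK : n ∈ K := by
        have : n = (x : Fin b → R) - p := by rw [← hpn]; abel
        rw [this]
        exact K.sub_mem x.2 (hPK hp)
      refine Submodule.mem_sup.2 ⟨⟨p, hPK hp⟩, hp, ⟨n, hnK⟩, hn, ?_⟩
      exact Subtype.ext hpn
  obtain ⟨-, -, hfT, hFT, hrk2⟩ := isCompl_free P' T' hcPT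
  have hP'P : Module.finrank R P' = Module.finrank R P :=
    (Submodule.comapSubtypeEquivOfLe hPK).finrank_eq
  have hT0 : Module.finrank R T' = 0 := by omega
  have hsub : Subsingleton T' := (Module.finrank_eq_zero_iff_of_free R T').1 hT0
  apply le_antisymm
  · intro x hx
    have hx' : (⟨x, hx⟩ : K) ∈ P' ⊔ T' := by
      rw [hcPT.sup_eq_top]
      trivial
    obtain ⟨p, hp, n, hn, hpn⟩ := Submodule.mem_sup.1 hx'
    have hn0 : n = 0 := by
      have := Subsingleton.elim (⟨n, hn⟩ : T') 0
      exact congrArg Subtype.val this
    rw [hn0, add_zero] at hpn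
    have hp2 : (p : Fin b → R) ∈ P := hp
    rw [hpn] at hp2
    exact hp2
  · exact hPK

end Groth.Agent.H95.BELinAlg
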