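import Mathlib
import Groth.Agent.H46.McCoy
import Groth.Agent.H54.MinorsLocal

set_option autoImplicit false
set_option linter.unusedSectionVars false

namespace Groth.Agent.H95.BEMinors

open Matrix

universe u v
variable {R : Type u} [CommRing R] {S : Type v} [CommRing S]

theorem minorIdeal_map {n m : ℕ} (f : R →+* S) (A : Matrix (Fin n) (Fin m) R) (r : ℕ) :
    CAlgX.minorIdeal (A.map f) r = (CAlgX.minorIdeal A r).map f := by
  unfold CAlgX.minorIdeal
  rw [Ideal.map_span]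
  congr 1
  ext x
  constructor
  · rintro ⟨fg, rfl⟩
    refine ⟨_, ⟨fg, rfl⟩, ?_⟩
    simp only
    rw [RingHom.map_det]
    rfl
  · rintro ⟨y, ⟨fg, rfl⟩, rfl⟩
    refine ⟨fg, ?_⟩
    simp only
    rw [RingHom.map_det]
    rfl

theorem bddAbove_rankSet {n m : ℕ} (A : Matrix (Fin n) (Fin m) R) :
    BddAbove {r : ℕ | CAlgX.minorIdeal A r ≠ ⊥} := by
  refine ⟨m, fun r hr => ?_⟩
  by_contra hlt
  push Not at hlt
  exact hr (Groth.Agent.H46.minorIdeal_eq_bot_of_lt A r hlt)

theorem minorIdeal_eq_bot_of_matrixRank_lt {n m : ℕ} (A : Matrix (Fin n) (Fin m) R) (r : ℕ)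
    (h : CAlgX.matrixRank A < r) : CAlgX.minorIdeal A r = ⊥ := by
  by_contra hne
  have : r ≤ CAlgX.matrixRank A := le_csSup (bddAbove_rankSet A) hne
  omega

theorem matrixRank_eq_of {n m : ℕ} (A : Matrix (Fin n) (Fin m) R) (r : ℕ)
    (h1 : CAlgX.minorIdeal A r ≠ ⊥) (h2 : ∀ r', r < r' → CAlgX.minorIdeal A r' = ⊥) :
    CAlgX.matrixRank A = r := by
  unfold CAlgX.matrixRank
  apply IsGreatest.csSup_eq
  refine ⟨h1, fun r' hr' => ?_⟩
  by_contra hlt
  push Not at hlt
  exact hr' (h2 r' hlt)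

/-- rank and determinantal ideal are preserved by a ring map not killing the determinantal ideal -/
theorem matrixRank_map {n m : ℕ} (f : R →+* S) (A : Matrix (Fin n) (Fin m) R)
    (a : R) (ha : a ∈ CAlgX.detIdeal A) (hfa : f a ≠ 0) :
    CAlgX.matrixRank (A.map f) = CAlgX.matrixRank A := by
  apply matrixRank_eq_of
  · rw [minorIdeal_map]
    intro h0
    apply hfa
    have : f a ∈ (CAlgX.minorIdeal A (CAlgX.matrixRank A)).map f := Ideal.mem_map_of_mem f ha
    rw [h0] at this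
    exact this
  · intro r' hr'
    rw [minorIdeal_map, minorIdeal_eq_bot_of_matrixRank_lt A r' hr', Ideal.map_bot]

theorem detIdeal_map {n m : ℕ} (f : R →+* S) (A : Matrix (Fin n) (Fin m) R)
    (a : R) (ha : a ∈ CAlgX.detIdeal A) (hfa : f a ≠ 0) :
    CAlgX.detIdeal (A.map f) = (CAlgX.detIdeal A).map f := by
  unfold CAlgX.detIdeal
  rw [matrixRank_map f A a ha hfa, minorIdeal_map]

end Groth.Agent.H95.BEMinors
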