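import Mathlib
import Groth.Agent.H95.BEAcyc
import Groth.Agent.H95.BEMinors
import Groth.Agent.H95.BELinAlg

set_option autoImplicit false
set_option linter.unusedSectionVars false

namespace Groth.Agent.H95.BELocal

open CategoryTheory IsLocalRing RingTheory.Sequence Matrix
open Groth.Agent.H70.Acyc Groth.Agent.H70.Planar Groth.Agent.S14128
open Groth.Agent.H95.BEAcyc Groth.Agent.H95.BEMinors Groth.Agent.H95.BELinAlg

universe u

/-- the alternating sum of ranks -/
def rho (e : ℕ) (n : ℕ → ℕ) (j : ℕ) : ℤ :=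
  ∑ t ∈ Finset.Icc j e, (-1 : ℤ) ^ (t - j) * (n t : ℤ)

theorem rho_self (e : ℕ) (n : ℕ → ℕ) : rho e n e = n e := by
  unfold rho
  rw [Finset.Icc_self, Finset.sum_singleton, Nat.sub_self, pow_zero, one_mul]

theorem rho_succ (e : ℕ) (n : ℕ → ℕ) (j : ℕ) (h : j + 1 ≤ e) :
    rho e n j + rho e n (j + 1) = n j := by
  unfold rho
  rw [← Finset.insert_Icc_add_one_left_eq_Icc (by omega : j ≤ e), Finset.sum_insert (by simp)]
  rw [Nat.sub_self, pow_zero, one_mul, add_assoc, ← Finset.sum_add_distrib]
  rw [Finset.sum_eq_zero, add_zero]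
  intro t ht
  rw [Finset.mem_Icc] at ht
  have : t - j = (t - (j + 1)) + 1 := by omega
  rw [this, pow_succ]
  ring

variable {R : Type u} [CommRing R]

/-- the Buchsbaum–Eisenbud conditions (in the indexing `i = j - 1`) -/
def Cond (e : ℕ) (n : ℕ → ℕ) (A : (i : ℕ) → Matrix (Fin (n i)) (Fin (n (i + 1))) R) : Prop :=
  ∀ i, i < e →
    (CAlgX.matrixRank (A i) : ℤ) = rho e n (i + 1) ∧
      (CAlgX.detIdeal (A i) = ⊤ ∨
        ∃ rs : List R, rs.length = i + 1 ∧ (∀ r ∈ rs, r ∈ CAlgX.detIdeal (A i)) ∧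
          RingTheory.Sequence.IsRegular R rs)

/-- exactness at the spots `e, …, 1` -/
def Ex (e : ℕ) (n : ℕ → ℕ) (A : (i : ℕ) → Matrix (Fin (n i)) (Fin (n (i + 1))) R) : Prop :=
  LinearMap.ker (A (e - 1)).mulVecLin = ⊥ ∧
    ∀ i, i + 2 ≤ e → LinearMap.ker (A i).mulVecLin = LinearMap.range (A (i + 1)).mulVecLin

/-- the conditions localize -/
theorem Cond.localize {e : ℕ} {n : ℕ → ℕ} {A : (i : ℕ) → Matrix (Fin (n i)) (Fin (n (i + 1))) R}
    (h : Cond e n A) (p : Ideal R) [p.IsPrime] :
    Cond e n (fun i => (A i).map (algebraMap R (Localization.AtPrime p))) := by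
  intro i hi
  obtain ⟨hrk, hdet⟩ := h i hi
  set f := algebraMap R (Localization.AtPrime p) with hf
  -- an element of the determinantal ideal surviving in the localization
  have hex : ∃ a ∈ CAlgX.detIdeal (A i), f a ≠ 0 := by
    rcases hdet with htop | ⟨rs, hlen, hmem, hreg⟩
    · refine ⟨1, by rw [htop]; trivial, ?_⟩
      rw [map_one]
      exact one_ne_zero
    · match rs, hlen, hmem, hreg with
      | [], hlen, _, _ => simp at hlen
      | a :: rs', _, hmem, hreg =>
        refine ⟨a, hmem a (List.mem_cons_self), fun h0 => ?_⟩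
        have hareg : IsSMulRegular R a := ((isRegular_cons_iff R a rs').1 hreg).1
        obtain ⟨s, hs⟩ := (IsLocalization.map_eq_zero_iff p.primeCompl
          (Localization.AtPrime p) a).1 h0
        have hs0 : (s : R) = 0 := by
          apply hareg
          change a • (s : R) = a • (0 : R)
          rw [smul_eq_mul, smul_zero, mul_comm]
          exact hs
        exact s.2 (by rw [hs0]; exact p.zero_mem)
  obtain ⟨a, ha, hfa⟩ := hex
  refine ⟨?_, ?_⟩
  · simp only
    rw [matrixRank_map f (A i) a ha hfa]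
    exact hrk
  · simp only
    rw [detIdeal_map f (A i) a ha hfa]
    rcases hdet with htop | ⟨rs, hlen, hmem, hreg⟩
    · left
      rw [htop, Ideal.map_top]
    · by_cases hle : CAlgX.detIdeal (A i) ≤ p
      · right
        refine ⟨rs.map f, by rw [List.length_map, hlen], ?_, ?_⟩
        · intro r hr
          obtain ⟨r', hr', rfl⟩ := List.mem_map.1 hr
          exact Ideal.mem_map_of_mem f (hmem r' hr')
        · exact hreg.toIsWeaklyRegular.isRegular_of_isLocalization_of_mem
            (Localization.AtPrime p) p (fun r hr => hle (hmem r hr))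
      · left
        obtain ⟨b, hb, hbp⟩ := SetLike.not_le_iff_exists.1 hle
        apply Ideal.eq_top_of_isUnit_mem _ (Ideal.mem_map_of_mem f hb)
        exact IsLocalization.map_units (Localization.AtPrime p) (⟨b, hbp⟩ : p.primeCompl)

section local_
variable [IsLocalRing R] [IsNoetherianRing R]

/-- split case: unit determinantal ideal -/
theorem split_of_detIdeal_eq_top {a b : ℕ} (M : Matrix (Fin a) (Fin b) R)
    (h : CAlgX.detIdeal M = ⊤) :
    ∃ N' : Submodule R (Fin a → R), IsCompl (LinearMap.range M.mulVecLin) N' ∧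
      Module.finrank R (LinearMap.range M.mulVecLin) = CAlgX.matrixRank M :=
  Groth.Agent.H54.exists_isCompl_of_minorIdeal M
    (minorIdeal_eq_bot_of_matrixRank_lt M _ (Nat.lt_succ_self _)) h

/-- generalized top step: the top module is a complement `N'` of the range of `M₂` -/
theorem step_top' {a b c : ℕ} (M₁ : Matrix (Fin a) (Fin b) R) (M₂ : Matrix (Fin b) (Fin c) R)
    (h : M₁ * M₂ = 0) (N' : Submodule R (Fin b → R))
    (hc : IsCompl (LinearMap.range M₂.mulVecLin) N') (N : ℕ) (hN : 1 ≤ N)
    (hD : D (kk R) N (ModuleCat.of R N'))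
    (hloc : ∀ (p : Ideal R) [p.IsPrime], p ≠ maximalIdeal R →
      LinearMap.ker (M₁.map (algebraMap R (Localization.AtPrime p))).mulVecLin =
        LinearMap.range (M₂.map (algebraMap R (Localization.AtPrime p))).mulVecLin) :
    LinearMap.ker M₁.mulVecLin = LinearMap.range M₂.mulVecLin ∧
      D (kk R) N (ModuleCat.of R (LinearMap.range M₁.mulVecLin)) := by
  have hPK : LinearMap.range M₂.mulVecLin ≤ LinearMap.ker M₁.mulVecLin := by
    rintro _ ⟨y, rfl⟩
    rw [LinearMap.mem_ker, ← LinearMap.comp_apply, ← Matrix.mulVecLin_mul, h,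
      Matrix.mulVecLin_zero, LinearMap.zero_apply]
  let g : N' →ₗ[R] (Fin a → R) := M₁.mulVecLin ∘ₗ N'.subtype
  let S : ShortComplex (ModuleCat.{u} R) :=
    ShortComplex.mk (0 : ModuleCat.of R PUnit.{u+1} ⟶ ModuleCat.of R N') (ModuleCat.ofHom g)
      (by simp)
  have hfin : Module.Finite R S.X₂ := by
    change Module.Finite R N'
    have hc' := hc.symm
    exact Module.Finite.of_surjective (Submodule.projectionOnto N' _ hc')
      (Submodule.projectionOnto_surjective hc')
  have hfl : IsFiniteLength R S.homology := by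
    apply finLen_homology
    intro p _ hp x hx
    have hx' : M₁.mulVecLin ((x : N') : Fin b → R) = 0 := hx
    obtain ⟨s, hs, y, hy⟩ := loc_exact M₁ M₂ p (hloc p hp).le _ hx'
    refine ⟨s, hs, 0, ?_⟩
    have hmem : s • ((x : N') : Fin b → R) ∈ LinearMap.range M₂.mulVecLin ⊓ N' :=
      ⟨⟨y, hy⟩, N'.smul_mem s (x : N').2⟩
    rw [hc.inf_eq_bot, Submodule.mem_bot] at hmem
    rw [map_zero]
    symm
    apply Subtype.ext
    exact hmem
  have hsub : Subsingleton (LinearMap.range S.f.hom) := by
    refine ⟨fun x y => ?_⟩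
    obtain ⟨x, x', rfl⟩ := x
    obtain ⟨y, y', rfl⟩ := y
    congr 1
  have h1 : D (kk R) 2 (ModuleCat.of R (LinearMap.range S.f.hom)) := D.of_subsingleton _ _
  obtain ⟨_, hker⟩ := E1 S (hD.mono hN) h1 hfl
  have hgker : LinearMap.ker g = ⊥ := by
    change LinearMap.ker S.g.hom = ⊥
    rw [hker]
    exact Submodule.eq_bot_of_subsingleton
  have hex : LinearMap.ker M₁.mulVecLin = LinearMap.range M₂.mulVecLin := by
    apply le_antisymm _ hPK
    intro x hx
    have hx' : x ∈ LinearMap.range M₂.mulVecLin ⊔ N' := by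
      rw [hc.sup_eq_top]
      trivial
    obtain ⟨q, hq, n', hn', hqn⟩ := Submodule.mem_sup.1 hx'
    have hn0 : (⟨n', hn'⟩ : N') ∈ LinearMap.ker g := by
      rw [LinearMap.mem_ker]
      change M₁.mulVecLin n' = 0
      have : n' = x - q := by rw [← hqn]; abel
      rw [this, map_sub, LinearMap.mem_ker.1 hx, LinearMap.mem_ker.1 (hPK hq), sub_zero]
    rw [hgker, Submodule.mem_bot] at hn0
    have hn0' : n' = 0 := congrArg Subtype.val hn0
    rw [hn0', add_zero] at hqn
    rw [← hqn]
    exact hq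
  refine ⟨hex, ?_⟩
  have hsubk : Subsingleton (LinearMap.ker S.g.hom) := by
    change Subsingleton (LinearMap.ker g)
    rw [hgker]
    infer_instance
  have h2 : D (kk R) (N + 1) (ModuleCat.of R (LinearMap.ker S.g.hom)) := D.of_subsingleton _ _
  have hD' := E2 S hD h2
  -- the range of `g` is the range of `M₁`
  have hrange : LinearMap.range S.g.hom = LinearMap.range M₁.mulVecLin := by
    change LinearMap.range g = _
    apply le_antisymm
    · rintro _ ⟨x, rfl⟩
      exact ⟨x, rfl⟩
    · rintro _ ⟨x, rfl⟩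
      have hx' : x ∈ LinearMap.range M₂.mulVecLin ⊔ N' := by
        rw [hc.sup_eq_top]
        trivial
      obtain ⟨q, hq, n', hn', hqn⟩ := Submodule.mem_sup.1 hx'
      refine ⟨⟨n', hn'⟩, ?_⟩
      change M₁.mulVecLin n' = _
      rw [← hqn, map_add, LinearMap.mem_ker.1 (hPK hq), zero_add]
  exact hD'.of_iso (LinearEquiv.ofEq _ _ hrange).toModuleIso

end local_

end Groth.Agent.H95.BELocal
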