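import Mathlib
import Groth.Agent.H95.BELocal

set_option autoImplicit false
set_option linter.unusedSectionVars false

namespace Groth.Agent.H95.BELocal

open CategoryTheory IsLocalRing RingTheory.Sequence Matrix
open Groth.Agent.H70.Acyc Groth.Agent.H70.Planar Groth.Agent.S14128
open Groth.Agent.H95.BEAcyc Groth.Agent.H95.BEMinors Groth.Agent.H95.BELinAlg

universe u
variable {R : Type u} [CommRing R] [IsLocalRing R] [IsNoetherianRing R]

/-- exactness in the split range: both maps have unit determinantal ideals -/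
theorem ex_split_mid {e : ℕ} {n : ℕ → ℕ} {A : (i : ℕ) → Matrix (Fin (n i)) (Fin (n (i + 1))) R}
    (hA : ∀ i, i + 2 ≤ e + 1 → A i * A (i + 1) = 0) (hc : Cond (e + 1) n A)
    (i : ℕ) (hi : i + 2 ≤ e + 1) (h1 : CAlgX.detIdeal (A i) = ⊤)
    (h2 : CAlgX.detIdeal (A (i + 1)) = ⊤) :
    LinearMap.ker (A i).mulVecLin = LinearMap.range (A (i + 1)).mulVecLin := by
  obtain ⟨N₁, hc₁, hr₁⟩ := split_of_detIdeal_eq_top (A i) h1
  obtain ⟨N₂, hc₂, hr₂⟩ := split_of_detIdeal_eq_top (A (i + 1)) h2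
  apply ker_eq_range_of_isCompl (A i) (A (i + 1)) (hA i hi) N₁ hc₁ N₂ hc₂
  rw [hr₁, hr₂]
  have e1 := (hc i (by omega)).1
  have e2 := (hc (i + 1) (by omega)).1
  have e3 := rho_succ (e + 1) n (i + 1) (by omega)
  have : ((CAlgX.matrixRank (A i) + CAlgX.matrixRank (A (i + 1)) : ℕ) : ℤ) = (n (i + 1) : ℤ) := by
    push_cast
    rw [e1, e2]
    exact e3
  exact_mod_cast this

theorem ex_split_top {e : ℕ} {n : ℕ → ℕ} {A : (i : ℕ) → Matrix (Fin (n i)) (Fin (n (i + 1))) R}
    (hc : Cond (e + 1) n A) (h1 : CAlgX.detIdeal (A e) = ⊤) :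
    LinearMap.ker (A e).mulVecLin = ⊥ := by
  obtain ⟨N₁, hc₁, hr₁⟩ := split_of_detIdeal_eq_top (A e) h1
  have hrange0 : LinearMap.range (0 : Matrix (Fin (n (e + 1))) (Fin 0) R).mulVecLin = ⊥ := by
    rw [Matrix.mulVecLin_zero, LinearMap.range_zero]
  have key := ker_eq_range_of_isCompl (A e) (0 : Matrix (Fin (n (e + 1))) (Fin 0) R)
    (by simp) N₁ hc₁ ⊤ (by rw [hrange0]; exact isCompl_bot_top) (by
      rw [hr₁, hrange0, finrank_bot, add_zero]
      have e1 := (hc e (by omega)).1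
      rw [rho_self] at e1
      exact_mod_cast e1)
  rw [key, hrange0]

/-- the local theorem, given exactness on the punctured spectrum -/
theorem local_of_hloc (e : ℕ) (n : ℕ → ℕ) (A : (i : ℕ) → Matrix (Fin (n i)) (Fin (n (i + 1))) R)
    (hA : ∀ i, i + 2 ≤ e + 1 → A i * A (i + 1) = 0) (hc : Cond (e + 1) n A)
    (hloc : ∀ (p : Ideal R) [p.IsPrime], p ≠ IsLocalRing.maximalIdeal R →
      LinearMap.ker ((A e).map (algebraMap R (Localization.AtPrime p))).mulVecLin = ⊥ ∧
        ∀ i, i + 2 ≤ e + 1 →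
          LinearMap.ker ((A i).map (algebraMap R (Localization.AtPrime p))).mulVecLin =
            LinearMap.range ((A (i + 1)).map (algebraMap R (Localization.AtPrime p))).mulVecLin) :
    LinearMap.ker (A e).mulVecLin = ⊥ ∧
      ∀ i, i + 2 ≤ e + 1 → LinearMap.ker (A i).mulVecLin = LinearMap.range (A (i + 1)).mulVecLin := by
  classical
  by_cases hall : ∀ i ≤ e, CAlgX.detIdeal (A i) = ⊤
  · exact ⟨ex_split_top hc (hall e le_rfl),
      fun i hi => ex_split_mid hA hc i hi (hall i (by omega)) (hall (i + 1) (by omega))⟩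
  push Not at hall
  obtain ⟨j, hje, hj⟩ := hall
  set i₀ := Nat.findGreatest (fun i => CAlgX.detIdeal (A i) ≠ ⊤) e with hi₀
  have hi₀e : i₀ ≤ e := Nat.findGreatest_le e
  have hPi₀ : CAlgX.detIdeal (A i₀) ≠ ⊤ :=
    Nat.findGreatest_spec (P := fun i => CAlgX.detIdeal (A i) ≠ ⊤) hje hj
  have hgt : ∀ i, i₀ < i → i ≤ e → CAlgX.detIdeal (A i) = ⊤ := by
    intro i h1 h2
    by_contra hne
    exact Nat.findGreatest_is_greatest (P := fun i => CAlgX.detIdeal (A i) ≠ ⊤) h1 h2 hne
  -- the depth of `R`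
  obtain ⟨-, hdet⟩ := hc i₀ (by omega)
  rcases hdet with htop | ⟨rs, hlen, hmem, hreg⟩
  · exact absurd htop hPi₀
  have hmem' : ∀ x ∈ rs, x ∈ maximalIdeal R := fun x hx =>
    IsLocalRing.le_maximalIdeal hPi₀ (hmem x hx)
  have hDflat : ∀ (F : ModuleCat.{u} R) [Module.Flat R F], D (kk R) (i₀ + 1) F := by
    intro F _
    have := D_of_flat_of_regular rs hmem' hreg F
    rwa [hlen] at this
  have hDfree : ∀ b : ℕ, D (kk R) (i₀ + 1) (ModuleCat.of R (Fin b → R)) := by
    intro b
    have : Module.Flat R (ModuleCat.of R (Fin b → R)) := by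
      change Module.Flat R (Fin b → R)
      infer_instance
    exact hDflat _
  -- phase 2
  have hphase2 : D (kk R) (i₀ + 1) (ModuleCat.of R (LinearMap.range (A i₀).mulVecLin)) ∧
      (i₀ = e → LinearMap.ker (A e).mulVecLin = ⊥) ∧
      (i₀ + 2 ≤ e + 1 →
        LinearMap.ker (A i₀).mulVecLin = LinearMap.range (A (i₀ + 1)).mulVecLin) := by
    by_cases hie : i₀ = e
    · have hloc' : ∀ (p : Ideal R) [p.IsPrime], p ≠ maximalIdeal R →
          LinearMap.ker ((A i₀).map (algebraMap R (Localization.AtPrime p))).mulVecLin = ⊥ := by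
        intro p _ hp
        rw [hie]
        exact (hloc p hp).1
      obtain ⟨h1, h2⟩ := step_top (A i₀) (i₀ + 1) (by omega) (hDfree _) hloc'
      refine ⟨h2, fun _ => ?_, fun h => absurd h (by omega)⟩
      rw [← hie]
      exact h1
    · have hlt : i₀ + 2 ≤ e + 1 := by omega
      obtain ⟨N', hcN, -⟩ := split_of_detIdeal_eq_top (A (i₀ + 1))
        (hgt (i₀ + 1) (by omega) (by omega))
      have hflat : Module.Flat R (ModuleCat.of R N') := by
        change Module.Flat R N'
        have : Module.Projective R N' :=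
          Module.Projective.of_split N'.subtype (Submodule.projectionOnto N' _ hcN.symm)
            (Submodule.projectionOnto_comp_subtype hcN.symm)
        infer_instance
      obtain ⟨h1, h2⟩ := step_top' (A i₀) (A (i₀ + 1)) (hA i₀ hlt) N' hcN (i₀ + 1) (by omega)
        (hDflat _) (fun p _ hp => (hloc p hp).2 i₀ hlt)
      exact ⟨h2, fun h => absurd h hie, fun _ => h1⟩
  obtain ⟨hD₀, htop₀, hmid₀⟩ := hphase2
  -- phase 3
  have key : ∀ i, i ≤ i₀ → D (kk R) (i + 1) (ModuleCat.of R (LinearMap.range (A i).mulVecLin)) ∧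
      (i < i₀ → LinearMap.ker (A i).mulVecLin = LinearMap.range (A (i + 1)).mulVecLin) := by
    intro i hi
    induction hi using Nat.decreasingInduction with
    | self => exact ⟨hD₀, fun h => absurd h (lt_irrefl _)⟩
    | of_succ k hk ih =>
      obtain ⟨hB, -⟩ := ih
      obtain ⟨hex, hD'⟩ := step_mid (A k) (A (k + 1)) (hA k (by omega)) (k + 1) (by omega)
        ((hDfree _).mono (by omega)) hB (fun p _ hp => (hloc p hp).2 k (by omega))
      exact ⟨hD', fun _ => hex⟩
  refine ⟨?_, ?_⟩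
  · by_cases hie : i₀ = e
    · exact htop₀ hie
    · exact ex_split_top hc (hgt e (by omega) le_rfl)
  · intro i hi
    rcases lt_trichotomy i i₀ with h | h | h
    · exact (key i h.le).2 h
    · rw [h]
      exact hmid₀ (by omega)
    · exact ex_split_mid hA hc i hi (hgt i h (by omega)) (hgt (i + 1) (by omega) (by omega))

end Groth.Agent.H95.BELocal
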