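import Mathlib
import Groth.Agent.H95.BELocal2

set_option autoImplicit false
set_option linter.unusedSectionVars false

namespace Groth.Agent.H95.BEGlobal

open IsLocalRing Matrix
open Groth.Agent.H95.BEAcyc Groth.Agent.H95.BELocal

universe u

/-- Buchsbaum–Eisenbud sufficiency over a Noetherian local ring, by induction on the dimension -/
theorem local_main : ∀ (d : ℕ) (R : Type u) [CommRing R] [IsLocalRing R] [IsNoetherianRing R],
    ringKrullDim R ≤ d →
    ∀ (e : ℕ) (n : ℕ → ℕ) (A : (i : ℕ) → Matrix (Fin (n i)) (Fin (n (i + 1))) R),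
      (∀ i, i + 2 ≤ e + 1 → A i * A (i + 1) = 0) → Cond (e + 1) n A →
      LinearMap.ker (A e).mulVecLin = ⊥ ∧
        ∀ i, i + 2 ≤ e + 1 →
          LinearMap.ker (A i).mulVecLin = LinearMap.range (A (i + 1)).mulVecLin := by
  intro d
  induction d using Nat.strong_induction_on with
  | _ d ih =>
    intro R _ _ _ hd e n A hA hc
    apply local_of_hloc e n A hA hc
    intro p _ hp
    have hlt : p < maximalIdeal R :=
      lt_of_le_of_ne (le_maximalIdeal Ideal.IsPrime.ne_top') hp
    have hh : p.height < (maximalIdeal R).height := Ideal.height_strict_mono_of_isPrime hlt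
    have hm : ((maximalIdeal R).height : WithBot ℕ∞) ≤ (d : WithBot ℕ∞) := by
      rw [IsLocalRing.maximalIdeal_height_eq_ringKrullDim]
      exact hd
    have hm' : (maximalIdeal R).height ≤ (d : ℕ∞) := by exact_mod_cast hm
    have hpd : p.height < (d : ℕ∞) := lt_of_lt_of_le hh hm'
    obtain ⟨k, hk⟩ := ENat.ne_top_iff_exists.1 (ne_top_of_lt hpd)
    have hkd : k < d := by
      rw [← hk] at hpd
      exact_mod_cast hpd
    have hdim : ringKrullDim (Localization.AtPrime p) ≤ (k : WithBot ℕ∞) := by
      rw [IsLocalization.AtPrime.ringKrullDim_eq_height p, ← hk]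
      rfl
    exact ih k hkd (Localization.AtPrime p) hdim e n
      (fun i => (A i).map (algebraMap R (Localization.AtPrime p)))
      (fun i hi => by
        rw [← Matrix.map_mul, hA i hi]
        simp)
      (hc.localize p)

theorem local_main' (R : Type u) [CommRing R] [IsLocalRing R] [IsNoetherianRing R]
    (e : ℕ) (n : ℕ → ℕ) (A : (i : ℕ) → Matrix (Fin (n i)) (Fin (n (i + 1))) R)
    (hA : ∀ i, i + 2 ≤ e + 1 → A i * A (i + 1) = 0) (hc : Cond (e + 1) n A) :
    LinearMap.ker (A e).mulVecLin = ⊥ ∧
      ∀ i, i + 2 ≤ e + 1 →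
        LinearMap.ker (A i).mulVecLin = LinearMap.range (A (i + 1)).mulVecLin := by
  have hfin : ringKrullDim R < ⊤ := ringKrullDim_lt_top
  have hne : ringKrullDim R ≠ ⊥ := ringKrullDim_ne_bot
  obtain ⟨d, hd⟩ : ∃ d : ℕ, ringKrullDim R ≤ d := by
    obtain ⟨x, hx⟩ := WithBot.ne_bot_iff_exists.1 hne
    rw [← hx] at hfin
    have hx' : x ≠ ⊤ := by
      intro h
      rw [h] at hfin
      exact lt_irrefl _ hfin
    obtain ⟨k, hk⟩ := ENat.ne_top_iff_exists.1 hx'
    refine ⟨k, ?_⟩
    rw [← hx, ← hk]
    rfl
  exact local_main d R hd e n A hA hc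

/-- Buchsbaum–Eisenbud sufficiency over a Noetherian ring -/
theorem global_main (R : Type u) [CommRing R] [IsNoetherianRing R]
    (e : ℕ) (n : ℕ → ℕ) (A : (i : ℕ) → Matrix (Fin (n i)) (Fin (n (i + 1))) R)
    (hA : ∀ i, i + 2 ≤ e + 1 → A i * A (i + 1) = 0) (hc : Cond (e + 1) n A) :
    LinearMap.ker (A e).mulVecLin = ⊥ ∧
      ∀ i, i + 2 ≤ e + 1 →
        LinearMap.ker (A i).mulVecLin = LinearMap.range (A (i + 1)).mulVecLin := by
  have hlocal : ∀ (m : Ideal R) [m.IsMaximal],
      LinearMap.ker ((A e).map (algebraMap R (Localization.AtPrime m))).mulVecLin = ⊥ ∧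
        ∀ i, i + 2 ≤ e + 1 →
          LinearMap.ker ((A i).map (algebraMap R (Localization.AtPrime m))).mulVecLin =
            LinearMap.range ((A (i + 1)).map (algebraMap R (Localization.AtPrime m))).mulVecLin := by
    intro m _
    exact local_main' (Localization.AtPrime m) e n
      (fun i => (A i).map (algebraMap R (Localization.AtPrime m)))
      (fun i hi => by
        rw [← Matrix.map_mul, hA i hi]
        simp)
      (hc.localize m)
  refine ⟨?_, ?_⟩
  · rw [Submodule.eq_bot_iff]
    intro x hx
    by_contra hne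
    -- the annihilator of x is proper
    set I : Ideal R := (Submodule.span R {x}).annihilator with hI
    have hItop : I ≠ ⊤ := by
      intro h
      apply hne
      have : (1 : R) ∈ I := by rw [h]; trivial
      have h1 := (Submodule.mem_annihilator_span_singleton x 1).1 this
      rwa [one_smul] at h1
    obtain ⟨m, hm, hIm⟩ := Ideal.exists_le_maximal I hItop
    obtain ⟨s, hs, hsx⟩ := loc_inj (A e) m (hlocal m).1 x (LinearMap.mem_ker.1 hx)
    exact hs (hIm ((Submodule.mem_annihilator_span_singleton x s).2 hsx))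
  · intro i hi
    apply le_antisymm
    · intro x hx
      by_contra hne
      set I : Ideal R :=
        (LinearMap.range (A (i + 1)).mulVecLin).colon {x} with hI
      have hItop : I ≠ ⊤ := by
        intro h
        apply hne
        have : (1 : R) ∈ I := by rw [h]; trivial
        have h1 := (Submodule.mem_colon_singleton).1 this
        rwa [one_smul] at h1
      obtain ⟨m, hm, hIm⟩ := Ideal.exists_le_maximal I hItop
      obtain ⟨s, hs, y, hy⟩ := loc_exact (A i) (A (i + 1)) m ((hlocal m).2 i hi).le x
        (LinearMap.mem_ker.1 hx)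
      exact hs (hIm (Submodule.mem_colon_singleton.2 ⟨y, hy⟩))
    · rintro _ ⟨y, rfl⟩
      rw [LinearMap.mem_ker, ← LinearMap.comp_apply, ← Matrix.mulVecLin_mul, hA i hi,
        Matrix.mulVecLin_zero, LinearMap.zero_apply]

end Groth.Agent.H95.BEGlobal
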