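import Mathlib
import Groth.Agent.H95.BELocal2

set_option autoImplicit false
set_option linter.unusedSectionVars false

namespace Groth.Agent.H95.BENec

open IsLocalRing Matrix
open Groth.Agent.H95.BEAcyc Groth.Agent.H95.BELocal Groth.Agent.H95.BEMinors
open Groth.Agent.H95.BELinAlg

universe u
variable {R : Type u} [CommRing R]

/-- exactness of a pair of matrices localizes -/
theorem loc_ker_le {a b c : ℕ} (M₁ : Matrix (Fin a) (Fin b) R) (M₂ : Matrix (Fin b) (Fin c) R)
    (p : Ideal R) [p.IsPrime]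
    (h : LinearMap.ker M₁.mulVecLin ≤ LinearMap.range M₂.mulVecLin) :
    LinearMap.ker (M₁.map (algebraMap R (Localization.AtPrime p))).mulVecLin ≤
      LinearMap.range (M₂.map (algebraMap R (Localization.AtPrime p))).mulVecLin := by
  classical
  set f := algebraMap R (Localization.AtPrime p) with hf
  intro x' hx'
  rw [LinearMap.mem_ker, Matrix.mulVecLin_apply] at hx'
  obtain ⟨s, hs⟩ := IsLocalization.exist_integer_multiples p.primeCompl
    (Finset.univ : Finset (Fin b)) x'
  choose x hx using fun j => hs j (Finset.mem_univ j)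
  have hfx : f ∘ x = (f (s : R)) • x' := by
    funext j
    rw [Function.comp_apply, hx j, Pi.smul_apply, Algebra.smul_def, smul_eq_mul]
  have h0 : ∀ i, f ((M₁ *ᵥ x) i) = 0 := by
    intro i
    rw [RingHom.map_mulVec, hfx, Matrix.mulVec_smul, hx', smul_zero]
    rfl
  have hu : ∀ i, ∃ u : p.primeCompl, (u : R) * (M₁ *ᵥ x) i = 0 := fun i =>
    (IsLocalization.map_eq_zero_iff p.primeCompl (Localization.AtPrime p) _).1 (h0 i)
  choose u hu using hu
  set U : p.primeCompl := ∏ i, u i with hU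
  have hUi : ∀ i, (U : R) * (M₁ *ᵥ x) i = 0 := by
    intro i
    have h1 : (U : R) = (∏ j ∈ Finset.univ.erase i, (u j : R)) * (u i : R) := by
      rw [hU, Submonoid.coe_finsetProd, Finset.prod_erase_mul _ _ (Finset.mem_univ i)]
    rw [h1, mul_assoc, hu i, mul_zero]
  have hker : (U : R) • x ∈ LinearMap.ker M₁.mulVecLin := by
    rw [LinearMap.mem_ker, map_smul]
    funext i
    rw [Pi.smul_apply, Matrix.mulVecLin_apply, smul_eq_mul, hUi i]
    rfl
  obtain ⟨y, hy⟩ := h hker
  rw [Matrix.mulVecLin_apply] at hy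
  have hunit : IsUnit (f ((U * s : p.primeCompl) : R)) :=
    IsLocalization.map_units (Localization.AtPrime p) (U * s)
  obtain ⟨v, hv⟩ := hunit
  refine ⟨(↑v⁻¹ : Localization.AtPrime p) • (f ∘ y), ?_⟩
  have hmv : (M₂.map f) *ᵥ (f ∘ y) = f ∘ (M₂ *ᵥ y) := by
    funext i
    rw [Function.comp_apply, RingHom.map_mulVec]
  rw [Matrix.mulVecLin_apply, Matrix.mulVec_smul, hmv, hy]
  have h2 : f ∘ ((U : R) • x) = f (U : R) • (f ∘ x) := by
    funext j
    simp [smul_eq_mul]
  rw [h2, hfx, smul_smul, smul_smul]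
  have h3 : (↑v⁻¹ : Localization.AtPrime p) * (f (U : R) * f (s : R)) = 1 := by
    rw [← map_mul]
    have : ((U * s : p.primeCompl) : R) = (U : R) * (s : R) := rfl
    rw [← this, ← hv]
    exact Units.inv_mul v
  rw [mul_assoc, h3, one_smul]

theorem loc_ker_eq {a b c : ℕ} (M₁ : Matrix (Fin a) (Fin b) R) (M₂ : Matrix (Fin b) (Fin c) R)
    (p : Ideal R) [p.IsPrime]
    (h : LinearMap.ker M₁.mulVecLin = LinearMap.range M₂.mulVecLin) :
    LinearMap.ker (M₁.map (algebraMap R (Localization.AtPrime p))).mulVecLin =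
      LinearMap.range (M₂.map (algebraMap R (Localization.AtPrime p))).mulVecLin := by
  apply le_antisymm (loc_ker_le M₁ M₂ p h.le)
  have hprod : M₁ * M₂ = 0 := by
    have h1 : M₁.mulVecLin ∘ₗ M₂.mulVecLin = 0 :=
      LinearMap.range_le_ker_iff.1 h.ge
    rw [← Matrix.mulVecLin_mul] at h1
    apply Matrix.toLin'.injective
    rw [Matrix.toLin'_apply', h1, map_zero]
  rintro _ ⟨y, rfl⟩
  rw [LinearMap.mem_ker, ← LinearMap.comp_apply, ← Matrix.mulVecLin_mul, ← Matrix.map_mul, hprod]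
  simp

theorem loc_ker_bot {a b : ℕ} (M₁ : Matrix (Fin a) (Fin b) R)
    (p : Ideal R) [p.IsPrime] (h : LinearMap.ker M₁.mulVecLin = ⊥) :
    LinearMap.ker (M₁.map (algebraMap R (Localization.AtPrime p))).mulVecLin = ⊥ := by
  have := loc_ker_le M₁ (0 : Matrix (Fin b) (Fin 0) R) p (by rw [h]; exact bot_le)
  rw [eq_bot_iff]
  refine this.trans ?_
  rintro _ ⟨y, rfl⟩
  simp

end Groth.Agent.H95.BENec
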