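import Mathlib
import Groth.Agent.H95.BENec1

set_option autoImplicit false
set_option linter.unusedSectionVars false

namespace Groth.Agent.H95.BENec

open IsLocalRing Matrix
open Groth.Agent.H95.BEAcyc Groth.Agent.H95.BELocal Groth.Agent.H95.BEMinors
open Groth.Agent.H95.BELinAlg

universe u
variable {S : Type u} [CommRing S] [IsLocalRing S]

/-- depth zero: a map of free modules whose kernel is a direct summand has a direct summand as its
range -/
theorem dz_step (z : S) (hz : z ≠ 0) (hmz : ∀ a ∈ maximalIdeal S, a * z = 0)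
    {a b : ℕ} (M : Matrix (Fin a) (Fin b) S) (N₀ : Submodule S (Fin b → S)) (r' : ℕ)
    (hc : IsCompl (LinearMap.ker M.mulVecLin) N₀)
    (hr' : Module.finrank S (LinearMap.ker M.mulVecLin) = r') :
    ∃ N' : Submodule S (Fin a → S), IsCompl (LinearMap.range M.mulVecLin) N' ∧
      Module.finrank S (LinearMap.range M.mulVecLin) + r' = b := by
  classical
  obtain ⟨-, -, hfN, hFN, hsum⟩ := isCompl_free (LinearMap.ker M.mulVecLin) N₀ hc
  rw [Module.finrank_fin_fun, hr'] at hsum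
  set r := Module.finrank S N₀ with hr
  let bN : Module.Basis (Fin r) S N₀ := Module.finBasisOfFinrankEq S N₀ rfl
  let ψ : (Fin r → S) →ₗ[S] (Fin a → S) :=
    M.mulVecLin ∘ₗ N₀.subtype ∘ₗ bN.equivFun.symm.toLinearMap
  set Ψ : Matrix (Fin a) (Fin r) S := LinearMap.toMatrix' ψ with hΨdef
  have hΨ : Ψ.mulVecLin = ψ := by
    rw [← Matrix.toLin'_apply', hΨdef, Matrix.toLin'_toMatrix']
  have hinj : Function.Injective Ψ.mulVecLin := by
    rw [hΨ]
    intro x y hxy
    have h1 : (N₀.subtype (bN.equivFun.symm x) - N₀.subtype (bN.equivFun.symm y)) ∈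
        LinearMap.ker M.mulVecLin ⊓ N₀ := by
      refine ⟨?_, N₀.sub_mem (bN.equivFun.symm x).2 (bN.equivFun.symm y).2⟩
      change _ ∈ LinearMap.ker M.mulVecLin
      rw [LinearMap.mem_ker, map_sub, sub_eq_zero]
      exact hxy
    rw [hc.inf_eq_bot, Submodule.mem_bot, sub_eq_zero] at h1
    exact bN.equivFun.symm.injective (Subtype.ext h1)
  have hrange : LinearMap.range Ψ.mulVecLin = LinearMap.range M.mulVecLin := by
    rw [hΨ]
    apply le_antisymm
    · rintro _ ⟨x, rfl⟩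
      exact ⟨_, rfl⟩
    · rintro _ ⟨x, rfl⟩
      have hx : x ∈ LinearMap.ker M.mulVecLin ⊔ N₀ := by
        rw [hc.sup_eq_top]
        trivial
      obtain ⟨k, hk, n', hn', rfl⟩ := Submodule.mem_sup.1 hx
      refine ⟨bN.equivFun ⟨n', hn'⟩, ?_⟩
      change M.mulVecLin (N₀.subtype (bN.equivFun.symm (bN.equivFun ⟨n', hn'⟩))) = _
      rw [LinearEquiv.symm_apply_apply, map_add, LinearMap.mem_ker.1 hk, zero_add]
      rfl
  have hann := Groth.Agent.H46.annihilator_minorIdeal_eq_bot_of_injective Ψ hinj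
  have htop : CAlgX.minorIdeal Ψ r = ⊤ := by
    by_contra hne
    have hle := IsLocalRing.le_maximalIdeal hne
    have hzann : z ∈ (CAlgX.minorIdeal Ψ r).annihilator := by
      rw [Submodule.mem_annihilator]
      intro a ha
      rw [smul_eq_mul, mul_comm]
      exact hmz a (hle ha)
    rw [hann, Submodule.mem_bot] at hzann
    exact hz hzann
  obtain ⟨N', hcN', hrN'⟩ := Groth.Agent.H54.exists_isCompl_of_minorIdeal Ψ
    (Groth.Agent.H46.minorIdeal_eq_bot_of_lt Ψ (r + 1) (Nat.lt_succ_self r)) htop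
  rw [hrange] at hcN' hrN'
  refine ⟨N', hcN', ?_⟩
  rw [hrN']
  omega

/-- depth zero: an exact complex of finite free modules splits -/
theorem dz (z : S) (hz : z ≠ 0) (hmz : ∀ a ∈ maximalIdeal S, a * z = 0)
    (e : ℕ) (n : ℕ → ℕ) (A : (i : ℕ) → Matrix (Fin (n i)) (Fin (n (i + 1))) S)
    (htop : LinearMap.ker (A e).mulVecLin = ⊥)
    (hmid : ∀ i, i + 2 ≤ e + 1 →
      LinearMap.ker (A i).mulVecLin = LinearMap.range (A (i + 1)).mulVecLin) :
    ∀ i, i ≤ e → ∃ (N' : Submodule S (Fin (n i) → S)) (r : ℕ),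
      IsCompl (LinearMap.range (A i).mulVecLin) N' ∧
        Module.finrank S (LinearMap.range (A i).mulVecLin) = r ∧
          (r : ℤ) = rho (e + 1) n (i + 1) := by
  intro i hi
  induction hi using Nat.decreasingInduction with
  | self =>
    obtain ⟨N', hcN', hr⟩ := dz_step z hz hmz (A e) ⊤ 0
      (by rw [htop]; exact isCompl_bot_top) (by rw [htop, finrank_bot])
    refine ⟨N', _, hcN', rfl, ?_⟩
    rw [rho_self]
    rw [add_zero] at hr
    exact_mod_cast hr
  | of_succ k hk ih =>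
    obtain ⟨N'', r'', hc'', hr'', hrho''⟩ := ih
    obtain ⟨N', hcN', hr⟩ := dz_step z hz hmz (A k) N'' r''
      (by rw [hmid k (by omega)]; exact hc'') (by rw [hmid k (by omega)]; exact hr'')
    refine ⟨N', _, hcN', rfl, ?_⟩
    have h3 := rho_succ (e + 1) n (k + 1) (by omega)
    have h4 : ((Module.finrank S (LinearMap.range (A k).mulVecLin) + r'' : ℕ) : ℤ) =
        (n (k + 1) : ℤ) := by exact_mod_cast hr
    push_cast at h4
    rw [hrho''] at h4
    linarith

theorem dz_minors (z : S) (hz : z ≠ 0) (hmz : ∀ a ∈ maximalIdeal S, a * z = 0)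
    (e : ℕ) (n : ℕ → ℕ) (A : (i : ℕ) → Matrix (Fin (n i)) (Fin (n (i + 1))) S)
    (htop : LinearMap.ker (A e).mulVecLin = ⊥)
    (hmid : ∀ i, i + 2 ≤ e + 1 →
      LinearMap.ker (A i).mulVecLin = LinearMap.range (A (i + 1)).mulVecLin) :
    ∀ i, i ≤ e → ∃ r : ℕ, (r : ℤ) = rho (e + 1) n (i + 1) ∧
      CAlgX.minorIdeal (A i) (r + 1) = ⊥ ∧ CAlgX.minorIdeal (A i) r = ⊤ := by
  intro i hi
  obtain ⟨N', r, hc, hr, hrho⟩ := dz z hz hmz e n A htop hmid i hi
  exact ⟨r, hrho, Groth.Agent.H54.minorIdeal_of_isCompl (A i) N' hc hr⟩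

end Groth.Agent.H95.BENec
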