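import Mathlib
import Groth.Agent.H95.BENec2

set_option autoImplicit false
set_option linter.unusedSectionVars false

namespace Groth.Agent.H95.BENec

open IsLocalRing Matrix
open Groth.Agent.H95.BEAcyc Groth.Agent.H95.BELocal Groth.Agent.H95.BEMinors
open Groth.Agent.H95.BELinAlg

universe u

section general
variable {R : Type u} [CommRing R]

theorem minorIdeal_succ_le {a b : ℕ} (M : Matrix (Fin a) (Fin b) R) (r : ℕ) :
    CAlgX.minorIdeal M (r + 1) ≤ CAlgX.minorIdeal M r := by
  unfold CAlgX.minorIdeal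
  rw [Ideal.span_le]
  rintro _ ⟨⟨f, g⟩, rfl⟩
  simp only
  rw [Matrix.det_succ_row_zero]
  refine Ideal.sum_mem _ fun j _ => Ideal.mul_mem_left _ _ ?_
  exact Ideal.subset_span ⟨(f ∘ Fin.succ, g ∘ Fin.succAbove j), rfl⟩

theorem minorIdeal_eq_bot_of_le {a b : ℕ} (M : Matrix (Fin a) (Fin b) R) (r r' : ℕ)
    (h : CAlgX.minorIdeal M r = ⊥) (hr : r ≤ r') : CAlgX.minorIdeal M r' = ⊥ := by
  induction hr with
  | refl => exact h
  | step _ ih => exact le_bot_iff.1 ((minorIdeal_succ_le M _).trans ih.le)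

end general

variable {R : Type u} [CommRing R] [IsNoetherianRing R]

/-- the localization at an associated prime has depth zero -/
theorem exists_socle_of_mem_associatedPrimes (q : Ideal R) (hq : q ∈ associatedPrimes R R) :
    ∃ (_ : q.IsPrime) (z : Localization.AtPrime q), z ≠ 0 ∧
      ∀ a ∈ maximalIdeal (Localization.AtPrime q), a * z = 0 := by
  obtain ⟨hprime, y, hy⟩ := (isAssociatedPrime_iff).1 hq
  have hq_iff : ∀ c : R, c ∈ q ↔ c * y = 0 := by
    intro c
    have : c ∈ q ↔ c ∈ (⊥ : Submodule R R).colon {y} := by rw [← hy]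
    rw [this, Submodule.mem_colon_singleton, Submodule.mem_bot, smul_eq_mul]
  refine ⟨hprime, algebraMap R (Localization.AtPrime q) y, ?_, ?_⟩
  · intro h0
    obtain ⟨s, hs⟩ := (IsLocalization.map_eq_zero_iff q.primeCompl
      (Localization.AtPrime q) y).1 h0
    exact s.2 ((hq_iff _).2 hs)
  · intro a ha
    obtain ⟨c, s, rfl⟩ := IsLocalization.exists_mk'_eq q.primeCompl a
    rw [IsLocalization.AtPrime.mk'_mem_maximal_iff (Localization.AtPrime q) q] at ha
    have hcy : c * y = 0 := (hq_iff c).1 ha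
    rw [mul_comm, IsLocalization.mul_mk'_eq_mk'_of_mul, mul_comm y c, hcy,
      IsLocalization.mk'_zero]

variable (e : ℕ) (n : ℕ → ℕ) (A : (i : ℕ) → Matrix (Fin (n i)) (Fin (n (i + 1))) R)

theorem minors_at_ass
    (htop : LinearMap.ker (A e).mulVecLin = ⊥)
    (hmid : ∀ i, i + 2 ≤ e + 1 →
      LinearMap.ker (A i).mulVecLin = LinearMap.range (A (i + 1)).mulVecLin)
    (q : Ideal R) [q.IsPrime] (hq : q ∈ associatedPrimes R R) (i : ℕ) (hi : i ≤ e) :
    ∃ r : ℕ, (r : ℤ) = rho (e + 1) n (i + 1) ∧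
      (CAlgX.minorIdeal (A i) (r + 1)).map (algebraMap R (Localization.AtPrime q)) = ⊥ ∧
      (CAlgX.minorIdeal (A i) r).map (algebraMap R (Localization.AtPrime q)) = ⊤ := by
  obtain ⟨_, z, hz, hmz⟩ := exists_socle_of_mem_associatedPrimes q hq
  obtain ⟨r, hr, h1, h2⟩ := dz_minors z hz hmz e n
    (fun i => (A i).map (algebraMap R (Localization.AtPrime q)))
    (loc_ker_bot (A e) q htop) (fun i hi => loc_ker_eq (A i) (A (i + 1)) q (hmid i hi)) i hi
  refine ⟨r, hr, ?_, ?_⟩
  · rw [← minorIdeal_map]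
    exact h1
  · rw [← minorIdeal_map]
    exact h2

/-- the rank statement of Buchsbaum–Eisenbud, and determinantal ideals avoid associated primes -/
theorem rank_of_exact [Nontrivial R]
    (htop : LinearMap.ker (A e).mulVecLin = ⊥)
    (hmid : ∀ i, i + 2 ≤ e + 1 →
      LinearMap.ker (A i).mulVecLin = LinearMap.range (A (i + 1)).mulVecLin)
    (i : ℕ) (hi : i ≤ e) :
    (CAlgX.matrixRank (A i) : ℤ) = rho (e + 1) n (i + 1) ∧
      ∀ q ∈ associatedPrimes R R, ¬ CAlgX.detIdeal (A i) ≤ q := by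
  obtain ⟨q₀, hq₀⟩ := associatedPrimes.nonempty R R
  have hq₀p : q₀.IsPrime := ((isAssociatedPrime_iff).1 hq₀).1
  obtain ⟨r, hr, -, -⟩ := minors_at_ass e n A htop hmid q₀ hq₀ i hi
  have hbot : CAlgX.minorIdeal (A i) (r + 1) = ⊥ := by
    rw [eq_bot_iff]
    intro a ha
    rw [Submodule.mem_bot]
    by_contra hne
    obtain ⟨P, hP, hle⟩ := exists_le_isAssociatedPrime_of_isNoetherianRing R a hne
    have hPp : P.IsPrime := ((isAssociatedPrime_iff).1 hP).1
    obtain ⟨r', hr', h1, -⟩ := minors_at_ass e n A htop hmid P hP i hi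
    have hrr : r' = r := by
      have : (r' : ℤ) = (r : ℤ) := by rw [hr', hr]
      exact_mod_cast this
    rw [hrr] at h1
    have hfa : algebraMap R (Localization.AtPrime P) a ∈
        (CAlgX.minorIdeal (A i) (r + 1)).map (algebraMap R (Localization.AtPrime P)) :=
      Ideal.mem_map_of_mem _ ha
    rw [h1, Submodule.mem_bot] at hfa
    obtain ⟨s, hs⟩ := (IsLocalization.map_eq_zero_iff P.primeCompl
      (Localization.AtPrime P) a).1 hfa
    apply s.2
    apply hle
    rw [Submodule.mem_colon_singleton, Submodule.mem_bot, smul_eq_mul]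
    exact hs
  have hnle : ∀ q ∈ associatedPrimes R R, ¬ CAlgX.minorIdeal (A i) r ≤ q := by
    intro q hq hle
    have hqp : q.IsPrime := ((isAssociatedPrime_iff).1 hq).1
    obtain ⟨r', hr', -, h2⟩ := minors_at_ass e n A htop hmid q hq i hi
    have hrr : r' = r := by
      have : (r' : ℤ) = (r : ℤ) := by rw [hr', hr]
      exact_mod_cast this
    rw [hrr] at h2
    have := Ideal.map_mono (f := algebraMap R (Localization.AtPrime q)) hle
    rw [h2, IsLocalization.AtPrime.map_eq_maximalIdeal] at this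
    exact (IsLocalRing.maximalIdeal.isMaximal _).ne_top (top_le_iff.1 this)
  have hrank : CAlgX.matrixRank (A i) = r := by
    apply matrixRank_eq_of
    · intro h0
      apply hnle q₀ hq₀
      rw [h0]
      exact bot_le
    · intro r' hr'
      exact minorIdeal_eq_bot_of_le (A i) (r + 1) r' hbot hr'
  refine ⟨by rw [hrank]; exact hr, ?_⟩
  unfold CAlgX.detIdeal
  rw [hrank]
  exact hnle

end Groth.Agent.H95.BENec
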