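import Mathlib
import Groth.Agent.H95.BENec3

set_option autoImplicit false
set_option linter.unusedSectionVars false

namespace Groth.Agent.H95.BENec

open IsLocalRing Matrix RingTheory.Sequence Pointwise
open Groth.Agent.H95.BEAcyc Groth.Agent.H95.BELocal Groth.Agent.H95.BEMinors
open Groth.Agent.H95.BELinAlg

universe u

section choose
variable {R : Type u} [CommRing R] [IsLocalRing R] [IsNoetherianRing R]

/-- prime avoidance: a nonzerodivisor in `𝔪 * I i` for all `i` -/
theorem exists_regular_mem (e : ℕ) (I : ℕ → Ideal R)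
    (hI : ∀ i ≤ e, ∀ q ∈ associatedPrimes R R, ¬ I i ≤ q)
    (hm : maximalIdeal R ∉ associatedPrimes R R) :
    ∃ x ∈ maximalIdeal R, (∀ i ≤ e, x ∈ maximalIdeal R * I i) ∧ x ∈ nonZeroDivisors R := by
  classical
  set J : Ideal R := maximalIdeal R * ∏ i ∈ Finset.range (e + 1), I i with hJ
  have hJi : ∀ i ≤ e, J ≤ maximalIdeal R * I i := by
    intro i hi
    apply Ideal.mul_mono_right
    exact (Ideal.prod_le_inf).trans (Finset.inf_le (Finset.mem_range.2 (by omega)))
  by_contra hcon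
  push Not at hcon
  have hfin : (associatedPrimes R R).Finite := associatedPrimes.finite R R
  have hsub : (J : Set R) ⊆ ⋃ q ∈ (↑hfin.toFinset : Set (Ideal R)), (q : Set R) := by
    intro x hx
    have hxm : x ∈ maximalIdeal R :=
      (Ideal.mul_le_left : maximalIdeal R * (∏ i ∈ Finset.range (e + 1), I i) ≤ maximalIdeal R) hx
    have hnz := hcon x hxm (fun i hi => hJi i hi hx)
    have hx' : x ∈ (nonZeroDivisors R : Set R)ᶜ := (Set.mem_compl_iff _ _).2 hnz
    rw [← biUnion_associatedPrimes_eq_compl_nonZeroDivisors] at hx'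
    obtain ⟨q, hq, hxq⟩ := Set.mem_iUnion₂.1 hx'
    exact Set.mem_iUnion₂.2 ⟨q, (by simpa using hq), hxq⟩
  have hprime : ∀ q ∈ hfin.toFinset, q ≠ (⊥ : Ideal R) → q ≠ (⊥ : Ideal R) →
      Ideal.IsPrime ((fun q : Ideal R => q) q) := by
    intro q hq _ _
    rw [Set.Finite.mem_toFinset] at hq
    exact ((isAssociatedPrime_iff).1 hq).1
  obtain ⟨q, hq, hle⟩ := (Ideal.subset_union_prime (f := fun q : Ideal R => q) ⊥ ⊥ hprime).1 hsub
  rw [Set.Finite.mem_toFinset] at hq
  have hqp : q.IsPrime := ((isAssociatedPrime_iff).1 hq).1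
  rcases (hqp.mul_le).1 hle with h1 | h1
  · have : q = maximalIdeal R :=
      ((IsLocalRing.maximalIdeal.isMaximal R).eq_of_le hqp.ne_top h1).symm
    exact hm (this ▸ hq)
  · obtain ⟨i, hi, hle'⟩ := (hqp.prod_le).1 h1
    exact hI i (by rw [Finset.mem_range] at hi; omega) q hq hle'

end choose

section quot
variable {R : Type u} [CommRing R]

/-- reduction modulo a nonzerodivisor preserves exactness one step up -/
theorem quot_ker_le {a b c d : ℕ} (M₀ : Matrix (Fin a) (Fin b) R) (M₁ : Matrix (Fin b) (Fin c) R)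
    (M₂ : Matrix (Fin c) (Fin d) R) (x : R) (hx : x ∈ nonZeroDivisors R)
    (h0 : LinearMap.ker M₀.mulVecLin = LinearMap.range M₁.mulVecLin)
    (h1 : LinearMap.ker M₁.mulVecLin ≤ LinearMap.range M₂.mulVecLin) :
    LinearMap.ker (M₁.map (Ideal.Quotient.mk (Ideal.span {x}))).mulVecLin ≤
      LinearMap.range (M₂.map (Ideal.Quotient.mk (Ideal.span {x}))).mulVecLin := by
  classical
  set g := Ideal.Quotient.mk (Ideal.span {x}) with hg
  have hmv : ∀ {p q : ℕ} (M : Matrix (Fin p) (Fin q) R) (v : Fin q → R),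
      (M.map g) *ᵥ (g ∘ v) = g ∘ (M *ᵥ v) := by
    intro p q M v
    funext i
    rw [Function.comp_apply, RingHom.map_mulVec]
  intro v' hv'
  rw [LinearMap.mem_ker, Matrix.mulVecLin_apply] at hv'
  choose v hv using fun j => Ideal.Quotient.mk_surjective (I := Ideal.span {x}) (v' j)
  have hv'' : g ∘ v = v' := funext hv
  rw [← hv'', hmv] at hv'
  have hw : ∀ i, ∃ w : R, w * x = (M₁ *ᵥ v) i := by
    intro i
    have : g ((M₁ *ᵥ v) i) = 0 := congrFun hv' i
    rw [hg, Ideal.Quotient.eq_zero_iff_mem, Ideal.mem_span_singleton'] at this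
    exact this
  choose w hw using hw
  have hM1v : M₁ *ᵥ v = x • w := by
    funext i
    rw [Pi.smul_apply, smul_eq_mul, mul_comm, hw i]
  have hM0 : M₀ *ᵥ (x • w) = 0 := by
    have : M₁ *ᵥ v ∈ LinearMap.ker M₀.mulVecLin := by
      rw [h0]
      exact ⟨v, rfl⟩
    rw [← hM1v]
    exact this
  have hM0w : M₀ *ᵥ w = 0 := by
    rw [Matrix.mulVec_smul] at hM0
    funext i
    have := congrFun hM0 i
    rw [Pi.smul_apply, smul_eq_mul, Pi.zero_apply, mul_comm] at this
    exact (mem_nonZeroDivisors_iff_right.1 hx) _ this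
  have hwr : w ∈ LinearMap.range M₁.mulVecLin := by
    rw [← h0]
    exact hM0w
  obtain ⟨u, hu⟩ := hwr
  rw [Matrix.mulVecLin_apply] at hu
  have hker : v - x • u ∈ LinearMap.ker M₁.mulVecLin := by
    rw [LinearMap.mem_ker, Matrix.mulVecLin_apply, Matrix.mulVec_sub, Matrix.mulVec_smul, hu,
      hM1v, sub_self]
  obtain ⟨t, ht⟩ := h1 hker
  rw [Matrix.mulVecLin_apply] at ht
  refine ⟨g ∘ t, ?_⟩
  rw [Matrix.mulVecLin_apply, hmv, ht, ← hv'']
  funext i
  simp only [Function.comp_apply, Pi.sub_apply, Pi.smul_apply, smul_eq_mul, map_sub, map_mul]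
  have : g x = 0 := by
    rw [hg, Ideal.Quotient.eq_zero_iff_mem]
    exact Ideal.mem_span_singleton_self x
  rw [this, zero_mul, sub_zero]

theorem quot_range_le {b c d : ℕ} (M₁ : Matrix (Fin b) (Fin c) R)
    (M₂ : Matrix (Fin c) (Fin d) R) (x : R) (h : M₁ * M₂ = 0) :
    LinearMap.range (M₂.map (Ideal.Quotient.mk (Ideal.span {x}))).mulVecLin ≤
      LinearMap.ker (M₁.map (Ideal.Quotient.mk (Ideal.span {x}))).mulVecLin := by
  rintro _ ⟨y, rfl⟩
  rw [LinearMap.mem_ker, ← LinearMap.comp_apply, ← Matrix.mulVecLin_mul, ← Matrix.map_mul, h]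
  simp

end quot

section reg
variable {R : Type u} [CommRing R] [IsLocalRing R] [IsNoetherianRing R]

/-- a regular sequence modulo a nonzerodivisor lifts -/
theorem isRegular_cons_of_quotient (x : R) (hxm : x ∈ maximalIdeal R)
    (hx : x ∈ nonZeroDivisors R) (rs : List R) (hrs : ∀ r ∈ rs, r ∈ maximalIdeal R)
    (h : IsWeaklyRegular (R ⧸ Ideal.span {x}) (rs.map (Ideal.Quotient.mk (Ideal.span {x})))) :
    IsRegular R (x :: rs) := by
  apply RingTheory.Sequence.IsRegular.of_isWeaklyRegular_of_mem_maximalIdeal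
  · intro r hr
    rcases List.mem_cons.1 hr with rfl | hr
    · exact hxm
    · exact hrs r hr
  rw [isWeaklyRegular_cons_iff]
  refine ⟨?_, ?_⟩
  · exact (isRegular_iff_mem_nonZeroDivisors.2 hx).left.isSMulRegular
  · have h1 : IsWeaklyRegular (R ⧸ Ideal.span {x}) rs := by
      rw [← isWeaklyRegular_map_algebraMap_iff (R ⧸ Ideal.span {x}) (R ⧸ Ideal.span {x}) rs]
      exact h
    have heq : (Ideal.span {x} : Submodule R R) = x • (⊤ : Submodule R R) := by
      rw [← Submodule.ideal_span_singleton_smul, smul_eq_mul, Ideal.mul_top]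
    exact ((Submodule.quotEquivOfEq _ _ heq).isWeaklyRegular_congr rs).1 h1

end reg

end Groth.Agent.H95.BENec
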