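import Mathlib
import Groth.Agent.H95.BENec4

set_option autoImplicit false
set_option linter.unusedSectionVars false

namespace Groth.Agent.H95.BENec

open IsLocalRing Matrix RingTheory.Sequence Pointwise
open Groth.Agent.H95.BEAcyc Groth.Agent.H95.BELocal Groth.Agent.H95.BEMinors
open Groth.Agent.H95.BELinAlg

universe u

theorem nec_common (R : Type u) [CommRing R] [IsLocalRing R] [IsNoetherianRing R]
    (e : ℕ) (n : ℕ → ℕ) (A : (i : ℕ) → Matrix (Fin (n i)) (Fin (n (i + 1))) R)
    (htop : LinearMap.ker (A e).mulVecLin = ⊥)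
    (hmid : ∀ i, i + 2 ≤ e + 1 →
      LinearMap.ker (A i).mulVecLin = LinearMap.range (A (i + 1)).mulVecLin) :
    (∀ i ≤ e, CAlgX.detIdeal (A i) = ⊤) ∨
      ∃ x ∈ maximalIdeal R, x ∈ nonZeroDivisors R ∧
        ∀ i ≤ e, x ∈ maximalIdeal R * CAlgX.detIdeal (A i) := by
  by_cases hm : maximalIdeal R ∈ associatedPrimes R R
  · left
    intro i hi
    by_contra hne
    exact (rank_of_exact e n A htop hmid i hi).2 _ hm (le_maximalIdeal hne)
  · right
    obtain ⟨x, hxm, hxI, hxnz⟩ := exists_regular_mem e (fun i => CAlgX.detIdeal (A i))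
      (fun i hi q hq => (rank_of_exact e n A htop hmid i hi).2 q hq) hm
    exact ⟨x, hxm, hxnz, hxI⟩

theorem singleton_regular {R : Type u} [CommRing R] [IsLocalRing R] [IsNoetherianRing R]
    (x : R) (hxm : x ∈ maximalIdeal R) (hx : x ∈ nonZeroDivisors R) : IsRegular R [x] := by
  apply RingTheory.Sequence.IsRegular.of_isWeaklyRegular_of_mem_maximalIdeal
  · intro r hr
    rw [List.mem_singleton] at hr
    rw [hr]
    exact hxm
  · rw [isWeaklyRegular_singleton_iff]
    exact (isRegular_iff_mem_nonZeroDivisors.2 hx).left.isSMulRegular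

theorem prod_eq_zero_of_range_le_ker {R : Type u} [CommRing R] {a b c : ℕ}
    (M₁ : Matrix (Fin a) (Fin b) R) (M₂ : Matrix (Fin b) (Fin c) R)
    (h : LinearMap.range M₂.mulVecLin ≤ LinearMap.ker M₁.mulVecLin) : M₁ * M₂ = 0 := by
  have h1 : M₁.mulVecLin ∘ₗ M₂.mulVecLin = 0 := LinearMap.range_le_ker_iff.1 h
  rw [← Matrix.mulVecLin_mul] at h1
  apply Matrix.toLin'.injective
  rw [Matrix.toLin'_apply', h1, map_zero]

/-- necessity of the depth conditions -/
theorem nec : ∀ (e : ℕ) (R : Type u) [CommRing R] [IsLocalRing R] [IsNoetherianRing R]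
    (n : ℕ → ℕ) (A : (i : ℕ) → Matrix (Fin (n i)) (Fin (n (i + 1))) R),
    LinearMap.ker (A e).mulVecLin = ⊥ →
    (∀ i, i + 2 ≤ e + 1 →
      LinearMap.ker (A i).mulVecLin = LinearMap.range (A (i + 1)).mulVecLin) →
    ∀ i, i ≤ e → (CAlgX.detIdeal (A i) = ⊤ ∨
      ∃ rs : List R, rs.length = i + 1 ∧ (∀ r ∈ rs, r ∈ CAlgX.detIdeal (A i)) ∧
        IsRegular R rs) := by
  intro e
  induction e with
  | zero =>
    intro R _ _ _ n A htop hmid i hi
    obtain rfl : i = 0 := by omega
    rcases nec_common R 0 n A htop hmid with hall | ⟨x, hxm, hxnz, hxI⟩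
    · exact Or.inl (hall 0 le_rfl)
    · right
      refine ⟨[x], rfl, ?_, singleton_regular x hxm hxnz⟩
      intro r hr
      rw [List.mem_singleton] at hr
      rw [hr]
      exact (Ideal.mul_le_right :
        maximalIdeal R * CAlgX.detIdeal (A 0) ≤ CAlgX.detIdeal (A 0)) (hxI 0 le_rfl)
  | succ e' ih =>
    intro R _ _ _ n A htop hmid i hi
    rcases nec_common R (e' + 1) n A htop hmid with hall | ⟨x, hxm, hxnz, hxI⟩
    · exact Or.inl (hall i hi)
    by_cases hItop : CAlgX.detIdeal (A i) = ⊤
    · exact Or.inl hItop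
    right
    have hxmem : ∀ j ≤ e' + 1, x ∈ CAlgX.detIdeal (A j) := fun j hj =>
      (Ideal.mul_le_right :
        maximalIdeal R * CAlgX.detIdeal (A j) ≤ CAlgX.detIdeal (A j)) (hxI j hj)
    cases i with
    | zero =>
      refine ⟨[x], rfl, ?_, singleton_regular x hxm hxnz⟩
      intro r hr
      rw [List.mem_singleton] at hr
      rw [hr]
      exact hxmem 0 (by omega)
    | succ k =>
      have hk : k ≤ e' := by omega
      have hx0 : x ≠ 0 := nonZeroDivisors.ne_zero hxnz
      have hspan_le : Ideal.span {x} ≤ maximalIdeal R :=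
        (Ideal.span_singleton_le_iff_mem _).2 hxm
      have hne_top : Ideal.span {x} ≠ ⊤ := fun h =>
        (IsLocalRing.maximalIdeal.isMaximal R).ne_top (top_le_iff.1 (h ▸ hspan_le))
      have : Nontrivial (R ⧸ Ideal.span {x}) := Ideal.Quotient.nontrivial_iff.2 hne_top
      have : IsLocalRing (R ⧸ Ideal.span {x}) :=
        IsLocalRing.of_surjective' (Ideal.Quotient.mk (Ideal.span {x}))
          Ideal.Quotient.mk_surjective
      set g := Ideal.Quotient.mk (Ideal.span {x}) with hg
      -- the reduced complex
      have htop' : LinearMap.ker ((A (e' + 1)).map g).mulVecLin = ⊥ := by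
        have := quot_ker_le (A e') (A (e' + 1)) (0 : Matrix (Fin (n (e' + 1 + 1))) (Fin 0) R)
          x hxnz (hmid e' (by omega)) (by rw [htop]; exact bot_le)
        rw [eq_bot_iff]
        refine this.trans ?_
        rintro _ ⟨y, rfl⟩
        simp
      have hmid' : ∀ t, t + 2 ≤ e' + 1 →
          LinearMap.ker ((A (t + 1)).map g).mulVecLin =
            LinearMap.range ((A (t + 1 + 1)).map g).mulVecLin := by
        intro t ht
        apply le_antisymm
        · exact quot_ker_le (A t) (A (t + 1)) (A (t + 1 + 1)) x hxnz (hmid t (by omega))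
            (hmid (t + 1) (by omega)).le
        · exact quot_range_le (A (t + 1)) (A (t + 1 + 1)) x
            (prod_eq_zero_of_range_le_ker _ _ (hmid (t + 1) (by omega)).ge)
      have hres := ih (R ⧸ Ideal.span {x}) (fun t => n (t + 1))
        (fun t => (A (t + 1)).map g) htop' hmid' k hk
      -- an element of the determinantal ideal outside `(x)`
      have hnotle : ¬ CAlgX.detIdeal (A (k + 1)) ≤ Ideal.span {x} := by
        intro hle
        have h1 : x ∈ maximalIdeal R * Ideal.span {x} :=
          Ideal.mul_mono_right hle (hxI (k + 1) hi)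
        obtain ⟨a, ha, hax⟩ := Ideal.mem_mul_span_singleton.1 h1
        have hu : IsUnit (1 - a) := by
          have : ¬ (1 - a) ∈ maximalIdeal R := by
            intro h
            have h1' : (1 : R) ∈ maximalIdeal R := by
              have := (maximalIdeal R).add_mem h ha
              rwa [sub_add_cancel] at this
            exact (IsLocalRing.maximalIdeal.isMaximal R).ne_top
              ((Ideal.eq_top_iff_one _).2 h1')
          by_contra hnu
          exact this ((IsLocalRing.mem_maximalIdeal _).2 hnu)
        apply hx0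
        have : (1 - a) * x = 0 := by rw [sub_mul, one_mul, hax, sub_self]
        exact (hu.mul_right_eq_zero).1 this
      obtain ⟨a, ha, hax⟩ := SetLike.not_le_iff_exists.1 hnotle
      have hga : g a ≠ 0 := by
        intro h0
        apply hax
        rwa [hg, Ideal.Quotient.eq_zero_iff_mem] at h0
      have hdet : CAlgX.detIdeal ((A (k + 1)).map g) = (CAlgX.detIdeal (A (k + 1))).map g :=
        detIdeal_map g (A (k + 1)) a ha hga
      have hIm : CAlgX.detIdeal (A (k + 1)) ≤ maximalIdeal R := le_maximalIdeal hItop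
      rcases hres with htop'' | ⟨rs', hlen', hmem', hreg'⟩
      · exfalso
        rw [hdet] at htop''
        have h1 : (1 : R ⧸ Ideal.span {x}) ∈ (CAlgX.detIdeal (A (k + 1))).map g := by
          rw [htop'']
          trivial
        obtain ⟨b, hb, hgb⟩ := (Ideal.mem_map_iff_of_surjective g
          Ideal.Quotient.mk_surjective).1 h1
        have hb1 : b - 1 ∈ Ideal.span {x} := by
          rw [← Ideal.Quotient.eq_zero_iff_mem, ← hg, map_sub, hgb, map_one, sub_self]
        have h1m : (1 : R) ∈ maximalIdeal R := by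
          have := (maximalIdeal R).sub_mem (hIm hb) (hspan_le hb1)
          rwa [sub_sub_cancel] at this
        exact (IsLocalRing.maximalIdeal.isMaximal R).ne_top ((Ideal.eq_top_iff_one _).2 h1m)
      · rw [hdet] at hmem'
        -- lift the regular sequence
        have hlift : ∀ r' ∈ rs', ∃ r ∈ CAlgX.detIdeal (A (k + 1)), g r = r' := fun r' hr' =>
          (Ideal.mem_map_iff_of_surjective g Ideal.Quotient.mk_surjective).1 (hmem' r' hr')
        obtain ⟨rs, hrs_mem, hrs_map⟩ : ∃ rs : List R,
            (∀ r ∈ rs, r ∈ CAlgX.detIdeal (A (k + 1))) ∧ rs.map g = rs' := by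
          clear hreg' hlen' hmem'
          induction rs' with
          | nil => exact ⟨[], by simp, rfl⟩
          | cons r' t iht =>
            obtain ⟨r, hr, hgr⟩ := hlift r' List.mem_cons_self
            obtain ⟨rs, h1, h2⟩ := iht (fun r'' hr'' => hlift r'' (List.mem_cons_of_mem _ hr''))
            refine ⟨r :: rs, ?_, ?_⟩
            · intro y hy
              rcases List.mem_cons.1 hy with rfl | hy
              · exact hr
              · exact h1 y hy
            · rw [List.map_cons, hgr, h2]
        refine ⟨x :: rs, ?_, ?_, ?_⟩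
        · rw [List.length_cons]
          have : rs.length = rs'.length := by rw [← hrs_map, List.length_map]
          rw [this, hlen']
        · intro r hr
          rcases List.mem_cons.1 hr with rfl | hr
          · exact hxmem (k + 1) hi
          · exact hrs_mem r hr
        · apply isRegular_cons_of_quotient x hxm hxnz rs (fun r hr => hIm (hrs_mem r hr))
          rw [← hg, hrs_map]
          exact hreg'.toIsWeaklyRegular

end Groth.Agent.H95.BENec
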