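import Mathlib
import Groth.Agent.H95.BENec5
import Groth.Agent.H95.BEGlobal

set_option autoImplicit false
set_option linter.unusedSectionVars false

namespace Groth.Agent.H95.BEIff

open Groth.Agent.H95.BELocal Groth.Agent.H95.BENec Groth.Agent.H95.BEGlobal

universe u

/-- Buchsbaum–Eisenbud exactness criterion over a Noetherian local ring -/
theorem main {R : Type u} [CommRing R] [IsLocalRing R] [IsNoetherianRing R]
    (e : ℕ) (n : ℕ → ℕ) (A : (i : ℕ) → Matrix (Fin (n i)) (Fin (n (i + 1))) R)
    (hA : ∀ i, i + 2 ≤ e + 1 → A i * A (i + 1) = 0) :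
    (LinearMap.ker (A e).mulVecLin = ⊥ ∧
        ∀ i, i + 2 ≤ e + 1 →
          LinearMap.ker (A i).mulVecLin = LinearMap.range (A (i + 1)).mulVecLin) ↔
      Cond (e + 1) n A := by
  constructor
  · rintro ⟨htop, hmid⟩ i hi
    exact ⟨(rank_of_exact e n A htop hmid i (by omega)).1, nec e R n A htop hmid i (by omega)⟩
  · intro hc
    exact local_main' R e n A hA hc

end Groth.Agent.H95.BEIff
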