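import Groth.Agent.H95.BalStab
import Groth.Agent.H40.CD.FpqcImm

set_option autoImplicit false
set_option linter.unusedSectionVars false
universe u
open CategoryTheory CategoryTheory.Limits MonoidalCategory CartesianMonoidalCategory MonObj GrpObj
  AlgebraicGeometry
open Groth.Agent.H40

namespace Groth.Agent.H95.BalFix

variable {S : Scheme.{u}}

/-- local lifting along a locally trivial morphism -/
lemma exists_local_lift {E P T : Over S} (v : E ⟶ P)
    (hv : NonAbH1.IsLocallyTrivialFor Scheme.fpqcPrecoverage (Over.mk v.left : Over P.left))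
    (y : T ⟶ P) :
    ∃ (T' : Over S) (π : T' ⟶ T) (ℓ : T' ⟶ E),
      NonAbH1.IsLocallyTrivialFor Scheme.fpqcPrecoverage (Over.mk π.left : Over T.left) ∧
        ℓ ≫ v = π ≫ y := by
  refine ⟨pullback y v, pullback.fst y v, pullback.snd y v, ?_, pullback.condition.symm⟩
  have h1 : IsPullback (pullback.snd y v) (pullback.fst y v) v y :=
    (IsPullback.of_hasPullback y v).flip
  have h2 : IsPullback (pullback.snd y v).left (pullback.fst y v).left v.left y.left :=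
    h1.map (Over.forget S)
  exact isLocallyTrivialFor_of_isPullback h2 hv

section fix
variable {Q G X Xh Y Y' : Over S} [GrpObj Q] [GrpObj G]
  (i : G ⟶ Q) [IsMonHom i] [Mono i]
  (h : 𝟙_ (Over S) ⟶ G)
  (hcent : ∀ (T : Over S) (q : T ⟶ Q), q * (toUnit T ≫ h ≫ i) = (toUnit T ≫ h ≫ i) * q)
  (a : AlgGrp.Action G X)
  (aY : AlgGrp.Action Q Y) (j : Q ⊗ X ⟶ Y)
  (hY1 : AlgGrp.Action.IsEquivariant
    ((NonAbH1.trivialAction Q).prod (AlgGrp.Action.trivial Q X)) aY j)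
  (hY2 : IsPullback (ChGrp.twist i a).act (snd G (Q ⊗ X)) j j)

include hcent hY1 hY2 in
/-- key computation: `j(q, x)` is fixed by `h` iff `x` is. -/
lemma fixed_iff {T : Over S} (q : T ⟶ Q) (x : T ⟶ X) :
    psmul aY (toUnit T ≫ h ≫ i) (lift q x ≫ j) = lift q x ≫ j ↔
      psmul a (toUnit T ≫ h) x = x := by
  rw [psmul_lift_comp_of_isEquivariant aY j hY1, ← hcent T q]
  constructor
  · intro hfix
    obtain ⟨g, hg⟩ := exists_psmul_of_isPullback (ChGrp.twist i a) j hY2 _ _ hfix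
    rw [psmul_twist] at hg
    have e1 := congr($hg ≫ fst Q X)
    have e2 := congr($hg ≫ snd Q X)
    rw [lift_fst, lift_fst] at e1
    rw [lift_snd, lift_snd] at e2
    have e3 : (g ≫ i)⁻¹ = toUnit T ≫ h ≫ i := _root_.mul_left_cancel e1
    have e4 : g = (toUnit T ≫ h)⁻¹ := by
      rw [← cancel_mono i, GrpObj.inv_comp, Category.assoc, ← e3, _root_.inv_inv]
    rw [e4] at e2
    calc psmul a (toUnit T ≫ h) x
        = psmul a (toUnit T ≫ h) (psmul a (toUnit T ≫ h)⁻¹ x) := by rw [e2]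
      _ = x := psmul_inv_psmul a _ _
  · intro hfix
    have h1 := psmul_comp_of_isPullback (ChGrp.twist i a) j hY2 (toUnit T ≫ h)
      (lift (q * (toUnit T ≫ h ≫ i)) x)
    rw [psmul_twist, hfix, Category.assoc, _root_.mul_inv_cancel_right] at h1
    exact h1.symm

end fix

section main
variable {Q G X Xh Y Y' : Over S} [GrpObj Q] [GrpObj G]

theorem balProd_fixed
    (i : G ⟶ Q) [IsMonHom i] [Mono i]
    (h : 𝟙_ (Over S) ⟶ G)
    (hcent : ∀ (T : Over S) (q : T ⟶ Q), q * (toUnit T ≫ h ≫ i) = (toUnit T ≫ h ≫ i) * q)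
    (a : AlgGrp.Action G X)
    (incl : Xh ⟶ X) [Mono incl]
    (hXh : ∀ (T : Over S) (x : T ⟶ X),
      (∃ y : T ⟶ Xh, y ≫ incl = x) ↔ lift (toUnit T ≫ h) x ≫ a.act = x)
    (aXh : AlgGrp.Action G Xh) (hincl : AlgGrp.Action.IsEquivariant aXh a incl)
    (aY : AlgGrp.Action Q Y) (j : Q ⊗ X ⟶ Y)
    (hY : ChGrp.IsBalProd Scheme.fppfPrecoverage i a aY j)
    (aY' : AlgGrp.Action Q Y') (j' : Q ⊗ Xh ⟶ Y')
    (hY' : ChGrp.IsBalProd Scheme.fppfPrecoverage i aXh aY' j')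
    (m : Y' ⟶ Y) (hm : j' ≫ m = (Q ◁ incl) ≫ j) :
    Mono m ∧
      (∀ (T : Over S) (y : T ⟶ Y),
        (∃ y' : T ⟶ Y', y' ≫ m = y) ↔ lift (toUnit T ≫ h ≫ i) y ≫ aY.act = y) ∧
      (IsClosedImmersion incl.left → IsClosedImmersion m.left) := by
  obtain ⟨hY1, hY2, hY3⟩ := hY
  obtain ⟨hY'1, hY'2, hY'3⟩ := hY'
  have hY3q := IsLocallyTrivialFor.mono Scheme.fppfPrecoverage_le_fpqcPrecoverage hY3
  have hY'3q := IsLocallyTrivialFor.mono Scheme.fppfPrecoverage_le_fpqcPrecoverage hY'3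
  have hmpt : ∀ {T : Over S} (q : T ⟶ Q) (x : T ⟶ Xh),
      (lift q x ≫ j') ≫ m = lift q (x ≫ incl) ≫ j := by
    intro T q x
    rw [Category.assoc, hm, lift_whiskerLeft_assoc]
  have hinclpt : ∀ {T : Over S} (g : T ⟶ G) (x : T ⟶ Xh),
      psmul aXh g x ≫ incl = psmul a g (x ≫ incl) := fun g x =>
    BalStab.psmul_comp_equivariant hincl g x
  -- `m` is a monomorphism
  have hmono : Mono m := by
    refine ⟨fun {T} y₁ y₂ h12 => ?_⟩
    obtain ⟨T₁, π₁, ℓ₁, hπ₁, hℓ₁⟩ := exists_local_lift j' hY'3q y₁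
    obtain ⟨T₂, π₂, ℓ₂, hπ₂, hℓ₂⟩ := exists_local_lift j' hY'3q (π₁ ≫ y₂)
    have := epi_of_locallyTrivial π₁ hπ₁
    have := epi_of_locallyTrivial π₂ hπ₂
    rw [← cancel_epi π₁, ← cancel_epi π₂, ← hℓ₂, ← hℓ₁]
    have e : (π₂ ≫ ℓ₁ ≫ j') ≫ m = (ℓ₂ ≫ j') ≫ m := by
      rw [hℓ₁, hℓ₂]
      simp only [Category.assoc]
      rw [h12]
    rw [eq_lift_fst_snd ℓ₂, ← Category.assoc, eq_lift_fst_snd (π₂ ≫ ℓ₁)] at e ⊢
    generalize (π₂ ≫ ℓ₁) ≫ fst Q Xh = q₁ at e ⊢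
    generalize (π₂ ≫ ℓ₁) ≫ snd Q Xh = x₁ at e ⊢
    generalize ℓ₂ ≫ fst Q Xh = q₂ at e ⊢
    generalize ℓ₂ ≫ snd Q Xh = x₂ at e ⊢
    rw [hmpt, hmpt] at e
    obtain ⟨g, hg⟩ := exists_psmul_of_isPullback (ChGrp.twist i a) j hY2 _ _ e
    rw [psmul_twist] at hg
    have e1 := congr($hg ≫ fst Q X)
    have e2 := congr($hg ≫ snd Q X)
    rw [lift_fst, lift_fst] at e1
    rw [lift_snd, lift_snd, ← hinclpt, cancel_mono] at e2
    have h1 := psmul_comp_of_isPullback (ChGrp.twist i aXh) j' hY'2 g (lift q₂ x₂)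
    rw [psmul_twist, e1, e2] at h1
    exact h1
  -- the fixed point characterization
  have hfixpt : ∀ (T : Over S) (y : T ⟶ Y),
      (∃ y' : T ⟶ Y', y' ≫ m = y) ↔ lift (toUnit T ≫ h ≫ i) y ≫ aY.act = y := by
    intro T y
    rw [← psmul_def]
    constructor
    · rintro ⟨y', rfl⟩
      obtain ⟨T₁, π₁, ℓ₁, hπ₁, hℓ₁⟩ := exists_local_lift j' hY'3q y'
      have := epi_of_locallyTrivial π₁ hπ₁
      have ht : π₁ ≫ toUnit T ≫ h ≫ i = toUnit T₁ ≫ h ≫ i := by
        rw [← Category.assoc, toUnit_unique (π₁ ≫ toUnit T) (toUnit T₁)]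
      rw [← cancel_epi π₁, comp_psmul, ht, ← Category.assoc π₁ y' m, ← hℓ₁, eq_lift_fst_snd ℓ₁, hmpt]
      rw [fixed_iff i h hcent a aY j hY1 hY2, psmul_def]
      exact (hXh T₁ _).mp ⟨ℓ₁ ≫ snd Q Xh, rfl⟩
    · intro hfix
      obtain ⟨T₁, π₁, ℓ₁, hπ₁, hℓ₁⟩ := exists_local_lift j hY3q y
      have := epi_of_locallyTrivial π₁ hπ₁
      have hfix' : psmul aY (toUnit T₁ ≫ h ≫ i) (ℓ₁ ≫ j) = ℓ₁ ≫ j := by
        have ht : π₁ ≫ toUnit T ≫ h ≫ i = toUnit T₁ ≫ h ≫ i := by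
          rw [← Category.assoc, toUnit_unique (π₁ ≫ toUnit T) (toUnit T₁)]
        rw [hℓ₁]
        conv_rhs => rw [← hfix]
        rw [comp_psmul, ht]
      rw [eq_lift_fst_snd ℓ₁, fixed_iff i h hcent a aY j hY1 hY2, psmul_def] at hfix'
      obtain ⟨x₀, hx₀⟩ := (hXh T₁ _).mpr hfix'
      have hloc : (lift (ℓ₁ ≫ fst Q X) x₀ ≫ j') ≫ m = π₁ ≫ y := by
        rw [hmpt, hx₀, ← eq_lift_fst_snd ℓ₁, hℓ₁]
      obtain ⟨y', hy', -⟩ := existsUnique_desc_over_of_locallyTrivial π₁ hπ₁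
        (lift (ℓ₁ ≫ fst Q X) x₀ ≫ j') (by
          intro Z z₁ z₂ hz
          rw [← cancel_mono m]
          calc (z₁ ≫ lift (ℓ₁ ≫ fst Q X) x₀ ≫ j') ≫ m
              = z₁ ≫ ((lift (ℓ₁ ≫ fst Q X) x₀ ≫ j') ≫ m) := by simp only [Category.assoc]
            _ = z₁ ≫ π₁ ≫ y := by rw [hloc]
            _ = z₂ ≫ π₁ ≫ y := by rw [← Category.assoc, hz, Category.assoc]
            _ = z₂ ≫ ((lift (ℓ₁ ≫ fst Q X) x₀ ≫ j') ≫ m) := by rw [hloc]
            _ = (z₂ ≫ lift (ℓ₁ ≫ fst Q X) x₀ ≫ j') ≫ m := by simp only [Category.assoc])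
      refine ⟨y', ?_⟩
      rw [← cancel_epi π₁, ← Category.assoc, hy', hloc]
  refine ⟨hmono, hfixpt, ?_⟩
  -- closed immersion
  intro hci
  -- the cartesian square
  have hsq : IsPullback (Q ◁ incl) j' j m := by
    apply isPullback_of_points hm.symm
    · intro T p y' hpy
      have hfix := (hfixpt T (p ≫ j)).mp ⟨y', hpy.symm⟩
      rw [← psmul_def, eq_lift_fst_snd p, fixed_iff i h hcent a aY j hY1 hY2, psmul_def] at hfix
      obtain ⟨x₀, hx₀⟩ := (hXh T _).mpr hfix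
      refine ⟨lift (p ≫ fst Q X) x₀, ?_, ?_⟩
      · rw [lift_whiskerLeft, hx₀, ← eq_lift_fst_snd p]
      · rw [← cancel_mono m, hmpt, hx₀, ← eq_lift_fst_snd p, hpy]
    · intro T p p' h1 _
      have : Mono (Q ◁ incl) := by
        refine ⟨fun {T} u v huv => ?_⟩
        apply CartesianMonoidalCategory.hom_ext
        · have := congr($huv ≫ fst Q X)
          simpa using this
        · have := congr($huv ≫ snd Q X)
          simp only [Category.assoc, whiskerLeft_snd] at this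
          rw [← Category.assoc, ← Category.assoc, cancel_mono] at this
          exact this
      exact (cancel_mono (Q ◁ incl)).mp h1
  have hsqS : IsPullback (Q ◁ incl).left j'.left j.left m.left := hsq.map (Over.forget S)
  have hwl : IsPullback (snd Q Xh).left (Q ◁ incl).left incl.left (snd Q X).left :=
    (isPullback_whiskerLeft (G := Q) incl).map (Over.forget S)
  have : IsClosedImmersion (Q ◁ incl).left :=
    MorphismProperty.of_isPullback (P := @IsClosedImmersion) hwl hci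
  have : Mono m.left := inferInstance
  obtain ⟨R, hR, hsec⟩ := hY3q
  apply prop_of_fpqcPresieve @IsClosedImmersion CD.isClosedImmersion_descendsAlong m.left hR
  intro U g hg
  obtain ⟨s, hs⟩ := hsec g hg
  have hs' : s ≫ j.left = g := hs
  obtain ⟨e, he⟩ := CD.exists_iso_of_repr
    (fun T (b' : T ⟶ U) => ∃ w : T ⟶ Y'.left, w ≫ m.left = b' ≫ g) (pullback.snd m.left g)
    (pullback.snd (Q ◁ incl).left s)
    (fun T b' => (CD.factors_pullback_snd_iff m.left g b').symm)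
    (fun T b' => by
      rw [CD.factors_pullback_snd_iff]
      constructor
      · rintro ⟨w, hw⟩
        rw [← hs', ← Category.assoc] at hw
        exact ⟨hsqS.lift (b' ≫ s) w hw.symm, hsqS.lift_fst _ _ _⟩
      · rintro ⟨w₁, hw₁⟩
        refine ⟨w₁ ≫ j'.left, ?_⟩
        rw [Category.assoc, ← hsqS.w, ← Category.assoc, hw₁, Category.assoc, hs'])
  rw [← he]
  infer_instance

end main

end Groth.Agent.H95.BalFix
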