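import Groth.Agent.H40.BalProd
import Groth.Prelude.Def_ChGrp
import Mathlib.AlgebraicGeometry.Sites.Fpqc

set_option autoImplicit false
set_option linter.unusedSectionVars false
universe u
open CategoryTheory CategoryTheory.Limits MonoidalCategory CartesianMonoidalCategory MonObj GrpObj
  AlgebraicGeometry
open Groth.Agent.H40

namespace Groth.Agent.H95.BalStab

variable {S : Scheme.{u}}

section pts
variable {G X Y : Over S} [GrpObj G]

lemma psmul_comp_equivariant {a : AlgGrp.Action G X} {b : AlgGrp.Action G Y} {f : X ⟶ Y}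
    (hf : AlgGrp.Action.IsEquivariant a b f) {T : Over S} (g : T ⟶ G) (x : T ⟶ X) :
    psmul a g x ≫ f = psmul b g (x ≫ f) := by
  rw [psmul_def, psmul_def, Category.assoc, hf, ← Category.assoc, lift_whiskerLeft]

lemma isEquivariant_of_points {a : AlgGrp.Action G X} {b : AlgGrp.Action G Y} {f : X ⟶ Y}
    (h : ∀ (T : Over S) (g : T ⟶ G) (x : T ⟶ X), psmul a g x ≫ f = psmul b g (x ≫ f)) :
    AlgGrp.Action.IsEquivariant a b f := by
  apply AlgGrp.Action.hom_ext_lift₂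
  intro T g x
  have := h T g x
  rw [psmul_def, psmul_def, Category.assoc] at this
  rw [this, lift_whiskerLeft_assoc]

lemma psmul_restrict {H : Over S} [GrpObj H] (φ : H ⟶ G) [IsMonHom φ] (a : AlgGrp.Action G X)
    {T : Over S} (z : T ⟶ H) (x : T ⟶ X) : psmul (a.restrict φ) z x = psmul a (z ≫ φ) x := by
  rw [psmul_def, psmul_def, AlgGrp.Action.lift_restrict_act]

end pts

section stab
variable {G X Z Ψ Xh SΨ : Over S} [GrpObj G] [GrpObj Z]
  (a : AlgGrp.Action G X) (h : 𝟙_ (Over S) ⟶ G)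
  (i : Z ⟶ G) [IsMonHom i]
  (ψ : Ψ ⟶ G) [Mono ψ] (aΨ : AlgGrp.Action G Ψ)
  (hψ : aΨ.act ≫ ψ = fst G Ψ * (snd G Ψ ≫ ψ) * (fst G Ψ)⁻¹)
  (o : 𝟙_ (Over S) ⟶ Ψ) (ho : o ≫ ψ = h)
  (hpb : IsPullback (fst G Z) ((G ◁ i) ≫ μ[G]) (aΨ.orbitMap o) (aΨ.orbitMap o))

omit [Mono ψ] in
include hψ in
lemma psmul_ψ {T : Over S} (g : T ⟶ G) (y : T ⟶ Ψ) :
    psmul aΨ g y ≫ ψ = g * (y ≫ ψ) * g⁻¹ := by
  rw [psmul_def, Category.assoc, hψ, comp_mul, comp_mul, comp_inv, lift_fst, lift_snd_assoc]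

include hψ ho in
lemma orbit_ψ {T : Over S} (g : T ⟶ G) :
    psmul aΨ g (toUnit T ≫ o) ≫ ψ = g * (toUnit T ≫ h) * g⁻¹ := by
  rw [psmul_ψ ψ aΨ hψ, Category.assoc, ho]

omit [GrpObj Z] [IsMonHom i] in
lemma lift_mulmap {T : Over S} (g : T ⟶ G) (z : T ⟶ Z) :
    lift g z ≫ (G ◁ i) ≫ μ[G] = g * (z ≫ i) := by
  rw [lift_whiskerLeft_assoc, Hom.mul_def]

include hpb in
lemma stab_o {T : Over S} (z : T ⟶ Z) : psmul aΨ (z ≫ i) (toUnit T ≫ o) = toUnit T ≫ o := by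
  have h1 := congr(lift (1 : T ⟶ G) z ≫ $(hpb.w))
  rw [lift_fst_assoc, ← Category.assoc, ← Category.assoc, Category.assoc _ (G ◁ i), lift_mulmap,
    H40.comp_orbitMap, H40.comp_orbitMap, one_psmul, _root_.one_mul] at h1
  exact h1.symm

include hpb hψ ho in
lemma centralizes {T : Over S} (z : T ⟶ Z) :
    (z ≫ i) * (toUnit T ≫ h) * (z ≫ i)⁻¹ = toUnit T ≫ h := by
  rw [← orbit_ψ h ψ aΨ hψ o ho, stab_o i aΨ o hpb, Category.assoc, ho]

include hpb in
lemma exists_of_orbit_eq {T : Over S} (g₁ g₂ : T ⟶ G)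
    (h12 : psmul aΨ g₁ (toUnit T ≫ o) = psmul aΨ g₂ (toUnit T ≫ o)) :
    ∃ z : T ⟶ Z, g₂ = g₁ * (z ≫ i) := by
  have hw : g₁ ≫ aΨ.orbitMap o = g₂ ≫ aΨ.orbitMap o := by
    rw [H40.comp_orbitMap, H40.comp_orbitMap, h12]
  refine ⟨hpb.lift g₁ g₂ hw ≫ snd G Z, ?_⟩
  have h1 := hpb.lift_fst g₁ g₂ hw
  have h2 := hpb.lift_snd g₁ g₂ hw
  have e : hpb.lift g₁ g₂ hw = lift g₁ (hpb.lift g₁ g₂ hw ≫ snd G Z) := by
    apply CartesianMonoidalCategory.hom_ext
    · rw [h1, lift_fst]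
    · rw [lift_snd]
  rw [e, lift_mulmap] at h2
  exact h2.symm

include hpb in
lemma i_inj {T : Over S} (z z' : T ⟶ Z) (hz : z ≫ i = z' ≫ i) : z = z' := by
  have e : lift (1 : T ⟶ G) z = lift (1 : T ⟶ G) z' := by
    apply hpb.hom_ext
    · rw [lift_fst, lift_fst]
    · rw [lift_mulmap, lift_mulmap, hz]
  have := congr($e ≫ snd G Z)
  simpa using this

end stab

section main
variable {G X Z Ψ Xh SΨ : Over S} [GrpObj G] [GrpObj Z]

theorem isBalProd_stab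
    (a : AlgGrp.Action G X) (h : 𝟙_ (Over S) ⟶ G)
    (i : Z ⟶ G) [IsMonHom i]
    (ψ : Ψ ⟶ G) [Mono ψ] (aΨ : AlgGrp.Action G Ψ)
    (hψ : aΨ.act ≫ ψ = fst G Ψ * (snd G Ψ ≫ ψ) * (fst G Ψ)⁻¹)
    (o : 𝟙_ (Over S) ⟶ Ψ) (ho : o ≫ ψ = h)
    (hhom : ChGrp.IsHomog Scheme.fppfPrecoverage i aΨ o)
    (incl : Xh ⟶ X) [Mono incl]
    (hXh : ∀ (T : Over S) (x : T ⟶ X),
      (∃ y : T ⟶ Xh, y ≫ incl = x) ↔ lift (toUnit T ≫ h) x ≫ a.act = x)
    (aXh : AlgGrp.Action Z Xh) (hincl : AlgGrp.Action.IsEquivariant aXh (a.restrict i) incl)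
    (σ : SΨ ⟶ G ⊗ X) [Mono σ]
    (hSΨ : ∀ (T : Over S) (g : T ⟶ G) (x : T ⟶ X),
      (∃ q : T ⟶ SΨ, q ≫ σ = lift g x) ↔ ((∃ y : T ⟶ Ψ, y ≫ ψ = g) ∧ lift g x ≫ a.act = x))
    (aS : AlgGrp.Action G SΨ)
    (hσ : aS.act ≫ σ = lift (fst G SΨ * (snd G SΨ ≫ σ ≫ fst G X) * (fst G SΨ)⁻¹)
      (lift (fst G SΨ) (snd G SΨ ≫ σ ≫ snd G X) ≫ a.act))
    (Φ : G ⊗ Xh ⟶ SΨ)
    (hΦ : Φ ≫ σ = lift (fst G Xh * (toUnit (G ⊗ Xh) ≫ h) * (fst G Xh)⁻¹)
      (lift (fst G Xh) (snd G Xh ≫ incl) ≫ a.act)) :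
    ChGrp.IsBalProd Scheme.fppfPrecoverage i aXh aS Φ := by
  obtain ⟨-, hpb, hloc⟩ := hhom
  -- points forms
  have hΦpt : ∀ {T : Over S} (g : T ⟶ G) (x : T ⟶ Xh),
      (lift g x ≫ Φ) ≫ σ = lift (g * (toUnit T ≫ h) * g⁻¹) (psmul a g (x ≫ incl)) := by
    intro T g x
    rw [Category.assoc, hΦ, comp_lift, comp_mul, comp_mul, comp_inv, lift_fst,
      ← Category.assoc (lift g x) (toUnit _), toUnit_unique (lift g x ≫ toUnit _) (toUnit T),
      psmul_def, ← Category.assoc, comp_lift, lift_fst, lift_snd_assoc]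
  have hσpt : ∀ {T : Over S} (g : T ⟶ G) (q : T ⟶ SΨ),
      psmul aS g q ≫ σ =
        lift (g * (q ≫ σ ≫ fst G X) * g⁻¹) (psmul a g (q ≫ σ ≫ snd G X)) := by
    intro T g q
    rw [psmul_def, Category.assoc, hσ, comp_lift, comp_mul, comp_mul, comp_inv, lift_fst,
      lift_snd_assoc, psmul_def, comp_lift_assoc, lift_fst, lift_snd_assoc]
  have hinclpt : ∀ {T : Over S} (z : T ⟶ Z) (x : T ⟶ Xh),
      psmul aXh z x ≫ incl = psmul a (z ≫ i) (x ≫ incl) := by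
    intro T z x
    rw [psmul_comp_equivariant hincl, psmul_restrict]
  have hcent : ∀ {T : Over S} (z : T ⟶ Z),
      (z ≫ i)⁻¹ * (toUnit T ≫ h) * (z ≫ i) = toUnit T ≫ h := by
    intro T z
    have c := centralizes h i ψ aΨ hψ o ho hpb z
    calc (z ≫ i)⁻¹ * (toUnit T ≫ h) * (z ≫ i)
        = (z ≫ i)⁻¹ * ((z ≫ i) * (toUnit T ≫ h) * (z ≫ i)⁻¹) * (z ≫ i) := by rw [c]
      _ = toUnit T ≫ h := by group
  refine ⟨?_, ?_, ?_⟩
  · -- equivariance
    apply isEquivariant_of_points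
    intro T g' p
    rw [eq_lift_fst_snd p]
    generalize p ≫ fst G Xh = g
    generalize p ≫ snd G Xh = x
    rw [psmul_leftMul, ← cancel_mono σ, hΦpt, hσpt, ← Category.assoc, ← Category.assoc, hΦpt,
      lift_fst, lift_snd, mul_psmul]
    congr 1
    rw [_root_.mul_inv_rev]
    simp only [_root_.mul_assoc]
  · -- the cartesian square
    apply isPullback_of_psmul
    · apply AlgGrp.Action.hom_ext_lift₂
      intro T z p
      rw [eq_lift_fst_snd p]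
      generalize p ≫ fst G Xh = g
      generalize p ≫ snd G Xh = x
      rw [lift_snd_assoc, ← Category.assoc, ChGrp.lift_twist_act, ← psmul_def, ← cancel_mono σ,
        hΦpt, hΦpt, hinclpt, ← mul_psmul, _root_.inv_mul_cancel_right]
      congr 1
      rw [_root_.mul_inv_rev, _root_.inv_inv]
      have := hcent z
      calc g * (z ≫ i)⁻¹ * (toUnit T ≫ h) * ((z ≫ i) * g⁻¹)
          = g * ((z ≫ i)⁻¹ * (toUnit T ≫ h) * (z ≫ i)) * g⁻¹ := by simp only [_root_.mul_assoc]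
        _ = g * (toUnit T ≫ h) * g⁻¹ := by rw [this]
    · intro T p p' hpp
      rw [eq_lift_fst_snd p, eq_lift_fst_snd p'] at hpp ⊢
      generalize p ≫ fst G Xh = g₁ at hpp ⊢
      generalize p ≫ snd G Xh = x₁ at hpp ⊢
      generalize p' ≫ fst G Xh = g₂ at hpp ⊢
      generalize p' ≫ snd G Xh = x₂ at hpp ⊢
      have hσeq := congr($hpp ≫ σ)
      rw [hΦpt, hΦpt] at hσeq
      have e1 := congr($hσeq ≫ fst G X)
      have e2 := congr($hσeq ≫ snd G X)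
      rw [lift_fst, lift_fst] at e1
      rw [lift_snd, lift_snd] at e2
      have horb : psmul aΨ g₁ (toUnit T ≫ o) = psmul aΨ g₂ (toUnit T ≫ o) := by
        rw [← cancel_mono ψ, orbit_ψ h ψ aΨ hψ o ho, orbit_ψ h ψ aΨ hψ o ho, e1]
      obtain ⟨z, hz⟩ := exists_of_orbit_eq i aΨ o hpb g₁ g₂ horb
      refine ⟨z, ?_⟩
      rw [psmul_twist]
      congr 1
      · rw [hz, _root_.mul_inv_cancel_right]
      · rw [← cancel_mono incl, hinclpt]
        have : x₁ ≫ incl = psmul a g₁⁻¹ (psmul a g₂ (x₂ ≫ incl)) := by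
          rw [← e2, inv_psmul_psmul]
        rw [this, ← mul_psmul, hz, _root_.inv_mul_cancel_left]
    · intro T z z' p hzz
      rw [eq_lift_fst_snd p, psmul_twist, psmul_twist] at hzz
      have e1 := congr($hzz ≫ fst G Xh)
      rw [lift_fst, lift_fst] at e1
      apply i_inj i aΨ o hpb
      have := _root_.mul_left_cancel e1
      exact inv_injective this
  · -- local triviality
    obtain ⟨⟨ρ, hρ⟩, -⟩ := (hSΨ SΨ (σ ≫ fst G X) (σ ≫ snd G X)).mp
      ⟨𝟙 SΨ, by rw [Category.id_comp]; exact eq_lift_fst_snd σ⟩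
    have hsq : IsPullback (fst G Xh) Φ (aΨ.orbitMap o) ρ := by
      apply isPullback_of_points
      · apply AlgGrp.Action.hom_ext_lift₂
        intro T g x
        rw [lift_fst_assoc, H40.comp_orbitMap, ← cancel_mono ψ, orbit_ψ h ψ aΨ hψ o ho,
          Category.assoc, Category.assoc, hρ, ← Category.assoc, ← Category.assoc, hΦpt, lift_fst]
      · intro T g q hgq
        have hγ : q ≫ σ ≫ fst G X = g * (toUnit T ≫ h) * g⁻¹ := by
          rw [← hρ, ← Category.assoc, ← hgq, H40.comp_orbitMap, orbit_ψ h ψ aΨ hψ o ho]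
        have hfix : psmul a (q ≫ σ ≫ fst G X) (q ≫ σ ≫ snd G X) = q ≫ σ ≫ snd G X := by
          have := ((hSΨ T (q ≫ σ ≫ fst G X) (q ≫ σ ≫ snd G X)).mp
            ⟨q, by rw [← Category.assoc, ← Category.assoc]; exact eq_lift_fst_snd (q ≫ σ)⟩).2
          exact this
        obtain ⟨x, hx⟩ := (hXh T (psmul a g⁻¹ (q ≫ σ ≫ snd G X))).mpr (by
          rw [← psmul_def, ← mul_psmul]
          have : (toUnit T ≫ h) * g⁻¹ = g⁻¹ * (q ≫ σ ≫ fst G X) := by
            rw [hγ]; group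
          rw [this, mul_psmul, hfix])
        refine ⟨lift g x, lift_fst _ _, ?_⟩
        rw [← cancel_mono σ, hΦpt, hx, psmul_inv_psmul, ← hγ]
        rw [← Category.assoc, ← Category.assoc]
        exact (eq_lift_fst_snd (q ≫ σ)).symm
      · intro T p p' h1 h2
        rw [eq_lift_fst_snd p, eq_lift_fst_snd p'] at h2 ⊢
        rw [← h1] at h2 ⊢
        generalize p ≫ fst G Xh = g at h2 ⊢
        generalize p ≫ snd G Xh = x at h2 ⊢
        generalize p' ≫ snd G Xh = x' at h2 ⊢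
        congr 1
        have hσeq := congr($h2 ≫ σ)
        rw [hΦpt, hΦpt] at hσeq
        have e2 := congr($hσeq ≫ snd G X)
        rw [lift_snd, lift_snd] at e2
        rw [← cancel_mono incl]
        have := congr(psmul a g⁻¹ $e2)
        rwa [inv_psmul_psmul, inv_psmul_psmul] at this
    have hsqS : IsPullback (fst G Xh).left Φ.left (aΨ.orbitMap o).left ρ.left :=
      hsq.map (Over.forget S)
    exact isLocallyTrivialFor_of_isPullback hsqS hloc

end main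

end Groth.Agent.H95.BalStab
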