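import Mathlib.Tactic
import Mathlib.Analysis.SpecialFunctions.Pow.Real

set_option autoImplicit false

namespace Groth.Agent.H95

open Finset

/-- crude bound for power sums -/
theorem sum_range_pow_le (l n : ℕ) : ∑ i ∈ range n, (i : ℝ) ^ l ≤ (n : ℝ) ^ (l + 1) := by
  calc ∑ i ∈ range n, (i : ℝ) ^ l ≤ ∑ _i ∈ range n, (n : ℝ) ^ l := by
        apply Finset.sum_le_sum
        intro i hi
        have : (i : ℝ) ≤ n := by exact_mod_cast (Finset.mem_range.mp hi).le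
        exact pow_le_pow_left₀ (by positivity) this l
    _ = (n : ℝ) ^ (l + 1) := by
        rw [Finset.sum_const, Finset.card_range, nsmul_eq_mul, pow_succ]
        ring

theorem power_sum_asymp (b : ℕ) : ∃ C : ℝ, ∀ n : ℕ, 1 ≤ n →
    |∑ i ∈ range n, (i : ℝ) ^ b - (n : ℝ) ^ (b + 1) / ((b : ℝ) + 1)| ≤ C * (n : ℝ) ^ b := by
  refine ⟨∑ l ∈ range b, ((b + 1).choose l : ℝ), ?_⟩
  intro n hn
  have hn1 : (1 : ℝ) ≤ n := by exact_mod_cast hn
  -- telescoping identity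
  have htel : (n : ℝ) ^ (b + 1) = ∑ i ∈ range n, (((i : ℝ) + 1) ^ (b + 1) - (i : ℝ) ^ (b + 1)) := by
    have := Finset.sum_range_sub (fun i : ℕ => (i : ℝ) ^ (b + 1)) n
    simp only [Nat.cast_add, Nat.cast_one, Nat.cast_zero] at this
    rw [this]
    simp
  have hexp : ∀ i : ℕ, ((i : ℝ) + 1) ^ (b + 1) - (i : ℝ) ^ (b + 1) =
      ((b : ℝ) + 1) * (i : ℝ) ^ b + ∑ l ∈ range b, ((b + 1).choose l : ℝ) * (i : ℝ) ^ l := by
    intro i
    rw [add_pow, Finset.sum_range_succ, Finset.sum_range_succ]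
    simp only [one_pow, mul_one, Nat.choose_self, Nat.cast_one, Nat.choose_succ_self_right]
    push_cast
    have : ∀ l ∈ range b, (i : ℝ) ^ l * ((b + 1).choose l : ℝ) = ((b + 1).choose l : ℝ) * (i : ℝ) ^ l :=
      fun l _ => mul_comm _ _
    rw [Finset.sum_congr rfl this]
    ring
  have hmain : (n : ℝ) ^ (b + 1) = ((b : ℝ) + 1) * ∑ i ∈ range n, (i : ℝ) ^ b +
      ∑ l ∈ range b, ((b + 1).choose l : ℝ) * ∑ i ∈ range n, (i : ℝ) ^ l := by
    rw [htel, Finset.sum_congr rfl (fun i _ => hexp i), Finset.sum_add_distrib, ← Finset.mul_sum,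
      Finset.sum_comm]
    congr 1
    apply Finset.sum_congr rfl
    intro l _
    rw [Finset.mul_sum]
  have hb1 : (0 : ℝ) < (b : ℝ) + 1 := by positivity
  have hrest_nonneg : 0 ≤ ∑ l ∈ range b, ((b + 1).choose l : ℝ) * ∑ i ∈ range n, (i : ℝ) ^ l := by
    apply Finset.sum_nonneg
    intro l _
    apply mul_nonneg (by positivity)
    apply Finset.sum_nonneg
    intro i _
    positivity
  have hrest_le : ∑ l ∈ range b, ((b + 1).choose l : ℝ) * ∑ i ∈ range n, (i : ℝ) ^ l ≤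
      (∑ l ∈ range b, ((b + 1).choose l : ℝ)) * (n : ℝ) ^ b := by
    rw [Finset.sum_mul]
    apply Finset.sum_le_sum
    intro l hl
    apply mul_le_mul_of_nonneg_left _ (by positivity)
    refine (sum_range_pow_le l n).trans ?_
    exact pow_le_pow_right₀ hn1 (by have := Finset.mem_range.mp hl; omega)
  have hdiff : ∑ i ∈ range n, (i : ℝ) ^ b - (n : ℝ) ^ (b + 1) / ((b : ℝ) + 1) =
      -(∑ l ∈ range b, ((b + 1).choose l : ℝ) * ∑ i ∈ range n, (i : ℝ) ^ l) / ((b : ℝ) + 1) := by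
    rw [hmain]
    field_simp
    ring
  rw [hdiff, abs_div, abs_neg, abs_of_nonneg hrest_nonneg, abs_of_pos hb1]
  rw [div_le_iff₀ hb1]
  refine hrest_le.trans ?_
  have : 0 ≤ (∑ l ∈ range b, ((b + 1).choose l : ℝ)) * (n : ℝ) ^ b := by positivity
  nlinarith

/-- the Beta coefficient -/
noncomputable def betaC (a b : ℕ) : ℝ := (a.factorial : ℝ) * (b.factorial : ℝ) / ((a + b + 1).factorial : ℝ)

theorem betaC_succ (a b : ℕ) : betaC (a + 1) b = betaC a b - betaC a (b + 1) := by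
  unfold betaC
  have e1 : a + 1 + b + 1 = (a + b + 1) + 1 := by ring
  have e2 : a + (b + 1) + 1 = (a + b + 1) + 1 := by ring
  rw [e1, e2, Nat.factorial_succ (a + b + 1), Nat.factorial_succ a, Nat.factorial_succ b]
  have h : ((a + b + 1).factorial : ℝ) ≠ 0 := by positivity
  push_cast
  field_simp
  ring

theorem beta_sum_asymp (a : ℕ) : ∀ b : ℕ, ∃ C : ℝ, ∀ n : ℕ, 1 ≤ n →
    |∑ i ∈ range n, ((n : ℝ) - (i : ℝ)) ^ a * (i : ℝ) ^ b - betaC a b * (n : ℝ) ^ (a + b + 1)| ≤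
      C * (n : ℝ) ^ (a + b) := by
  induction a with
  | zero =>
    intro b
    obtain ⟨C, hC⟩ := power_sum_asymp b
    refine ⟨C, fun n hn => ?_⟩
    have := hC n hn
    simp only [pow_zero, one_mul, zero_add]
    have hc : betaC 0 b * (n : ℝ) ^ (b + 1) = (n : ℝ) ^ (b + 1) / ((b : ℝ) + 1) := by
      unfold betaC
      rw [zero_add, Nat.factorial_succ, Nat.factorial_zero]
      have h : (b.factorial : ℝ) ≠ 0 := by positivity
      push_cast
      field_simp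
    rw [hc]
    exact this
  | succ a ih =>
    intro b
    obtain ⟨C₁, hC₁⟩ := ih b
    obtain ⟨C₂, hC₂⟩ := ih (b + 1)
    refine ⟨|C₁| + |C₂|, fun n hn => ?_⟩
    have h1 := hC₁ n hn
    have h2 := hC₂ n hn
    have hn0 : (0 : ℝ) ≤ n := by positivity
    have hsplit : ∑ i ∈ range n, ((n : ℝ) - (i : ℝ)) ^ (a + 1) * (i : ℝ) ^ b =
        (n : ℝ) * ∑ i ∈ range n, ((n : ℝ) - (i : ℝ)) ^ a * (i : ℝ) ^ b -
          ∑ i ∈ range n, ((n : ℝ) - (i : ℝ)) ^ a * (i : ℝ) ^ (b + 1) := by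
      rw [Finset.mul_sum, ← Finset.sum_sub_distrib]
      apply Finset.sum_congr rfl
      intro i _
      ring
    have hrew : ∑ i ∈ range n, ((n : ℝ) - (i : ℝ)) ^ (a + 1) * (i : ℝ) ^ b -
        betaC (a + 1) b * (n : ℝ) ^ (a + 1 + b + 1) =
        (n : ℝ) * (∑ i ∈ range n, ((n : ℝ) - (i : ℝ)) ^ a * (i : ℝ) ^ b -
            betaC a b * (n : ℝ) ^ (a + b + 1)) -
          (∑ i ∈ range n, ((n : ℝ) - (i : ℝ)) ^ a * (i : ℝ) ^ (b + 1) -
            betaC a (b + 1) * (n : ℝ) ^ (a + (b + 1) + 1)) := by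
      rw [hsplit, betaC_succ]
      have e1 : a + 1 + b + 1 = (a + b + 1) + 1 := by ring
      have e2 : a + (b + 1) + 1 = (a + b + 1) + 1 := by ring
      rw [e1, e2, pow_succ (n : ℝ) (a + b + 1)]
      ring
    rw [hrew]
    have e3 : a + 1 + b = a + b + 1 := by ring
    have e4 : a + (b + 1) = a + b + 1 := by ring
    rw [e4] at h2
    rw [e3]
    calc |(n : ℝ) * (∑ i ∈ range n, ((n : ℝ) - (i : ℝ)) ^ a * (i : ℝ) ^ b -
            betaC a b * (n : ℝ) ^ (a + b + 1)) -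
          (∑ i ∈ range n, ((n : ℝ) - (i : ℝ)) ^ a * (i : ℝ) ^ (b + 1) -
            betaC a (b + 1) * (n : ℝ) ^ (a + (b + 1) + 1))|
        ≤ |(n : ℝ) * (∑ i ∈ range n, ((n : ℝ) - (i : ℝ)) ^ a * (i : ℝ) ^ b -
            betaC a b * (n : ℝ) ^ (a + b + 1))| +
          |∑ i ∈ range n, ((n : ℝ) - (i : ℝ)) ^ a * (i : ℝ) ^ (b + 1) -
            betaC a (b + 1) * (n : ℝ) ^ (a + (b + 1) + 1)| := abs_sub _ _
      _ ≤ (n : ℝ) * (C₁ * (n : ℝ) ^ (a + b)) + C₂ * (n : ℝ) ^ (a + b + 1) := by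
          rw [abs_mul, abs_of_nonneg hn0]
          exact add_le_add (mul_le_mul_of_nonneg_left h1 hn0) h2
      _ ≤ (|C₁| + |C₂|) * (n : ℝ) ^ (a + b + 1) := by
          have hp : (0 : ℝ) ≤ (n : ℝ) ^ (a + b + 1) := by positivity
          have : (n : ℝ) * (C₁ * (n : ℝ) ^ (a + b)) = C₁ * (n : ℝ) ^ (a + b + 1) := by
            rw [pow_succ]; ring
          rw [this, add_mul]
          exact add_le_add (mul_le_mul_of_nonneg_right (le_abs_self _) hp)
            (mul_le_mul_of_nonneg_right (le_abs_self _) hp)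

end Groth.Agent.H95
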