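import Groth.Prelude.Def_W4c6blochformula0cycCech
import Mathlib.Tactic

set_option autoImplicit false
universe u
open CategoryTheory Opposite TopologicalSpace

namespace Groth.Agent.H95

open W4c6blochformula0cyc

variable {X : Type u} [TopologicalSpace X]

theorem res_res (F : (Opens X)ᵒᵖ ⥤ AddCommGrpCat.{u}) {V W Z : Opens X} (h₁ : W ≤ V) (h₂ : Z ≤ W)
    (x : F.obj (op V)) : res F h₂ (res F h₁ x) = res F (h₂.trans h₁) x := by
  have h : F.map (homOfLE h₁).op ≫ F.map (homOfLE h₂).op = F.map (homOfLE (h₂.trans h₁)).op := by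
    rw [← F.map_comp]
    rfl
  unfold res
  rw [← h]
  rfl

theorem res_self (F : (Opens X)ᵒᵖ ⥤ AddCommGrpCat.{u}) {V : Opens X} (h : V ≤ V)
    (x : F.obj (op V)) : res F h x = x := by
  have h' : F.map (homOfLE h).op = 𝟙 _ := by
    rw [← F.map_id]
    rfl
  unfold res
  rw [h']
  rfl

theorem res_congr_tuple (F : (Opens X)ᵒᵖ ⥤ AddCommGrpCat.{u}) {ι : Type u} (U : ι → Opens X) {n : ℕ}
    (f : Cochain F U n) {t₁ t₂ : Fin n → ι} (h : t₁ = t₂) {W : Opens X}
    (h₁ : W ≤ cechOpen U t₁) (h₂ : W ≤ cechOpen U t₂) :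
    res F h₁ (f t₁) = res F h₂ (f t₂) := by
  subst h
  rfl

theorem cons_comp_succAbove_zero {ι : Type u} {n : ℕ} (α : ι) (t : Fin n → ι) :
    (Fin.cons α t : Fin (n + 1) → ι) ∘ (0 : Fin (n + 1)).succAbove = t := by
  funext k
  simp [Fin.succAbove_zero]

theorem cons_comp_succAbove_succ {ι : Type u} {n : ℕ} (α : ι) (t : Fin (n + 1) → ι) (i : Fin (n + 1)) :
    (Fin.cons α t : Fin (n + 2) → ι) ∘ (i.succ).succAbove = Fin.cons α (t ∘ i.succAbove) := by
  funext k
  refine Fin.cases ?_ (fun l => ?_) k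
  · simp
  · simp

theorem cechOpen_eq_inf {ι : Type u} (U : ι → Opens X) {n : ℕ} (t : Fin (n + 1) → ι) (i : Fin (n + 1)) :
    cechOpen U t = cechOpen U (t ∘ i.succAbove) ⊓ U (t i) := by
  apply le_antisymm
  · exact le_inf (cechOpen_le_comp U t i) (iInf_le (fun j => U (t j)) i)
  · refine le_iInf fun j => ?_
    by_cases hj : j = i
    · subst hj
      exact inf_le_right
    · obtain ⟨k, hk⟩ := Fin.exists_succAbove_eq hj
      subst hk
      exact inf_le_left.trans (iInf_le (fun k => U ((t ∘ i.succAbove) k)) k)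

end Groth.Agent.H95
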