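import Mathlib.Tactic
import Mathlib.RingTheory.PowerSeries.Inverse
import Mathlib.Algebra.Polynomial.RingDivision
import Mathlib.RingTheory.MvPolynomial.Basic
import Mathlib.RingTheory.Ideal.Quotient.Operations
import Mathlib.RingTheory.Smooth.Basic
import Mathlib.RingTheory.Localization.Away.Basic
import Mathlib.RingTheory.Extension.Presentation.Basic

set_option autoImplicit false
universe u

namespace Groth.Agent.H95

open MvPolynomial

/-- second chart: `R[x, β]/(β² + a₁β − x − a₂) ≃ R[β]`. -/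
theorem chart2Equiv (R : Type u) [CommRing R] (a₁ a₂ : R) (I : Ideal (MvPolynomial (Fin 2) R))
    (hI : I = Ideal.span ({X 1 ^ 2 + C a₁ * X 1 - X 0 - C a₂} : Set (MvPolynomial (Fin 2) R))) :
    ∃ e : (MvPolynomial (Fin 2) R ⧸ I) ≃ₐ[R] Polynomial R,
      e (Ideal.Quotient.mk I (X 0)) =
        Polynomial.X ^ 2 + Polynomial.C a₁ * Polynomial.X - Polynomial.C a₂ := by
  let v : Fin 2 → Polynomial R := ![Polynomial.X ^ 2 + Polynomial.C a₁ * Polynomial.X - Polynomial.C a₂,
    Polynomial.X]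
  let f₀ : MvPolynomial (Fin 2) R →ₐ[R] Polynomial R := aeval v
  have hf₀X0 : f₀ (X 0) = Polynomial.X ^ 2 + Polynomial.C a₁ * Polynomial.X - Polynomial.C a₂ := by
    simp [f₀, v]
  have hf₀X1 : f₀ (X 1) = Polynomial.X := by
    simp [f₀, v]
  have hf₀C : ∀ r : R, f₀ (C r) = Polynomial.C r := by
    intro r; simp [f₀]
  have hf₀ : ∀ q ∈ I, f₀ q = 0 := by
    intro q hq
    have hle : I ≤ RingHom.ker f₀.toRingHom := by
      rw [hI, Ideal.span_le]
      intro x hx
      rw [Set.mem_singleton_iff] at hx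
      subst hx
      rw [SetLike.mem_coe, RingHom.mem_ker]
      change f₀ _ = 0
      rw [map_sub, map_sub, map_add, map_mul, map_pow, hf₀X0, hf₀X1, hf₀C, hf₀C]
      ring
    exact hle hq
  let f : (MvPolynomial (Fin 2) R ⧸ I) →ₐ[R] Polynomial R := Ideal.Quotient.liftₐ I f₀ hf₀
  have hfmk : ∀ q, f (Ideal.Quotient.mk I q) = f₀ q := fun q => rfl
  let g : Polynomial R →ₐ[R] (MvPolynomial (Fin 2) R ⧸ I) :=
    Polynomial.aeval (Ideal.Quotient.mk I (X 1))
  have hgX : g Polynomial.X = Ideal.Quotient.mk I (X 1) := by simp [g]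
  have hgC : ∀ r : R, g (Polynomial.C r) = Ideal.Quotient.mk I (C r) := by
    intro r
    simp only [g, Polynomial.aeval_C]
    rfl
  refine ⟨AlgEquiv.ofAlgHom f g ?_ ?_, ?_⟩
  rotate_left 2
  · change f (Ideal.Quotient.mk I (X 0)) = _
    rw [hfmk, hf₀X0]
  · apply Polynomial.algHom_ext
    rw [AlgHom.comp_apply, hgX, hfmk, hf₀X1]
    rfl
  · apply Ideal.Quotient.algHom_ext
    apply MvPolynomial.algHom_ext
    intro i
    change g (f (Ideal.Quotient.mk I (X i))) = Ideal.Quotient.mk I (X i)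
    rw [hfmk]
    fin_cases i
    · change g (f₀ (X 0)) = Ideal.Quotient.mk I (X 0)
      rw [hf₀X0, map_sub, map_add, map_mul, map_pow, hgX, hgC, hgC, ← sub_eq_zero,
        ← map_pow, ← map_mul, ← map_add, ← map_sub, ← map_sub, Ideal.Quotient.eq_zero_iff_mem, hI]
      have : (X 1 ^ 2 + C a₁ * X 1 - C a₂ - X 0 : MvPolynomial (Fin 2) R) =
          X 1 ^ 2 + C a₁ * X 1 - X 0 - C a₂ := by ring
      rw [this]
      exact Ideal.subset_span rfl
    · change g (f₀ (X 1)) = Ideal.Quotient.mk I (X 1)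
      rw [hf₀X1, hgX]


/-- first chart: `R[y, α]/(1 + a₁α − yα³ − a₂α²) ≃ R[α, α⁻¹]`. -/
theorem chart1Equiv (R : Type u) [CommRing R] (a₁ a₂ : R) (I : Ideal (MvPolynomial (Fin 2) R))
    (hI : I = Ideal.span ({1 + C a₁ * X 1 - X 0 * X 1 ^ 3 - C a₂ * X 1 ^ 2} :
      Set (MvPolynomial (Fin 2) R))) :
    ∃ e : (MvPolynomial (Fin 2) R ⧸ I) ≃ₐ[R] Localization.Away (Polynomial.X : Polynomial R),
      e (Ideal.Quotient.mk I (X 0)) =
        (1 + algebraMap R (Localization.Away (Polynomial.X : Polynomial R)) a₁ *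
            algebraMap (Polynomial R) (Localization.Away (Polynomial.X : Polynomial R)) Polynomial.X -
          algebraMap R (Localization.Away (Polynomial.X : Polynomial R)) a₂ *
            algebraMap (Polynomial R) (Localization.Away (Polynomial.X : Polynomial R)) Polynomial.X ^ 2) *
          IsLocalization.Away.invSelf (Polynomial.X : Polynomial R) ^ 3 := by
  let L := Localization.Away (Polynomial.X : Polynomial R)
  let α : L := algebraMap (Polynomial R) L Polynomial.X
  let u : L := IsLocalization.Away.invSelf (Polynomial.X : Polynomial R)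
  have hαu : α * u = 1 := IsLocalization.Away.mul_invSelf _
  let c : L := 1 + algebraMap R L a₁ * α - algebraMap R L a₂ * α ^ 2
  let y₀ : L := c * u ^ 3
  let v : Fin 2 → L := ![y₀, α]
  let f₀ : MvPolynomial (Fin 2) R →ₐ[R] L := aeval v
  have hf₀X0 : f₀ (X 0) = y₀ := by simp [f₀, v]
  have hf₀X1 : f₀ (X 1) = α := by simp [f₀, v]
  have hf₀C : ∀ r : R, f₀ (C r) = algebraMap R L r := by
    intro r; simp [f₀]
  have hy₀ : y₀ * α ^ 3 = c := by
    change c * u ^ 3 * α ^ 3 = c
    rw [mul_assoc, ← mul_pow, mul_comm u α, hαu, one_pow, mul_one]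
  have hf₀ : ∀ q ∈ I, f₀ q = 0 := by
    intro q hq
    have hle : I ≤ RingHom.ker f₀.toRingHom := by
      rw [hI, Ideal.span_le]
      intro x hx
      rw [Set.mem_singleton_iff] at hx
      subst hx
      rw [SetLike.mem_coe, RingHom.mem_ker]
      change f₀ _ = 0
      rw [map_sub, map_sub, map_add, map_mul, map_mul, map_mul, map_pow, map_pow, map_one,
        hf₀X0, hf₀X1, hf₀C, hf₀C, hy₀]
      ring
    exact hle hq
  let f : (MvPolynomial (Fin 2) R ⧸ I) →ₐ[R] L := Ideal.Quotient.liftₐ I f₀ hf₀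
  have hfmk : ∀ q, f (Ideal.Quotient.mk I q) = f₀ q := fun q => rfl
  -- the inverse
  let x₀ : MvPolynomial (Fin 2) R ⧸ I := Ideal.Quotient.mk I (X 0)
  let x₁ : MvPolynomial (Fin 2) R ⧸ I := Ideal.Quotient.mk I (X 1)
  let w : MvPolynomial (Fin 2) R ⧸ I := Ideal.Quotient.mk I (-C a₁ + X 0 * X 1 ^ 2 + C a₂ * X 1)
  have hxw : x₁ * w = 1 := by
    rw [← sub_eq_zero]
    change Ideal.Quotient.mk I (X 1) * Ideal.Quotient.mk I (-C a₁ + X 0 * X 1 ^ 2 + C a₂ * X 1) -
      1 = 0
    rw [← map_mul, ← map_one (Ideal.Quotient.mk I), ← map_sub, Ideal.Quotient.eq_zero_iff_mem, hI]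
    have : (X 1 * (-C a₁ + X 0 * X 1 ^ 2 + C a₂ * X 1) - 1 : MvPolynomial (Fin 2) R) =
        -(1 + C a₁ * X 1 - X 0 * X 1 ^ 3 - C a₂ * X 1 ^ 2) := by ring
    rw [this]
    exact neg_mem (Ideal.subset_span rfl)
  have hrel : (1 : MvPolynomial (Fin 2) R ⧸ I) + Ideal.Quotient.mk I (C a₁) * x₁ -
      Ideal.Quotient.mk I (C a₂) * x₁ ^ 2 = x₀ * x₁ ^ 3 := by
    rw [← sub_eq_zero]
    change (1 : MvPolynomial (Fin 2) R ⧸ I) + Ideal.Quotient.mk I (C a₁) * Ideal.Quotient.mk I (X 1) -
      Ideal.Quotient.mk I (C a₂) * Ideal.Quotient.mk I (X 1) ^ 2 -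
      Ideal.Quotient.mk I (X 0) * Ideal.Quotient.mk I (X 1) ^ 3 = 0
    rw [← map_one (Ideal.Quotient.mk I), ← map_pow, ← map_pow, ← map_mul, ← map_mul, ← map_mul,
      ← map_add, ← map_sub, ← map_sub, Ideal.Quotient.eq_zero_iff_mem, hI]
    have : (1 + C a₁ * X 1 - C a₂ * X 1 ^ 2 - X 0 * X 1 ^ 3 : MvPolynomial (Fin 2) R) =
        1 + C a₁ * X 1 - X 0 * X 1 ^ 3 - C a₂ * X 1 ^ 2 := by ring
    rw [this]
    exact Ideal.subset_span rfl
  let g₀ : Polynomial R →ₐ[R] (MvPolynomial (Fin 2) R ⧸ I) := Polynomial.aeval x₁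
  have hg₀X : g₀ Polynomial.X = x₁ := by simp [g₀]
  have hunit : IsUnit (g₀ Polynomial.X) := by
    rw [hg₀X]
    exact IsUnit.of_mul_eq_one w hxw
  let g : L →ₐ[R] (MvPolynomial (Fin 2) R ⧸ I) :=
    IsLocalization.Away.liftAlgHom (Polynomial.X : Polynomial R) (f := g₀) hunit
  have hgalg : ∀ p : Polynomial R, g (algebraMap (Polynomial R) L p) = g₀ p := by
    intro p
    exact IsLocalization.Away.lift_eq _ hunit p
  have hgα : g α = x₁ := by rw [hgalg, hg₀X]
  have hgu : g u = w := by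
    have h1 : g α * g u = 1 := by rw [← map_mul, hαu, map_one]
    rw [hgα] at h1
    calc g u = (w * x₁) * g u := by rw [mul_comm w x₁, hxw, one_mul]
      _ = w * (x₁ * g u) := by rw [mul_assoc]
      _ = w := by rw [h1, mul_one]
  have hgR : ∀ r : R, g (algebraMap R L r) = Ideal.Quotient.mk I (C r) := by
    intro r
    rw [AlgHom.commutes]
    rfl
  refine ⟨AlgEquiv.ofAlgHom f g ?_ ?_, ?_⟩
  rotate_left 2
  · change f (Ideal.Quotient.mk I (X 0)) = _
    rw [hfmk, hf₀X0]
  · apply IsLocalization.algHom_ext (Submonoid.powers (Polynomial.X : Polynomial R))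
    apply Polynomial.algHom_ext
    change f (g (algebraMap (Polynomial R) L Polynomial.X)) = algebraMap (Polynomial R) L Polynomial.X
    rw [hgalg, hg₀X, hfmk, hf₀X1]
  · apply Ideal.Quotient.algHom_ext
    apply MvPolynomial.algHom_ext
    intro i
    change g (f (Ideal.Quotient.mk I (X i))) = Ideal.Quotient.mk I (X i)
    rw [hfmk]
    fin_cases i
    · change g (f₀ (X 0)) = x₀
      rw [hf₀X0]
      change g (c * u ^ 3) = x₀
      rw [map_mul, map_pow, hgu]
      change g (1 + algebraMap R L a₁ * α - algebraMap R L a₂ * α ^ 2) * w ^ 3 = x₀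
      rw [map_sub, map_add, map_one, map_mul, map_mul, map_pow, hgα, hgR, hgR, hrel, mul_assoc,
        ← mul_pow, hxw, one_pow, mul_one]
    · change g (f₀ (X 1)) = x₁
      rw [hf₀X1, hgα]

theorem smooth_localizationAway_X (R : Type u) [CommRing R] :
    Algebra.Smooth R (Localization.Away (Polynomial.X : Polynomial R)) := by
  haveI : Algebra.Smooth R (Polynomial R) := {}
  haveI : Algebra.Smooth (Polynomial R) (Localization.Away (Polynomial.X : Polynomial R)) :=
    Algebra.Smooth.of_isLocalization_Away Polynomial.X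
  exact Algebra.Smooth.comp R (Polynomial R) _

theorem smooth_polynomial (R : Type u) [CommRing R] : Algebra.Smooth R (Polynomial R) := {}


theorem saturation_of_nzd {A : Type*} [CommRing A] (x g : A)
    (hx : Ideal.Quotient.mk (Ideal.span ({g} : Set A)) x ∈
      nonZeroDivisors (A ⧸ Ideal.span ({g} : Set A))) (s : A) :
    (∃ n : ℕ, x ^ n * s ∈ Ideal.span ({x ^ 2 * g} : Set A)) ↔ s ∈ Ideal.span ({g} : Set A) := by
  constructor
  · rintro ⟨n, hn⟩
    have h1 : x ^ n * s ∈ Ideal.span ({g} : Set A) := by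
      have hle : Ideal.span ({x ^ 2 * g} : Set A) ≤ Ideal.span ({g} : Set A) := by
        rw [Ideal.span_le]
        intro z hz
        rw [Set.mem_singleton_iff] at hz
        subst hz
        exact Ideal.mul_mem_left _ _ (Ideal.subset_span rfl)
      exact hle hn
    rw [← Ideal.Quotient.eq_zero_iff_mem, map_mul, map_pow, mul_comm] at h1
    rw [← Ideal.Quotient.eq_zero_iff_mem]
    exact (mem_nonZeroDivisors_iff_right.mp (pow_mem hx n)) _ h1
  · intro hs
    obtain ⟨h, rfl⟩ := Ideal.mem_span_singleton'.mp hs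
    refine ⟨2, Ideal.mem_span_singleton'.mpr ⟨h, ?_⟩⟩
    ring

theorem nzd_of_algEquiv {R A B : Type*} [CommRing R] [CommRing A] [CommRing B] [Algebra R A]
    [Algebra R B] (e : A ≃ₐ[R] B) (a : A) (h : e a ∈ nonZeroDivisors B) : a ∈ nonZeroDivisors A := by
  rw [mem_nonZeroDivisors_iff_right] at h ⊢
  intro b hb
  have : e b * e a = 0 := by rw [← map_mul, hb, map_zero]
  exact (map_eq_zero_iff e e.injective).mp (h _ this)

theorem nzd_one_add (R : Type*) [CommRing R] (a₁ a₂ : R) :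
    (1 + Polynomial.C a₁ * Polynomial.X - Polynomial.C a₂ * Polynomial.X ^ 2 : Polynomial R) ∈
      nonZeroDivisors (Polynomial R) := by
  rw [mem_nonZeroDivisors_iff_right]
  intro q hq
  have h1 : ((q : Polynomial R) : PowerSeries R) *
      ((1 + Polynomial.C a₁ * Polynomial.X - Polynomial.C a₂ * Polynomial.X ^ 2 : Polynomial R) :
        PowerSeries R) = 0 := by
    rw [← Polynomial.coe_mul, hq, Polynomial.coe_zero]
  have hu : IsUnit ((1 + Polynomial.C a₁ * Polynomial.X - Polynomial.C a₂ * Polynomial.X ^ 2 :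
      Polynomial R) : PowerSeries R) := by
    rw [PowerSeries.isUnit_iff_constantCoeff]
    simp
  have h2 : ((q : Polynomial R) : PowerSeries R) = 0 := by
    rwa [hu.mul_left_eq_zero] at h1
  exact Polynomial.coe_injective R (by rw [h2, Polynomial.coe_zero])

end Groth.Agent.H95
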