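import Mathlib
import Groth.Agent.H39.IntersectionLength

/-!
helper95: cokernel of `A/(f_1⋯f_n) → ⊕ A/(f_i)` and its length.
-/

set_option autoImplicit false
set_option linter.unusedSectionVars false

namespace Groth.Agent.H95.CokerLen

universe u

variable {A : Type u} [CommRing A]

/-- the diagonal map `A → ∏ A/(f i)`. -/
noncomputable def D {n : ℕ} (f : Fin n → A) : A →ₗ[A] ((i : Fin n) → A ⧸ Ideal.span {f i}) :=
  LinearMap.pi (fun i => (Ideal.span {f i}).mkQ)

theorem D_apply {n : ℕ} (f : Fin n → A) (a : A) (i : Fin n) :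
    D f a i = Submodule.Quotient.mk a := rfl

/-- forget the zeroth coordinate. -/
noncomputable def tailMap {n : ℕ} (f : Fin (n + 1) → A) :
    ((i : Fin (n + 1)) → A ⧸ Ideal.span {f i}) →ₗ[A]
      ((i : Fin n) → A ⧸ Ideal.span {f i.succ}) :=
  LinearMap.pi (fun i => LinearMap.proj i.succ)

theorem tailMap_apply {n : ℕ} (f : Fin (n + 1) → A)
    (x : (i : Fin (n + 1)) → A ⧸ Ideal.span {f i}) (i : Fin n) :
    tailMap f x i = x i.succ := rfl

theorem tailMap_D {n : ℕ} (f : Fin (n + 1) → A) (a : A) :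
    tailMap f (D f a) = D (fun i => f i.succ) a := rfl

/-- the projection of cokernels. -/
noncomputable def piQ {n : ℕ} (f : Fin (n + 1) → A) :
    (((i : Fin (n + 1)) → A ⧸ Ideal.span {f i}) ⧸ LinearMap.range (D f)) →ₗ[A]
      (((i : Fin n) → A ⧸ Ideal.span {f i.succ}) ⧸
        LinearMap.range (D (fun i => f i.succ))) :=
  Submodule.mapQ _ _ (tailMap f) (by
    rintro _ ⟨a, rfl⟩
    exact ⟨a, (tailMap_D f a).symm⟩)

theorem piQ_mk {n : ℕ} (f : Fin (n + 1) → A)
    (x : (i : Fin (n + 1)) → A ⧸ Ideal.span {f i}) :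
    piQ f (Submodule.Quotient.mk x) = Submodule.Quotient.mk (tailMap f x) := rfl

theorem piQ_surjective {n : ℕ} (f : Fin (n + 1) → A) : Function.Surjective (piQ f) := by
  intro y
  obtain ⟨y, rfl⟩ := Submodule.Quotient.mk_surjective _ y
  refine ⟨Submodule.Quotient.mk
    (Fin.cons (α := fun i => A ⧸ Ideal.span {f i}) 0 y), ?_⟩
  rw [piQ_mk]
  congr 1

/-- the map `A → coker` through the zeroth coordinate. -/
noncomputable def iota0 {n : ℕ} (f : Fin (n + 1) → A) :
    A →ₗ[A] (((i : Fin (n + 1)) → A ⧸ Ideal.span {f i}) ⧸ LinearMap.range (D f)) :=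
  (LinearMap.range (D f)).mkQ ∘ₗ
    (LinearMap.single A (fun i => A ⧸ Ideal.span {f i}) 0) ∘ₗ (Ideal.span {f 0}).mkQ

theorem iota0_apply {n : ℕ} (f : Fin (n + 1) → A) (b : A) :
    iota0 f b = Submodule.Quotient.mk
      (Pi.single (M := fun i => A ⧸ Ideal.span {f i}) 0 (Submodule.Quotient.mk b)) := rfl

theorem iota0_eq_zero_iff {n : ℕ} (f : Fin (n + 1) → A)
    (hdiv : ∀ a : A, (∀ i : Fin n, f i.succ ∣ a) → (∏ i : Fin n, f i.succ) ∣ a) (b : A) :
    iota0 f b = 0 ↔ b ∈ Ideal.span ({f 0, ∏ i : Fin n, f i.succ} : Set A) := by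
  rw [iota0_apply, Submodule.Quotient.mk_eq_zero, Ideal.mem_span_pair]
  constructor
  · rintro ⟨a, ha⟩
    have h0 := congrFun ha 0
    rw [D_apply, Pi.single_eq_same] at h0
    have hsucc : ∀ i : Fin n, f i.succ ∣ a := by
      intro i
      have hi := congrFun ha i.succ
      rw [D_apply, Pi.single_eq_of_ne (Fin.succ_ne_zero i)] at hi
      rw [Submodule.Quotient.mk_eq_zero] at hi
      exact Ideal.mem_span_singleton.mp hi
    obtain ⟨c, hc⟩ := hdiv a hsucc
    rw [eq_comm, ← sub_eq_zero, ← Submodule.Quotient.mk_sub, Submodule.Quotient.mk_eq_zero,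
      Ideal.mem_span_singleton] at h0
    obtain ⟨e, he⟩ := h0
    exact ⟨e, c, by linear_combination (-1 : A) * he - hc⟩
  · rintro ⟨e, c, hec⟩
    refine ⟨c * ∏ i : Fin n, f i.succ, ?_⟩
    funext i
    rw [D_apply]
    refine Fin.cases ?_ (fun j => ?_) i
    · rw [Pi.single_eq_same, Submodule.Quotient.eq, Ideal.mem_span_singleton]
      exact ⟨-e, by linear_combination hec⟩
    · rw [Pi.single_eq_of_ne (Fin.succ_ne_zero j), Submodule.Quotient.mk_eq_zero,
        Ideal.mem_span_singleton]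
      exact Dvd.dvd.mul_left (Finset.dvd_prod_of_mem (fun i : Fin n => f i.succ)
        (Finset.mem_univ j)) c

/-- the map `A/(f 0, ∏ tail) → coker`. -/
noncomputable def iota {n : ℕ} (f : Fin (n + 1) → A)
    (hdiv : ∀ a : A, (∀ i : Fin n, f i.succ ∣ a) → (∏ i : Fin n, f i.succ) ∣ a) :
    (A ⧸ Ideal.span ({f 0, ∏ i : Fin n, f i.succ} : Set A)) →ₗ[A]
      (((i : Fin (n + 1)) → A ⧸ Ideal.span {f i}) ⧸ LinearMap.range (D f)) :=
  Submodule.liftQ _ (iota0 f) (fun b hb => by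
    rw [LinearMap.mem_ker]
    exact (iota0_eq_zero_iff f hdiv b).mpr hb)

theorem iota_mk {n : ℕ} (f : Fin (n + 1) → A)
    (hdiv : ∀ a : A, (∀ i : Fin n, f i.succ ∣ a) → (∏ i : Fin n, f i.succ) ∣ a) (b : A) :
    iota f hdiv (Submodule.Quotient.mk b) = iota0 f b := rfl

theorem iota_injective {n : ℕ} (f : Fin (n + 1) → A)
    (hdiv : ∀ a : A, (∀ i : Fin n, f i.succ ∣ a) → (∏ i : Fin n, f i.succ) ∣ a) :
    Function.Injective (iota f hdiv) := by
  rw [← LinearMap.ker_eq_bot, LinearMap.ker_eq_bot']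
  intro x hx
  obtain ⟨b, rfl⟩ := Submodule.Quotient.mk_surjective _ x
  rw [iota_mk] at hx
  rw [Submodule.Quotient.mk_eq_zero]
  exact (iota0_eq_zero_iff f hdiv b).mp hx

theorem exact_iota_piQ {n : ℕ} (f : Fin (n + 1) → A)
    (hdiv : ∀ a : A, (∀ i : Fin n, f i.succ ∣ a) → (∏ i : Fin n, f i.succ) ∣ a) :
    Function.Exact (iota f hdiv) (piQ f) := by
  intro x
  obtain ⟨x, rfl⟩ := Submodule.Quotient.mk_surjective _ x
  constructor
  · intro hx
    rw [piQ_mk, Submodule.Quotient.mk_eq_zero] at hx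
    obtain ⟨a, ha⟩ := hx
    obtain ⟨b, hb⟩ := Submodule.Quotient.mk_surjective _ (x 0)
    refine ⟨Submodule.Quotient.mk (b - a), ?_⟩
    rw [iota_mk, iota0_apply, Submodule.Quotient.eq]
    refine ⟨-a, ?_⟩
    funext i
    refine Fin.cases ?_ (fun j => ?_) i
    · rw [D_apply, Pi.sub_apply, Pi.single_eq_same, ← hb, ← Submodule.Quotient.mk_sub]
      congr 1
      ring
    · have hj := congrFun ha j
      rw [D_apply, tailMap_apply] at hj
      rw [D_apply, Pi.sub_apply, Pi.single_eq_of_ne (Fin.succ_ne_zero j), ← hj, zero_sub,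
        Submodule.Quotient.mk_neg]
  · rintro ⟨y, hy⟩
    obtain ⟨b, rfl⟩ := Submodule.Quotient.mk_surjective _ y
    rw [← hy, iota_mk, iota0_apply, piQ_mk, Submodule.Quotient.mk_eq_zero]
    refine ⟨0, ?_⟩
    funext j
    rw [map_zero, tailMap_apply, Pi.single_eq_of_ne (Fin.succ_ne_zero j)]
    rfl

theorem length_coker_succ {n : ℕ} (f : Fin (n + 1) → A)
    (hdiv : ∀ a : A, (∀ i : Fin n, f i.succ ∣ a) → (∏ i : Fin n, f i.succ) ∣ a) :
    Module.length A (((i : Fin (n + 1)) → A ⧸ Ideal.span {f i}) ⧸ LinearMap.range (D f)) =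
      Module.length A (A ⧸ Ideal.span ({f 0, ∏ i : Fin n, f i.succ} : Set A)) +
        Module.length A (((i : Fin n) → A ⧸ Ideal.span {f i.succ}) ⧸
          LinearMap.range (D (fun i => f i.succ))) :=
  Module.length_eq_add_of_exact (iota f hdiv) (piQ f) (iota_injective f hdiv)
    (piQ_surjective f) (exact_iota_piQ f hdiv)

end Groth.Agent.H95.CokerLen
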