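import Groth.Agent.H95.CokerLen0

set_option autoImplicit false
set_option linter.unusedSectionVars false

namespace Groth.Agent.H95.CokerLen

universe u

variable {A : Type u} [CommRing A] [DecompositionMonoid A]

/-- additivity of `length A/(∏ h_j, g)`. -/
theorem length_prod : ∀ {n : ℕ} (h : Fin n → A) (g : A), (∀ j, IsRelPrime (h j) g) →
    Module.length A (A ⧸ Ideal.span ({∏ j, h j, g} : Set A)) =
      ∑ j, Module.length A (A ⧸ Ideal.span ({h j, g} : Set A)) := by
  intro n
  induction n with
  | zero =>
    intro h g _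
    rw [Finset.univ_eq_empty, Finset.prod_empty, Finset.sum_empty, Module.length_eq_zero_iff]
    have : Ideal.span ({1, g} : Set A) = ⊤ :=
      Ideal.eq_top_of_isUnit_mem _ (Ideal.subset_span (Set.mem_insert _ _)) isUnit_one
    rw [this]
    infer_instance
  | succ n ih =>
    intro h g hrel
    rw [Fin.prod_univ_succ, Fin.sum_univ_succ,
      Groth.Agent.H39.IntersectionLength.length_quotient_mul_add (h 0) g _ (hrel 0),
      ih (fun j => h j.succ) g (fun j => hrel j.succ)]

/-- sum over ordered pairs `i < j` in `Fin (n+1)`. -/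
theorem sum_lt_succ {M : Type*} [AddCommMonoid M] {n : ℕ} (L : Fin (n + 1) → Fin (n + 1) → M) :
    ∑ p ∈ (Finset.univ : Finset (Fin (n + 1) × Fin (n + 1))) with p.1 < p.2, L p.1 p.2 =
      ∑ j : Fin n, L 0 j.succ +
        ∑ p ∈ (Finset.univ : Finset (Fin n × Fin n)) with p.1 < p.2, L p.1.succ p.2.succ := by
  rw [Finset.sum_filter, Finset.sum_filter, ← Finset.univ_product_univ, Finset.sum_product,
    ← Finset.univ_product_univ, Finset.sum_product, Fin.sum_univ_succ]
  congr 1
  · rw [Fin.sum_univ_succ]
    simp [Fin.succ_pos]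
  · apply Finset.sum_congr rfl
    intro i _
    rw [Fin.sum_univ_succ]
    simp [Fin.succ_lt_succ_iff]

/-- the length of the cokernel of the diagonal. -/
theorem length_coker : ∀ {n : ℕ} (f : Fin n → A), (∀ i j, i ≠ j → IsRelPrime (f i) (f j)) →
    Module.length A (((i : Fin n) → A ⧸ Ideal.span {f i}) ⧸ LinearMap.range (D f)) =
      ∑ p ∈ (Finset.univ : Finset (Fin n × Fin n)) with p.1 < p.2,
        Module.length A (A ⧸ Ideal.span ({f p.1, f p.2} : Set A)) := by
  intro n
  induction n with
  | zero =>
    intro f _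
    rw [Module.length_eq_zero_iff.mpr inferInstance]
    symm
    apply Finset.sum_eq_zero
    intro p _
    exact p.1.elim0
  | succ n ih =>
    intro f hcop
    have hdiv : ∀ a : A, (∀ i : Fin n, f i.succ ∣ a) → (∏ i : Fin n, f i.succ) ∣ a := by
      intro a ha
      apply Fintype.prod_dvd_of_isRelPrime _ ha
      intro i j hij
      exact hcop i.succ j.succ (fun e => hij (Fin.succ_injective _ e))
    rw [length_coker_succ f hdiv, ih (fun i => f i.succ)
      (fun i j hij => hcop i.succ j.succ (fun e => hij (Fin.succ_injective _ e))),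
      sum_lt_succ (fun i j => Module.length A (A ⧸ Ideal.span ({f i, f j} : Set A)))]
    congr 1
    rw [Set.pair_comm, length_prod (fun j => f j.succ) (f 0)
      (fun j => hcop j.succ 0 (Fin.succ_ne_zero j))]
    apply Finset.sum_congr rfl
    intro j _
    rw [Set.pair_comm]

end Groth.Agent.H95.CokerLen
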