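import Mathlib

set_option autoImplicit false
set_option backward.isDefEq.respectTransparency.types false

universe w u

namespace Groth.Agent.H95.ColimFpqc

open AlgebraicGeometry CategoryTheory Limits

variable {J : Type u} [SmallCategory J] (D : J ⥤ Scheme.{u}) (c : Cocone D)

/-- The base-changed diagram. -/
noncomputable abbrev G {W' : Scheme.{u}} (f : W' ⟶ c.pt) : J ⥤ Over W' :=
  D.toOver c.pt (fun j => c.ι.app j) (fun g => c.w g) ⋙ Over.pullback f

/-- The base-changed cocone. -/
noncomputable abbrev pc {W' : Scheme.{u}} (f : W' ⟶ c.pt) :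
    Cocone (G D c f ⋙ Over.forget W') :=
  (Over.forgetCocone W').whisker (G D c f)

/-- Cocone over the base-changed diagram induced by a cocone over `D`. -/
noncomputable def pulledCocone {W' : Scheme.{u}} (f : W' ⟶ c.pt) (s : Cocone D) :
    Cocone (G D c f ⋙ Over.forget W') where
  pt := s.pt
  ι :=
    { app := fun j => pullback.fst (c.ι.app j) f ≫ s.ι.app j
      naturality := by
        intro j j' g
        have h1 : (G D c f ⋙ Over.forget W').map g ≫ pullback.fst (c.ι.app j') f =
            pullback.fst (c.ι.app j) f ≫ D.map g := by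
          simp only [Functor.comp_map, Over.forget_map, Over.pullback_map_left]
          exact pullback.lift_fst _ _ _
        simp only [Functor.const_obj_obj, Functor.const_obj_map, Category.comp_id]
        have h2 : (G D c f ⋙ Over.forget W').map g ≫ pullback.fst (c.ι.app j') f ≫ s.ι.app j' =
            ((G D c f ⋙ Over.forget W').map g ≫ pullback.fst (c.ι.app j') f) ≫ s.ι.app j' :=
          (Category.assoc _ _ _).symm
        refine h2.trans ?_
        rw [h1]
        exact (Category.assoc _ _ _).trans (by rw [s.w]) }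

lemma pc_ι_app {W' : Scheme.{u}} (f : W' ⟶ c.pt) (j : J) :
    (pc D c f).ι.app j = pullback.snd (c.ι.app j) f := by
  simp [pc]
  rfl

/-- the descended map. -/
noncomputable def desc {W' : Scheme.{u}} (f : W' ⟶ c.pt) (hc : IsColimit (pc D c f))
    (s : Cocone D) : W' ⟶ s.pt :=
  hc.desc (pulledCocone D c f s)

lemma snd_desc {W' : Scheme.{u}} (f : W' ⟶ c.pt) (hc : IsColimit (pc D c f))
    (s : Cocone D) (j : J) :
    pullback.snd (c.ι.app j) f ≫ desc D c f hc s = pullback.fst (c.ι.app j) f ≫ s.ι.app j := by
  have := hc.fac (pulledCocone D c f s) j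
  rw [pc_ι_app] at this
  exact this

lemma desc_uniq {W' : Scheme.{u}} (f : W' ⟶ c.pt) (hc : IsColimit (pc D c f))
    (s : Cocone D) (m : W' ⟶ s.pt)
    (hm : ∀ j, pullback.snd (c.ι.app j) f ≫ m = pullback.fst (c.ι.app j) f ≫ s.ι.app j) :
    m = desc D c f hc s := by
  refine hc.uniq (pulledCocone D c f s) m ?_
  intro j
  rw [pc_ι_app]
  exact hm j

lemma desc_comp {W' W'' : Scheme.{u}} (f : W' ⟶ c.pt) (q : W'' ⟶ W') (p : W'' ⟶ c.pt)
    (hp : q ≫ f = p) (hc : IsColimit (pc D c f)) (s : Cocone D) (j : J) :
    pullback.snd (c.ι.app j) p ≫ q ≫ desc D c f hc s =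
      pullback.fst (c.ι.app j) p ≫ s.ι.app j := by
  subst hp
  have h1 : pullback.snd (c.ι.app j) (q ≫ f) ≫ q =
      pullback.lift (pullback.fst (c.ι.app j) (q ≫ f)) (pullback.snd (c.ι.app j) (q ≫ f) ≫ q)
        (by rw [pullback.condition, Category.assoc]) ≫ pullback.snd (c.ι.app j) f := by
    rw [pullback.lift_snd]
  rw [← Category.assoc, h1, Category.assoc, snd_desc, ← Category.assoc, pullback.lift_fst]

/-- representable presheaves are sheaves for fpqc covering families. -/
lemma yoneda_isSheafFor {S : Scheme.{u}} (R : Presieve S) (hR : R ∈ Scheme.fpqcPrecoverage S)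
    (T : Scheme.{u}) : Presieve.IsSheafFor (yoneda.obj T) R := by
  have h1 : Presieve.IsSheaf Scheme.fpqcTopology (yoneda.obj T) :=
    GrothendieckTopology.Subcanonical.isSheaf_of_isRepresentable _
  rw [Presieve.isSheafFor_iff_generate]
  exact h1 _ (Precoverage.generate_mem_toGrothendieck hR)

theorem main (F : PreZeroHypercover.{w} c.pt) (hF : F.presieve₀ ∈ Scheme.fpqcPrecoverage c.pt)
    (h1 : ∀ a : F.I₀, Nonempty (IsColimit ((Over.forgetCocone (F.X a)).whisker
      (D.toOver c.pt (fun j => c.ι.app j) (fun g => c.w g) ⋙ Over.pullback (F.f a)))))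
    (h2 : ∀ a b : F.I₀, Nonempty (IsColimit ((Over.forgetCocone (pullback (F.f a) (F.f b))).whisker
      (D.toOver c.pt (fun j => c.ι.app j) (fun g => c.w g) ⋙
        Over.pullback (pullback.fst (F.f a) (F.f b) ≫ F.f a))))) :
    Nonempty (IsColimit c) := by
  have key : ∀ s : Cocone D, ∃! m : c.pt ⟶ s.pt, ∀ j, c.ι.app j ≫ m = s.ι.app j := by
    intro s
    -- local descents
    let ha : ∀ a, F.X a ⟶ s.pt := fun a => desc D c (F.f a) (h1 a).some s
    -- compatibility
    have hcompat : ∀ a b, pullback.fst (F.f a) (F.f b) ≫ ha a =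
        pullback.snd (F.f a) (F.f b) ≫ ha b := by
      intro a b
      have e1 := desc_uniq D c _ (h2 a b).some s (pullback.fst (F.f a) (F.f b) ≫ ha a)
        (fun j => desc_comp D c (F.f a) (pullback.fst (F.f a) (F.f b)) _ rfl (h1 a).some s j)
      have e2 := desc_uniq D c _ (h2 a b).some s (pullback.snd (F.f a) (F.f b) ≫ ha b)
        (fun j => desc_comp D c (F.f b) (pullback.snd (F.f a) (F.f b)) _
          pullback.condition.symm (h1 b).some s j)
      rw [e1, e2]
    -- glue
    have hsheaf := yoneda_isSheafFor F.presieve₀ hF s.pt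
    have hsheaf' := hsheaf
    rw [Presieve.isSheafFor_arrows_iff_pullbacks] at hsheaf'
    obtain ⟨h, hh, huniq⟩ := hsheaf' ha (fun a b => hcompat a b)
    replace hh : ∀ a, F.f a ≫ h = ha a := hh
    refine ⟨h, ?_, ?_⟩
    · intro j
      -- separatedness for the base-changed cover of `D.obj j`
      have hcov : Presieve.ofArrows (fun a => pullback (c.ι.app j) (F.f a))
          (fun a => pullback.fst (c.ι.app j) (F.f a)) ∈ Scheme.fpqcPrecoverage (D.obj j) :=
        Precoverage.mem_coverings_of_isPullback F.f hF (c.ι.app j) _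
          (fun a => pullback.snd (c.ι.app j) (F.f a)) (fun a => IsPullback.of_hasPullback _ _)
      have hsep := (yoneda_isSheafFor _ hcov s.pt).isSeparatedFor
      refine hsep.ext ?_
      rintro Y f ⟨a⟩
      change pullback.fst (c.ι.app j) (F.f a) ≫ c.ι.app j ≫ h =
        pullback.fst (c.ι.app j) (F.f a) ≫ s.ι.app j
      rw [← Category.assoc, pullback.condition, Category.assoc, hh a]
      exact snd_desc D c (F.f a) (h1 a).some s j
    · intro m hm
      refine huniq m ?_
      intro a
      change F.f a ≫ m = ha a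
      refine desc_uniq D c (F.f a) (h1 a).some s _ ?_
      intro j
      rw [← Category.assoc, ← pullback.condition, Category.assoc, hm j]
  refine ⟨IsColimit.ofExistsUnique key⟩

end Groth.Agent.H95.ColimFpqc
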