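import Mathlib

open IntermediateField

namespace Groth.Agent.H95.CommonExt

universe u v w

theorem exists_algHom_of_algebraicIndependent (L : Type u) (F : Type v) (Ω : Type w)
    [Field L] [Field F] [Field Ω]
    [Algebra L F] [Algebra L Ω] [IsAlgClosed Ω] {s : Set F}
    (hs : IsTranscendenceBasis L ((↑) : s → F)) (y : s → Ω) (hy : AlgebraicIndependent L y) :
    Nonempty (F →ₐ[L] Ω) := by
  let E := IntermediateField.adjoin L (Set.range ((↑) : s → F))
  let E' := IntermediateField.adjoin L (Set.range y)
  let e : E ≃ₐ[L] E' := hs.1.aevalEquivField.symm.trans hy.aevalEquivField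
  let φ : E →ₐ[L] Ω := E'.val.comp e.toAlgHom
  have halg : Algebra.IsAlgebraic E F := hs.isAlgebraic_field
  let _ : Algebra E Ω := φ.toRingHom.toAlgebra
  have : IsScalarTower L E Ω := IsScalarTower.of_algebraMap_eq (fun x => (φ.commutes x).symm)
  let ψ : F →ₐ[E] Ω := IsAlgClosed.lift
  exact ⟨ψ.restrictScalars L⟩

theorem common_extension (k : Type u) [Field k] (I : Type u) (L : I → Type u)
    [∀ i, Field (L i)] [∀ i, Algebra k (L i)] :
    ∃ (Ω : Type u) (_ : Field Ω) (_ : Algebra k Ω), ∀ i, Nonempty (L i →ₐ[k] Ω) := by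
  choose B hB using fun i => exists_isTranscendenceBasis k (L i)
  let J := Σ i, B i
  let Q := FractionRing (MvPolynomial J k)
  let Ω := AlgebraicClosure Q
  let X' : J → Ω := fun j => algebraMap Q Ω (algebraMap (MvPolynomial J k) Q (MvPolynomial.X j))
  have hX' : AlgebraicIndependent k X' := by
    have h1 : AlgebraicIndependent k (MvPolynomial.X : J → MvPolynomial J k) :=
      MvPolynomial.algebraicIndependent_X J k
    have h2 := h1.map' (f := (IsScalarTower.toAlgHom k (MvPolynomial J k) Q))
      (IsFractionRing.injective (MvPolynomial J k) Q)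
    have h3 := h2.map' (f := (IsScalarTower.toAlgHom k Q Ω)) (algebraMap Q Ω).injective
    exact h3
  refine ⟨Ω, inferInstance, inferInstance, fun i => ?_⟩
  have hy : AlgebraicIndependent k (fun b : B i => X' ⟨i, b⟩) :=
    hX'.comp (fun b : B i => (⟨i, b⟩ : J)) (fun a b h => by
      have := Sigma.mk.inj h
      exact eq_of_heq this.2)
  exact exists_algHom_of_algebraicIndependent k (L i) Ω (hB i) _ hy

end Groth.Agent.H95.CommonExt
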