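import Mathlib
import Groth.Agent.H95.CommonExt0

open AlgebraicGeometry CategoryTheory

namespace Groth.Agent.H95.CommonExt

universe u

theorem surjective_of_isLimit_fan {S : Scheme.{u}} {I : Type u} (T : I → Over S)
    (hT : ∀ i, Surjective (T i).hom) (c : Limits.Fan T) (hc : Limits.IsLimit c) :
    Surjective c.pt.hom := by
  refine ⟨fun s => ?_⟩
  choose t ht using fun i => (hT i).surj s
  -- the residue fields
  let a : ∀ i, S.residueField s ⟶ (T i).left.residueField (t i) := fun i =>
    (S.residueFieldCongr (ht i).symm).hom ≫ (T i).hom.residueFieldMap (t i)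
  let _ : ∀ i, Algebra (S.residueField s) ((T i).left.residueField (t i)) :=
    fun i => (a i).hom.toAlgebra
  obtain ⟨Ω, _, _, hσ⟩ := common_extension (S.residueField s) I
    (fun i => (T i).left.residueField (t i))
  have hσ' : ∀ i, ∃ σ' : (T i).left.residueField (t i) ⟶ CommRingCat.of Ω,
      a i ≫ σ' = CommRingCat.ofHom (algebraMap (S.residueField s) Ω) := fun i =>
    ⟨CommRingCat.ofHom (hσ i).some.toRingHom, by
      ext x
      exact (hσ i).some.commutes x⟩
  choose σ' hσ'' using hσ'
  let q : Spec (.of Ω) ⟶ S :=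
    Spec.map (CommRingCat.ofHom (algebraMap (S.residueField s) Ω)) ≫ S.fromSpecResidueField s
  let leg : ∀ i, Spec (.of Ω) ⟶ (T i).left := fun i =>
    Spec.map (σ' i) ≫ (T i).left.fromSpecResidueField (t i)
  have compat : ∀ i, leg i ≫ (T i).hom = q := by
    intro i
    simp only [leg, q]
    rw [Category.assoc, ← Scheme.Hom.SpecMap_residueFieldMap_fromSpecResidueField,
      ← Scheme.residueFieldCongr_fromSpecResidueField (ht i).symm, ← hσ'' i]
    simp only [a]
    rw [Spec.map_comp, Spec.map_comp, Category.assoc, Category.assoc]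
  let fan : Limits.Fan T := Limits.Fan.mk (Over.mk q) (fun i => Over.homMk (leg i) (compat i))
  let l := hc.lift fan
  have hl : l.left ≫ c.pt.hom = q := Over.w l
  refine ⟨l.left (IsLocalRing.closedPoint Ω), ?_⟩
  have h1 : c.pt.hom (l.left (IsLocalRing.closedPoint Ω)) =
      (l.left ≫ c.pt.hom) (IsLocalRing.closedPoint Ω) := rfl
  rw [h1, hl]
  have h2 : q (IsLocalRing.closedPoint Ω) = S.fromSpecResidueField s
      ((Spec.map (CommRingCat.ofHom (algebraMap (S.residueField s) Ω)))
        (IsLocalRing.closedPoint Ω)) := rfl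
  rw [h2, Scheme.fromSpecResidueField_apply]

end Groth.Agent.H95.CommonExt
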