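import Mathlib

set_option linter.unusedSectionVars false

namespace Groth.Agent.H95.Curvilinear

open Polynomial Module

universe u
variable (k : Type u) [Field k] (n : ℕ)

/-- the truncated polynomial ring -/
abbrev Bn : Type u := Polynomial k ⧸ Ideal.span {(X : Polynomial k) ^ n}

/-- class of `X` -/
noncomputable abbrev tt : Bn k n := Ideal.Quotient.mk _ (X : Polynomial k)

theorem tt_pow_n : (tt k n) ^ n = 0 := by
  rw [← map_pow, Ideal.Quotient.eq_zero_iff_mem]
  exact Ideal.mem_span_singleton_self _

theorem tt_nilp : IsNilpotent (tt k n) := ⟨n, tt_pow_n k n⟩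

theorem tt_pow_eq_zero {j : ℕ} (h : (tt k n) ^ j = 0) : n ≤ j := by
  rw [← map_pow, Ideal.Quotient.eq_zero_iff_mem, Ideal.mem_span_singleton] at h
  by_contra hlt
  push Not at hlt
  have h1 := Polynomial.natDegree_le_of_dvd h (pow_ne_zero _ X_ne_zero)
  simp only [natDegree_X_pow] at h1
  omega

theorem finrank_Bn (hn : 0 < n) : finrank k (Bn k n) = n := by
  have hm : (X ^ n : Polynomial k).Monic := monic_X_pow n
  have := (AdjoinRoot.powerBasis' hm).finrank
  rw [AdjoinRoot.powerBasis'_dim, natDegree_X_pow] at this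
  exact this

instance finite_Bn : Module.Finite k (Bn k n) := by
  have hm : (X ^ n : Polynomial k).Monic := monic_X_pow n
  exact (AdjoinRoot.powerBasis' hm).finite

theorem unit_or_mem (b : Bn k n) : IsUnit b ∨ b ∈ Ideal.span {tt k n} := by
  obtain ⟨p, rfl⟩ := Ideal.Quotient.mk_surjective b
  by_cases h0 : p.coeff 0 = 0
  · right
    rw [Ideal.mem_span_singleton]
    refine ⟨Ideal.Quotient.mk _ p.divX, ?_⟩
    rw [← map_mul]
    congr 1
    have := Polynomial.X_mul_divX_add p
    rw [h0, map_zero, add_zero] at this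
    exact this.symm
  · left
    have hp : p = C (p.coeff 0) + X * p.divX := by
      rw [add_comm]
      exact (Polynomial.X_mul_divX_add p).symm
    rw [hp, map_add, map_mul]
    refine IsNilpotent.isUnit_add_left_of_commute ?_ ?_ (Commute.all _ _)
    · exact (Commute.all _ _).isNilpotent_mul_right (tt_nilp k n)
    · exact (isUnit_C.2 (isUnit_iff_ne_zero.2 h0)).map _

theorem le_of_pow_mem {r e : ℕ} (hr : r < n) (h : (tt k n) ^ r ∈ Ideal.span {(tt k n) ^ e}) :
    e ≤ r := by
  by_contra hlt
  push Not at hlt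
  rw [Ideal.mem_span_singleton] at h
  obtain ⟨c, hc⟩ := h
  have he : (tt k n) ^ e = (tt k n) ^ r * (tt k n) ^ (e - r) := by
    rw [← pow_add]
    congr 1
    omega
  have h1 : (tt k n) ^ r * (1 - (tt k n) ^ (e - r) * c) = 0 := by
    rw [mul_sub, mul_one, ← mul_assoc, ← he, ← hc, sub_self]
  have h2 : IsUnit (1 - (tt k n) ^ (e - r) * c) := by
    refine IsNilpotent.isUnit_one_sub ?_
    refine (Commute.all _ _).isNilpotent_mul_right ?_
    exact (tt_nilp k n).pow_of_pos (by omega)
  have h3 : (tt k n) ^ r = 0 := by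
    have := congrArg (· * ((h2.unit⁻¹ : (Bn k n)ˣ) : Bn k n)) h1
    simpa [mul_assoc] using this
  have := tt_pow_eq_zero k n h3
  omega


theorem equiv_of_nilpotent_gen (Cc : Type*) [CommRing Cc] [Algebra k Cc] (d : ℕ) (hd : 0 < d)
    (hC : finrank k Cc = d) (s : Cc) (hs : s ^ d = 0) (hs' : s ^ (d - 1) ≠ 0) :
    Nonempty (Cc ≃ₐ[k] Bn k d) := by
  have hfin : Module.Finite k Cc := Module.finite_of_finrank_pos (by omega)
  have hsn : IsNilpotent s := ⟨d, hs⟩
  have hker : ∀ p : Polynomial k, p ∈ Ideal.span {(X : Polynomial k) ^ d} → aeval s p = 0 := by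
    intro p hp
    rw [Ideal.mem_span_singleton] at hp
    obtain ⟨q, rfl⟩ := hp
    rw [map_mul, map_pow, aeval_X, hs, zero_mul]
  let φ : Bn k d →ₐ[k] Cc := Ideal.Quotient.liftₐ (Ideal.span {(X : Polynomial k) ^ d}) (aeval s) hker
  have hφ : ∀ p : Polynomial k, φ (Ideal.Quotient.mk _ p) = aeval s p := fun p => rfl
  have hinj : Function.Injective φ := by
    rw [injective_iff_map_eq_zero]
    intro b hb
    obtain ⟨p, rfl⟩ := Ideal.Quotient.mk_surjective b
    rw [hφ] at hb
    rw [Ideal.Quotient.eq_zero_iff_mem, Ideal.mem_span_singleton]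
    by_cases hp0 : p = 0
    · rw [hp0]; exact dvd_zero _
    obtain ⟨q, hq, hndvd⟩ := Polynomial.exists_eq_pow_rootMultiplicity_mul_and_not_dvd p hp0 0
    rw [C_0, sub_zero] at hq hndvd
    set j := rootMultiplicity 0 p with hj
    have hq0 : q.coeff 0 ≠ 0 := fun h => hndvd (Polynomial.X_dvd_iff.2 h)
    have hqu : IsUnit (aeval s q) := by
      have hq' : q = C (q.coeff 0) + X * q.divX := by
        rw [add_comm]
        exact (Polynomial.X_mul_divX_add q).symm
      rw [hq', map_add, map_mul, aeval_X, aeval_C]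
      refine IsNilpotent.isUnit_add_left_of_commute ?_ ?_ (Commute.all _ _)
      · exact (Commute.all _ _).isNilpotent_mul_right hsn
      · exact (isUnit_iff_ne_zero.2 hq0).map _
    have hsj : s ^ j = 0 := by
      rw [hq, map_mul, map_pow, aeval_X] at hb
      have := congrArg (· * ((hqu.unit⁻¹ : Ccˣ) : Cc)) hb
      simpa [mul_assoc] using this
    have hjd : d ≤ j := by
      by_contra hlt
      push Not at hlt
      apply hs'
      have : d - 1 = j + (d - 1 - j) := by omega
      rw [this, pow_add, hsj, zero_mul]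
    rw [hq]
    exact Dvd.dvd.mul_right (pow_dvd_pow _ hjd) _
  have hsurj : Function.Surjective φ := by
    have hfr : finrank k (Bn k d) = finrank k Cc := by rw [finrank_Bn k d hd, hC]
    exact (LinearMap.injective_iff_surjective_of_finrank_eq_finrank (f := φ.toLinearMap) hfr).1 hinj
  exact ⟨(AlgEquiv.ofBijective φ ⟨hinj, hsurj⟩).symm⟩


theorem pow_finrank_eq_zero_of_isNilpotent (Cc : Type*) [CommRing Cc] [Algebra k Cc]
    [Module.Finite k Cc] (s : Cc) (hs : IsNilpotent s) : s ^ finrank k Cc = 0 := by
  have h1 : IsNilpotent (Algebra.lmul k Cc s) := hs.map (Algebra.lmul k Cc)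
  have h2 := IsNilpotent.charpoly_eq_X_pow_finrank h1
  have h3 := LinearMap.aeval_self_charpoly (Algebra.lmul k Cc s)
  rw [h2, map_pow, aeval_X, ← map_pow] at h3
  have h4 := congrArg (fun f : Module.End k Cc => f 1) h3
  simpa using h4

section main
variable {k n}
variable (A : Subalgebra k (Bn k n))

theorem isUnit_of_isUnit_coe (a : A) (h : IsUnit (a : Bn k n)) : IsUnit a := by
  have hfin : Module.Finite k A := Module.Finite.of_injective A.val.toLinearMap Subtype.val_injective
  have hinj : Function.Injective (LinearMap.mulLeft k a) := by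
    rw [injective_iff_map_eq_zero]
    intro x hx
    have h1 : (a : Bn k n) * (x : Bn k n) = 0 := by
      have := congrArg (Subtype.val) hx
      simpa using this
    have h2 : (x : Bn k n) = 0 := by
      have := congrArg (((h.unit⁻¹ : (Bn k n)ˣ) : Bn k n) * ·) h1
      simpa [← mul_assoc] using this
    exact Subtype.ext h2
  obtain ⟨a', ha'⟩ := LinearMap.surjective_of_injective hinj 1
  exact IsUnit.of_mul_eq_one a' ha'

theorem isNilpotent_of_mem_span {b : Bn k n} (h : b ∈ Ideal.span {tt k n}) : IsNilpotent b := by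
  rw [Ideal.mem_span_singleton] at h
  obtain ⟨c, rfl⟩ := h
  exact (Commute.all _ _).isNilpotent_mul_right (tt_nilp k n)

theorem isLocalRing_sub (hn : 0 < n) : IsLocalRing A := by
  have hnt : Nontrivial (Bn k n) := by
    apply Module.nontrivial_of_finrank_pos (R := k)
    rw [finrank_Bn k n hn]
    exact hn
  refine IsLocalRing.of_isUnit_or_isUnit_one_sub_self fun a => ?_
  rcases unit_or_mem k n (a : Bn k n) with h | h
  · exact Or.inl (isUnit_of_isUnit_coe A a h)
  · right
    apply isUnit_of_isUnit_coe
    have : ((1 - a : A) : Bn k n) = 1 - (a : Bn k n) := by simp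
    rw [this]
    exact (isNilpotent_of_mem_span h).isUnit_one_sub

theorem coe_mem_span_of_not_isUnit (a : A) (h : ¬ IsUnit a) : (a : Bn k n) ∈ Ideal.span {tt k n} := by
  rcases unit_or_mem k n (a : Bn k n) with h' | h'
  · exact absurd (isUnit_of_isUnit_coe A a h') h
  · exact h'


set_option synthInstance.maxHeartbeats 200000 in
/-- key relation: `t^r` is a combination of lower powers with nilpotent coefficients from `A` -/
theorem pow_rank_eq (hn : 0 < n) [Module.Finite A (Bn k n)] [Module.Free A (Bn k n)] :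
    ∃ c : ℕ → A, (∀ i, IsNilpotent (c i)) ∧
      (tt k n) ^ (finrank A (Bn k n)) =
        - ∑ i ∈ Finset.range (finrank A (Bn k n)), (c i : Bn k n) * (tt k n) ^ i := by
  have hnt : Nontrivial (Bn k n) := by
    apply Module.nontrivial_of_finrank_pos (R := k)
    rw [finrank_Bn k n hn]
    exact hn
  have hntA : Nontrivial A := inferInstance
  set r := finrank A (Bn k n) with hr
  set T : Module.End A (Bn k n) := Algebra.lmul A (Bn k n) (tt k n) with hT
  have hTn : IsNilpotent T := (tt_nilp k n).map (Algebra.lmul A (Bn k n))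
  have hχ : IsNilpotent (T.charpoly - X ^ r) := by
    rw [hr, finrank_eq_card_chooseBasisIndex]
    apply Matrix.isNilpotent_charpoly_sub_pow_of_isNilpotent
    exact hTn.map (LinearMap.toMatrixAlgEquiv (Module.Free.chooseBasis A (Bn k n)))
  have hcoef : ∀ i, i < r → IsNilpotent (T.charpoly.coeff i) := by
    intro i hi
    have := (Polynomial.isNilpotent_iff.1 hχ) i
    rw [coeff_sub, coeff_X_pow, if_neg (by omega), sub_zero] at this
    exact this
  have hdeg : T.charpoly.natDegree = r := LinearMap.charpoly_natDegree T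
  have hmonic : T.charpoly.Monic := LinearMap.charpoly_monic T
  have h0 : aeval (tt k n) T.charpoly = 0 := by
    have h1 : aeval T T.charpoly = 0 := LinearMap.aeval_self_charpoly T
    have h1' : aeval (Algebra.lmul A (Bn k n) (tt k n)) T.charpoly =
        Algebra.lmul A (Bn k n) (aeval (tt k n) T.charpoly) :=
      Polynomial.aeval_algHom_apply (Algebra.lmul A (Bn k n)) (tt k n) T.charpoly
    have h2 : Algebra.lmul A (Bn k n) (aeval (tt k n) T.charpoly) = 0 := h1'.symm.trans h1
    have h3 := LinearMap.congr_fun h2 1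
    simpa using h3
  rw [Polynomial.aeval_eq_sum_range, hdeg, Finset.sum_range_succ] at h0
  have hlead : T.charpoly.coeff r = 1 := by
    rw [← hdeg]
    exact hmonic.coeff_natDegree
  rw [hlead, one_smul] at h0
  refine ⟨fun i => if i < r then T.charpoly.coeff i else 0, ?_, ?_⟩
  · intro i
    dsimp only
    split_ifs with hi
    · exact hcoef i hi
    · exact IsNilpotent.zero
  · rw [eq_neg_iff_add_eq_zero, add_comm]
    rw [← h0]
    congr 1
    refine Finset.sum_congr rfl fun i hi => ?_
    dsimp only
    rw [if_pos (Finset.mem_range.1 hi)]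
    rfl

theorem main (hn : 0 < n) [IsAlgClosed k] [Module.Flat A (Bn k n)] :
    ∃ m : ℕ, Nonempty (A ≃ₐ[k] Bn k m) := by
  classical
  have hnt : Nontrivial (Bn k n) := by
    apply Module.nontrivial_of_finrank_pos (R := k)
    rw [finrank_Bn k n hn]
    exact hn
  have hntA : Nontrivial A := inferInstance
  have hloc : IsLocalRing A := isLocalRing_sub A hn
  have hfinA : Module.Finite k A :=
    Module.Finite.of_injective A.val.toLinearMap Subtype.val_injective
  have hfin : Module.Finite A (Bn k n) := Module.Finite.of_restrictScalars_finite k A (Bn k n)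
  have hfree : Module.Free A (Bn k n) := Module.free_of_flat_of_isLocalRing
  set r := finrank A (Bn k n) with hr
  set d := finrank k A with hd
  have hmul : d * r = n := by
    rw [hd, hr, Module.finrank_mul_finrank k A (Bn k n), finrank_Bn k n hn]
  have hdpos : 0 < d := Module.finrank_pos
  have hrpos : 0 < r := by
    rcases Nat.eq_zero_or_pos r with h | h
    · rw [h, mul_zero] at hmul
      omega
    · exact h
  refine ⟨d, ?_⟩
  by_cases hd1 : d = 1
  · refine equiv_of_nilpotent_gen k A d hdpos rfl 0 ?_ ?_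
    · rw [hd1]; simp
    · rw [hd1]; simp
  have hd2 : 2 ≤ d := by omega
  have hrn : r < n := by
    calc r < 2 * r := by omega
      _ ≤ d * r := Nat.mul_le_mul_right r hd2
      _ = n := hmul
  -- the minimal order
  let P : ℕ → Prop := fun e => ∀ a : A, ¬ IsUnit a → (a : Bn k n) ∈ Ideal.span {(tt k n) ^ e}
  have hP0 : P 0 := by
    intro a _
    simp
  set e := Nat.findGreatest P n with he
  have hPe : P e := Nat.findGreatest_spec (Nat.zero_le n) hP0
  obtain ⟨c, hcnil, hrel⟩ := pow_rank_eq A hn
  have hmem : (tt k n) ^ r ∈ Ideal.span {(tt k n) ^ e} := by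
    rw [hr, hrel]
    refine Ideal.neg_mem_iff _ |>.2 (Ideal.sum_mem _ fun i _ => ?_)
    refine Ideal.mul_mem_right _ _ (hPe (c i) ?_)
    exact fun hu => hu.not_isNilpotent (hcnil i)
  have her : e ≤ r := le_of_pow_mem k n hrn hmem
  have hen : e < n := lt_of_le_of_lt her hrn
  have hnotP : ¬ P (e + 1) := Nat.findGreatest_is_greatest (Nat.lt_succ_self e) hen
  simp only [P] at hnotP
  push Not at hnotP
  obtain ⟨s, hsnu, hsnot⟩ := hnotP
  have hse := hPe s hsnu
  rw [Ideal.mem_span_singleton] at hse
  obtain ⟨u, hu⟩ := hse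
  have huu : IsUnit u := by
    rcases unit_or_mem k n u with h | h
    · exact h
    · exfalso
      apply hsnot
      rw [Ideal.mem_span_singleton] at h ⊢
      obtain ⟨v, rfl⟩ := h
      exact ⟨v, by rw [hu, pow_succ]; ring⟩
  have hsnil : IsNilpotent s := by
    obtain ⟨m, hm⟩ := isNilpotent_of_mem_span (coe_mem_span_of_not_isUnit A s hsnu)
    refine ⟨m, Subtype.ext ?_⟩
    simpa using hm
  refine equiv_of_nilpotent_gen k A d hdpos rfl s ?_ ?_
  · exact pow_finrank_eq_zero_of_isNilpotent k A s hsnil
  · intro h0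
    have h1 : ((s : Bn k n)) ^ (d - 1) = 0 := by
      have := congrArg (Subtype.val) h0
      simpa using this
    rw [hu, mul_pow, ← pow_mul] at h1
    have h2 : (tt k n) ^ (e * (d - 1)) = 0 := by
      have hup : IsUnit (u ^ (d - 1)) := huu.pow _
      have := congrArg (· * ((hup.unit⁻¹ : (Bn k n)ˣ) : Bn k n)) h1
      simpa [mul_assoc] using this
    have h3 := tt_pow_eq_zero k n h2
    have h4 : e * (d - 1) ≤ r * (d - 1) := Nat.mul_le_mul_right _ her
    have h5 : r * (d - 1) + r = n := by
      have : r * (d - 1) + r = r * d := by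
        have hd' : d = (d - 1) + 1 := by omega
        nth_rewrite 2 [hd']
        rw [mul_add, mul_one]
      rw [this, mul_comm]
      exact hmul
    omega

end main

end Groth.Agent.H95.Curvilinear
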