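import Groth.Agent.H95.DPUniv

set_option autoImplicit false
universe u v w

namespace Groth.Agent.H95.DPEnv

open Groth.Agent.H95.DPc.DPModel Groth.Agent.H95.DPEval

section evalC
variable {R : Type u} [CommRing R] {ι : Type w} {P : Type v} [CommRing P] [Algebra R P]
  (D : Datum R ι P)

theorem exists_dpEvalHom' {C : Type*} [CommRing C] [Algebra R C] {K : Ideal C}
    (ε : DividedPowers K) (k : ι → C) (hk : ∀ i, k i ∈ K) :
    ∃ φ : P →ₐ[R] C, (∀ i n, φ (D.x i n) = ε.dpow n (k i)) ∧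
      D.dp.IsDPMorphism ε φ.toRingHom := by
  obtain ⟨φ, hφx, hφb⟩ := exists_evalHom D (fun i n => ε.dpow n (k i))
    (fun i => ε.dpow_zero (hk i))
    (fun i n m => by
      have := ε.mul_dpow (m := n) (n := m) (hk i)
      rw [this])
  refine ⟨φ, hφx, ?_⟩
  refine DividedPowers.IsDPMorphism.on_span D.dp ε
    (S := {y : P | ∃ (i : ι) (n : ℕ), 1 ≤ n ∧ y = D.x i n}) rfl ?_ ?_
  · rintro _ ⟨i, n, hn, rfl⟩
    change φ (D.x i n) ∈ K
    rw [hφx]
    exact ε.dpow_mem (by omega) (hk i)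
  · rintro m _ ⟨i, n, hn, rfl⟩
    have hn0 : n ≠ 0 := by omega
    change φ (D.dp.dpow m (D.x i n)) = ε.dpow m (φ (D.x i n))
    rw [D.dp_x' i n m hn0, map_mul, map_natCast, hφx, hφx, ε.dpow_comp hn0 (hk i)]

/-- ring homomorphisms out of `P` agreeing on `R` and on the `x i n` are equal -/
theorem ringHom_ext {C : Type*} [CommRing C] (φ φ' : P →+* C)
    (h1 : ∀ r, φ (algebraMap R P r) = φ' (algebraMap R P r))
    (h2 : ∀ i n, φ (D.x i n) = φ' (D.x i n)) : φ = φ' := by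
  ext p
  rw [← D.b.linearCombination_repr p, Finsupp.linearCombination_apply, Finsupp.sum,
    map_sum, map_sum]
  refine Finset.sum_congr rfl fun e _ => ?_
  rw [Algebra.smul_def, map_mul, map_mul, h1, D.b_eq, map_finsuppProd, map_finsuppProd]
  congr 1
  exact Finsupp.prod_congr fun i _ => h2 i _

end evalC

section env
variable {A B : Type u} [CommRing A] [CommRing B] [Algebra A B] {I : Ideal A}
  (γ : DividedPowers I) (J : Ideal B) (hIJ : I.map (algebraMap A B) ≤ J)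

/-- the divided power polynomial algebra over `B` on variables indexed by `J` -/
noncomputable abbrev DD : Datum B ↥J (Model B ↥J) := modelDatum B ↥J

/-- the relations defining the envelope -/
def rels : Set (Model B ↥J) :=
  {z | ∃ t : ↥J, z = (DD J).x t 1 - algebraMap B (Model B ↥J) (t : B)} ∪
  {z | ∃ (y : A) (hy : y ∈ I) (n : ℕ),
    z = (DD J).x ⟨algebraMap A B y, hIJ (Ideal.mem_map_of_mem _ hy)⟩ n -
      algebraMap B (Model B ↥J) (algebraMap A B (γ.dpow n y))}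

/-- the smallest ideal containing the relations whose trace on the augmentation ideal is a
sub-dp-ideal -/
noncomputable def relIdeal : Ideal (Model B ↥J) :=
  sInf {K | rels γ J hIJ ⊆ K ∧ (DD J).dp.IsSubDPIdeal (K ⊓ (DD J).aug)}

theorem rels_subset : rels γ J hIJ ⊆ relIdeal γ J hIJ := by
  intro z hz
  refine Submodule.mem_sInf.mpr ?_
  rintro K ⟨hK1, -⟩
  exact hK1 hz

theorem relIdeal_sub : (DD J).dp.IsSubDPIdeal (relIdeal γ J hIJ ⊓ (DD J).aug) := by
  refine ⟨inf_le_right, ?_⟩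
  rintro n hn j ⟨hj1, hj2⟩
  refine ⟨?_, (DD J).dp.dpow_mem hn hj2⟩
  refine Submodule.mem_sInf.mpr ?_
  rintro K ⟨hK1, hK2⟩
  have hjK : j ∈ K := Submodule.mem_sInf.mp hj1 K ⟨hK1, hK2⟩
  exact (hK2.dpow_mem n hn ⟨hjK, hj2⟩).1

theorem relIdeal_le (K : Ideal (Model B ↥J)) (h1 : rels γ J hIJ ⊆ K)
    (h2 : (DD J).dp.IsSubDPIdeal (K ⊓ (DD J).aug)) : relIdeal γ J hIJ ≤ K :=
  sInf_le ⟨h1, h2⟩

include hIJ in
theorem exists_envelope :
    ∃ (D : Type u) (_ : CommRing D) (_ : Algebra B D) (JD : Ideal D) (γD : DividedPowers JD),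
      J.map (algebraMap B D) ≤ JD ∧
      γ.IsDPMorphism γD ((algebraMap B D).comp (algebraMap A B)) ∧
      ∀ (C : Type u) [CommRing C] [Algebra A C] (K : Ideal C) (δ : DividedPowers K),
        γ.IsDPMorphism δ (algebraMap A C) →
        ∀ ψ : B →ₐ[A] C, J.map ψ ≤ K →
          ∃! χ : D →+* C, χ.comp (algebraMap B D) = ψ ∧ γD.IsDPMorphism δ χ := by
  classical
  let P := Model B ↥J
  let DJ := DD J
  let f := algebraMap A B
  let rI := relIdeal γ J hIJ
  let q : P →+* P ⧸ rI := Ideal.Quotient.mk rI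
  have hsub := relIdeal_sub γ J hIJ
  let γD : DividedPowers (DJ.aug.map q) := DividedPowers.Quotient.dividedPowers DJ.dp hsub
  have hfJ : ∀ y, y ∈ I → f y ∈ J := fun y hy => hIJ (Ideal.mem_map_of_mem _ hy)
  have hq1 : ∀ t : ↥J, q (algebraMap B P (t : B)) = q (DJ.x t 1) := by
    intro t
    refine (Ideal.Quotient.eq.mpr ?_).symm
    exact rels_subset γ J hIJ (Or.inl ⟨t, rfl⟩)
  have hq2 : ∀ (y : A) (hy : y ∈ I) (n : ℕ),
      q (DJ.x ⟨f y, hfJ y hy⟩ n) = q (algebraMap B P (f (γ.dpow n y))) := by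
    intro y hy n
    refine Ideal.Quotient.eq.mpr ?_
    exact rels_subset γ J hIJ (Or.inr ⟨y, hy, n, rfl⟩)
  have hJmem : ∀ t, t ∈ J → q (algebraMap B P t) ∈ DJ.aug.map q := by
    intro t ht
    rw [hq1 ⟨t, ht⟩]
    exact Ideal.mem_map_of_mem _ (DJ.x_mem_aug _ le_rfl)
  refine ⟨P ⧸ rI, inferInstance, inferInstance, DJ.aug.map q, γD, ?_, ⟨?_, ?_⟩, ?_⟩
  · refine Ideal.map_le_iff_le_comap.mpr fun t ht => ?_
    rw [Ideal.mem_comap]
    exact hJmem t ht
  · refine Ideal.map_le_iff_le_comap.mpr fun y hy => ?_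
    rw [Ideal.mem_comap]
    exact hJmem (f y) (hfJ y hy)
  · intro n y hy
    change γD.dpow n (q (algebraMap B P (f y))) = q (algebraMap B P (f (γ.dpow n y)))
    rw [hq1 ⟨f y, hfJ y hy⟩,
      DividedPowers.Quotient.dpow_apply DJ.dp hsub (DJ.x_mem_aug _ le_rfl), DJ.dp_x, hq2 y hy]
  · intro C _ _ K δ hδ ψ hψ
    let _ : Algebra B C := ψ.toRingHom.toAlgebra
    have halg : ∀ r : B, algebraMap B C r = ψ r := fun r => rfl
    obtain ⟨Φ, hΦx, hΦdp⟩ := exists_dpEvalHom' DJ δ (fun t : ↥J => ψ (t : B))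
      (fun t => hψ (Ideal.mem_map_of_mem _ t.2))
    have hker : rI ≤ RingHom.ker Φ.toRingHom := by
      refine relIdeal_le γ J hIJ _ ?_ (DividedPowers.isSubDPIdeal_ker DJ.dp δ hΦdp)
      rintro z (⟨t, rfl⟩ | ⟨y, hy, n, rfl⟩)
      · rw [SetLike.mem_coe, RingHom.mem_ker, map_sub]
        change Φ (DJ.x t 1) - Φ (algebraMap B P (t : B)) = 0
        rw [hΦx, Φ.commutes, halg, δ.dpow_one (hψ (Ideal.mem_map_of_mem _ t.2)), sub_self]
      · rw [SetLike.mem_coe, RingHom.mem_ker, map_sub]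
        change Φ (DJ.x ⟨f y, hfJ y hy⟩ n) - Φ (algebraMap B P (f (γ.dpow n y))) = 0
        rw [hΦx, Φ.commutes, halg]
        change δ.dpow n (ψ (algebraMap A B y)) - ψ (algebraMap A B (γ.dpow n y)) = 0
        rw [AlgHom.commutes, AlgHom.commutes, hδ.2 y hy, sub_self]
    let χ : P ⧸ rI →+* C := Ideal.Quotient.lift rI Φ.toRingHom (fun a ha => hker ha)
    have hχq : ∀ p : P, χ (q p) = Φ p := fun p => Ideal.Quotient.lift_mk _ _ _
    refine ⟨χ, ⟨?_, ⟨?_, ?_⟩⟩, ?_⟩
    · ext r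
      change χ (q (algebraMap B P r)) = ψ r
      rw [hχq, Φ.commutes, halg]
    · refine Ideal.map_le_iff_le_comap.mpr ?_
      refine Ideal.map_le_iff_le_comap.mpr fun p hp => ?_
      rw [Ideal.mem_comap, Ideal.mem_comap, hχq]
      exact hΦdp.1 (Ideal.mem_map_of_mem _ hp)
    · intro n z hz
      obtain ⟨p, hp, rfl⟩ := (Ideal.mem_map_iff_of_surjective q Ideal.Quotient.mk_surjective).mp hz
      rw [DividedPowers.Quotient.dpow_apply DJ.dp hsub hp, hχq, hχq]
      exact hΦdp.2 p hp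
    · rintro χ' ⟨hχ'1, hχ'2⟩
      have hcomp : χ'.comp q = χ.comp q := by
        refine ringHom_ext DJ _ _ ?_ ?_
        · intro r
          change χ' (q (algebraMap B P r)) = χ (q (algebraMap B P r))
          rw [hχq, Φ.commutes, halg]
          exact RingHom.congr_fun hχ'1 r
        · intro t n
          change χ' (q (DJ.x t n)) = χ (q (DJ.x t n))
          rw [hχq, hΦx, ← DJ.dp_x t n,
            ← DividedPowers.Quotient.dpow_apply DJ.dp hsub (DJ.x_mem_aug _ le_rfl)]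
          have h3 := hχ'2.2 (n := n) (q (DJ.x t 1))
            (Ideal.mem_map_of_mem _ (DJ.x_mem_aug _ le_rfl))
          rw [← h3, ← hq1 t]
          congr 1
          exact RingHom.congr_fun hχ'1 (t : B)
      refine RingHom.ext fun z => ?_
      obtain ⟨p, rfl⟩ := Ideal.Quotient.mk_surjective z
      exact RingHom.congr_fun hcomp p

end env

end Groth.Agent.H95.DPEnv
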