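import Groth.Agent.H95.DPGen
import Mathlib.RingTheory.Flat.EquationalCriterion

set_option autoImplicit false
universe u v w

namespace Groth.Agent.H95.DPEval

open Groth.Agent.H95.DPc.DPModel

section evalHom
variable {R : Type u} [CommRing R] {ι : Type w} {P : Type v} [CommRing P] [Algebra R P]
  (D : Datum R ι P) {C : Type*} [CommRing C] [Algebra R C] (y : ι → ℕ → C)

theorem prod_mul_prod' (hy0 : ∀ i, y i 0 = 1)
    (hymul : ∀ i n m, y i n * y i m = ((n + m).choose n : C) * y i (n + m))
    (e e' : ι →₀ ℕ) :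
    (e.prod fun i k => y i k) * (e'.prod fun i k => y i k) =
      (mchoose e e' : C) * ((e + e').prod fun i k => y i k) := by
  classical
  rw [mchoose]
  rw [Finsupp.prod_of_support_subset e Finset.subset_union_left _ (fun i _ => hy0 i),
    Finsupp.prod_of_support_subset e' Finset.subset_union_right _ (fun i _ => hy0 i),
    Finsupp.prod_of_support_subset (e + e') Finsupp.support_add _ (fun i _ => hy0 i),
    Nat.cast_prod, ← Finset.prod_mul_distrib]
  have key : ∀ i ∈ e.support ∪ e'.support, y i (e i) * y i (e' i) =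
      (((e i + e' i).choose (e i) : ℕ) : C) * y i ((e + e') i) := by
    intro i _
    rw [hymul]
    rfl
  rw [Finset.prod_congr rfl key, Finset.prod_mul_distrib]

/-- The evaluation homomorphism out of a divided power polynomial algebra. -/
theorem exists_evalHom (hy0 : ∀ i, y i 0 = 1)
    (hymul : ∀ i n m, y i n * y i m = ((n + m).choose n : C) * y i (n + m)) :
    ∃ φ : P →ₐ[R] C, (∀ i n, φ (D.x i n) = y i n) ∧
      ∀ e : ι →₀ ℕ, φ (D.b e) = e.prod fun i k => y i k := by
  classical
  let φl : P →ₗ[R] C := D.b.constr R (fun e => e.prod fun i k => y i k)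
  have hφl : ∀ e, φl (D.b e) = e.prod fun i k => y i k := fun e => by
    simp only [φl, Module.Basis.constr_basis]
  have hone : φl 1 = 1 := by
    rw [← D.b_zero, hφl, Finsupp.prod_zero_index]
  have hmul : ∀ x z, φl (x * z) = φl x * φl z := by
    have hb : (LinearMap.mul R P).compr₂ φl = (LinearMap.mul R C).compl₁₂ φl φl := by
      refine D.b.ext fun e => D.b.ext fun e' => ?_
      simp only [LinearMap.compr₂_apply, LinearMap.mul_apply', LinearMap.compl₁₂_apply]
      rw [D.b_mul, hφl, hφl, prod_mul_prod' y hy0 hymul, ← nsmul_eq_mul,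
        map_nsmul, hφl, nsmul_eq_mul]
    intro x z
    have := LinearMap.congr_fun (LinearMap.congr_fun hb x) z
    simpa only [LinearMap.compr₂_apply, LinearMap.mul_apply', LinearMap.compl₁₂_apply] using this
  refine ⟨AlgHom.ofLinearMap φl hone hmul, fun i n => ?_, fun e => hφl e⟩
  change φl (D.x i n) = y i n
  rw [← D.b_single, hφl, Finsupp.prod_single_index (hy0 i)]

end evalHom

section dpEval
variable {A : Type u} [CommRing A] {I : Ideal A} (γ : DividedPowers I) {ι : Type w}
  {P : Type v} [CommRing P] [Algebra A P] (D : Datum A ι P)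

/-- Evaluation at elements of a divided power ideal is a divided power morphism. -/
theorem exists_dpEvalHom (a : ι → A) (ha : ∀ i, a i ∈ I) :
    ∃ φ : P →ₐ[A] A, (∀ i n, φ (D.x i n) = γ.dpow n (a i)) ∧
      (∀ e : ι →₀ ℕ, φ (D.b e) = e.prod fun i k => γ.dpow k (a i)) ∧
      D.dp.IsDPMorphism γ φ.toRingHom := by
  obtain ⟨φ, hφx, hφb⟩ := exists_evalHom D (fun i n => γ.dpow n (a i))
    (fun i => γ.dpow_zero (ha i))
    (fun i n m => by
      have := γ.mul_dpow (m := n) (n := m) (ha i)
      rw [this])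
  refine ⟨φ, hφx, hφb, ?_⟩
  refine DividedPowers.IsDPMorphism.on_span D.dp γ
    (S := {y : P | ∃ (i : ι) (n : ℕ), 1 ≤ n ∧ y = D.x i n}) rfl ?_ ?_
  · rintro _ ⟨i, n, hn, rfl⟩
    change φ (D.x i n) ∈ I
    rw [hφx]
    exact γ.dpow_mem (by omega) (ha i)
  · rintro m _ ⟨i, n, hn, rfl⟩
    have hn0 : n ≠ 0 := by omega
    change φ (D.dp.dpow m (D.x i n)) = γ.dpow m (φ (D.x i n))
    rw [D.dp_x' i n m hn0, map_mul, map_natCast, hφx, hφx, γ.dpow_comp hn0 (ha i)]

end dpEval

end Groth.Agent.H95.DPEval
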