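import Groth.Agent.H95.DPEval

set_option autoImplicit false
universe u v w

namespace Groth.Agent.H95.DPFlat

open Groth.Agent.H95.DPc.DPModel Groth.Agent.H95.DPEval TensorProduct

section baseChange
variable (A : Type u) (B : Type v) [CommRing A] [CommRing B] [Algebra A B] (ι : Type w)

/-- base change map between the models -/
noncomputable def psi : Model A ι →+* Model B ι :=
  (Algebra.TensorProduct.map (algebraMap A B).toIntAlgHom (AlgHom.id ℤ (PZ ι))).toRingHom

theorem psi_tmul (r : A) (p : PZ ι) : psi A B ι (r ⊗ₜ p) = algebraMap A B r ⊗ₜ p := by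
  simp [psi]

theorem psi_x (i : ι) (n : ℕ) : psi A B ι ((modelDatum A ι).x i n) = (modelDatum B ι).x i n := by
  simp [modelDatum, psi]

theorem psi_b (e : ι →₀ ℕ) : psi A B ι ((modelDatum A ι).b e) = (modelDatum B ι).b e := by
  simp [modelDatum, psi, Algebra.TensorProduct.basis_apply]

theorem psi_smul (r : A) (p : Model A ι) :
    psi A B ι (r • p) = algebraMap A B r • psi A B ι p := by
  induction p using TensorProduct.induction_on with
  | zero => simp
  | tmul a q =>
    rw [TensorProduct.smul_tmul', psi_tmul, psi_tmul, TensorProduct.smul_tmul', smul_eq_mul,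
      map_mul, smul_eq_mul]
  | add p q hp hq => rw [smul_add, map_add, map_add, smul_add, hp, hq]

theorem psi_isDPMorphism :
    (modelDatum A ι).dp.IsDPMorphism (modelDatum B ι).dp (psi A B ι) := by
  refine DividedPowers.IsDPMorphism.on_span _ _
    (S := {y : Model A ι | ∃ (i : ι) (n : ℕ), 1 ≤ n ∧ y = (modelDatum A ι).x i n}) rfl ?_ ?_
  · rintro _ ⟨i, n, hn, rfl⟩
    rw [psi_x]
    exact (modelDatum B ι).x_mem_aug i hn
  · rintro m _ ⟨i, n, hn, rfl⟩
    have hn0 : n ≠ 0 := by omega
    rw [(modelDatum A ι).dp_x' i n m hn0, map_mul, map_natCast, psi_x, psi_x,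
      (modelDatum B ι).dp_x' i n m hn0]

end baseChange

section main
variable {A : Type u} {B : Type v} [CommRing A] [CommRing B] [Algebra A B] {I : Ideal A}
  (γ : DividedPowers I)

theorem exists_dp_of_flat [Module.Flat A B] :
    ∃ δ : DividedPowers (I.map (algebraMap A B)), γ.IsDPMorphism δ (algebraMap A B) := by
  classical
  let f := algebraMap A B
  let ι := ↥I
  let DA := modelDatum A ι
  let DB := modelDatum B ι
  obtain ⟨φA, hφAx, hφAb, hφAdp⟩ := exists_dpEvalHom γ DA (fun i : ι => (i : A)) (fun i => i.2)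
  obtain ⟨φB, hφBx, hφBb⟩ := exists_evalHom DB (fun (i : ι) n => f (γ.dpow n (i : A)))
    (fun i => by rw [γ.dpow_zero i.2, map_one])
    (fun i n m => by
      rw [← map_mul, γ.mul_dpow i.2, map_mul, map_natCast])
  let ψ := psi A B ι
  -- compatibility of evaluations
  have hg : ∀ e : ι →₀ ℕ, φB (DB.b e) = f (φA (DA.b e)) := by
    intro e
    rw [hφBb, hφAb, map_finsuppProd]
  have hcomp : ∀ p : Model A ι, φB (ψ p) = f (φA p) := by
    intro p
    rw [← DA.b.linearCombination_repr p, Finsupp.linearCombination_apply, Finsupp.sum,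
      map_sum, map_sum, map_sum, map_sum]
    refine Finset.sum_congr rfl fun e _ => ?_
    rw [psi_smul, map_smul, map_smul, smul_eq_mul, smul_eq_mul, map_mul, psi_b, hg]
  -- the kernel over `A`
  have hKA : DA.dp.IsSubDPIdeal (RingHom.ker φA.toRingHom ⊓ DA.aug) :=
    DividedPowers.isSubDPIdeal_ker DA.dp γ hφAdp
  have hψdp := psi_isDPMorphism A B ι
  let S : Set (Model B ι) := ψ '' ((RingHom.ker φA.toRingHom ⊓ DA.aug : Ideal (Model A ι)) : Set _)
  have hSaug : S ⊆ DB.aug := by
    rintro _ ⟨k, hk, rfl⟩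
    exact hψdp.1 (Ideal.mem_map_of_mem _ hk.2)
  have hspan : DB.dp.IsSubDPIdeal (Ideal.span S) := by
    rw [DB.dp.span_isSubDPIdeal_iff hSaug]
    rintro n hn _ ⟨k, hk, rfl⟩
    rw [hψdp.2 k hk.2]
    exact Ideal.subset_span ⟨_, hKA.dpow_mem n hn hk, rfl⟩
  have hkey : RingHom.ker φB.toRingHom ⊓ DB.aug = Ideal.span S := by
    apply le_antisymm
    · rintro c ⟨hc1, hc2⟩
      have hc1' : φB c = 0 := (RingHom.mem_ker (f := φB.toRingHom)).mp hc1
      obtain ⟨l, hl⟩ : ∃ l, l = DB.b.repr c := ⟨_, rfl⟩
      have hl0 : l 0 = 0 := by rw [hl]; exact (DB.mem_aug_iff c).mp hc2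
      let T : Finset (ι →₀ ℕ) := l.support.erase 0
      have hcsum : c = ∑ e ∈ T, l e • DB.b e := by
        have h1 : c = ∑ e ∈ l.support, l e • DB.b e := by
          conv_lhs => rw [← DB.b.linearCombination_repr c, Finsupp.linearCombination_apply,
            Finsupp.sum, ← hl]
        rw [h1]
        by_cases h0 : (0 : ι →₀ ℕ) ∈ l.support
        · rw [← Finset.add_sum_erase _ _ h0, hl0, zero_smul, zero_add]
        · change _ = ∑ e ∈ l.support.erase 0, l e • DB.b e
          rw [Finset.erase_eq_of_notMem h0]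
      -- the relation
      let g : T → A := fun e => φA (DA.b e)
      let xx : T → B := fun e => l e
      have hrel : ∑ e : T, g e • xx e = 0 := by
        rw [hcsum, map_sum] at hc1'
        rw [← hc1', ← Finset.sum_coe_sort T]
        refine Finset.sum_congr rfl fun e _ => ?_
        rw [map_smul, hg, smul_eq_mul, Algebra.smul_def, mul_comm]
      obtain ⟨k, a, yy, hx, hrel'⟩ := Module.Flat.isTrivialRelation_of_sum_smul_eq_zero (R := A) (M := B) (f := g) (x := xx) hrel
      -- the elements of the kernel over `A`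
      let kk : Fin k → Model A ι := fun j => ∑ e : T, a e j • DA.b e
      have hkk : ∀ j, kk j ∈ RingHom.ker φA.toRingHom ⊓ DA.aug := by
        intro j
        refine ⟨?_, ?_⟩
        · refine (RingHom.mem_ker (f := φA.toRingHom)).mpr ?_
          change φA (kk j) = 0
          rw [map_sum, ← hrel' j]
          refine Finset.sum_congr rfl fun e _ => ?_
          rw [map_smul, smul_eq_mul, mul_comm]
        · refine Ideal.sum_mem _ fun e _ => ?_
          refine Submodule.smul_of_tower_mem _ _ (DA.b_mem_aug ?_)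
          have := e.2
          rw [Finset.mem_erase] at this
          exact this.1
      have hc : c = ∑ j, algebraMap B (Model B ι) (yy j) * ψ (kk j) := by
        rw [hcsum, ← Finset.sum_coe_sort T]
        have h1 : ∀ e : T, l e • DB.b (e : ι →₀ ℕ) =
            ∑ j, algebraMap B (Model B ι) (yy j) * (f (a e j) • DB.b (e : ι →₀ ℕ)) := by
          intro e
          have := hx e
          change l e = _ at this
          rw [this, Finset.sum_smul]
          refine Finset.sum_congr rfl fun j _ => ?_
          have hsm : ∀ (r : B) (p : Model B ι), r • p = algebraMap B (Model B ι) r * p :=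
            fun r p => Algebra.smul_def r p
          rw [Algebra.smul_def (a e j) (yy j), mul_smul, ← hsm, smul_comm]
        rw [Finset.sum_congr rfl fun e _ => h1 e, Finset.sum_comm]
        refine Finset.sum_congr rfl fun j _ => ?_
        rw [← Finset.mul_sum]
        congr 1
        change _ = ψ (∑ e : T, a e j • DA.b e)
        rw [map_sum]
        refine Finset.sum_congr rfl fun e _ => ?_
        rw [psi_smul, psi_b]
      rw [hc]
      refine Ideal.sum_mem _ fun j _ => Ideal.mul_mem_left _ _ (Ideal.subset_span ⟨_, hkk j, rfl⟩)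
    · refine Ideal.span_le.mpr ?_
      rintro _ ⟨k, hk, rfl⟩
      refine ⟨?_, hSaug ⟨k, hk, rfl⟩⟩
      rw [SetLike.mem_coe, RingHom.mem_ker]
      change φB (ψ k) = 0
      have hk1 : φA k = 0 := hk.1
      rw [hcomp, hk1, map_zero]
  have hsub : DB.dp.IsSubDPIdeal (RingHom.ker φB.toRingHom ⊓ DB.aug) := by
    rw [hkey]; exact hspan
  have hsurj : Function.Surjective φB.toRingHom := fun b =>
    ⟨algebraMap B _ b, AlgHom.commutes φB b⟩
  have hIJ : I.map f = DB.aug.map φB.toRingHom := by
    apply le_antisymm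
    · refine Ideal.map_le_iff_le_comap.mpr fun x hx => ?_
      rw [Ideal.mem_comap]
      have : f x = φB.toRingHom (DB.x ⟨x, hx⟩ 1) := by
        change f x = φB (DB.x ⟨x, hx⟩ 1)
        rw [hφBx, γ.dpow_one hx]
      rw [this]
      exact Ideal.mem_map_of_mem _ (DB.x_mem_aug _ le_rfl)
    · refine Ideal.map_le_iff_le_comap.mpr ?_
      refine Ideal.span_le.mpr ?_
      rintro _ ⟨i, n, hn, rfl⟩
      rw [SetLike.mem_coe, Ideal.mem_comap]
      change φB (DB.x i n) ∈ _
      rw [hφBx]
      exact Ideal.mem_map_of_mem _ (γ.dpow_mem (by omega) i.2)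
  refine ⟨DividedPowers.Quotient.OfSurjective.dividedPowers DB.dp hsurj hIJ hsub, le_refl _, ?_⟩
  intro n x hx
  have : f x = φB.toRingHom (DB.x ⟨x, hx⟩ 1) := by
    change f x = φB (DB.x ⟨x, hx⟩ 1)
    rw [hφBx, γ.dpow_one hx]
  change (DividedPowers.Quotient.OfSurjective.dividedPowers DB.dp hsurj hIJ hsub).dpow n (f x) = _
  rw [this, DividedPowers.Quotient.OfSurjective.dpow_apply DB.dp hsurj hIJ hsub
    (DB.x_mem_aug _ le_rfl), DB.dp_x]
  change φB (DB.x ⟨x, hx⟩ n) = _
  rw [hφBx]

theorem dp_ext_unique (δ δ' : DividedPowers (I.map (algebraMap A B)))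
    (h : γ.IsDPMorphism δ (algebraMap A B)) (h' : γ.IsDPMorphism δ' (algebraMap A B)) :
    δ = δ' := by
  refine DividedPowers.dpow_eq_from_gens δ' δ (S := (algebraMap A B) '' (I : Set A)) rfl ?_
  rintro n _ ⟨a, ha, rfl⟩
  rw [h'.2 a ha, h.2 a ha]

end main

end Groth.Agent.H95.DPFlat
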