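import Groth.Agent.H95.DPcStruct

set_option autoImplicit false
universe u

namespace Groth.Agent.H95.DPGen

open Groth.Agent.H95.DPc.DPModel

section
variable {A : Type u} [CommRing A] (I : Ideal A) (S : Set A) (d : ℕ → A → A)

/-- product formula for families satisfying the divided power product rule -/
theorem prod_mul_prod (hSI : ∀ s ∈ S, s ∈ I)
    (h_zero : ∀ x ∈ I, d 0 x = 1)
    (h_mul_dpow : ∀ (m n : ℕ) (x : A), x ∈ S → d m x * d n x = (m + n).choose m * d (m + n) x)
    (e e' : ↥S →₀ ℕ) :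
    (e.prod fun s k => d k (s : A)) * (e'.prod fun s k => d k (s : A)) =
      (mchoose e e' : A) * ((e + e').prod fun s k => d k (s : A)) := by
  classical
  have h0 : ∀ s : ↥S, d 0 (s : A) = 1 := fun s => h_zero _ (hSI _ s.2)
  rw [mchoose]
  rw [Finsupp.prod_of_support_subset e Finset.subset_union_left _ (fun i _ => h0 i),
    Finsupp.prod_of_support_subset e' Finset.subset_union_right _ (fun i _ => h0 i),
    Finsupp.prod_of_support_subset (e + e') Finsupp.support_add _ (fun i _ => h0 i),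
    Nat.cast_prod, ← Finset.prod_mul_distrib]
  have key : ∀ i ∈ e.support ∪ e'.support, d (e i) (i : A) * d (e' i) (i : A) =
      (((e i + e' i).choose (e i) : ℕ) : A) * d ((e + e') i) (i : A) := by
    intro i _
    rw [h_mul_dpow _ _ _ i.2]
    rfl
  rw [Finset.prod_congr rfl key, Finset.prod_mul_distrib]
  congr!

/-- Divided power axioms need only be checked on generators. -/
theorem exists_dp_of_generators
    (hS : Ideal.span S = I) (h_null : ∀ (n : ℕ) (x : A), x ∉ I → d n x = 0)
    (h_zero : ∀ x ∈ I, d 0 x = 1) (h_one : ∀ x ∈ I, d 1 x = x)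
    (h_mem : ∀ (n : ℕ) (x : A), n ≠ 0 → x ∈ I → d n x ∈ I)
    (h_add : ∀ (n : ℕ) (x y : A), x ∈ I → y ∈ I →
      d n (x + y) = (Finset.HasAntidiagonal.antidiagonal n).sum fun k => d k.1 x * d k.2 y)
    (h_mul : ∀ (n : ℕ) (a x : A), x ∈ I → d n (a * x) = a ^ n * d n x)
    (h_mul_dpow : ∀ (m n : ℕ) (x : A), x ∈ S → d m x * d n x = (m + n).choose m * d (m + n) x)
    (h_comp : ∀ (m n : ℕ) (x : A), n ≠ 0 → x ∈ S →
      d m (d n x) = Nat.uniformBell m n * d (m * n) x) :
    ∃ γ : DividedPowers I, γ.dpow = d := by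
  classical
  have hSI : ∀ s ∈ S, s ∈ I := fun s hs => hS ▸ Ideal.subset_span hs
  have h0 : ∀ s : ↥S, d 0 (s : A) = 1 := fun s => h_zero _ (hSI _ s.2)
  -- the divided power polynomial algebra on `S`
  let D : Datum A ↥S (Model A ↥S) := modelDatum A ↥S
  let γ : DividedPowers D.aug := D.dp
  -- the evaluation map
  let φl : Model A ↥S →ₗ[A] A := D.b.constr A (fun e => e.prod fun s k => d k (s : A))
  have hφl : ∀ e, φl (D.b e) = e.prod fun s k => d k (s : A) := fun e => by
    simp only [φl, Module.Basis.constr_basis]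
  have hone : φl 1 = 1 := by
    rw [← D.b_zero, hφl, Finsupp.prod_zero_index]
  have hmul : ∀ x y, φl (x * y) = φl x * φl y := by
    have hb : (LinearMap.mul A (Model A ↥S)).compr₂ φl =
        (LinearMap.mul A A).compl₁₂ φl φl := by
      refine D.b.ext fun e => D.b.ext fun e' => ?_
      simp only [LinearMap.compr₂_apply, LinearMap.mul_apply', LinearMap.compl₁₂_apply]
      rw [D.b_mul, hφl, hφl, prod_mul_prod I S d hSI h_zero h_mul_dpow, ← nsmul_eq_mul,
        map_nsmul, hφl, nsmul_eq_mul]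
    intro x y
    have := LinearMap.congr_fun (LinearMap.congr_fun hb x) y
    simpa only [LinearMap.compr₂_apply, LinearMap.mul_apply', LinearMap.compl₁₂_apply] using this
  let φ : Model A ↥S →ₐ[A] A := AlgHom.ofLinearMap φl hone hmul
  have hφ : ∀ x, φ x = φl x := fun x => rfl
  have hφx : ∀ (s : ↥S) (n : ℕ), φ (D.x s n) = d n (s : A) := by
    intro s n
    rw [hφ, ← D.b_single, hφl, Finsupp.prod_single_index (h0 s)]
  -- `φ` maps the augmentation ideal into `I`
  have hφI : ∀ y ∈ D.aug, φ y ∈ I := by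
    have : D.aug ≤ I.comap φ := by
      refine Ideal.span_le.mpr ?_
      rintro _ ⟨s, n, hn, rfl⟩
      rw [SetLike.mem_coe, Ideal.mem_comap, hφx]
      exact h_mem n _ (by omega) (hSI _ s.2)
    exact fun y hy => this hy
  -- compatibility
  have hd0 : ∀ n : ℕ, n ≠ 0 → d n 0 = 0 := by
    intro n hn
    have := h_mul n 0 0 I.zero_mem
    rwa [zero_mul, zero_pow hn, zero_mul] at this
  have hcompat : ∀ y ∈ D.aug, ∀ n, d n (φ y) = φ (γ.dpow n y) := by
    intro y hy
    refine Submodule.span_induction (p := fun y _ => ∀ n, d n (φ y) = φ (γ.dpow n y))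
      ?_ ?_ ?_ ?_ hy
    · rintro _ ⟨s, k, hk, rfl⟩ n
      have hk0 : k ≠ 0 := by omega
      rw [hφx, h_comp n k _ hk0 s.2, D.dp_x' s k n hk0, map_mul, map_natCast, hφx]
    · intro n
      rcases Nat.eq_zero_or_pos n with rfl | hn
      · rw [map_zero, h_zero 0 I.zero_mem, γ.dpow_zero D.aug.zero_mem, map_one]
      · rw [map_zero, hd0 n (by omega), γ.dpow_eval_zero (by omega), map_zero]
    · intro y y' hy hy' ih ih' n
      rw [map_add, h_add n _ _ (hφI y hy) (hφI y' hy'), γ.dpow_add hy hy', map_sum]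
      refine Finset.sum_congr rfl fun k _ => ?_
      rw [map_mul, ih, ih']
    · intro p y hy ih n
      rw [smul_eq_mul, map_mul, h_mul n _ _ (hφI y hy), γ.dpow_mul hy, map_mul, map_pow, ih]
  -- surjectivity
  have hsurj : ∀ x ∈ I, ∃ y ∈ D.aug, φ y = x := by
    intro x hx
    rw [← hS] at hx
    refine Submodule.span_induction (p := fun x _ => ∃ y ∈ D.aug, φ y = x) ?_ ?_ ?_ ?_ hx
    · intro s hs
      refine ⟨D.x ⟨s, hs⟩ 1, D.x_mem_aug _ le_rfl, ?_⟩
      rw [hφx]
      exact h_one s (hSI s hs)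
    · exact ⟨0, D.aug.zero_mem, map_zero _⟩
    · rintro x x' _ _ ⟨y, hy, rfl⟩ ⟨y', hy', rfl⟩
      exact ⟨y + y', D.aug.add_mem hy hy', map_add _ _ _⟩
    · rintro a x _ ⟨y, hy, rfl⟩
      refine ⟨algebraMap A _ a * y, D.aug.mul_mem_left _ hy, ?_⟩
      rw [map_mul, AlgHom.commutes, smul_eq_mul]
      rfl
  refine ⟨{ dpow := d
            dpow_null := fun {n x} hx => h_null n x hx
            dpow_zero := fun {x} hx => h_zero x hx
            dpow_one := fun {x} hx => h_one x hx
            dpow_mem := fun {n x} hn hx => h_mem n x hn hx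
            dpow_add := fun {n x y} hx hy => h_add n x y hx hy
            dpow_mul := fun {n a x} hx => h_mul n a x hx
            mul_dpow := ?_
            dpow_comp := ?_ }, rfl⟩
  · intro m n x hx
    obtain ⟨y, hy, rfl⟩ := hsurj x hx
    rw [hcompat y hy, hcompat y hy, hcompat y hy, ← map_mul, γ.mul_dpow hy, map_mul, map_natCast]
  · intro m n x hn hx
    obtain ⟨y, hy, rfl⟩ := hsurj x hx
    rw [hcompat y hy n, hcompat _ (γ.dpow_mem hn hy), γ.dpow_comp hn hy, map_mul, map_natCast,
      hcompat y hy]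

end

end Groth.Agent.H95.DPGen
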