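import Groth.Agent.H95.DPGen

set_option autoImplicit false
universe u

namespace Groth.Agent.H95.DPSup

open Groth.Agent.H95.DPGen

section
variable {A : Type u} [CommRing A] {I J : Ideal A} (γ : DividedPowers I) (δ : DividedPowers J)

/-- the candidate exponential series -/
noncomputable def E (x y : A) : PowerSeries A := γ.exp x * δ.exp y

theorem exp_eq_of_mem_inf (h : ∀ (n : ℕ) (x : A), x ∈ I ⊓ J → γ.dpow n x = δ.dpow n x)
    {z : A} (hz : z ∈ I ⊓ J) : γ.exp z = δ.exp z := by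
  ext n
  simp only [DividedPowers.exp, PowerSeries.coeff_mk]
  exact h n z hz

theorem exp_zero : γ.exp 0 = 1 := by
  ext n
  simp only [DividedPowers.exp, PowerSeries.coeff_mk, PowerSeries.coeff_one]
  split_ifs with hn
  · rw [hn]; exact γ.dpow_zero I.zero_mem
  · exact γ.dpow_eval_zero hn

theorem E_wd (h : ∀ (n : ℕ) (x : A), x ∈ I ⊓ J → γ.dpow n x = δ.dpow n x)
    {x x' y y' : A} (hx : x ∈ I) (hx' : x' ∈ I) (hy : y ∈ J) (hy' : y' ∈ J)
    (he : x + y = x' + y') : E γ δ x y = E γ δ x' y' := by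
  have hzI : x - x' ∈ I := I.sub_mem hx hx'
  have hz : x - x' = y' - y := by
    rw [sub_eq_sub_iff_add_eq_add, he, add_comm]
  have hzJ : x - x' ∈ J := by rw [hz]; exact J.sub_mem hy' hy
  have e1 : x = x' + (x - x') := by ring
  have e2 : y' = y + (x - x') := by rw [hz]; ring
  unfold E
  rw [e1, e2, γ.exp_add hx' hzI, δ.exp_add hy hzJ, exp_eq_of_mem_inf γ δ h ⟨hzI, hzJ⟩]
  ring

/-- the candidate divided powers -/
noncomputable def eps (n : ℕ) (w : A) : A := by
  classical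
  exact if hw : w ∈ I ⊔ J then
    PowerSeries.coeff n (E γ δ (Submodule.mem_sup.mp hw).choose
      (Submodule.mem_sup.mp hw).choose_spec.2.choose)
  else 0

theorem eps_eq (h : ∀ (n : ℕ) (x : A), x ∈ I ⊓ J → γ.dpow n x = δ.dpow n x)
    (n : ℕ) {x y : A} (hx : x ∈ I) (hy : y ∈ J) :
    eps γ δ n (x + y) = PowerSeries.coeff n (E γ δ x y) := by
  classical
  have hw : x + y ∈ I ⊔ J := Submodule.add_mem_sup hx hy
  unfold eps
  rw [dif_pos hw]
  have h1 := (Submodule.mem_sup.mp hw).choose_spec.1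
  have h2 := (Submodule.mem_sup.mp hw).choose_spec.2.choose_spec.1
  have h3 := (Submodule.mem_sup.mp hw).choose_spec.2.choose_spec.2
  rw [E_wd γ δ h h1 hx h2 hy h3]

theorem eps_null (n : ℕ) {w : A} (hw : w ∉ I ⊔ J) : eps γ δ n w = 0 := by
  classical
  unfold eps
  rw [dif_neg hw]

theorem coeff_E (n : ℕ) (x y : A) : PowerSeries.coeff n (E γ δ x y) =
    (Finset.antidiagonal n).sum fun k => γ.dpow k.1 x * δ.dpow k.2 y := by
  unfold E
  rw [PowerSeries.coeff_mul]
  simp only [DividedPowers.exp, PowerSeries.coeff_mk]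

theorem eps_left (h : ∀ (n : ℕ) (x : A), x ∈ I ⊓ J → γ.dpow n x = δ.dpow n x)
    (n : ℕ) {x : A} (hx : x ∈ I) : eps γ δ n x = γ.dpow n x := by
  have := eps_eq γ δ h n hx J.zero_mem
  rw [add_zero] at this
  rw [this]
  unfold E
  rw [exp_zero δ, mul_one]
  simp only [DividedPowers.exp, PowerSeries.coeff_mk]

theorem eps_right (h : ∀ (n : ℕ) (x : A), x ∈ I ⊓ J → γ.dpow n x = δ.dpow n x)
    (n : ℕ) {y : A} (hy : y ∈ J) : eps γ δ n y = δ.dpow n y := by
  have := eps_eq γ δ h n I.zero_mem hy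
  rw [zero_add] at this
  rw [this]
  unfold E
  rw [exp_zero γ, one_mul]
  simp only [DividedPowers.exp, PowerSeries.coeff_mk]

theorem exists_dp_sup (h : ∀ (n : ℕ) (x : A), x ∈ I ⊓ J → γ.dpow n x = δ.dpow n x) :
    ∃ ε : DividedPowers (I ⊔ J), ε.dpow = eps γ δ := by
  classical
  have hIle : I ≤ I ⊔ J := le_sup_left
  have hJle : J ≤ I ⊔ J := le_sup_right
  refine exists_dp_of_generators (I ⊔ J) ((I : Set A) ∪ (J : Set A)) (eps γ δ) ?_ ?_ ?_ ?_ ?_ ?_ ?_ ?_ ?_
  · rw [Ideal.span_union, Ideal.span_eq, Ideal.span_eq]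
  · intro n w hw
    exact eps_null γ δ n hw
  · intro w hw
    obtain ⟨x, hx, y, hy, rfl⟩ := Submodule.mem_sup.mp hw
    rw [eps_eq γ δ h 0 hx hy, coeff_E]
    simp [γ.dpow_zero hx, δ.dpow_zero hy]
  · intro w hw
    obtain ⟨x, hx, y, hy, rfl⟩ := Submodule.mem_sup.mp hw
    rw [eps_eq γ δ h 1 hx hy, coeff_E]
    have : Finset.antidiagonal 1 = {((0 : ℕ), (1 : ℕ)), ((1 : ℕ), (0 : ℕ))} := by decide
    rw [this, Finset.sum_insert (by decide), Finset.sum_singleton]
    simp only [γ.dpow_zero hx, δ.dpow_zero hy, γ.dpow_one hx, δ.dpow_one hy, one_mul, mul_one]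
    ring
  · intro n w hn hw
    obtain ⟨x, hx, y, hy, rfl⟩ := Submodule.mem_sup.mp hw
    rw [eps_eq γ δ h n hx hy, coeff_E]
    refine Ideal.sum_mem _ fun k hk => ?_
    rw [Finset.mem_antidiagonal] at hk
    by_cases hk1 : k.1 = 0
    · have hk2 : k.2 ≠ 0 := by omega
      exact Ideal.mul_mem_left _ _ (hJle (δ.dpow_mem hk2 hy))
    · exact Ideal.mul_mem_right _ _ (hIle (γ.dpow_mem hk1 hx))
  · intro n w w' hw hw'
    obtain ⟨x, hx, y, hy, rfl⟩ := Submodule.mem_sup.mp hw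
    obtain ⟨x', hx', y', hy', rfl⟩ := Submodule.mem_sup.mp hw'
    have e : x + y + (x' + y') = (x + x') + (y + y') := by ring
    rw [e, eps_eq γ δ h n (I.add_mem hx hx') (J.add_mem hy hy')]
    have hE : E γ δ (x + x') (y + y') = E γ δ x y * E γ δ x' y' := by
      unfold E
      rw [γ.exp_add hx hx', δ.exp_add hy hy']
      ring
    rw [hE, PowerSeries.coeff_mul]
    refine Finset.sum_congr rfl fun k _ => ?_
    rw [eps_eq γ δ h k.1 hx hy, eps_eq γ δ h k.2 hx' hy']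
  · intro n a w hw
    obtain ⟨x, hx, y, hy, rfl⟩ := Submodule.mem_sup.mp hw
    rw [mul_add, eps_eq γ δ h n (I.mul_mem_left a hx) (J.mul_mem_left a hy),
      eps_eq γ δ h n hx hy, coeff_E, coeff_E, Finset.mul_sum]
    refine Finset.sum_congr rfl fun k hk => ?_
    rw [Finset.mem_antidiagonal] at hk
    rw [γ.dpow_mul hx, δ.dpow_mul hy, ← hk, pow_add]
    ring
  · intro m n x hx
    rcases hx with hx | hx
    · have hx' : x ∈ I := hx
      rw [eps_left γ δ h m hx', eps_left γ δ h n hx', eps_left γ δ h (m + n) hx']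
      exact γ.mul_dpow hx'
    · have hx' : x ∈ J := hx
      rw [eps_right γ δ h m hx', eps_right γ δ h n hx', eps_right γ δ h (m + n) hx']
      exact δ.mul_dpow hx'
  · intro m n x hn hx
    rcases hx with hx | hx
    · have hx' : x ∈ I := hx
      rw [eps_left γ δ h n hx', eps_left γ δ h m (γ.dpow_mem hn hx'), eps_left γ δ h (m * n) hx']
      exact γ.dpow_comp hn hx'
    · have hx' : x ∈ J := hx
      rw [eps_right γ δ h n hx', eps_right γ δ h m (δ.dpow_mem hn hx'),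
        eps_right γ δ h (m * n) hx']
      exact δ.dpow_comp hn hx'

theorem existsUnique_dp_sup (h : ∀ (n : ℕ) (x : A), x ∈ I ⊓ J → γ.dpow n x = δ.dpow n x) :
    ∃! ε : DividedPowers (I ⊔ J),
      (∀ (n : ℕ) (x : A), x ∈ I → ε.dpow n x = γ.dpow n x) ∧
        (∀ (n : ℕ) (x : A), x ∈ J → ε.dpow n x = δ.dpow n x) := by
  obtain ⟨ε, hε⟩ := exists_dp_sup γ δ h
  refine ⟨ε, ⟨fun n x hx => ?_, fun n x hx => ?_⟩, ?_⟩
  · rw [hε]; exact eps_left γ δ h n hx
  · rw [hε]; exact eps_right γ δ h n hx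
  · rintro ε' ⟨h1, h2⟩
    refine DividedPowers.dpow_eq_from_gens ε ε' (S := (I : Set A) ∪ (J : Set A)) ?_ ?_
    · rw [Ideal.span_union, Ideal.span_eq, Ideal.span_eq]
    · intro n a ha
      rcases ha with ha | ha
      · rw [hε, eps_left γ δ h n ha, h1 n a ha]
      · rw [hε, eps_right γ δ h n ha, h2 n a ha]

end

end Groth.Agent.H95.DPSup
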