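import Groth.Agent.H95.DPFlat
import Groth.Agent.H95.DPSup

set_option autoImplicit false
universe u v w

namespace Groth.Agent.H95.DPPoly

open Groth.Agent.H95.DPc.DPModel Groth.Agent.H95.DPEval Groth.Agent.H95.DPFlat
  Groth.Agent.H95.DPSup

section general
variable {A : Type u} [CommRing A] {I J : Ideal A} (hI : DividedPowers I) (hJ : DividedPowers J)

/-- two divided power structures (on possibly different ideals) which agree on a set `S` agree
on the ideal spanned by `S`. -/
theorem dpow_eq_on_span {S : Set A} (hSI : S ⊆ I) (hSJ : S ⊆ J)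
    (h : ∀ (n : ℕ), ∀ s ∈ S, hI.dpow n s = hJ.dpow n s) :
    ∀ x ∈ Ideal.span S, ∀ n : ℕ, hI.dpow n x = hJ.dpow n x := by
  have hsI : Ideal.span S ≤ I := Ideal.span_le.mpr hSI
  have hsJ : Ideal.span S ≤ J := Ideal.span_le.mpr hSJ
  intro x hx
  induction hx using Submodule.span_induction with
  | mem s hs => exact fun n => h n s hs
  | zero =>
    intro n
    by_cases hn : n = 0
    · rw [hn, hI.dpow_zero I.zero_mem, hJ.dpow_zero J.zero_mem]
    · rw [hI.dpow_eval_zero hn, hJ.dpow_eval_zero hn]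
  | add x y hx hy ihx ihy =>
    intro n
    rw [hI.dpow_add' (hsI hx) (hsI hy), hJ.dpow_add' (hsJ hx) (hsJ hy)]
    exact Finset.sum_congr rfl fun k _ => by rw [ihx, ihy]
  | smul a x hx ihx =>
    intro n
    rw [smul_eq_mul, hI.dpow_mul (hsI hx), hJ.dpow_mul (hsJ hx), ihx]

/-- two divided power structures on `I` and `J` agree on `I * J`. -/
theorem dpow_eq_on_mul : ∀ z ∈ I * J, ∀ n : ℕ, hI.dpow n z = hJ.dpow n z := by
  intro z hz
  induction hz using Submodule.mul_induction_on' with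
  | mem_mul_mem a ha b hb =>
    intro n
    rw [hJ.dpow_mul hb, mul_comm a b, hI.dpow_mul ha, ← hI.factorial_mul_dpow_eq_pow ha,
      ← hJ.factorial_mul_dpow_eq_pow hb]
    ring
  | add x hx y hy ihx ihy =>
    intro n
    have hxI : x ∈ I := Ideal.mul_le_right (I := J) (J := I) (by rw [mul_comm]; exact hx)
    have hyI : y ∈ I := Ideal.mul_le_right (I := J) (J := I) (by rw [mul_comm]; exact hy)
    have hxJ : x ∈ J := Ideal.mul_le_left (I := J) (J := I) (by rw [mul_comm]; exact hx)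
    have hyJ : y ∈ J := Ideal.mul_le_left (I := J) (J := I) (by rw [mul_comm]; exact hy)
    rw [hI.dpow_add' hxI hyI, hJ.dpow_add' hxJ hyJ]
    exact Finset.sum_congr rfl fun k _ => by rw [ihx, ihy]

end general

section poly
variable {R : Type u} [CommRing R] {ι : Type w} {P : Type v} [CommRing P] [Algebra R P]
  (D : Datum R ι P) (I : Ideal R)

theorem inf_le_mul :
    I.map (algebraMap R P) ⊓ D.aug ≤ I.map (algebraMap R P) * D.aug := by
  classical
  rintro z ⟨hz1, hz2⟩
  have h1 : z ∈ (I • (⊤ : Submodule R P)) := by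
    rw [Ideal.smul_top_eq_map]; exact hz1
  rw [← D.b.span_eq, Submodule.mem_ideal_smul_span_iff_exists_sum] at h1
  obtain ⟨a, ha, rfl⟩ := h1
  have hrepr : D.b.repr (a.sum fun i c => c • D.b i) = a := by
    have : (a.sum fun i c => c • D.b i) = Finsupp.linearCombination R D.b a := by
      rw [Finsupp.linearCombination_apply]
    rw [this, D.b.repr_linearCombination]
  have ha0 : a 0 = 0 := by
    have := (D.mem_aug_iff _).mp hz2
    rwa [hrepr] at this
  refine Ideal.sum_mem _ fun e he => ?_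
  have he0 : e ≠ 0 := by
    rintro rfl
    exact (Finsupp.mem_support_iff.mp he) ha0
  change a e • D.b e ∈ _
  rw [Algebra.smul_def]
  exact Ideal.mul_mem_mul (Ideal.mem_map_of_mem _ (ha e)) (D.b_mem_aug he0)

variable {I}

theorem existsUnique_dp_poly (γ : DividedPowers I) (δplus : DividedPowers D.aug) :
    ∃! δ : DividedPowers (I.map (algebraMap R P) ⊔ D.aug),
      γ.IsDPMorphism δ (algebraMap R P) ∧
        ∀ (n : ℕ) (y : P), y ∈ D.aug → δ.dpow n y = δplus.dpow n y := by
  have : Module.Free R P := Module.Free.of_basis D.b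
  have : Module.Flat R P := inferInstance
  obtain ⟨δI, hδI⟩ := exists_dp_of_flat (B := P) γ
  have hagree : ∀ (n : ℕ) (x : P), x ∈ I.map (algebraMap R P) ⊓ D.aug →
      δI.dpow n x = δplus.dpow n x := fun n x hx =>
    dpow_eq_on_mul δI δplus x (inf_le_mul D I hx) n
  obtain ⟨ε, ⟨hε1, hε2⟩, hεu⟩ := existsUnique_dp_sup δI δplus hagree
  refine ⟨ε, ⟨⟨le_sup_left, fun {n} a ha => ?_⟩, hε2⟩, ?_⟩
  · rw [hε1 n _ (Ideal.mem_map_of_mem _ ha), hδI.2 a ha]
  · rintro δ ⟨hδ1, hδ2⟩
    refine hεu δ ⟨?_, hδ2⟩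
    intro n x hx
    refine dpow_eq_on_span δ δI (S := (algebraMap R P) '' (I : Set R)) ?_ ?_ ?_ x hx n
    · rintro _ ⟨a, ha, rfl⟩
      exact le_sup_left (a := I.map (algebraMap R P)) (Ideal.mem_map_of_mem _ ha)
    · rintro _ ⟨a, ha, rfl⟩
      exact Ideal.mem_map_of_mem _ ha
    · rintro m _ ⟨a, ha, rfl⟩
      rw [hδ1.2 a ha, hδI.2 a ha]

end poly

end Groth.Agent.H95.DPPoly
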