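import Groth.Agent.H95.DPPoly

set_option autoImplicit false
universe u v w

namespace Groth.Agent.H95.DPUniv

open Groth.Agent.H95.DPc.DPModel Groth.Agent.H95.DPEval Groth.Agent.H95.DPFlat
  Groth.Agent.H95.DPSup Groth.Agent.H95.DPPoly

section
variable {A : Type u} [CommRing A] {I : Ideal A} (γ : DividedPowers I) {ι : Type w}
  {P : Type v} [CommRing P] [Algebra A P] (D : Datum A ι P)

theorem sup_eq_span :
    I.map (algebraMap A P) ⊔ D.aug =
      Ideal.span ((algebraMap A P) '' (I : Set A) ∪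
        {y : P | ∃ (i : ι) (n : ℕ), 1 ≤ n ∧ y = D.x i n}) := by
  rw [Ideal.span_union]; rfl

theorem univ_property (δ : DividedPowers (I.map (algebraMap A P) ⊔ D.aug))
    (hδ1 : γ.IsDPMorphism δ (algebraMap A P))
    (hδ2 : ∀ (n : ℕ) (y : P), y ∈ D.aug → δ.dpow n y = D.dp.dpow n y)
    {C : Type*} [CommRing C] [Algebra A C] (K : Ideal C) (ε : DividedPowers K)
    (hε : γ.IsDPMorphism ε (algebraMap A C)) (k : ι → C) (hk : ∀ i, k i ∈ K) :
    ∃! φ : P →ₐ[A] C, (∀ i, φ (D.x i 1) = k i) ∧ δ.IsDPMorphism ε φ.toRingHom := by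
  obtain ⟨φ, hφx, hφb⟩ := exists_evalHom D (fun i n => ε.dpow n (k i))
    (fun i => ε.dpow_zero (hk i))
    (fun i n m => by
      have := ε.mul_dpow (m := n) (n := m) (hk i)
      rw [this])
  refine ⟨φ, ⟨fun i => ?_, ?_⟩, ?_⟩
  · rw [hφx, ε.dpow_one (hk i)]
  · refine DividedPowers.IsDPMorphism.on_span δ ε (sup_eq_span D) ?_ ?_
    · rintro _ (⟨a, ha, rfl⟩ | ⟨i, n, hn, rfl⟩)
      · change φ (algebraMap A P a) ∈ K
        rw [AlgHom.commutes]
        exact hε.1 (Ideal.mem_map_of_mem _ ha)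
      · change φ (D.x i n) ∈ K
        rw [hφx]
        exact ε.dpow_mem (by omega) (hk i)
    · rintro m _ (⟨a, ha, rfl⟩ | ⟨i, n, hn, rfl⟩)
      · change φ (δ.dpow m (algebraMap A P a)) = ε.dpow m (φ (algebraMap A P a))
        rw [hδ1.2 a ha, AlgHom.commutes, AlgHom.commutes, hε.2 a ha]
      · have hn0 : n ≠ 0 := by omega
        change φ (δ.dpow m (D.x i n)) = ε.dpow m (φ (D.x i n))
        rw [hδ2 m _ (D.x_mem_aug i hn), D.dp_x' i n m hn0, map_mul, map_natCast, hφx, hφx,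
          ε.dpow_comp hn0 (hk i)]
  · rintro φ' ⟨hφ'1, hφ'2⟩
    have hx : ∀ i n, φ' (D.x i n) = φ (D.x i n) := by
      intro i n
      have h1 : D.x i n = δ.dpow n (D.x i 1) := by
        rw [hδ2 n _ (D.x_mem_aug i le_rfl), D.dp_x]
      have h2 : φ' (δ.dpow n (D.x i 1)) = ε.dpow n (φ' (D.x i 1)) :=
        (hφ'2.2 (D.x i 1) (le_sup_right (a := I.map (algebraMap A P)) (D.x_mem_aug i le_rfl))).symm
      rw [hφx, h1, h2, hφ'1]
    apply AlgHom.toLinearMap_injective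
    refine D.b.ext fun e => ?_
    change φ' (D.b e) = φ (D.b e)
    rw [D.b_eq, map_finsuppProd, map_finsuppProd]
    exact Finsupp.prod_congr fun i _ => hx i _

end

theorem exists_universal {A : Type u} [CommRing A] {I : Ideal A} (γ : DividedPowers I) (t : ℕ) :
    ∃ (D : Type u) (_ : CommRing D) (_ : Algebra A D) (J : Ideal D) (δ : DividedPowers J)
      (x : Fin t → D), (∀ i, x i ∈ J) ∧ γ.IsDPMorphism δ (algebraMap A D) ∧
      ∀ (C : Type u) [CommRing C] [Algebra A C] (K : Ideal C) (ε : DividedPowers K),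
        γ.IsDPMorphism ε (algebraMap A C) → ∀ k : Fin t → C, (∀ i, k i ∈ K) →
          ∃! φ : D →ₐ[A] C, (∀ i, φ (x i) = k i) ∧ δ.IsDPMorphism ε φ.toRingHom := by
  let DA := modelDatum A (Fin t)
  obtain ⟨δ, ⟨hδ1, hδ2⟩, -⟩ := existsUnique_dp_poly DA γ DA.dp
  refine ⟨Model A (Fin t), inferInstance, inferInstance, _, δ, fun i => DA.x i 1,
    fun i => le_sup_right (a := I.map (algebraMap A (Model A (Fin t)))) (DA.x_mem_aug i le_rfl),
    hδ1, ?_⟩
  intro C _ _ K ε hε k hk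
  exact univ_property γ DA δ hδ1 hδ2 K ε hε k hk

end Groth.Agent.H95.DPUniv
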