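import Groth.Agent.H95.DPcModelZ
import Groth.Agent.H95.DPcTF

/-!
# The divided power structure on the augmentation ideal of a divided power polynomial algebra
-/

set_option autoImplicit false

namespace Groth.Agent.H95.DPc.DPModel

open TensorProduct

namespace Datum

section TF

variable {R : Type*} [CommRing R] {ι : Type*} {P : Type*} [CommRing P] [Algebra R P]

lemma isAddTorsionFree (D : Datum R ι P) [IsAddTorsionFree R] : IsAddTorsionFree P :=
  Function.Injective.isAddTorsionFree (D.b.repr.toAddEquiv : P →+ ((ι →₀ ℕ) →₀ R))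
    D.b.repr.injective

variable (D : Datum R ι P)

lemma good_gen [IsAddTorsionFree P] :
    ∀ y ∈ {y : P | ∃ (i : ι) (n : ℕ), 1 ≤ n ∧ y = D.x i n}, ∀ m : ℕ, 1 ≤ m →
      y ^ m ∈ Ideal.span {(m.factorial : P)} * D.aug := by
  rintro _ ⟨i, n, hn, rfl⟩ m hm
  rw [D.x_pow i n m (by omega), Nat.cast_mul, mul_assoc]
  refine Ideal.mul_mem_mul (Ideal.mem_span_singleton_self _) (Ideal.mul_mem_left _ _ ?_)
  exact D.x_mem_aug i (Nat.one_le_iff_ne_zero.mpr (Nat.mul_ne_zero (by omega) (by omega)))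

/-- The divided power structure in the additively torsion-free case. -/
noncomputable def dpTF [IsAddTorsionFree P] : DividedPowers D.aug :=
  Groth.Agent.H95.DPc.DPowTF.dpOfGood D.aug
    (fun _ hx => Groth.Agent.H95.DPc.DPowTF.good_of_mem_span rfl D.good_gen hx)

lemma dpTF_x [IsAddTorsionFree P] (i : ι) (n : ℕ) : D.dpTF.dpow n (D.x i 1) = D.x i n := by
  apply Groth.Agent.H95.DPc.DPowTF.natCast_mul_cancel (Nat.factorial_ne_zero n)
  rw [D.dpTF.factorial_mul_dpow_eq_pow (D.x_mem_aug i le_rfl), D.x_one_pow]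

end TF

section Transfer

variable {R₀ R : Type*} [CommRing R₀] [CommRing R] {ι : Type*} {P₀ P : Type*}
  [CommRing P₀] [CommRing P] [Algebra R₀ P₀] [Algebra R P]

/-- Transfer of the divided power structure along a surjection of base rings. -/
theorem transfer (D₀ : Datum R₀ ι P₀) (D : Datum R ι P) (ρ : R₀ →+* R)
    (hρ : Function.Surjective ρ) (γ₀ : DividedPowers D₀.aug)
    (hγ₀ : ∀ i n, γ₀.dpow n (D₀.x i 1) = D₀.x i n) :
    ∃ γ : DividedPowers D.aug, ∀ i n, γ.dpow n (D.x i 1) = D.x i n := by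
  classical
  letI : Algebra R₀ R := ρ.toAlgebra
  letI : Algebra R₀ P := ((algebraMap R P).comp ρ).toAlgebra
  haveI : IsScalarTower R₀ R P := IsScalarTower.of_algebraMap_eq (fun _ => rfl)
  have hsmul : ∀ (a : R₀) (z : P), a • z = ρ a • z := by
    intro a z
    rw [Algebra.smul_def, Algebra.smul_def]
    rfl
  let πl : P₀ →ₗ[R₀] P := D₀.b.constr ℕ (fun e => D.b e)
  have hπb : ∀ e, πl (D₀.b e) = D.b e := fun e => D₀.b.constr_basis ℕ _ e
  have hπmul : ∀ y y', πl (y * y') = πl y * πl y' := by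
    have h : (LinearMap.mul R₀ P₀).compr₂ πl = (LinearMap.mul R₀ P).compl₁₂ πl πl := by
      refine D₀.b.ext fun e => D₀.b.ext fun e' => ?_
      simp only [LinearMap.compr₂_apply, LinearMap.mul_apply', LinearMap.compl₁₂_apply]
      rw [D₀.b_mul, ← nsmul_eq_mul, map_nsmul, hπb, hπb, hπb, D.b_mul, nsmul_eq_mul]
    intro y y'
    exact LinearMap.congr_fun₂ h y y'
  have hπ1 : πl 1 = 1 := by rw [← D₀.b_zero, hπb, D.b_zero]
  let π : P₀ →+* P :=
    { toFun := πl
      map_one' := hπ1
      map_mul' := hπmul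
      map_zero' := map_zero πl
      map_add' := map_add πl }
  have hπapply : ∀ y, π y = πl y := fun _ => rfl
  have hπsmul : ∀ (a : R₀) (y : P₀), π (a • y) = ρ a • π y := by
    intro a y
    rw [hπapply, hπapply, map_smul, hsmul]
  -- surjectivity
  have hπsurj : Function.Surjective π := by
    have hrange : LinearMap.range πl = ⊤ := by
      rw [eq_top_iff]
      have h1 : Submodule.span R₀ (Set.range D.b) ≤ LinearMap.range πl := by
        rw [Submodule.span_le]
        rintro _ ⟨e, rfl⟩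
        exact ⟨D₀.b e, hπb e⟩
      have h2 : Submodule.span R₀ (Set.range D.b) =
          (Submodule.span R (Set.range D.b)).restrictScalars R₀ :=
        (Submodule.restrictScalars_span R₀ R hρ _).symm
      rw [D.b.span_eq] at h2
      intro y _
      apply h1
      rw [h2]
      trivial
    intro y
    have : y ∈ LinearMap.range πl := hrange ▸ Submodule.mem_top
    exact this
  -- coordinates
  have hrepr : ∀ (y : P₀) (e : ι →₀ ℕ), D.b.repr (π y) e = ρ (D₀.b.repr y e) := by
    intro y e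
    let f₁ : P₀ →ₗ[R₀] R :=
      { toFun := fun y => D.b.repr (π y) e
        map_add' := by
          intro a c
          rw [map_add, map_add, Finsupp.add_apply]
        map_smul' := by
          intro a c
          rw [hπsmul, map_smul, Finsupp.smul_apply, RingHom.id_apply]
          rfl }
    let f₂ : P₀ →ₗ[R₀] R :=
      { toFun := fun y => ρ (D₀.b.repr y e)
        map_add' := by
          intro a c
          rw [map_add, Finsupp.add_apply, map_add]
        map_smul' := by
          intro a c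
          rw [map_smul, Finsupp.smul_apply, smul_eq_mul, map_mul, RingHom.id_apply]
          rfl }
    have : f₁ = f₂ := by
      refine D₀.b.ext fun e' => ?_
      change D.b.repr (π (D₀.b e')) e = ρ (D₀.b.repr (D₀.b e') e)
      rw [hπapply, hπb, D.b.repr_self, D₀.b.repr_self, Finsupp.single_apply, Finsupp.single_apply]
      split_ifs <;> simp
    exact LinearMap.congr_fun this y
  -- the kernel
  let S : Set P₀ := {y | ∃ (a : R₀) (e : ι →₀ ℕ), ρ a = 0 ∧ e ≠ 0 ∧ y = a • D₀.b e}
  have hS : S ⊆ D₀.aug := by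
    rintro _ ⟨a, e, _, he, rfl⟩
    rw [Algebra.smul_def]
    exact Ideal.mul_mem_left _ _ (D₀.b_mem_aug he)
  have hSker : ∀ y ∈ S, π y = 0 := by
    rintro _ ⟨a, e, ha, _, rfl⟩
    rw [hπsmul, ha, zero_smul]
  have hK : RingHom.ker π ⊓ D₀.aug = Ideal.span S := by
    apply le_antisymm
    · rintro y ⟨hy1, hy2⟩
      rw [SetLike.mem_coe, RingHom.mem_ker] at hy1
      have hc : ∀ e, ρ (D₀.b.repr y e) = 0 := by
        intro e
        rw [← hrepr, hy1, map_zero, Finsupp.zero_apply]
      have h0 : D₀.b.repr y 0 = 0 := (D₀.mem_aug_iff y).mp hy2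
      rw [← D₀.b.linearCombination_repr y, Finsupp.linearCombination_apply, Finsupp.sum]
      refine Ideal.sum_mem _ fun e _ => ?_
      by_cases he : e = 0
      · rw [he, h0, zero_smul]
        exact Ideal.zero_mem _
      · exact Ideal.subset_span ⟨_, e, hc e, he, rfl⟩
    · rw [Ideal.span_le]
      intro y hy
      exact ⟨RingHom.mem_ker.mpr (hSker y hy), hS hy⟩
  have hsub : γ₀.IsSubDPIdeal (RingHom.ker π ⊓ D₀.aug) := by
    rw [hK, DividedPowers.span_isSubDPIdeal_iff hS]
    rintro n hn _ ⟨a, e, ha, he, rfl⟩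
    rw [← hK]
    have hbe : D₀.b e ∈ D₀.aug := D₀.b_mem_aug he
    rw [Algebra.smul_def, γ₀.dpow_mul hbe, ← map_pow, ← Algebra.smul_def]
    refine ⟨?_, ?_⟩
    · rw [SetLike.mem_coe, RingHom.mem_ker, hπsmul, map_pow, ha, zero_pow hn, zero_smul]
    · rw [SetLike.mem_coe, Algebra.smul_def]
      exact Ideal.mul_mem_left _ _ (γ₀.dpow_mem hn hbe)
  have hπx : ∀ i n, π (D₀.x i n) = D.x i n := by
    intro i n
    rw [← D₀.b_single, ← D.b_single, hπapply, hπb]
  have hIJ : D.aug = D₀.aug.map π := by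
    unfold aug
    rw [Ideal.map_span]
    congr 1
    ext y
    constructor
    · rintro ⟨i, n, hn, rfl⟩
      exact ⟨D₀.x i n, ⟨i, n, hn, rfl⟩, hπx i n⟩
    · rintro ⟨_, ⟨i, n, hn, rfl⟩, rfl⟩
      exact ⟨i, n, hn, (hπx i n)⟩
  refine ⟨DividedPowers.Quotient.OfSurjective.dividedPowers γ₀ hπsurj hIJ hsub, fun i n => ?_⟩
  rw [← hπx i 1, DividedPowers.Quotient.OfSurjective.dpow_apply γ₀ hπsurj hIJ hsub
    (D₀.x_mem_aug i le_rfl), hγ₀, hπx]

end Transfer

section Exists

variable {R : Type*} [CommRing R] {ι : Type*} {P : Type*} [CommRing P] [Algebra R P]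
  (D : Datum R ι P)

/-- Existence of the divided power structure on the augmentation ideal. -/
theorem exists_dp : ∃ γ : DividedPowers D.aug, ∀ i n, γ.dpow n (D.x i 1) = D.x i n := by
  let R₀ := MvPolynomial R ℤ
  let ρ : R₀ →+* R := MvPolynomial.eval₂Hom (Int.castRingHom R) id
  have hρ : Function.Surjective ρ := by
    intro r
    refine ⟨MvPolynomial.X r, ?_⟩
    change MvPolynomial.eval₂Hom _ _ (MvPolynomial.X r) = r
    rw [MvPolynomial.eval₂Hom_X']
    rfl
  let D₀ : Datum R₀ ι (Model R₀ ι) := modelDatum R₀ ι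
  haveI : IsAddTorsionFree (Model R₀ ι) := D₀.isAddTorsionFree
  exact transfer D₀ D ρ hρ D₀.dpTF D₀.dpTF_x

/-- Uniqueness of the divided power structure on the augmentation ideal. -/
theorem dp_unique (γ γ' : DividedPowers D.aug) (hγ : ∀ i n, γ.dpow n (D.x i 1) = D.x i n)
    (hγ' : ∀ i n, γ'.dpow n (D.x i 1) = D.x i n) : γ = γ' := by
  refine DividedPowers.dpow_eq_from_gens γ' γ (S := {y : P | ∃ (i : ι) (n : ℕ), 1 ≤ n ∧ y = D.x i n})
    rfl ?_
  rintro m _ ⟨i, n, hn, rfl⟩
  have hn0 : n ≠ 0 := by omega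
  have hx : D.x i 1 ∈ D.aug := D.x_mem_aug i le_rfl
  have key : ∀ δ : DividedPowers D.aug, (∀ i n, δ.dpow n (D.x i 1) = D.x i n) →
      δ.dpow m (D.x i n) = (Nat.uniformBell m n : P) * D.x i (m * n) := by
    intro δ hδ
    rw [← hδ i n, δ.dpow_comp hn0 hx, hδ]
  rw [key γ hγ, key γ' hγ']

/-- The canonical divided power structure on the augmentation ideal. -/
noncomputable def dp : DividedPowers D.aug := D.exists_dp.choose

lemma dp_x (i : ι) (n : ℕ) : D.dp.dpow n (D.x i 1) = D.x i n := D.exists_dp.choose_spec i n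

lemma dp_x' (i : ι) (n m : ℕ) (hn : n ≠ 0) :
    D.dp.dpow m (D.x i n) = (Nat.uniformBell m n : P) * D.x i (m * n) := by
  rw [← D.dp_x i n, D.dp.dpow_comp hn (D.x_mem_aug i le_rfl), D.dp_x]

end Exists

end Datum

end Groth.Agent.H95.DPc.DPModel
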