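import Mathlib

set_option autoImplicit false
universe u

namespace Groth.Agent.H95.Dilat

section tor
variable {Q : Type*} [CommRing Q] (π : Q)

/-- the ideal of `π`-power torsion elements -/
def torIdeal : Ideal Q where
  carrier := {x | ∃ k : ℕ, π ^ k * x = 0}
  add_mem' := by
    rintro x y ⟨k, hk⟩ ⟨l, hl⟩
    refine ⟨k + l, ?_⟩
    have h1 : π ^ (k + l) * x = π ^ l * (π ^ k * x) := by rw [pow_add]; ring
    have h2 : π ^ (k + l) * y = π ^ k * (π ^ l * y) := by rw [pow_add]; ring
    rw [mul_add, h1, h2, hk, hl, mul_zero, mul_zero, add_zero]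
  zero_mem' := ⟨0, by simp⟩
  smul_mem' := by
    rintro c x ⟨k, hk⟩
    exact ⟨k, by rw [smul_eq_mul, mul_left_comm, hk, mul_zero]⟩

lemma mem_torIdeal {x : Q} : x ∈ torIdeal π ↔ ∃ k : ℕ, π ^ k * x = 0 := Iff.rfl

lemma isSMulRegular_quot :
    IsSMulRegular (Q ⧸ torIdeal π) (Ideal.Quotient.mk (torIdeal π) π) := by
  intro x y hxy
  obtain ⟨x, rfl⟩ := Ideal.Quotient.mk_surjective x
  obtain ⟨y, rfl⟩ := Ideal.Quotient.mk_surjective y
  simp only [smul_eq_mul, ← map_mul] at hxy
  rw [Ideal.Quotient.eq] at hxy ⊢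
  obtain ⟨k, hk⟩ := hxy
  refine ⟨k + 1, ?_⟩
  rw [pow_succ, mul_assoc, mul_sub]
  exact hk

end tor

section compl
variable {R : Type u} [CommRing R] (π : R)

theorem isAdicComplete_completion :
    IsAdicComplete (Ideal.span {algebraMap R (AdicCompletion (Ideal.span {π}) R) π})
      (AdicCompletion (Ideal.span {π}) R) := by
  have h1 : IsAdicComplete (Ideal.span {π}) (AdicCompletion (Ideal.span {π}) R) :=
    AdicCompletion.isAdicComplete ⟨{π}, by simp⟩
  have h2 := (IsAdicComplete.map_algebraMap_iff (I := Ideal.span {π})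
    (S := AdicCompletion (Ideal.span {π}) R) (M := AdicCompletion (Ideal.span {π}) R)).mpr h1
  rwa [Ideal.map_span, Set.image_singleton] at h2

theorem isSMulRegular_completion (hπ : IsSMulRegular R π) :
    IsSMulRegular (AdicCompletion (Ideal.span {π}) R)
      (algebraMap R (AdicCompletion (Ideal.span {π}) R) π) := by
  intro x y hxy
  simp only at hxy
  rw [← sub_eq_zero, ← smul_sub] at hxy
  rw [← sub_eq_zero]
  obtain ⟨w, hw⟩ : ∃ w, w = x - y := ⟨_, rfl⟩
  rw [← hw] at hxy ⊢
  obtain ⟨c, hc⟩ := AdicCompletion.mk_surjective (Ideal.span {π}) R w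
  refine AdicCompletion.ext_evalₐ fun n => ?_
  rw [map_zero, ← hc, AdicCompletion.evalₐ_mk]
  have h1 : AdicCompletion.evalₐ (Ideal.span {π}) (n + 1)
      (algebraMap R (AdicCompletion (Ideal.span {π}) R) π • w) = 0 := by rw [hxy, map_zero]
  rw [smul_eq_mul, map_mul, ← hc, AdicCompletion.evalₐ_mk, AdicCompletion.algebraMap_apply,
    AdicCompletion.evalₐ_of, ← map_mul, Ideal.Quotient.eq_zero_iff_mem,
    Ideal.span_singleton_pow, Ideal.mem_span_singleton'] at h1
  obtain ⟨z, hz⟩ := h1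
  have h2 : c (n + 1) = π ^ n * z := by
    apply hπ
    have hz' : z * π ^ (n + 1) = π * c (n + 1) := hz
    change π * c (n + 1) = π * (π ^ n * z)
    rw [← hz']; ring
  have h3 := c.2 (Nat.le_succ n)
  rw [SModEq.sub_mem] at h3
  rw [Ideal.Quotient.eq_zero_iff_mem]
  have h4 : c (n + 1) ∈ (Ideal.span {π}) ^ n := by
    rw [h2, Ideal.span_singleton_pow]
    exact Ideal.mul_mem_right _ _ (Ideal.mem_span_singleton_self _)
  have h5 : c n - c (n + 1) ∈ (Ideal.span {π}) ^ n := by
    simpa using h3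
  have := Ideal.add_mem _ h5 h4
  simpa using this

theorem exists_approx (x : AdicCompletion (Ideal.span {π}) R) (n : ℕ) :
    ∃ (y : R) (z : AdicCompletion (Ideal.span {π}) R),
      x = algebraMap R (AdicCompletion (Ideal.span {π}) R) y +
        (algebraMap R (AdicCompletion (Ideal.span {π}) R) π) ^ n * z := by
  obtain ⟨c, hc⟩ := AdicCompletion.mk_surjective (Ideal.span {π}) R x
  have hker : x - AdicCompletion.of (Ideal.span {π}) R (c n) ∈
      (AdicCompletion.eval (Ideal.span {π}) R n).ker := by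
    rw [LinearMap.mem_ker, map_sub, ← hc, AdicCompletion.eval_of, AdicCompletion.eval_apply,
      AdicCompletion.mk_apply_coe, sub_self]
  rw [← AdicCompletion.pow_smul_top_eq_ker_eval ⟨{π}, by simp⟩] at hker
  have key : ∀ w ∈ ((Ideal.span {π}) ^ n • ⊤ : Submodule R (AdicCompletion (Ideal.span {π}) R)),
      ∃ z, w = (algebraMap R (AdicCompletion (Ideal.span {π}) R) π) ^ n * z := by
    intro w hw
    refine Submodule.smul_induction_on hw ?_ ?_
    · intro r hr m _
      rw [Ideal.span_singleton_pow, Ideal.mem_span_singleton'] at hr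
      obtain ⟨s, rfl⟩ := hr
      refine ⟨algebraMap R _ s * m, ?_⟩
      rw [Algebra.smul_def, map_mul, map_pow]; ring
    · rintro x y ⟨z1, rfl⟩ ⟨z2, rfl⟩
      exact ⟨z1 + z2, by ring⟩
  obtain ⟨z, hz⟩ := key _ hker
  refine ⟨c n, z, ?_⟩
  rw [← hz, AdicCompletion.algebraMap_apply]
  simp

end compl

section main
variable (p : ℕ) (A : Type u) [CommRing A] {n : ℕ} (a : Fin n → A)

/-- the relations `p T_i - a_i` -/
noncomputable def relIdeal : Ideal (MvPolynomial (Fin n) A) :=
  Ideal.span (Set.range fun i : Fin n =>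
    MvPolynomial.C (p : A) * MvPolynomial.X i - MvPolynomial.C (a i))

/-- `A[T]/(p T_i - a_i)` -/
abbrev Q : Type u := MvPolynomial (Fin n) A ⧸ relIdeal p A a

/-- `A[T]/(p T_i - a_i)` modulo `p`-power torsion -/
abbrev D0 : Type u := Q p A a ⧸ torIdeal ((p : ℕ) : Q p A a)

/-- the `p`-adic completion -/
abbrev D : Type u := AdicCompletion (Ideal.span {((p : ℕ) : D0 p A a)}) (D0 p A a)

/-- the class of `T_i` -/
noncomputable def t (i : Fin n) : D0 p A a :=
  Ideal.Quotient.mk _ (Ideal.Quotient.mk (relIdeal p A a) (MvPolynomial.X i))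

lemma algebraMap_a (i : Fin n) : algebraMap A (D0 p A a) (a i) = (p : D0 p A a) * t p A a i := by
  have h1 : Ideal.Quotient.mk (relIdeal p A a) (MvPolynomial.C (a i)) =
      Ideal.Quotient.mk (relIdeal p A a) (MvPolynomial.C (p : A) * MvPolynomial.X i) := by
    rw [eq_comm, Ideal.Quotient.eq]
    exact Ideal.subset_span ⟨i, rfl⟩
  change Ideal.Quotient.mk _ (Ideal.Quotient.mk (relIdeal p A a) (MvPolynomial.C (a i))) = _
  rw [h1, map_mul, map_mul, t, map_natCast, map_natCast, map_natCast]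

lemma D0_regular : IsSMulRegular (D0 p A a) (p : D0 p A a) := by
  have := isSMulRegular_quot ((p : ℕ) : Q p A a)
  rwa [map_natCast] at this

lemma cast_D : algebraMap (D0 p A a) (D p A a) (p : D0 p A a) = (p : D p A a) := map_natCast _ _

theorem D_complete : IsAdicComplete (Ideal.span {(p : D p A a)}) (D p A a) := by
  have := isAdicComplete_completion ((p : ℕ) : D0 p A a)
  rwa [cast_D] at this

theorem D_regular : IsSMulRegular (D p A a) (p : D p A a) := by
  have := isSMulRegular_completion ((p : ℕ) : D0 p A a) (D0_regular p A a)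
  rwa [cast_D] at this

theorem D_div (i : Fin n) : algebraMap A (D p A a) (a i) ∈ Ideal.span {(p : D p A a)} := by
  rw [Ideal.mem_span_singleton']
  refine ⟨algebraMap (D0 p A a) (D p A a) (t p A a i), ?_⟩
  rw [IsScalarTower.algebraMap_apply A (D0 p A a) (D p A a), algebraMap_a, map_mul, cast_D,
    mul_comm]

section univ
variable {p A a}
variable {B : Type u} [CommRing B] [Algebra A B]

/-- two `A`-algebra maps out of `D` agree on the image of `D0` -/
theorem agree_on_D0 (hB : IsSMulRegular B (p : B)) (f g : D p A a →ₐ[A] B) (d : D0 p A a) :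
    f (algebraMap (D0 p A a) (D p A a) d) = g (algebraMap (D0 p A a) (D p A a) d) := by
  let ι : D0 p A a →ₐ[A] D p A a := IsScalarTower.toAlgHom A (D0 p A a) (D p A a)
  let q1 : MvPolynomial (Fin n) A →ₐ[A] Q p A a := Ideal.Quotient.mkₐ A _
  let q2 : Q p A a →ₐ[A] D0 p A a := Ideal.Quotient.mkₐ A _
  have hsurj : Function.Surjective (q2.comp q1) :=
    (Ideal.Quotient.mkₐ_surjective A _).comp (Ideal.Quotient.mkₐ_surjective A _)
  have key : (f.comp ι).comp (q2.comp q1) = (g.comp ι).comp (q2.comp q1) := by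
    refine MvPolynomial.algHom_ext fun i => ?_
    change f (algebraMap (D0 p A a) (D p A a) (t p A a i)) =
      g (algebraMap (D0 p A a) (D p A a) (t p A a i))
    apply hB
    change (p : B) • f _ = (p : B) • g _
    have h : ∀ h : D p A a →ₐ[A] B, (p : B) • h (algebraMap (D0 p A a) (D p A a) (t p A a i)) =
        algebraMap A B (a i) := by
      intro h
      rw [smul_eq_mul, ← map_natCast h, ← map_mul, ← cast_D, ← map_mul, ← algebraMap_a,
        ← IsScalarTower.algebraMap_apply A (D0 p A a) (D p A a), AlgHom.commutes]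
    rw [h f, h g]
  obtain ⟨P, rfl⟩ := hsurj d
  exact AlgHom.congr_fun key P

theorem subsingleton_algHom [IsAdicComplete (Ideal.span {(p : B)}) B]
    (hB : IsSMulRegular B (p : B)) : Subsingleton (D p A a →ₐ[A] B) := by
  refine ⟨fun f g => ?_⟩
  ext x
  rw [← sub_eq_zero]
  refine IsHausdorff.haus' (I := Ideal.span {(p : B)}) _ fun k => ?_
  rw [SModEq.zero]
  obtain ⟨y, z, hx⟩ := exists_approx ((p : ℕ) : D0 p A a) x k
  rw [hx, map_add, map_add, agree_on_D0 hB f g y, add_sub_add_left_eq_sub, map_mul, map_mul,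
    map_pow, map_pow, cast_D, map_natCast, map_natCast, ← mul_sub, smul_eq_mul, Ideal.mul_top,
    Ideal.span_singleton_pow]
  exact Ideal.mul_mem_right _ _ (Ideal.mem_span_singleton_self _)

theorem nonempty_algHom [IsAdicComplete (Ideal.span {(p : B)}) B]
    (hB : IsSMulRegular B (p : B))
    (hab : ∀ i, algebraMap A B (a i) ∈ Ideal.span {(p : B)}) : Nonempty (D p A a →ₐ[A] B) := by
  have hab' : ∀ i, ∃ b : B, b * (p : B) = algebraMap A B (a i) := fun i =>
    Ideal.mem_span_singleton'.mp (hab i)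
  choose b hb using hab'
  let φ₀ : MvPolynomial (Fin n) A →ₐ[A] B := MvPolynomial.aeval b
  have hφ₀ : ∀ x ∈ relIdeal p A a, φ₀ x = 0 := by
    intro x hx
    have : relIdeal p A a ≤ RingHom.ker φ₀.toRingHom := by
      refine Ideal.span_le.mpr ?_
      rintro _ ⟨i, rfl⟩
      rw [SetLike.mem_coe, RingHom.mem_ker]
      change φ₀ _ = 0
      simp only [φ₀, map_sub, map_mul, MvPolynomial.aeval_C, MvPolynomial.aeval_X, map_natCast]
      rw [← hb i]; ring
    exact this hx
  let φ₁ : Q p A a →ₐ[A] B := Ideal.Quotient.liftₐ (relIdeal p A a) φ₀ hφ₀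
  have hφ₁ : ∀ x ∈ torIdeal ((p : ℕ) : Q p A a), φ₁ x = 0 := by
    rintro x ⟨k, hk⟩
    have h1 : ((p : B) ^ k) • φ₁ x = 0 := by
      rw [smul_eq_mul, ← map_natCast φ₁, ← map_pow, ← map_mul, hk, map_zero]
    exact (hB.pow k).right_eq_zero_of_smul h1
  let φ₂ : D0 p A a →ₐ[A] B := Ideal.Quotient.liftₐ (torIdeal ((p : ℕ) : Q p A a)) φ₁ hφ₁
  have hφ₂p : φ₂ (p : D0 p A a) = (p : B) := map_natCast φ₂ p
  have hcomap : ∀ k : ℕ, (Ideal.span {((p : ℕ) : D0 p A a)}) ^ k ≤
      ((Ideal.span {(p : B)}) ^ k).comap φ₂ := by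
    intro k
    rw [← Ideal.map_le_iff_le_comap, Ideal.map_pow, Ideal.map_span, Set.image_singleton]
    rw [hφ₂p]
  let f : ∀ k : ℕ, D p A a →ₐ[A] B ⧸ (Ideal.span {(p : B)}) ^ k := fun k =>
    (Ideal.quotientMapₐ ((Ideal.span {(p : B)}) ^ k) φ₂ (hcomap k)).comp
      ((AdicCompletion.evalₐ (Ideal.span {((p : ℕ) : D0 p A a)}) k).restrictScalars A)
  have hf : ∀ {m k : ℕ} (hle : m ≤ k),
      (Ideal.Quotient.factorₐ A (Ideal.pow_le_pow_right hle)).comp (f k) = f m := by
    intro m k hle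
    ext x
    obtain ⟨c, rfl⟩ := AdicCompletion.mk_surjective _ _ x
    simp only [f, AlgHom.comp_apply, AlgHom.restrictScalars_apply, AdicCompletion.evalₐ_mk]
    rw [Ideal.quotient_map_mkₐ, Ideal.quotient_map_mkₐ, Ideal.Quotient.mkₐ_eq_mk,
      Ideal.Quotient.mkₐ_eq_mk, Ideal.Quotient.factorₐ_apply_mk, Ideal.Quotient.eq]
    have h3 := c.2 hle
    rw [SModEq.sub_mem, smul_eq_mul, Ideal.mul_top] at h3
    have h4 := hcomap m h3
    rw [Ideal.mem_comap, map_sub] at h4
    rw [← neg_sub]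
    exact neg_mem h4
  exact ⟨IsAdicComplete.liftAlgHom (Ideal.span {(p : B)}) f hf⟩

end univ

theorem exists_dilatation :
    ∃ (D : Type u) (_ : CommRing D) (_ : Algebra A D),
      IsAdicComplete (Ideal.span {(p : D)}) D ∧ IsSMulRegular D (p : D) ∧
      (∀ i, algebraMap A D (a i) ∈ Ideal.span {(p : D)}) ∧
      ∀ (B : Type u) [CommRing B] [Algebra A B] [IsAdicComplete (Ideal.span {(p : B)}) B],
        IsSMulRegular B (p : B) → (∀ i, algebraMap A B (a i) ∈ Ideal.span {(p : B)}) →
          Nonempty (D →ₐ[A] B) ∧ Subsingleton (D →ₐ[A] B) ∧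
            (Function.Surjective (algebraMap A B) → ∀ f : D →ₐ[A] B, Function.Surjective f) := by
  refine ⟨D p A a, inferInstance, inferInstance, D_complete p A a, D_regular p A a,
    D_div p A a, ?_⟩
  intro B _ _ _ hB hab
  refine ⟨nonempty_algHom hB hab, subsingleton_algHom hB, fun hsurj f x => ?_⟩
  obtain ⟨y, rfl⟩ := hsurj x
  exact ⟨algebraMap A (D p A a) y, f.commutes y⟩

end main

end Groth.Agent.H95.Dilat
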