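import Mathlib

/-!
# Cardinality of a ring epimorphism with infinite source: `|S| ≤ |R|`
via the zigzag description coming from the equational criterion for vanishing of tensors.
-/

namespace Groth.Agent.H95.EpiCard

open TensorProduct Cardinal

universe u

variable {R S : Type u} [CommRing R] [CommRing S] [Algebra R S]

/-- zigzag data for an element `g` of `S`, over a matrix `a` with entries in `R` -/
def Valid (n k : ℕ) (a : Fin n → Fin k → R) (i0 i1 : Fin n) (g : S) : Prop :=
  ∃ (m : Fin n → S) (y : Fin k → S), m i0 = g ∧ m i1 = 1 ∧ (∀ j, ∑ i, a i j • m i = 0) ∧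
    ∀ i, ∑ j, a i j • y j = if i = i0 then 1 else if i = i1 then -g else 0

theorem valid_unique {n k : ℕ} {a : Fin n → Fin k → R} {i0 i1 : Fin n} (h01 : i0 ≠ i1) {g g' : S}
    (hg : Valid n k a i0 i1 g) (hg' : Valid n k a i0 i1 g') : g = g' := by
  obtain ⟨m, y, hm0, hm1, hm, hy⟩ := hg
  obtain ⟨m', y', hm0', hm1', hm', hy'⟩ := hg'
  have h1 : ∑ i, m' i * ∑ j, a i j • y j = 0 := by
    simp only [Finset.mul_sum]
    rw [Finset.sum_comm]
    apply Finset.sum_eq_zero
    intro j _
    have : ∑ i, m' i * a i j • y j = (∑ i, a i j • m' i) * y j := by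
      rw [Finset.sum_mul]
      apply Finset.sum_congr rfl
      intro i _
      rw [Algebra.smul_def, Algebra.smul_def]
      ring
    rw [this, hm' j, zero_mul]
  have h2 : ∑ i, m' i * ∑ j, a i j • y j = g' - g := by
    have : ∀ i, m' i * ∑ j, a i j • y j =
        (if i = i0 then m' i else 0) + (if i = i1 then m' i * (-g) else 0) := by
      intro i
      rw [hy i]
      by_cases hi0 : i = i0
      · subst hi0
        rw [if_pos rfl, if_pos rfl, if_neg h01, mul_one, add_zero]
      · rw [if_neg hi0, if_neg hi0]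
        by_cases hi1 : i = i1
        · rw [if_pos hi1, if_pos hi1, zero_add]
        · rw [if_neg hi1, if_neg hi1, mul_zero, add_zero]
    simp only [this, Finset.sum_add_distrib, Finset.sum_ite_eq', Finset.mem_univ, if_true]
    rw [hm0', hm1']
    ring
  rw [h1] at h2
  exact (sub_eq_zero.1 h2.symm).symm

theorem exists_valid [Algebra.IsEpi R S] (g : S) :
    ∃ (n k : ℕ) (a : Fin n → Fin k → R) (i0 i1 : Fin n), i0 ≠ i1 ∧ Valid n k a i0 i1 g := by
  classical
  have hepi : (1 : S) ⊗ₜ[R] g = g ⊗ₜ[R] 1 :=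
    (Algebra.isEpi_iff_forall_one_tmul_eq R S).1 inferInstance g
  -- the submodule spanned by `g` and `1`
  let P : Submodule R S := Submodule.span R {g, 1}
  have hPfg : P.FG := Submodule.fg_span (Set.toFinite _)
  have hgP : g ∈ P := Submodule.subset_span (by simp)
  have h1P : (1 : S) ∈ P := Submodule.subset_span (by simp)
  let t : P ⊗[R] S := (⟨g, hgP⟩ : P) ⊗ₜ[R] (1 : S) - (⟨1, h1P⟩ : P) ⊗ₜ[R] g
  have ht : LinearMap.rTensor S P.subtype t = 0 := by
    simp only [t, map_sub, LinearMap.rTensor_tmul, Submodule.subtype_apply]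
    rw [hepi, sub_self]
  obtain ⟨Q, hPQ, hQfg, hQ⟩ := TensorProduct.eq_zero_of_fg_of_subtype_eq_zero hPfg ht
  obtain ⟨s, hs⟩ := hQfg
  have hgQ : g ∈ Q := hPQ hgP
  have h1Q : (1 : S) ∈ Q := hPQ h1P
  have hsQ : ∀ x ∈ s, x ∈ Q := fun x hx => hs ▸ Submodule.subset_span hx
  -- the generating family
  let ι := Bool ⊕ s
  let mm : ι → Q := fun i => match i with
    | Sum.inl true => ⟨g, hgQ⟩
    | Sum.inl false => ⟨1, h1Q⟩
    | Sum.inr x => ⟨x.1, hsQ x.1 x.2⟩
  let nn : ι → S := fun i => match i with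
    | Sum.inl true => 1
    | Sum.inl false => -g
    | Sum.inr _ => 0
  have hspan : Submodule.span R (Set.range mm) = ⊤ := by
    rw [eq_top_iff]
    rintro ⟨x, hx⟩ _
    have hx' : x ∈ Submodule.span R (s : Set S) := hs ▸ hx
    have key : ∀ z (hz : z ∈ Submodule.span R (s : Set S)),
        (⟨z, hs ▸ hz⟩ : Q) ∈ Submodule.span R (Set.range mm) := by
      intro z hz
      induction hz using Submodule.span_induction with
      | mem z hz => exact Submodule.subset_span ⟨Sum.inr ⟨z, hz⟩, rfl⟩
      | zero => exact Submodule.zero_mem _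
      | add z w _ _ hz hw => exact Submodule.add_mem _ hz hw
      | smul r z _ hz => exact Submodule.smul_mem _ r hz
    exact key x hx'
  have hsum : ∑ i, mm i ⊗ₜ[R] nn i = (0 : Q ⊗[R] S) := by
    rw [Fintype.sum_sum_type]
    simp only [Fintype.univ_bool, mm, nn, tmul_zero, Finset.sum_const_zero, add_zero]
    rw [Finset.sum_pair (by decide)]
    have : LinearMap.rTensor S (Submodule.inclusion hPQ) t =
        (⟨g, hgQ⟩ : Q) ⊗ₜ[R] (1 : S) + (⟨1, h1Q⟩ : Q) ⊗ₜ[R] (-g) := by
      simp only [t, tmul_neg, sub_eq_add_neg]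
      rfl
    rw [← this, hQ]
  -- reindex by `Fin n`
  let e : ι ≃ Fin (Fintype.card ι) := Fintype.equivFin ι
  have hspan' : Submodule.span R (Set.range (mm ∘ e.symm)) = ⊤ := by
    rw [Set.range_comp, e.symm.surjective.range_eq, Set.image_univ]
    exact hspan
  have hsum' : ∑ p, (mm ∘ e.symm) p ⊗ₜ[R] (nn ∘ e.symm) p = (0 : Q ⊗[R] S) := by
    rw [← hsum]
    exact Equiv.sum_comp e.symm (fun i => mm i ⊗ₜ[R] nn i)
  obtain ⟨k, a, y, hy, ha⟩ :=
    TensorProduct.vanishesTrivially_of_sum_tmul_eq_zero R hspan' hsum'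
  refine ⟨Fintype.card ι, k, a, e (Sum.inl true), e (Sum.inl false), ?_,
    fun p => ((mm ∘ e.symm) p : S), y, ?_, ?_, ?_, ?_⟩
  · intro h
    have h' : (Sum.inl true : ι) = Sum.inl false := e.injective h
    exact Bool.noConfusion (Sum.inl.inj h')
  · simp [mm]
  · simp [mm]
  · intro j
    have := congrArg (Subtype.val) (ha j)
    simpa using this
  · intro p
    rw [← hy p]
    obtain ⟨i, rfl⟩ := e.surjective p
    simp only [Function.comp_apply, Equiv.symm_apply_apply, EmbeddingLike.apply_eq_iff_eq]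
    rcases i with (_ | _) | x
    · rw [if_neg (fun h => Bool.noConfusion (Sum.inl.inj h)), if_pos rfl]
    · rw [if_pos rfl]
    · rw [if_neg (by simp), if_neg (by simp)]

/-- the type of matrices-with-marked-rows over `R` -/
abbrev Data (R : Type u) : Type u :=
  Σ (n : ℕ) (k : ℕ), (Fin n → Fin k → R) × (Fin n × Fin n)

theorem mk_data_le (R : Type u) [Infinite R] : #(Data R) ≤ #R := by
  have hR : ℵ₀ ≤ #R := aleph0_le_mk R
  have hsumconst : (sum fun _ : ℕ => #R) = #R := by
    rw [sum_const, mk_nat, lift_aleph0, lift_uzero, aleph0_mul_eq hR]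
  have h1 : ∀ n k : ℕ, #((Fin n → Fin k → R) × (Fin n × Fin n)) ≤ #R := by
    intro n k
    have ha : #(Fin n → Fin k → R) ≤ #R := by
      have hinj : Function.Injective
          (fun a : Fin n → Fin k → R => List.ofFn (fun i => List.ofFn (a i))) := by
        intro a b hab
        have := List.ofFn_injective hab
        funext i
        exact List.ofFn_injective (congrFun this i)
      calc #(Fin n → Fin k → R) ≤ #(List (List R)) := mk_le_of_injective hinj
        _ = #(List R) := mk_list_eq_mk _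
        _ = #R := mk_list_eq_mk _
    have hb : lift.{u} #(Fin n × Fin n) ≤ #R := by
      have : #(Fin n × Fin n) < ℵ₀ := lt_aleph0_of_finite _
      calc lift.{u} #(Fin n × Fin n) ≤ lift.{u} ℵ₀ := lift_le.2 this.le
        _ = ℵ₀ := lift_aleph0
        _ ≤ #R := hR
    rw [mk_prod, lift_uzero]
    calc #(Fin n → Fin k → R) * lift.{u} #(Fin n × Fin n) ≤ #R * #R := mul_le_mul' ha hb
      _ = #R := mul_eq_self hR
  unfold Data
  rw [mk_sigma]
  calc (sum fun n => #(Σ k, (Fin n → Fin k → R) × (Fin n × Fin n))) ≤ sum fun _ : ℕ => #R := by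
        apply sum_le_sum
        intro n
        rw [mk_sigma]
        calc _ ≤ sum fun _ : ℕ => #R := sum_le_sum _ _ (h1 n)
          _ = #R := hsumconst
    _ = #R := hsumconst

theorem mk_le [Algebra.IsEpi R S] [Infinite R] : #S ≤ #R := by
  choose n k a i0 i1 h01 hv using exists_valid (R := R) (S := S)
  let f : S → Data R := fun g => ⟨n g, k g, a g, i0 g, i1 g⟩
  have hf : Function.Injective f := by
    intro g g' h
    have key : ∀ (d d' : Data R), d = d' → ∀ (x x' : S),
        Valid d.1 d.2.1 d.2.2.1 d.2.2.2.1 d.2.2.2.2 x →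
        Valid d'.1 d'.2.1 d'.2.2.1 d'.2.2.2.1 d'.2.2.2.2 x' →
        d.2.2.2.1 ≠ d.2.2.2.2 → x = x' := by
      rintro d _ rfl x x' hx hx' hne
      exact valid_unique hne hx hx'
    exact key (f g) (f g') h g g' (hv g) (hv g') (h01 g)
  exact (mk_le_of_injective hf).trans (mk_data_le R)

end Groth.Agent.H95.EpiCard
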