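import Mathlib

/-!
# A Grothendieck topology on `Over S` from a class of quasi-compact morphisms (affine-local coverings)
-/


universe u

namespace Groth.Agent.H95.TopFromClass

open CategoryTheory CategoryTheory.Limits AlgebraicGeometry

variable {S : Scheme.{u}}

theorem C_sigma_comp (C : MorphismProperty Scheme.{u}) [C.IsStableUnderComposition] [C.RespectsIso]
    (hcoprod : ∀ (κ : Type u) [Finite κ] (A B : κ → Scheme.{u}) (f : ∀ j, A j ⟶ B j),
      (∀ j, C (f j)) → C (Limits.Sigma.map f))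
    {κ : Type u} [Finite κ] {U : Scheme.{u}} (V : κ → Scheme.{u}) (b : ∀ k, V k ⟶ U)
    (hb : C (Limits.Sigma.desc b))
    (lam : κ → Type u) [∀ k, Finite (lam k)] (T : ∀ k, lam k → Scheme.{u})
    (a : ∀ k l, T k l ⟶ V k) (ha : ∀ k, C (Limits.Sigma.desc (a k))) :
    C (Limits.Sigma.desc (fun p : Σ k, lam k => a p.1 p.2 ≫ b p.1)) := by
  have h1 : C (Limits.Sigma.map (fun k => Limits.Sigma.desc (a k))) := hcoprod κ _ _ _ ha
  have h2 := C.comp_mem _ _ h1 hb
  have : Limits.Sigma.desc (fun p : Σ k, lam k => a p.1 p.2 ≫ b p.1) =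
      (sigmaSigmaIso lam T).inv ≫ Limits.Sigma.map (fun k => Limits.Sigma.desc (a k)) ≫ Limits.Sigma.desc b := by
    ext ⟨k, l⟩
    simp
  rw [this]
  exact (C.cancel_left_of_respectsIso _ _).mpr h2

theorem C_sigma_pullback (C : MorphismProperty Scheme.{u}) [C.IsStableUnderBaseChange]
    {κ : Type u} [Finite κ] {U W : Scheme.{u}} (V : κ → Scheme.{u}) (ψ : ∀ j, V j ⟶ U)
    (g : W ⟶ U) (h : C (Limits.Sigma.desc ψ)) :
    C (Limits.Sigma.desc (fun j => pullback.snd (ψ j) g)) := by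
  have hau : IsUniversalColimit (Cofan.mk (∐ V) (Sigma.ι V)) :=
    FinitaryPreExtensive.isUniversal_finiteCoproducts (coproductIsCoproduct V)
  have := hau.isPullback_of_isColimit_right (f := ψ) (u := Limits.Sigma.desc ψ) (v := g)
    (P := fun j => pullback (ψ j) g) (fun j => pullback.fst (ψ j) g)
    (fun j => pullback.snd (ψ j) g) (fun j => IsPullback.of_hasPullback _ _)
    (coproductIsCoproduct _) (by intro i; simp)
  have h2 := C.of_isPullback this h
  have key : (Limits.Sigma.desc fun j => pullback.snd (ψ j) g) =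
      Cofan.IsColimit.desc (coproductIsCoproduct fun j => pullback (ψ j) g)
        fun j => pullback.snd (ψ j) g := by
    apply Limits.Sigma.hom_ext
    intro j
    simp [Cofan.IsColimit.desc, Sigma.ι, coproductIsCoproduct]
  rw [key]
  exact h2



/-- The `Over S`-morphism into `X` determined by a scheme morphism into `X.left`. -/
abbrev toOver (X : Over S) {V : Scheme.{u}} (a : V ⟶ X.left) : Over.mk (a ≫ X.hom) ⟶ X :=
  Over.homMk a rfl

/-- Membership of a scheme morphism into `X.left` in a sieve on `X : Over S`. -/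
def InSieve {X : Over S} (R : Sieve X) {V : Scheme.{u}} (a : V ⟶ X.left) : Prop :=
  R.arrows (toOver X a)

theorem inSieve_iff {X : Over S} (R : Sieve X) {Z : Over S} (f : Z ⟶ X) :
    R.arrows f ↔ InSieve R f.left := by
  let e : Z ≅ Over.mk (f.left ≫ X.hom) := Over.isoMk (Iso.refl _) (by simp)
  have h1 : e.hom ≫ toOver X f.left = f := by ext; simp [e]
  have h2 : e.inv ≫ f = toOver X f.left := by ext; simp [e]
  constructor
  · intro h; unfold InSieve; rw [← h2]; exact R.downward_closed h _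
  · intro h; rw [← h1]; exact R.downward_closed h _

theorem InSieve.comp {X : Over S} {R : Sieve X} {V V' : Scheme.{u}} {a : V ⟶ X.left}
    (h : InSieve R a) (b : V' ⟶ V) : InSieve R (b ≫ a) := by
  have : toOver X (b ≫ a) = (Over.homMk b (by simp) :
      Over.mk ((b ≫ a) ≫ X.hom) ⟶ Over.mk (a ≫ X.hom)) ≫ toOver X a := by
    ext; simp
  unfold InSieve; rw [this]; exact R.downward_closed h _

theorem inSieve_pullback {X Y : Over S} (R : Sieve X) (f : Y ⟶ X) {V : Scheme.{u}}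
    (a : V ⟶ Y.left) : InSieve (R.pullback f) a ↔ InSieve R (a ≫ f.left) := by
  unfold InSieve
  rw [Sieve.pullback_apply, inSieve_iff]
  exact Iff.rfl

theorem inSieve_top {X : Over S} {V : Scheme.{u}} (a : V ⟶ X.left) :
    InSieve (⊤ : Sieve X) a := trivial

theorem inSieve_congr {X : Over S} (R : Sieve X) {V : Scheme.{u}} {a b : V ⟶ X.left}
    (h : a = b) : InSieve R a ↔ InSieve R b := by subst h; rfl

variable (C : MorphismProperty Scheme.{u})

/-- Local covering datum over an open `U` of `X.left`. -/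
def LocCov {X : Over S} (R : Sieve X) (U : X.left.Opens) : Prop :=
  ∃ (κ : Type u) (_ : Finite κ) (V : κ → Scheme.{u}) (ψ : ∀ j, V j ⟶ (U : Scheme.{u})),
    (∀ j, IsAffine (V j)) ∧ (∀ j, InSieve R (ψ j ≫ U.ι)) ∧ C (Limits.Sigma.desc ψ)

/-- Covering sieves. -/
def Cov {X : Over S} (R : Sieve X) : Prop :=
  ∃ (ι : Type u) (U : ι → X.left.Opens), (∀ i, IsAffineOpen (U i)) ∧ ⨆ i, U i = ⊤ ∧
    ∀ i, LocCov C R (U i)

section
variable {C}
variable (haff : ∀ (U : Scheme.{u}) [IsAffine U] (κ : Type u) [Finite κ] (V : κ → U.Opens),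
      (∀ j, IsAffineOpen (V j)) → ⨆ j, V j = ⊤ → C (Limits.Sigma.desc fun j => (V j).ι))

include haff in
theorem locCov_top {X : Over S} (U : X.left.Opens) (hU : IsAffineOpen U) :
    LocCov C (⊤ : Sieve X) U := by
  have : IsAffine (U : Scheme.{u}) := hU
  refine ⟨PUnit.{u+1}, inferInstance, fun _ => ((⊤ : (U : Scheme.{u}).Opens) : Scheme.{u}),
    fun _ => (⊤ : (U : Scheme.{u}).Opens).ι, fun _ => ?_, fun _ => inSieve_top _, ?_⟩
  · exact isAffineOpen_top (U : Scheme.{u})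
  · exact haff (U : Scheme.{u}) PUnit.{u+1} (fun _ => ⊤) (fun _ => isAffineOpen_top _) (by simp)

include haff in
theorem cov_top (X : Over S) : Cov C (⊤ : Sieve X) := by
  refine ⟨X.left.affineOpens, fun W => W.1, fun W => W.2, ?_, fun W => locCov_top haff _ W.2⟩
  exact iSup_affineOpens_eq_top X.left

end

theorem locCov_pullback [C.IsStableUnderBaseChange] {X Y : Over S} (R : Sieve X) (f : Y ⟶ X)
    (U : X.left.Opens) (hU : IsAffineOpen U) (h : LocCov C R U)
    (W : Y.left.Opens) (hW : IsAffineOpen W) (hWU : W ≤ f.left ⁻¹ᵁ U) :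
    LocCov C (R.pullback f) W := by
  obtain ⟨κ, hκ, V, ψ, hV, hR, hC⟩ := h
  have : IsAffine (U : Scheme.{u}) := hU
  have : IsAffine (W : Scheme.{u}) := hW
  let g : (W : Scheme.{u}) ⟶ (U : Scheme.{u}) := f.left.resLE U W hWU
  have hg : g ≫ U.ι = W.ι ≫ f.left := Scheme.Hom.resLE_comp_ι _ _
  refine ⟨κ, hκ, fun j => pullback (ψ j) g, fun j => pullback.snd (ψ j) g, fun j => ?_,
    fun j => ?_, C_sigma_pullback C V ψ g hC⟩
  · infer_instance
  · rw [inSieve_pullback]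
    have : (pullback.snd (ψ j) g ≫ W.ι) ≫ f.left = pullback.fst (ψ j) g ≫ ψ j ≫ U.ι := by
      rw [Category.assoc, ← hg, ← Category.assoc, ← pullback.condition, Category.assoc]
    rw [inSieve_congr R this]
    exact (hR j).comp _

theorem cov_pullback [C.IsStableUnderBaseChange] {X Y : Over S} (R : Sieve X) (f : Y ⟶ X)
    (h : Cov C R) : Cov C (R.pullback f) := by
  obtain ⟨ι, U, hU, hsup, hloc⟩ := h
  refine ⟨{W : Y.left.affineOpens // ∃ i, W.1 ≤ f.left ⁻¹ᵁ U i}, fun W => W.1.1,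
    fun W => W.1.2, ?_, fun W => ?_⟩
  · rw [eq_top_iff]
    intro y _
    have hy : f.left y ∈ (⨆ i, U i : X.left.Opens) := by rw [hsup]; trivial
    obtain ⟨i, hi⟩ := TopologicalSpace.Opens.mem_iSup.mp hy
    obtain ⟨_, ⟨W, hW, rfl⟩, hyW, hWU⟩ := Y.left.isBasis_affineOpens.exists_subset_of_mem_open
      (show y ∈ (f.left ⁻¹ᵁ U i : Set Y.left) from hi) (f.left ⁻¹ᵁ U i).2
    exact TopologicalSpace.Opens.mem_iSup.mpr ⟨⟨⟨W, hW⟩, i, hWU⟩, hyW⟩
  · obtain ⟨i, hi⟩ := W.2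
    exact locCov_pullback C R f (U i) (hU i) (hloc i) W.1.1 W.1.2 hi

section Trans
variable {C}
variable [C.IsStableUnderComposition] [C.IsStableUnderBaseChange]
variable (hcoprod : ∀ (κ : Type u) [Finite κ] (A B : κ → Scheme.{u}) (f : ∀ j, A j ⟶ B j),
      (∀ j, C (f j)) → C (Limits.Sigma.map f))
variable (haff : ∀ (U : Scheme.{u}) [IsAffine U] (κ : Type u) [Finite κ] (V : κ → U.Opens),
      (∀ j, IsAffineOpen (V j)) → ⨆ j, V j = ⊤ → C (Limits.Sigma.desc fun j => (V j).ι))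

theorem exists_finite_subcover {Y : Scheme.{u}} [CompactSpace Y] {ι' : Type u}
    (U' : ι' → Y.Opens) (hsup : ⨆ i, U' i = ⊤) :
    ∃ t : Finset ι', ⨆ k : t, U' k.1 = ⊤ := by
  obtain ⟨t, ht⟩ := isCompact_univ.elim_finite_subcover (fun i => (U' i : Set Y))
    (fun i => (U' i).2) (by
      intro y _
      have : y ∈ (⨆ i, U' i : Y.Opens) := by rw [hsup]; trivial
      obtain ⟨i, hi⟩ := TopologicalSpace.Opens.mem_iSup.mp this
      exact Set.mem_iUnion.mpr ⟨i, hi⟩)
  refine ⟨t, ?_⟩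
  rw [eq_top_iff]
  intro y _
  obtain ⟨i, hi⟩ := Set.mem_iUnion.mp (ht (Set.mem_univ y))
  obtain ⟨hit, hy⟩ := Set.mem_iUnion.mp hi
  exact TopologicalSpace.Opens.mem_iSup.mpr ⟨⟨i, hit⟩, hy⟩

include hcoprod haff in
theorem locCov_transitive {X : Over S} (S' R : Sieve X) (U : X.left.Opens)
    (h : LocCov C S' U)
    (hR : ∀ ⦃Y : Over S⦄ ⦃g : Y ⟶ X⦄, S'.arrows g → Cov C (R.pullback g)) : LocCov C R U := by
  obtain ⟨κ, hκ, V, ψ, hV, hS, hC⟩ := h
  have step : ∀ j, ∃ (lam : Type u) (_ : Finite lam) (W : lam → (V j).Opens),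
      (∀ k, IsAffineOpen (W k)) ∧ ⨆ k, W k = ⊤ ∧
      ∀ k, LocCov C (R.pullback (toOver X (ψ j ≫ U.ι))) (W k) := by
    intro j
    obtain ⟨ι', U', hU', hsup', hloc'⟩ := hR (hS j)
    have : CompactSpace (V j) := inferInstance
    obtain ⟨t, ht⟩ := exists_finite_subcover (Y := V j) U' hsup'
    exact ⟨t, inferInstance, fun k => U' k.1, fun k => hU' _, ht, fun k => hloc' _⟩
  choose lam hlam W hW hWsup hWloc using step
  choose μ hμ T τ hT hτR hτC using hWloc
  refine ⟨Σ j, Σ k : lam j, μ j k, inferInstance, fun p => T p.1 p.2.1 p.2.2,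
    fun p => (τ p.1 p.2.1 p.2.2 ≫ (W p.1 p.2.1).ι) ≫ ψ p.1, fun p => hT _ _ _, fun p => ?_, ?_⟩
  · have := (inSieve_pullback R _ _).mp (hτR p.1 p.2.1 p.2.2)
    rw [inSieve_congr R (show ((τ p.1 p.2.1 p.2.2 ≫ (W p.1 p.2.1).ι) ≫ ψ p.1) ≫ U.ι =
      (τ p.1 p.2.1 p.2.2 ≫ (W p.1 p.2.1).ι) ≫ (toOver X (ψ p.1 ≫ U.ι)).left from by simp)]
    exact this
  · have h1 : ∀ j, C (Limits.Sigma.desc
        (fun q : Σ k : lam j, μ j k => τ j q.1 q.2 ≫ (W j q.1).ι)) := fun j =>
      C_sigma_comp C hcoprod (fun k => ((W j k : (V j).Opens) : Scheme.{u})) (fun k => (W j k).ι)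
        (haff (V j) (lam j) (W j) (hW j) (hWsup j)) (μ j) (T j) (τ j) (hτC j)
    exact C_sigma_comp C hcoprod V ψ hC (fun j => Σ k : lam j, μ j k) (fun j q => T j q.1 q.2)
      (fun j q => τ j q.1 q.2 ≫ (W j q.1).ι) h1

include hcoprod haff in
theorem cov_transitive {X : Over S} (S' R : Sieve X) (hS : Cov C S')
    (hR : ∀ ⦃Y : Over S⦄ ⦃g : Y ⟶ X⦄, S'.arrows g → Cov C (R.pullback g)) : Cov C R := by
  obtain ⟨ι, U, hU, hsup, hloc⟩ := hS
  exact ⟨ι, U, hU, hsup, fun i => locCov_transitive hcoprod haff S' R (U i) (hloc i) hR⟩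

end Trans

theorem locCov_iff {X : Over S} (R : Sieve X) (U : X.left.Opens) :
    LocCov C R U ↔ ∃ (κ : Type u) (_ : Finite κ) (V : κ → Over S) (φ : ∀ j, V j ⟶ X)
          (ψ : ∀ j, (V j).left ⟶ (U : Scheme.{u})),
          (∀ j, IsAffine (V j).left) ∧ (∀ j, R.arrows (φ j)) ∧ (∀ j, ψ j ≫ U.ι = (φ j).left) ∧
            C (Limits.Sigma.desc ψ) := by
  constructor
  · rintro ⟨κ, hκ, V, ψ, hV, hR, hC⟩
    exact ⟨κ, hκ, fun j => Over.mk ((ψ j ≫ U.ι) ≫ X.hom), fun j => toOver X (ψ j ≫ U.ι), ψ,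
      hV, hR, fun j => rfl, hC⟩
  · rintro ⟨κ, hκ, V, φ, ψ, hV, hR, hψ, hC⟩
    refine ⟨κ, hκ, fun j => (V j).left, ψ, hV, fun j => ?_, hC⟩
    rw [inSieve_congr R (hψ j)]
    exact (inSieve_iff R (φ j)).mp (hR j)

theorem main (S : Scheme.{u})
    (C : MorphismProperty Scheme.{u}) [C.IsStableUnderComposition] [C.IsStableUnderBaseChange]
    (hcoprod : ∀ (κ : Type u) [Finite κ] (A B : κ → Scheme.{u}) (f : ∀ j, A j ⟶ B j),
      (∀ j, C (f j)) → C (Limits.Sigma.map f))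
    (haff : ∀ (U : Scheme.{u}) [IsAffine U] (κ : Type u) [Finite κ] (V : κ → U.Opens),
      (∀ j, IsAffineOpen (V j)) → ⨆ j, V j = ⊤ → C (Limits.Sigma.desc fun j => (V j).ι)) :
    ∃ J : GrothendieckTopology (Over S), ∀ (X : Over S) (R : Sieve X), R ∈ J X ↔
      ∃ (ι : Type u) (U : ι → X.left.Opens), (∀ i, IsAffineOpen (U i)) ∧ ⨆ i, U i = ⊤ ∧
        ∀ i, ∃ (κ : Type u) (_ : Finite κ) (V : κ → Over S) (φ : ∀ j, V j ⟶ X)
          (ψ : ∀ j, (V j).left ⟶ (U i : Scheme.{u})),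
          (∀ j, IsAffine (V j).left) ∧ (∀ j, R.arrows (φ j)) ∧ (∀ j, ψ j ≫ (U i).ι = (φ j).left) ∧
            C (Limits.Sigma.desc ψ) := by
  refine ⟨{ sieves := fun X => {R | Cov C R}
            top_mem' := fun X => cov_top haff X
            pullback_stable' := fun X Y R f hR => cov_pullback C R f hR
            transitive' := fun X S' hS R hR => cov_transitive hcoprod haff S' R hS hR }, ?_⟩
  intro X R
  change Cov C R ↔ _
  unfold Cov
  simp only [locCov_iff]

end Groth.Agent.H95.TopFromClass
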