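import Mathlib
import Groth.Agent.H95.TopFromClass

/-!
# Étale sheaves on the small étale site: Zariski sheaf + affine surjective single arrows
-/

universe w u

set_option backward.isDefEq.respectTransparency.types false

namespace Groth.Agent.H95.EtSheafAff

open CategoryTheory CategoryTheory.Limits AlgebraicGeometry

variable {X : Scheme.{u}}

theorem isOpenImmersion_le_etale : (@IsOpenImmersion : MorphismProperty Scheme.{u}) ≤ @Etale :=
  fun _ _ f hf => by
    have : IsOpenImmersion f := hf
    infer_instance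

theorem mem_small_iff (P : MorphismProperty Scheme.{u}) [P.IsStableUnderBaseChange]
    [P.IsMultiplicative] [P.RespectsIso] (hP : P ≤ @Etale)
    (U : MorphismProperty.Over (@Etale : MorphismProperty Scheme.{u}) ⊤ X) (R : Sieve U) :
    R ∈ X.smallGrothendieckTopology (P := P) (Q := @Etale) U ↔
      ∀ x : U.left, ∃ (Y : MorphismProperty.Over (@Etale : MorphismProperty Scheme.{u}) ⊤ X)
        (f : Y ⟶ U) (y : Y.left), R f ∧ P f.left ∧ f.left y = x := by
  rw [Scheme.smallGrothendieckTopology_eq_toGrothendieck_smallPretopology X hP]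
  exact Scheme.mem_toGrothendieck_smallPretopology U R

theorem mem_et_iff (U : X.Etale) (R : Sieve U) :
    R ∈ X.smallEtaleTopology U ↔
      ∀ x : U.left, ∃ (Y : X.Etale) (f : Y ⟶ U) (y : Y.left), R f ∧ f.left y = x := by
  refine (mem_small_iff (X := X) @Etale le_rfl U R).trans ?_
  refine forall_congr' fun x => ⟨?_, ?_⟩
  · rintro ⟨Y, f, y, h1, -, h3⟩
    exact ⟨Y, f, y, h1, h3⟩
  · rintro ⟨Y, f, y, h1, h3⟩
    exact ⟨Y, f, y, h1, inferInstanceAs (Etale f.left), h3⟩

theorem mem_zar_iff (U : X.Etale) (R : Sieve U) :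
    R ∈ X.smallGrothendieckTopology (P := @IsOpenImmersion) U ↔
      ∀ x : U.left, ∃ (Y : X.Etale) (f : Y ⟶ U) (y : Y.left),
        R f ∧ IsOpenImmersion f.left ∧ f.left y = x :=
  mem_small_iff (X := X) @IsOpenImmersion isOpenImmersion_le_etale U R

/-- An open subscheme of an étale `X`-scheme, as an object of `X.Etale`. -/
noncomputable def openObj (W : X.Etale) (V : W.left.Opens) : X.Etale :=
  Scheme.Etale.mk (V.ι ≫ W.hom)

/-- The inclusion of an open subscheme, as a morphism of `X.Etale`. -/
noncomputable def openInc (W : X.Etale) (V : W.left.Opens) : openObj W V ⟶ W :=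
  MorphismProperty.Over.homMk V.ι rfl trivial

@[simp] theorem openObj_left (W : X.Etale) (V : W.left.Opens) : (openObj W V).left = V := rfl
@[simp] theorem openInc_left (W : X.Etale) (V : W.left.Opens) : (openInc W V).left = V.ι := rfl

instance (W : X.Etale) (V : W.left.affineOpens) : IsAffine (openObj W V.1).left := V.2

/-- The affine open pre-0-hypercover of an object of `X.Etale`. -/
noncomputable def affCov (W : X.Etale) : PreZeroHypercover.{u} W where
  I₀ := W.left.affineOpens
  X i := openObj W i.1
  f i := openInc W i.1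

instance (W : X.Etale) (i : (affCov W).I₀) : IsAffine ((affCov W).X i).left :=
  inferInstanceAs (IsAffine (openObj W i.1).left)

theorem affCov_mem (W : X.Etale) :
    (affCov W).sieve₀ ∈ X.smallGrothendieckTopology (P := @IsOpenImmersion) W := by
  rw [mem_zar_iff]
  intro x
  obtain ⟨_, ⟨V, hV, rfl⟩, hxV, -⟩ := W.left.isBasis_affineOpens.exists_subset_of_mem_open
    (Set.mem_univ x) isOpen_univ
  refine ⟨openObj W V, openInc W V, ⟨x, hxV⟩, ?_, ?_, rfl⟩
  · exact Sieve.ofArrows_mk _ _ (⟨V, hV⟩ : W.left.affineOpens)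
  · exact (inferInstance : IsOpenImmersion (Scheme.Opens.ι (show W.left.Opens from V)))

/-- The affine Zariski 1-hypercover of an object of `X.Etale`. -/
noncomputable def affOneHypercover (W : X.Etale) :
    (X.smallGrothendieckTopology (P := @IsOpenImmersion)).OneHypercover W :=
  GrothendieckTopology.OneHypercover.mk'
    ((affCov W).refineOneHypercover fun i j => affCov (pullback ((affCov W).f i) ((affCov W).f j)))
    (affCov_mem W) (fun i j => by
      erw [PreZeroHypercover.sieve₁'_refineOneHypercover]
      exact affCov_mem _)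


section Sigma

variable {κ : Type u} (B : κ → X.Etale)

instance : Etale (Limits.Sigma.desc fun k => (B k).hom) :=
  IsZariskiLocalAtSource.sigmaDesc (P := @Etale) fun k => (B k).prop

/-- Coproduct of objects of `X.Etale` (constructed on underlying schemes). -/
noncomputable def sigmaObj : X.Etale := Scheme.Etale.mk (Limits.Sigma.desc fun k => (B k).hom)

theorem sigmaObj_left : (sigmaObj B).left = ∐ fun k => (B k).left := rfl

/-- Coproduct inclusion. -/
noncomputable def sigmaInc (k : κ) : B k ⟶ sigmaObj B :=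
  MorphismProperty.Over.homMk (Sigma.ι (fun k => (B k).left) k)
    (Limits.Sigma.ι_desc _ _) trivial

/-- Morphism out of the coproduct. -/
noncomputable def sigmaDesc {U : X.Etale} (fs : ∀ k, B k ⟶ U) : sigmaObj B ⟶ U :=
  MorphismProperty.Over.homMk (Limits.Sigma.desc fun k => (fs k).left) (by
    apply Limits.Sigma.hom_ext
    intro k
    erw [Limits.Sigma.ι_desc_assoc, Limits.Sigma.ι_desc]
    exact CategoryTheory.Over.w (fs k).hom) trivial

theorem sigmaInc_left (k : κ) : (sigmaInc B k).left = Sigma.ι (fun k => (B k).left) k := rfl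

theorem sigmaDesc_left {U : X.Etale} (fs : ∀ k, B k ⟶ U) :
    (sigmaDesc B fs).left = Limits.Sigma.desc fun k => (fs k).left := rfl

theorem sigmaInc_desc {U : X.Etale} (fs : ∀ k, B k ⟶ U) (k : κ) :
    sigmaInc B k ≫ sigmaDesc B fs = fs k := by
  apply MorphismProperty.Over.Hom.ext
  change Sigma.ι (fun k => (B k).left) k ≫ (Limits.Sigma.desc fun k => (fs k).left) = _
  erw [Limits.Sigma.ι_desc]

end Sigma

section L1

variable (F : X.Etaleᵒᵖ ⥤ Type w)
variable (hZ : Presieve.IsSheaf (X.smallGrothendieckTopology (P := @IsOpenImmersion)) F)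
variable (H2 : ∀ (U V : X.Etale) [IsAffine U.left] [IsAffine V.left] (f : V ⟶ U)
  [Surjective f.left], Presieve.IsSheafFor F (Presieve.singleton f))

include H2 in
theorem isSheafFor_pullback_of_isAffine {U V : X.Etale} [IsAffine U.left] [IsAffine V.left]
    (g : V ⟶ U) [Surjective g.left] (Y' : X.Etale) [IsAffine Y'.left] (f' : Y' ⟶ U) :
    Presieve.IsSheafFor F ((Sieve.generate (Presieve.singleton g)).pullback f').arrows := by
  rw [← Sieve.pullbackArrows_comm, Presieve.pullback_singleton,
    ← Presieve.isSheafFor_iff_generate]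
  have hpb := ((IsPullback.of_hasPullback g f').map (Scheme.Etale.forget X)).map (Over.forget X)
  have hpb' : IsPullback (pullback.fst g f').left (pullback.snd g f').left g.left f'.left := hpb
  have : IsAffine (pullback g f').left := IsAffine.of_isIso hpb'.isoPullback.hom
  have : Surjective (pullback.snd g f').left :=
    MorphismProperty.of_isPullback (P := @Surjective) hpb' ‹Surjective g.left›
  exact H2 _ _ _

include hZ H2 in
theorem generate_singleton_mem_finest {U V : X.Etale} [IsAffine U.left] [IsAffine V.left]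
    (g : V ⟶ U) [Surjective g.left] :
    Sieve.generate (Presieve.singleton g) ∈ Sheaf.finestTopologySingle F U := by
  intro Y f
  refine (affOneHypercover Y).isSheafFor_sieve_of_pullback hZ (fun i => ?_) (fun i j k => ?_)
  · erw [← Sieve.pullback_comp]
    exact isSheafFor_pullback_of_isAffine F H2 g ((affCov Y).X i) _
  · erw [← Sieve.pullback_comp]
    have : IsAffine ((affCov (pullback ((affCov Y).f i) ((affCov Y).f j))).X k).left :=
      inferInstance
    exact (isSheafFor_pullback_of_isAffine F H2 g
      ((affCov (pullback ((affCov Y).f i) ((affCov Y).f j))).X k) _).isSeparatedFor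

end L1

section Main

variable (F : X.Etaleᵒᵖ ⥤ Type w)
variable (hZ : Presieve.IsSheaf (X.smallGrothendieckTopology (P := @IsOpenImmersion)) F)
variable (H2 : ∀ (U V : X.Etale) [IsAffine U.left] [IsAffine V.left] (f : V ⟶ U)
  [Surjective f.left], Presieve.IsSheafFor F (Presieve.singleton f))

include hZ in
theorem zariski_le_finest :
    X.smallGrothendieckTopology (P := @IsOpenImmersion) ≤ Sheaf.finestTopologySingle F := by
  intro U R hR Y f
  exact hZ _ ((X.smallGrothendieckTopology (P := @IsOpenImmersion)).pullback_stable f hR)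

include hZ H2 in
theorem mem_finest_of_isAffine {U : X.Etale} [IsAffine U.left] (R : Sieve U)
    (hR : R ∈ X.smallEtaleTopology U) : R ∈ Sheaf.finestTopologySingle F U := by
  rw [mem_et_iff] at hR
  choose Y f y hRf hfy using hR
  have hV : ∀ x, ∃ V : (Y x).left.affineOpens, y x ∈ V.1 := fun x => by
    obtain ⟨_, ⟨V, hV, rfl⟩, hxV, -⟩ := (Y x).left.isBasis_affineOpens.exists_subset_of_mem_open
      (Set.mem_univ (y x)) isOpen_univ
    exact ⟨⟨V, hV⟩, hxV⟩
  choose V hyV using hV
  let f' : ∀ x, openObj (Y x) (V x).1 ⟶ U := fun x => openInc (Y x) (V x).1 ≫ f x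
  have hRf' : ∀ x, R (f' x) := fun x => R.downward_closed (hRf x) _
  let O : U.left → U.left.Opens := fun x =>
    ⟨Set.range (f' x).left, (f' x).left.isOpenMap.isOpen_range⟩
  have hxO : ∀ x, x ∈ O x := fun x => ⟨⟨y x, hyV x⟩, by
    change (f x).left (y x) = x
    exact hfy x⟩
  have hsup : ⨆ x, O x = ⊤ :=
    eq_top_iff.mpr fun x _ => TopologicalSpace.Opens.mem_iSup.mpr ⟨x, hxO x⟩
  obtain ⟨t, ht⟩ := Groth.Agent.H95.TopFromClass.exists_finite_subcover (Y := U.left) O hsup
  let B : t → X.Etale := fun x => openObj (Y x.1) (V x.1).1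
  have hBaff : ∀ x : t, IsAffine (B x).left := fun x =>
    inferInstanceAs (IsAffine (openObj _ (V x.1).1).left)
  let g : sigmaObj B ⟶ U := sigmaDesc B fun x => f' x.1
  have : IsAffine (sigmaObj B).left := inferInstanceAs (IsAffine (∐ fun k => (B k).left))
  have : Surjective g.left := ⟨fun u => by
    have hu : u ∈ (⨆ k : t, O k.1 : U.left.Opens) := ht ▸ trivial
    obtain ⟨k, v, hv⟩ := TopologicalSpace.Opens.mem_iSup.mp hu
    refine ⟨(sigmaInc B k).left v, ?_⟩
    have h1 : (sigmaInc B k ≫ sigmaDesc B fun x => f' x.1) = f' k.1 := sigmaInc_desc B _ k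
    have h2 : ((sigmaInc B k).left ≫ (sigmaDesc B fun x => f' x.1).left) = (f' k.1).left :=
      congrArg (fun m => m.left) h1
    change ((sigmaInc B k).left ≫ (sigmaDesc B fun x => f' x.1).left) v = u
    rw [h2]
    exact hv⟩
  have hG := generate_singleton_mem_finest F hZ H2 g
  refine (Sheaf.finestTopologySingle F).transitive hG R ?_
  rintro Y' _ ⟨W, a', b, ⟨⟩, rfl⟩
  rw [Sieve.pullback_comp]
  apply (Sheaf.finestTopologySingle F).pullback_stable
  apply zariski_le_finest F hZ
  refine (mem_zar_iff _ _).mpr ?_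
  intro v
  obtain ⟨k, z, hz⟩ := (sigmaOpenCover fun k => (B k).left).exists_eq v
  refine ⟨_, sigmaInc B k, z, ?_, inferInstanceAs (IsOpenImmersion (Sigma.ι _ k)), hz⟩
  change R (sigmaInc B k ≫ g)
  have h1 : sigmaInc B k ≫ g = f' k.1 := sigmaInc_desc B _ k
  rw [h1]
  exact hRf' _

include hZ H2 in
theorem mem_finest {U : X.Etale} (R : Sieve U)
    (hR : R ∈ X.smallEtaleTopology U) : R ∈ Sheaf.finestTopologySingle F U := by
  have hZmem : (affCov U).sieve₀ ∈ Sheaf.finestTopologySingle F U :=
    zariski_le_finest F hZ _ (affCov_mem U)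
  refine (Sheaf.finestTopologySingle F).transitive hZmem R ?_
  intro Y g hg
  obtain ⟨i, h, rfl⟩ := (Sieve.mem_ofArrows_iff _ _ g).mp hg
  rw [Sieve.pullback_comp]
  apply (Sheaf.finestTopologySingle F).pullback_stable
  exact mem_finest_of_isAffine F hZ H2 _ (X.smallEtaleTopology.pullback_stable _ hR)

end Main

theorem zariski_le_etale :
    X.smallGrothendieckTopology (P := @IsOpenImmersion) ≤ X.smallEtaleTopology := by
  intro U R hR
  refine (mem_et_iff U R).mpr fun x => ?_
  obtain ⟨Y, f, y, h1, -, h3⟩ := (mem_zar_iff U R).mp hR x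
  exact ⟨Y, f, y, h1, h3⟩

theorem generate_singleton_mem_et {U V : X.Etale} (f : V ⟶ U) [Surjective f.left] :
    Sieve.generate (Presieve.singleton f) ∈ X.smallEtaleTopology U := by
  refine (mem_et_iff U _).mpr fun x => ?_
  obtain ⟨y, hy⟩ := f.left.surjective x
  exact ⟨V, f, y, Sieve.le_generate _ _ _ (Presieve.singleton_self f), hy⟩

theorem main (X : Scheme.{u}) (F : X.Etaleᵒᵖ ⥤ Type w) :
    Presieve.IsSheaf X.smallEtaleTopology F ↔
      Presieve.IsSheaf (X.smallGrothendieckTopology (P := @IsOpenImmersion)) F ∧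
        ∀ (U V : X.Etale) [IsAffine U.left] [IsAffine V.left] (f : V ⟶ U) [Surjective f.left],
          Presieve.IsSheafFor F (Presieve.singleton f) := by
  constructor
  · intro hF
    refine ⟨Presieve.isSheaf_of_le F zariski_le_etale hF, fun U V _ _ f _ => ?_⟩
    rw [Presieve.isSheafFor_iff_generate]
    exact hF _ (generate_singleton_mem_et f)
  · rintro ⟨hZ, H2⟩ U R hR
    have := mem_finest F hZ H2 R hR U (𝟙 U)
    rwa [Sieve.pullback_id] at this


end Groth.Agent.H95.EtSheafAff
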