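import Mathlib.LinearAlgebra.ExteriorAlgebra.Basic
import Mathlib.LinearAlgebra.ExteriorAlgebra.OfAlternating
import Mathlib.LinearAlgebra.Matrix.Determinant.Basic
import Mathlib.GroupTheory.Perm.Fin
import Mathlib.Tactic

set_option autoImplicit false
universe u

namespace Groth.Agent.H95

open ExteriorAlgebra

section
variable {k : Type u} [Field k]

/-- anticommutation-based permutation of four factors -/
theorem ext_swap_pairs {M : Type*} [AddCommGroup M] [Module k M] (a b c d : M) :
    ι k c * ι k d * ι k a * ι k b = ι k a * ι k b * ι k c * ι k d := by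
  have anti : ∀ x y : M, ι k x * ι k y = -(ι k y * ι k x) := fun x y =>
    eq_neg_of_add_eq_zero_left (ι_add_mul_swap x y)
  set A := ι k a
  set B := ι k b
  set C := ι k c
  set D := ι k d
  have hDA : D * A = -(A * D) := anti d a
  have hCA : C * A = -(A * C) := anti c a
  have hDB : D * B = -(B * D) := anti d b
  have hCB : C * B = -(B * C) := anti c b
  calc C * D * A * B = C * (D * A) * B := by noncomm_ring
    _ = C * (-(A * D)) * B := by rw [hDA]
    _ = -((C * A) * D * B) := by noncomm_ring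
    _ = -((-(A * C)) * D * B) := by rw [hCA]
    _ = A * C * (D * B) := by noncomm_ring
    _ = A * C * (-(B * D)) := by rw [hDB]
    _ = -(A * (C * B) * D) := by noncomm_ring
    _ = -(A * (-(B * C)) * D) := by rw [hCB]
    _ = A * B * C * D := by noncomm_ring

theorem det_block4 (a b c d : k) :
    Matrix.det !![a, 0, b, 0; 0, a, 0, b; c, 0, d, 0; 0, c, 0, d] = (a * d - b * c) ^ 2 := by
  rw [Matrix.det_succ_row_zero]
  simp [Fin.sum_univ_succ, Matrix.det_fin_three, Fin.succAbove]
  ring

/-- evaluation functionals -/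
noncomputable def ev (c : Fin 2) (a b : Fin 4) : (Fin 2 → Fin 4 → Fin 4 → k) →ₗ[k] k where
  toFun f := f c a b
  map_add' _ _ := rfl
  map_smul' _ _ := rfl

theorem ev_apply (c : Fin 2) (a b : Fin 4) (f : Fin 2 → Fin 4 → Fin 4 → k) :
    ev c a b f = f c a b := rfl

/-- the four coordinates used to detect the top wedge -/
noncomputable def Phi : (Fin 2 → Fin 4 → Fin 4 → k) →ₗ[k] (Fin 4 → k) where
  toFun f := ![f 0 1 2, f 1 1 2, f 0 2 3, f 1 2 3]
  map_add' f g := by
    funext i
    fin_cases i <;> rfl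
  map_smul' r f := by
    funext i
    fin_cases i <;> rfl

theorem Phi_apply (f : Fin 2 → Fin 4 → Fin 4 → k) :
    Phi f = ![f 0 1 2, f 1 1 2, f 0 2 3, f 1 2 3] := rfl

noncomputable def alt4 : (Fin 2 → Fin 4 → Fin 4 → k) [⋀^Fin 4]→ₗ[k] k :=
  (Matrix.detRowAlternating (n := Fin 4) (R := k)).compLinearMap Phi

noncomputable def Lam : ExteriorAlgebra k (Fin 2 → Fin 4 → Fin 4 → k) →ₗ[k] k :=
  liftAlternating (R := k) (M := Fin 2 → Fin 4 → Fin 4 → k) (N := k) (Pi.single 4 alt4)

theorem Lam_prod (a b c d : Fin 2 → Fin 4 → Fin 4 → k) :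
    Lam (ι k a * ι k b * ι k c * ι k d) =
      Matrix.det (Matrix.of ![Phi a, Phi b, Phi c, Phi d]) := by
  have h : ι k a * ι k b * ι k c * ι k d = ιMulti k 4 ![a, b, c, d] := by
    rw [ιMulti_apply]
    simp [List.ofFn_succ, mul_assoc]
  rw [h, Lam, liftAlternating_apply_ιMulti, Pi.single_eq_same]
  change Matrix.det (Matrix.of fun i => Phi (![a, b, c, d] i)) = _
  congr 1
  ext i j
  fin_cases i <;> rfl

end
end Groth.Agent.H95
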