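import Groth.Agent.H95.VanDantzig
import Groth.Prelude.Def_W4c61motalbdualityCompl

set_option autoImplicit false
set_option linter.style.haveILetI false
universe u v

namespace Groth.Agent.H95

open Topology Set W4c61motalbduality

section
variable {A : Type u} {B : Type v} [AddCommGroup A] [TopologicalSpace A] [IsTopologicalAddGroup A]
  [AddCommGroup B] [TopologicalSpace B] [IsTopologicalAddGroup B]
  [T2Space B] [LocallyCompactSpace B] [TotallyDisconnectedSpace B]

theorem exists_openFI_comap_le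
    (hcg : ∃ K : Set B, IsCompact K ∧ AddSubgroup.closure K = ⊤)
    (i : A →+ B) (hi : Continuous i) (hind : IsInducing i) (V : OpenFI A) :
    ∃ W : OpenFI B, (W.comap i hi).toAddSubgroup ≤ V.toAddSubgroup := by
  classical
  haveI := V.finiteIndex'
  haveI : Finite (A ⧸ V.toAddSubgroup) := AddSubgroup.finite_quotient_of_finiteIndex
  -- characters of the finite quotient separating points
  have hc : ∀ q : A ⧸ V.toAddSubgroup, ∃ c : (A ⧸ V.toAddSubgroup) →+ ℚ ⧸ AddSubgroup.zmultiples (1 : ℚ),
      q ≠ 0 → c q ≠ 0 := by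
    intro q
    by_cases hq : q = 0
    · exact ⟨0, fun h => absurd hq h⟩
    · obtain ⟨c, hc⟩ := CharacterModule.exists_character_apply_ne_zero_of_ne_zero hq
      exact ⟨c, fun _ => hc⟩
  choose c hc using hc
  have hext : ∀ q : A ⧸ V.toAddSubgroup, ∃ ψ : B →+ ℚ ⧸ AddSubgroup.zmultiples (1 : ℚ),
      IsOpen (ψ.ker : Set B) ∧ ψ.comp i = (c q).comp (QuotientAddGroup.mk' V.toAddSubgroup) := by
    intro q
    apply exists_char_extension i hind
    apply AddSubgroup.isOpen_mono (H₁ := V.toAddSubgroup) _ V.isOpen'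
    intro a ha
    rw [AddMonoidHom.mem_ker, AddMonoidHom.comp_apply, QuotientAddGroup.mk'_apply,
      (QuotientAddGroup.eq_zero_iff a).mpr ha, map_zero]
  choose ψ hψo hψ using hext
  have hfi : ∀ q, (ψ q).ker.FiniteIndex := fun q =>
    ker_finiteIndex_of_compactly_generated hcg (ψ q) (hψo q)
  refine ⟨⟨⨅ q, (ψ q).ker, ?_, AddSubgroup.finiteIndex_iInf hfi⟩, ?_⟩
  · rw [AddSubgroup.coe_iInf]
    exact isOpen_iInter_of_finite hψo
  · intro a ha
    change i a ∈ ⨅ q, (ψ q).ker at ha
    rw [AddSubgroup.mem_iInf] at ha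
    by_contra hcon
    have hq : (QuotientAddGroup.mk a : A ⧸ V.toAddSubgroup) ≠ 0 := by
      rw [Ne, QuotientAddGroup.eq_zero_iff]
      exact hcon
    have h1 := ha (QuotientAddGroup.mk a)
    rw [AddMonoidHom.mem_ker] at h1
    have h2 := DFunLike.congr_fun (hψ (QuotientAddGroup.mk a)) a
    simp only [AddMonoidHom.comp_apply, QuotientAddGroup.mk'_apply] at h2
    rw [h1] at h2
    exact hc _ hq h2.symm

theorem FICompl_map_injective
    (hcg : ∃ K : Set B, IsCompact K ∧ AddSubgroup.closure K = ⊤)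
    (i : A →+ B) (hi : Continuous i) (hind : IsInducing i) :
    Function.Injective (FICompl.map i hi) := by
  rw [injective_iff_map_eq_zero]
  intro x hx
  apply Subtype.ext
  funext V
  obtain ⟨W, hW⟩ := exists_openFI_comap_le hcg i hi hind V
  have h1 : (FICompl.map i hi x).1 W = 0 := by rw [hx]; rfl
  have h2 : x.1 (W.comap i hi) = 0 := by
    obtain ⟨a, ha⟩ := QuotientAddGroup.mk_surjective (x.1 (W.comap i hi))
    change QuotientAddGroup.map (W.comap i hi).toAddSubgroup W.toAddSubgroup i
      (W.comap_le i) (x.1 (W.comap i hi)) = 0 at h1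
    rw [← ha] at h1
    have h1' : (QuotientAddGroup.mk (i a) : B ⧸ W.toAddSubgroup) = 0 := h1
    rw [QuotientAddGroup.eq_zero_iff] at h1'
    rw [← ha, QuotientAddGroup.eq_zero_iff]
    exact h1'
  have h3 := x.2 (W.comap i hi) V hW
  rw [h2, map_zero] at h3
  exact h3.symm

end
end Groth.Agent.H95
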