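import Groth.Agent.H95.FICompl
import Mathlib.Topology.Algebra.Group.Quotient
import Mathlib.Topology.Separation.Hausdorff
import Mathlib.Topology.Compactness.Compact

set_option autoImplicit false
set_option linter.style.haveILetI false
universe u v w

namespace Groth.Agent.H95

open Topology Set W4c61motalbduality

section
variable {A : Type u} [AddCommGroup A] [TopologicalSpace A] [IsTopologicalAddGroup A]

instance openFI_discrete (U : OpenFI A) : DiscreteTopology (A ⧸ U.toAddSubgroup) :=
  QuotientAddGroup.discreteTopology U.isOpen'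

instance openFI_finite (U : OpenFI A) : Finite (A ⧸ U.toAddSubgroup) := by
  haveI := U.finiteIndex'
  exact AddSubgroup.finite_quotient_of_finiteIndex

theorem isClosed_FICompl :
    IsClosed ((FICompl A : AddSubgroup ((U : OpenFI A) → A ⧸ U.toAddSubgroup)) :
      Set ((U : OpenFI A) → A ⧸ U.toAddSubgroup)) := by
  have h : ((FICompl A : AddSubgroup ((U : OpenFI A) → A ⧸ U.toAddSubgroup)) :
      Set ((U : OpenFI A) → A ⧸ U.toAddSubgroup)) =
      ⋂ (U : OpenFI A) (V : OpenFI A) (h : U.toAddSubgroup ≤ V.toAddSubgroup),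
        {x | QuotientAddGroup.map U.toAddSubgroup V.toAddSubgroup (AddMonoidHom.id A) h (x U) = x V} := by
    ext x
    simp only [mem_iInter, mem_ofPred_eq]
    rfl
  rw [h]
  refine isClosed_iInter fun U => isClosed_iInter fun V => isClosed_iInter fun h => ?_
  exact isClosed_eq (continuous_of_discreteTopology.comp (continuous_apply U)) (continuous_apply V)

instance : CompactSpace (FICompl A) := isCompact_iff_compactSpace.mp isClosed_FICompl.isCompact

theorem exists_openFI_le_all (I : Finset (OpenFI A)) :
    ∃ U : OpenFI A, ∀ V ∈ I, U.toAddSubgroup ≤ V.toAddSubgroup := by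
  classical
  induction I using Finset.induction_on with
  | empty =>
    exact ⟨⟨⊤, isOpen_univ, inferInstance⟩, fun V hV => absurd hV (Finset.notMem_empty V)⟩
  | insert V₀ I _ ih =>
    obtain ⟨U, hU⟩ := ih
    haveI := U.finiteIndex'
    haveI := V₀.finiteIndex'
    refine ⟨⟨U.toAddSubgroup ⊓ V₀.toAddSubgroup, U.isOpen'.inter V₀.isOpen', inferInstance⟩, ?_⟩
    intro V hV
    rcases Finset.mem_insert.mp hV with rfl | hV
    · exact inf_le_right
    · exact inf_le_left.trans (hU V hV)

theorem mem_of_isClosed_of_approx (S : Set (FICompl A)) (hS : IsClosed S) (y : FICompl A)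
    (h : ∀ U : OpenFI A, ∃ s ∈ S, s.1 U = y.1 U) : y ∈ S := by
  rw [← hS.closure_eq, mem_closure_iff]
  intro o ho hyo
  obtain ⟨o', ho', rfl⟩ := isOpen_induced_iff.mp ho
  obtain ⟨I, t, hIt, hsub⟩ := isOpen_pi_iff.mp ho' y.1 hyo
  obtain ⟨U₀, hU₀⟩ := exists_openFI_le_all I
  obtain ⟨s, hsS, hs⟩ := h U₀
  refine ⟨s, ?_, hsS⟩
  apply hsub
  intro V hV
  have h1 := s.2 U₀ V (hU₀ V hV)
  have h2 := y.2 U₀ V (hU₀ V hV)
  rw [← h1, hs, h2]
  exact (hIt V hV).2

end

section maps
variable {A : Type u} [AddCommGroup A] [TopologicalSpace A] [IsTopologicalAddGroup A]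
  {B : Type v} [AddCommGroup B] [TopologicalSpace B] [IsTopologicalAddGroup B]

theorem continuous_FICompl_map (f : A →+ B) (hf : Continuous f) : Continuous (FICompl.map f hf) := by
  apply Continuous.subtype_mk
  apply continuous_pi
  intro V
  exact continuous_of_discreteTopology.comp
    ((continuous_apply (V.comap f hf)).comp continuous_subtype_val)

theorem isClosed_range_FICompl_map (f : A →+ B) (hf : Continuous f) :
    IsClosed (Set.range (FICompl.map f hf)) :=
  (isCompact_range (continuous_FICompl_map f hf)).isClosed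

end maps

section exact
variable {A : Type u} {B : Type v} {C : Type w}
  [AddCommGroup A] [TopologicalSpace A] [IsTopologicalAddGroup A]
  [AddCommGroup B] [TopologicalSpace B] [IsTopologicalAddGroup B]
  [AddCommGroup C] [TopologicalSpace C] [IsTopologicalAddGroup C]

/-- the image of an open finite-index subgroup under an open surjection -/
def openFIMap (p : B →+ C) (hpo : IsOpenMap p) (hps : Function.Surjective p) (U : OpenFI B) :
    OpenFI C where
  toAddSubgroup := U.toAddSubgroup.map p
  isOpen' := by
    rw [AddSubgroup.coe_map]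
    exact hpo _ U.isOpen'
  finiteIndex' := by
    have := U.finiteIndex'
    exact ⟨ne_zero_of_dvd_ne_zero this.index_ne_zero (AddSubgroup.index_map_dvd _ hps)⟩

theorem FICompl_map_surjective (p : B →+ C) (hp : Continuous p) (hps : Function.Surjective p) :
    Function.Surjective (FICompl.map p hp) := by
  intro z
  have := mem_of_isClosed_of_approx (Set.range (FICompl.map p hp))
    (isClosed_range_FICompl_map p hp) z ?_
  · exact this
  · intro W
    obtain ⟨c, hc⟩ := QuotientAddGroup.mk_surjective (z.1 W)
    obtain ⟨b, rfl⟩ := hps c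
    exact ⟨FICompl.map p hp (toFICompl B b), ⟨_, rfl⟩, hc⟩

theorem FICompl_exact (i : A →+ B) (hi : Continuous i) (p : B →+ C) (hp : Continuous p)
    (hpo : IsOpenMap p) (hps : Function.Surjective p) (hex : p.ker = i.range) :
    (FICompl.map p hp).ker = (FICompl.map i hi).range := by
  apply le_antisymm
  · intro y hy
    rw [AddMonoidHom.mem_ker] at hy
    have := mem_of_isClosed_of_approx (Set.range (FICompl.map i hi))
      (isClosed_range_FICompl_map i hi) y ?_
    · exact this
    · intro U
      obtain ⟨b, hb⟩ := QuotientAddGroup.mk_surjective (y.1 U)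
      set W := openFIMap p hpo hps U with hW
      have hUW : U.toAddSubgroup ≤ (W.comap p hp).toAddSubgroup := by
        intro x hx
        exact ⟨x, hx, rfl⟩
      have h1 : (FICompl.map p hp y).1 W = 0 := by rw [hy]; rfl
      have h2 := y.2 U (W.comap p hp) hUW
      rw [← hb] at h2
      change QuotientAddGroup.map (W.comap p hp).toAddSubgroup W.toAddSubgroup p
        (W.comap_le p) (y.1 (W.comap p hp)) = 0 at h1
      rw [← h2] at h1
      have h1' : (QuotientAddGroup.mk (p b) : C ⧸ W.toAddSubgroup) = 0 := h1
      rw [QuotientAddGroup.eq_zero_iff] at h1'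
      obtain ⟨u, hu, hpu⟩ := h1'
      have hker : b - u ∈ p.ker := by
        rw [AddMonoidHom.mem_ker, map_sub, hpu, sub_self]
      rw [hex] at hker
      obtain ⟨a, ha⟩ := hker
      refine ⟨FICompl.map i hi (toFICompl A a), ⟨_, rfl⟩, ?_⟩
      rw [FICompl.map_toFICompl, ← hb, ha]
      change (QuotientAddGroup.mk (b - u) : B ⧸ U.toAddSubgroup) = QuotientAddGroup.mk b
      rw [QuotientAddGroup.mk_sub, sub_eq_self, QuotientAddGroup.eq_zero_iff]
      exact hu
  · rintro _ ⟨x, rfl⟩
    rw [AddMonoidHom.mem_ker]
    apply Subtype.ext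
    funext W
    obtain ⟨a, ha⟩ := QuotientAddGroup.mk_surjective (x.1 ((W.comap p hp).comap i hi))
    change QuotientAddGroup.map (W.comap p hp).toAddSubgroup W.toAddSubgroup p (W.comap_le p)
      (QuotientAddGroup.map ((W.comap p hp).comap i hi).toAddSubgroup (W.comap p hp).toAddSubgroup i
        ((W.comap p hp).comap_le i) (x.1 ((W.comap p hp).comap i hi))) = 0
    rw [← ha]
    change (QuotientAddGroup.mk (p (i a)) : C ⧸ W.toAddSubgroup) = 0
    have : p (i a) = 0 := by
      have : i a ∈ p.ker := by rw [hex]; exact ⟨a, rfl⟩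
      exact this
    rw [this]
    rfl

end exact
end Groth.Agent.H95
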