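import Mathlib
import Groth.Prelude.Def_Wider

set_option autoImplicit false

universe u

open CategoryTheory

namespace Groth.Agent.H95.FinLenEquiv

variable {A : Type u} [CommRing A]

/-- morphism of `FinLen` from a linear map -/
def mkHom {X Y : Dual.FinLen A} (f : X.obj →ₗ[A] Y.obj) : X ⟶ Y :=
  ObjectProperty.homMk (ModuleCat.ofHom f)

/-- underlying linear map -/
def lin {X Y : Dual.FinLen A} (f : X ⟶ Y) : X.obj →ₗ[A] Y.obj := f.hom.hom

@[simp] lemma lin_mkHom {X Y : Dual.FinLen A} (f : X.obj →ₗ[A] Y.obj) : lin (mkHom f) = f := rfl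

@[simp] lemma mkHom_lin {X Y : Dual.FinLen A} (f : X ⟶ Y) : mkHom (lin f) = f := rfl

lemma hom_ext' {X Y : Dual.FinLen A} {f g : X ⟶ Y} (h : lin f = lin g) : f = g := by
  apply ObjectProperty.hom_ext
  apply ModuleCat.hom_ext
  exact h

@[simp] lemma lin_comp {X Y Z : Dual.FinLen A} (f : X ⟶ Y) (g : Y ⟶ Z) :
    lin (f ≫ g) = (lin g).comp (lin f) := rfl

@[simp] lemma lin_id (X : Dual.FinLen A) : lin (𝟙 X) = LinearMap.id := rfl

@[simp] lemma lin_add {X Y : Dual.FinLen A} (f g : X ⟶ Y) : lin (f + g) = lin f + lin g := rfl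

@[simp] lemma lin_zero {X Y : Dual.FinLen A} : lin (0 : X ⟶ Y) = 0 := rfl

@[simp] lemma lin_smul {X Y : Dual.FinLen A} (a : A) (f : X ⟶ Y) : lin (a • f) = a • lin f := rfl

lemma lin_comp_apply {X Y Z : Dual.FinLen A} (f : X ⟶ Y) (g : Y ⟶ Z) (x : X.obj) :
    lin (f ≫ g) x = lin g (lin f x) := rfl

/-- object from a finite length module -/
def mkObj (M : Type u) [AddCommGroup M] [Module A M] (h : IsFiniteLength A M) : Dual.FinLen A :=
  ⟨ModuleCat.of A M, h⟩

/-- iso from a bijective morphism -/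
noncomputable def isoOfBijective {X Y : Dual.FinLen A} (f : X ⟶ Y)
    (h : Function.Bijective (lin f)) : X ≅ Y where
  hom := f
  inv := mkHom (LinearEquiv.ofBijective (lin f) h).symm.toLinearMap
  hom_inv_id := by
    apply hom_ext'
    ext x
    exact (LinearEquiv.ofBijective (lin f) h).symm_apply_apply x
  inv_hom_id := by
    apply hom_ext'
    ext x
    exact (LinearEquiv.ofBijective (lin f) h).apply_symm_apply x

lemma bijective_of_isIso {X Y : Dual.FinLen A} (f : X ⟶ Y) [IsIso f] :
    Function.Bijective (lin f) := by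
  refine Function.bijective_iff_has_inverse.mpr ⟨lin (inv f), ?_, ?_⟩
  · intro x
    have : lin (f ≫ inv f) x = x := by rw [IsIso.hom_inv_id]; rfl
    exact this
  · intro x
    have : lin (inv f ≫ f) x = x := by rw [IsIso.inv_hom_id]; rfl
    exact this

end Groth.Agent.H95.FinLenEquiv
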