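import Groth.Agent.H95.FinLenEquiv0

set_option autoImplicit false

universe u

open CategoryTheory IsLocalRing

namespace Groth.Agent.H95.FinLenEquiv

variable {A : Type u} [CommRing A] [IsLocalRing A]

/-- `X` is killed by `m^n`. -/
def Kills (n : ℕ) (X : Dual.FinLen A) : Prop :=
  ∀ a ∈ maximalIdeal A ^ n, ∀ x : X.obj, a • x = 0

lemma Kills.mono {n k : ℕ} (h : n ≤ k) {X : Dual.FinLen A} (hX : Kills n X) : Kills k X :=
  fun a ha x => hX a (Ideal.pow_le_pow_right h ha) x

lemma kills_iff (n : ℕ) (X : Dual.FinLen A) :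
    Kills n X ↔ ∀ a ∈ maximalIdeal A ^ n, a • 𝟙 X = 0 := by
  constructor
  · intro h a ha
    apply hom_ext'
    ext x
    exact h a ha x
  · intro h a ha x
    have := congrArg (fun f => lin f x) (h a ha)
    exact this

lemma Kills.map {n : ℕ} {X : Dual.FinLen A} (hX : Kills n X)
    (Φ : Dual.FinLen A ⥤ Dual.FinLen A) [Φ.Additive] [Φ.Linear A] : Kills n (Φ.obj X) := by
  rw [kills_iff] at hX ⊢
  intro a ha
  rw [← Φ.map_id, ← Φ.map_smul, hX a ha, Φ.map_zero]

lemma exists_kills [IsNoetherianRing A] (X : Dual.FinLen A) : ∃ n, Kills n X := by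
  obtain ⟨hN, hA⟩ := isFiniteLength_iff_isNoetherian_isArtinian.mp X.property
  let f : ℕ →o (Submodule A X.obj)ᵒᵈ :=
    ⟨fun k => OrderDual.toDual (maximalIdeal A ^ k • (⊤ : Submodule A X.obj)), by
      intro k l hkl
      change maximalIdeal A ^ l • (⊤ : Submodule A X.obj) ≤ maximalIdeal A ^ k • ⊤
      exact Submodule.smul_mono_left (Ideal.pow_le_pow_right hkl)⟩
  obtain ⟨n, hn⟩ := IsArtinian.monotone_stabilizes f
  have h1 : maximalIdeal A ^ (n + 1) • (⊤ : Submodule A X.obj) = maximalIdeal A ^ n • ⊤ :=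
    (congrArg OrderDual.ofDual (hn (n + 1) (Nat.le_succ n))).symm
  have h2 : maximalIdeal A ^ n • (⊤ : Submodule A X.obj) = ⊥ := by
    apply Submodule.eq_bot_of_le_smul_of_le_jacobson_bot (maximalIdeal A) _
      (IsNoetherian.noetherian _)
    · rw [← mul_smul, ← pow_succ', h1]
    · exact IsLocalRing.maximalIdeal_le_jacobson _
  refine ⟨n, fun a ha x => ?_⟩
  have : a • x ∈ maximalIdeal A ^ n • (⊤ : Submodule A X.obj) :=
    Submodule.smul_mem_smul ha trivial
  rw [h2] at this
  exact this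

end Groth.Agent.H95.FinLenEquiv
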