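import Groth.Agent.H95.FinLenEquiv1

set_option autoImplicit false

universe u

open CategoryTheory IsLocalRing

namespace Groth.Agent.H95.FinLenEquiv

variable {A : Type u} [CommRing A] [IsLocalRing A]

lemma pow_ne_top (n : ℕ) : maximalIdeal A ^ (n + 1) ≠ ⊤ := by
  intro h
  have h1 : maximalIdeal A ^ (n + 1) ≤ maximalIdeal A := Ideal.pow_le_self (Nat.succ_ne_zero n)
  rw [h] at h1
  exact (IsLocalRing.maximalIdeal.isMaximal A).ne_top (top_le_iff.mp h1)

lemma isArtinianRing_quot [IsNoetherianRing A] (n : ℕ) :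
    IsArtinianRing (A ⧸ maximalIdeal A ^ (n + 1)) := by
  set I := maximalIdeal A ^ (n + 1) with hI
  have hne : I ≠ ⊤ := pow_ne_top n
  have : Nontrivial (A ⧸ I) := Ideal.Quotient.nontrivial_iff.mpr hne
  have := IsLocalRing.of_surjective' (Ideal.Quotient.mk I) Ideal.Quotient.mk_surjective
  have := IsLocalHom.of_surjective (Ideal.Quotient.mk I) Ideal.Quotient.mk_surjective
  have hmap : (maximalIdeal A).map (Ideal.Quotient.mk I) = maximalIdeal (A ⧸ I) := by
    ext x
    obtain ⟨x, rfl⟩ := Ideal.Quotient.mk_surjective x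
    simp [sup_eq_left.mpr (le_maximalIdeal hne)]
  rw [isArtinianRing_iff_isNilpotent_maximalIdeal]
  refine ⟨n + 1, ?_⟩
  rw [← hmap, ← Ideal.map_pow, Ideal.zero_eq_bot, Ideal.map_eq_bot_iff_le_ker, Ideal.mk_ker]

lemma finLen_quot [IsNoetherianRing A] (n : ℕ) :
    IsFiniteLength A (A ⧸ maximalIdeal A ^ (n + 1)) := by
  rw [isFiniteLength_iff_isNoetherian_isArtinian]
  refine ⟨inferInstance, ?_⟩
  have := isArtinianRing_quot (A := A) n
  exact isArtinian_of_surjective_algebraMap (R := A ⧸ maximalIdeal A ^ (n + 1))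
    (M := A ⧸ maximalIdeal A ^ (n + 1)) Ideal.Quotient.mk_surjective

variable (A) in
/-- `A ⧸ m^(n+1)` as an object. -/
noncomputable def E [IsNoetherianRing A] (n : ℕ) : Dual.FinLen A :=
  mkObj (A ⧸ maximalIdeal A ^ (n + 1)) (finLen_quot n)

variable [IsNoetherianRing A]

/-- the generator `1` of `E n` -/
noncomputable def one (n : ℕ) : (E A n).obj := (1 : A ⧸ maximalIdeal A ^ (n + 1))

lemma exists_smul_one (n : ℕ) (z : (E A n).obj) : ∃ a : A, z = a • one n := by
  obtain ⟨a, rfl⟩ := Ideal.Quotient.mk_surjective (I := maximalIdeal A ^ (n + 1)) z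
  refine ⟨a, ?_⟩
  change _ = a • (1 : A ⧸ maximalIdeal A ^ (n + 1))
  rw [Algebra.smul_def, mul_one]
  rfl

lemma smul_one_eq_zero_iff (n : ℕ) (a : A) :
    (a • one n : (E A n).obj) = 0 ↔ a ∈ maximalIdeal A ^ (n + 1) := by
  change a • (1 : A ⧸ maximalIdeal A ^ (n + 1)) = 0 ↔ _
  rw [Algebra.smul_def, mul_one]
  exact Ideal.Quotient.eq_zero_iff_mem

lemma one_ne_zero (n : ℕ) : one (A := A) n ≠ 0 := by
  intro h
  have : (1 : A) • one (A := A) n = 0 := by rw [one_smul]; exact h
  rw [smul_one_eq_zero_iff] at this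
  exact pow_ne_top n ((Ideal.eq_top_iff_one _).mpr this)

lemma kills_E (n : ℕ) : Kills (n + 1) (E A n) := by
  intro a ha x
  obtain ⟨b, rfl⟩ := exists_smul_one n x
  rw [smul_comm, (smul_one_eq_zero_iff n a).mpr ha, smul_zero]

/-- evaluation map `E n ⟶ M`, `1 ↦ x` -/
noncomputable def ev (n : ℕ) {M : Dual.FinLen A} (h : Kills (n + 1) M) (x : M.obj) : E A n ⟶ M :=
  mkHom (Submodule.liftQ (maximalIdeal A ^ (n + 1)) (LinearMap.toSpanSingleton A M.obj x) (by
    intro a ha
    simpa using h a ha x))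

@[simp] lemma ev_one (n : ℕ) {M : Dual.FinLen A} (h : Kills (n + 1) M) (x : M.obj) :
    lin (ev n h x) (one n) = x := by
  change (Submodule.liftQ (maximalIdeal A ^ (n + 1)) (LinearMap.toSpanSingleton A M.obj x) _)
    (Submodule.Quotient.mk (1 : A)) = x
  rw [Submodule.liftQ_apply]
  simp

lemma E_hom_ext (n : ℕ) {M : Dual.FinLen A} {f g : E A n ⟶ M}
    (h : lin f (one n) = lin g (one n)) : f = g := by
  apply hom_ext'
  ext z
  obtain ⟨a, rfl⟩ := exists_smul_one n z
  rw [map_smul, map_smul, h]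

lemma ev_lin_one (n : ℕ) {M : Dual.FinLen A} (h : Kills (n + 1) M) (f : E A n ⟶ M) :
    ev n h (lin f (one n)) = f :=
  E_hom_ext n (ev_one n h _)

lemma ev_comp (n : ℕ) {M N : Dual.FinLen A} (h : Kills (n + 1) M) (h' : Kills (n + 1) N)
    (x : M.obj) (f : M ⟶ N) : ev n h x ≫ f = ev n h' (lin f x) := by
  apply E_hom_ext
  rw [lin_comp_apply, ev_one, ev_one]

lemma ev_add (n : ℕ) {M : Dual.FinLen A} (h : Kills (n + 1) M) (x y : M.obj) :
    ev n h (x + y) = ev n h x + ev n h y := by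
  apply E_hom_ext
  rw [lin_add, LinearMap.add_apply, ev_one, ev_one, ev_one]

lemma ev_smul (n : ℕ) {M : Dual.FinLen A} (h : Kills (n + 1) M) (a : A) (x : M.obj) :
    ev n h (a • x) = a • ev n h x := by
  apply E_hom_ext
  rw [lin_smul, LinearMap.smul_apply, ev_one, ev_one]

/-- projection `E (n+1) ⟶ E n` -/
noncomputable def π (n : ℕ) : E A (n + 1) ⟶ E A n :=
  ev (n + 1) ((kills_E n).mono (Nat.le_succ _)) (one n)

@[simp] lemma π_one (n : ℕ) : lin (π (A := A) n) (one (n + 1)) = one n := ev_one _ _ _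

lemma π_ev (n : ℕ) {M : Dual.FinLen A} (h : Kills (n + 1) M) (x : M.obj) :
    π n ≫ ev n h x = ev (n + 1) (h.mono (Nat.le_succ _)) x := by
  apply E_hom_ext
  rw [lin_comp_apply, π_one, ev_one, ev_one]

lemma surjective_of_one_mem (n : ℕ) {X : Dual.FinLen A} (f : X ⟶ E A n)
    (h : ∃ x, lin f x = one n) : Function.Surjective (lin f) := by
  obtain ⟨x, hx⟩ := h
  intro z
  obtain ⟨a, rfl⟩ := exists_smul_one n z
  exact ⟨a • x, by rw [map_smul, hx]⟩

lemma π_surjective (n : ℕ) : Function.Surjective (lin (π (A := A) n)) :=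
  surjective_of_one_mem n _ ⟨_, π_one n⟩

/-- the projection to the residue field object -/
noncomputable def pr (n : ℕ) : E A n ⟶ E A 0 :=
  ev n ((kills_E 0).mono (Nat.succ_le_succ (Nat.zero_le n))) (one 0)

@[simp] lemma pr_one (n : ℕ) : lin (pr (A := A) n) (one n) = one 0 := ev_one _ _ _

lemma pr_ne_zero (n : ℕ) : pr (A := A) n ≠ 0 := by
  intro h
  have := pr_one (A := A) n
  rw [h] at this
  exact one_ne_zero 0 this.symm

/-- a non-surjective map into `E n` dies in the residue field -/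
lemma comp_pr_eq_zero (n : ℕ) {X : Dual.FinLen A} (f : X ⟶ E A n)
    (hf : ¬ Function.Surjective (lin f)) : f ≫ pr n = 0 := by
  apply hom_ext'
  ext x
  change lin (pr n) (lin f x) = 0
  obtain ⟨a, ha⟩ := exists_smul_one n (lin f x)
  by_cases hu : IsUnit a
  · exfalso
    apply hf
    apply surjective_of_one_mem
    obtain ⟨u, rfl⟩ := hu
    refine ⟨(↑u⁻¹ : A) • x, ?_⟩
    rw [map_smul, ha, smul_smul, Units.inv_mul, one_smul]
  · rw [ha, map_smul, pr_one, smul_one_eq_zero_iff, zero_add, pow_one]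
    exact (IsLocalRing.mem_maximalIdeal a).mpr hu

/-! ### epi vs surjective -/

omit [IsLocalRing A] [IsNoetherianRing A] in
lemma epi_of_surjective {X Y : Dual.FinLen A} (f : X ⟶ Y) (h : Function.Surjective (lin f)) :
    Epi f := by
  constructor
  intro Z g g' hgg'
  apply hom_ext'
  ext y
  obtain ⟨x, rfl⟩ := h y
  exact congrArg (fun k => lin k x) hgg'

omit [IsLocalRing A] [IsNoetherianRing A] in
lemma surjective_of_epi {X Y : Dual.FinLen A} (f : X ⟶ Y) [Epi f] :
    Function.Surjective (lin f) := by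
  let R := LinearMap.range (lin f)
  have hfl : IsFiniteLength A (Y.obj ⧸ R) :=
    Y.property.of_surjective (f := R.mkQ) (Submodule.mkQ_surjective R)
  let Z : Dual.FinLen A := mkObj (Y.obj ⧸ R) hfl
  let q : Y ⟶ Z := mkHom R.mkQ
  have h0 : f ≫ q = f ≫ 0 := by
    apply hom_ext'
    ext x
    change R.mkQ (lin f x) = 0
    rw [Submodule.mkQ_apply, Submodule.Quotient.mk_eq_zero]
    exact ⟨x, rfl⟩
  have hq : q = 0 := (cancel_epi f).mp h0
  intro y
  have : lin q y = 0 := by rw [hq]; rfl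
  change R.mkQ y = 0 at this
  rw [Submodule.mkQ_apply, Submodule.Quotient.mk_eq_zero] at this
  exact this

end Groth.Agent.H95.FinLenEquiv
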