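import Groth.Agent.H95.FinLenEquiv2

set_option autoImplicit false

universe u

open CategoryTheory IsLocalRing

namespace Groth.Agent.H95.FinLenEquiv

variable {A : Type u} [CommRing A] [IsLocalRing A] [IsNoetherianRing A]

section part1

variable (F : Dual.FinLen A ≌ Dual.FinLen A) [F.functor.Additive] [F.functor.Linear A]

lemma kills_inv (n : ℕ) : Kills (n + 1) (F.inverse.obj (E A n)) := (kills_E n).map F.inverse

lemma kills_fun (n : ℕ) : Kills (n + 1) (F.functor.obj (E A n)) := (kills_E n).map F.functor

/-- there is a surjection `E n ⟶ F⁻¹ (E n)` -/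
lemma exists_surj_inv (n : ℕ) :
    ∃ x : E A n ⟶ F.inverse.obj (E A n), Function.Surjective (lin x) := by
  have hGp : F.inverse.map (pr (A := A) n) ≠ 0 := by
    intro h
    exact pr_ne_zero n (F.inverse.map_injective (by rw [h, Functor.map_zero]))
  obtain ⟨q, hq⟩ : ∃ q, lin (F.inverse.map (pr (A := A) n)) q ≠ 0 := by
    by_contra hcon
    push Not at hcon
    apply hGp
    apply hom_ext'
    ext q
    exact hcon q
  refine ⟨ev n (kills_inv F n) q, ?_⟩
  by_contra hns
  set x := ev n (kills_inv F n) q with hx
  have h1 : ¬ Function.Surjective (lin (F.functor.map x ≫ F.counit.app (E A n))) := by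
    intro hs
    apply hns
    have e1 : Epi (F.functor.map x ≫ F.counit.app (E A n)) := epi_of_surjective _ hs
    have e2 : Epi (F.functor.map x) := by
      have : F.functor.map x =
          (F.functor.map x ≫ F.counit.app (E A n)) ≫ F.counitInv.app (E A n) := by
        simp
      rw [this]
      infer_instance
    have e3 : Epi x := F.functor.epi_of_epi_map e2
    exact surjective_of_epi x
  have h2 := comp_pr_eq_zero n _ h1
  have h3 : F.functor.map (x ≫ F.inverse.map (pr n)) = 0 := by
    have nat : F.functor.map (F.inverse.map (pr n)) ≫ F.counit.app (E A 0) =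
        F.counit.app (E A n) ≫ pr n := F.counit.naturality (pr n)
    apply (cancel_mono (F.counit.app (E A 0))).mp
    calc F.functor.map (x ≫ F.inverse.map (pr n)) ≫ F.counit.app (E A 0)
        = (F.functor.map x ≫ F.functor.map (F.inverse.map (pr n))) ≫ F.counit.app (E A 0) := by
          rw [Functor.map_comp]
      _ = F.functor.map x ≫ (F.functor.map (F.inverse.map (pr n)) ≫ F.counit.app (E A 0)) :=
          Category.assoc _ _ _
      _ = F.functor.map x ≫ (F.counit.app (E A n) ≫ pr n) := congrArg (F.functor.map x ≫ ·) nat
      _ = (F.functor.map x ≫ F.counit.app (E A n)) ≫ pr n := (Category.assoc _ _ _).symm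
      _ = 0 := h2
      _ = 0 ≫ F.counit.app (E A 0) := Limits.zero_comp.symm
  have h4 : x ≫ F.inverse.map (pr n) = 0 :=
    F.functor.map_injective (by rw [h3, Functor.map_zero])
  apply hq
  have h5 := congrArg (fun k => lin k (one n)) h4
  simp only [lin_comp_apply, hx, ev_one] at h5
  exact h5

end part1

section part2

variable (F : Dual.FinLen A ≌ Dual.FinLen A) [F.functor.Additive] [F.functor.Linear A]

/-- there is a surjection `E n ⟶ F (E n)` -/
lemma exists_surj_fun (n : ℕ) :
    ∃ x : E A n ⟶ F.functor.obj (E A n), Function.Surjective (lin x) := by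
  have i1 : F.symm.functor.Additive := inferInstanceAs F.inverse.Additive
  have i2 : F.symm.functor.Linear A := inferInstanceAs (F.inverse.Linear A)
  exact exists_surj_inv F.symm n

/-- there is a surjection `F (E n) ⟶ E n` -/
lemma exists_surj_back (n : ℕ) :
    ∃ y : F.functor.obj (E A n) ⟶ E A n, Function.Surjective (lin y) := by
  obtain ⟨x, hx⟩ := exists_surj_inv F n
  have e1 : Epi x := epi_of_surjective _ hx
  have e2 : Epi (F.functor.map x) := inferInstance
  have e3 : Epi (F.functor.map x ≫ F.counit.app (E A n)) := inferInstance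
  exact ⟨_, surjective_of_epi (F.functor.map x ≫ F.counit.app (E A n))⟩

/-- a surjection `E n ⟶ F (E n)` is bijective -/
lemma bijective_of_surjective (n : ℕ) (x : E A n ⟶ F.functor.obj (E A n))
    (hx : Function.Surjective (lin x)) : Function.Bijective (lin x) := by
  refine ⟨?_, hx⟩
  obtain ⟨y, hy⟩ := exists_surj_back F n
  have hs : Function.Surjective (lin (x ≫ y)) := by
    rw [lin_comp]
    exact hy.comp hx
  have hN : IsNoetherian A (E A n).obj :=
    (isFiniteLength_iff_isNoetherian_isArtinian.mp (E A n).property).1
  have hi : Function.Injective (lin (x ≫ y)) :=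
    OrzechProperty.injective_of_surjective_endomorphism _ hs
  rw [lin_comp] at hi
  exact Function.Injective.of_comp hi

end part2

end Groth.Agent.H95.FinLenEquiv
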