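import Groth.Agent.H95.FinLenEquiv3

set_option autoImplicit false

universe u

open CategoryTheory IsLocalRing

namespace Groth.Agent.H95.FinLenEquiv

variable {A : Type u} [CommRing A] [IsLocalRing A] [IsNoetherianRing A]

variable (F : Dual.FinLen A ≌ Dual.FinLen A) [F.functor.Additive] [F.functor.Linear A]

/-- `g ∈ F (E n)` is a generator -/
def Good (n : ℕ) (g : (F.functor.obj (E A n)).obj) : Prop :=
  Function.Surjective (lin (ev n (kills_fun F n) g))

lemma Good.bijective {n : ℕ} {g : (F.functor.obj (E A n)).obj} (h : Good F n g) :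
    Function.Bijective (lin (ev n (kills_fun F n) g)) :=
  bijective_of_surjective F n _ h

lemma exists_good (n : ℕ) : ∃ g, Good F n g := by
  obtain ⟨x, hx⟩ := exists_surj_fun F n
  refine ⟨lin x (one n), ?_⟩
  unfold Good
  rw [ev_lin_one]
  exact hx

omit [F.functor.Additive] [F.functor.Linear A] in
lemma Fπ_surjective (n : ℕ) : Function.Surjective (lin (F.functor.map (π (A := A) n))) := by
  have e1 : Epi (π (A := A) n) := epi_of_surjective _ (π_surjective n)
  have e2 : Epi (F.functor.map (π (A := A) n)) := inferInstance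
  exact surjective_of_epi _

lemma F_ne_zero (n : ℕ) : ∃ z : (F.functor.obj (E A n)).obj, z ≠ 0 := by
  obtain ⟨y, hy⟩ := exists_surj_back F n
  obtain ⟨z, hz⟩ := hy (one n)
  refine ⟨z, ?_⟩
  rintro rfl
  rw [map_zero] at hz
  exact one_ne_zero n hz.symm

lemma good_lift (n : ℕ) (g : (F.functor.obj (E A n)).obj) (hg : Good F n g)
    (g' : (F.functor.obj (E A (n + 1))).obj)
    (hgg' : lin (F.functor.map (π n)) g' = g) : Good F (n + 1) g' := by
  obtain ⟨x', hx'⟩ := exists_surj_fun F (n + 1)
  obtain ⟨c, hc⟩ := hx' g'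
  obtain ⟨a, ha⟩ := exists_smul_one (n + 1) c
  have hg'w : g' = a • lin x' (one (n + 1)) := by rw [← hc, ha, map_smul]
  by_cases hu : IsUnit a
  · obtain ⟨u, rfl⟩ := hu
    intro z'
    obtain ⟨c', hc'⟩ := hx' z'
    obtain ⟨b, hb⟩ := exists_smul_one (n + 1) c'
    refine ⟨(b * ↑u⁻¹) • one (n + 1), ?_⟩
    rw [map_smul, ev_one, hg'w, smul_smul, mul_assoc, Units.inv_mul, mul_one, ← hc', hb, map_smul]
  · exfalso
    have ham : a ∈ maximalIdeal A := (IsLocalRing.mem_maximalIdeal a).mpr hu
    obtain ⟨z, hz⟩ : ∃ z, z = lin (F.functor.map (π n)) (lin x' (one (n + 1))) := ⟨_, rfl⟩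
    have hgz : g = a • z := by rw [← hgg', hg'w, map_smul, hz]
    obtain ⟨c2, hc2⟩ := hg z
    obtain ⟨b, hb⟩ := exists_smul_one n c2
    have hz2 : z = (b * a) • z := by
      conv_lhs => rw [← hc2, hb, map_smul, ev_one, hgz, smul_smul]
    have hz3 : (1 - b * a) • z = 0 := by
      rw [sub_smul, one_smul, ← hz2, sub_self]
    have hunit : IsUnit (1 - b * a) :=
      IsLocalRing.isUnit_one_sub_self_of_mem_nonunits _
        ((IsLocalRing.mem_maximalIdeal _).mp (Ideal.mul_mem_left _ b ham))
    have hz0 : z = 0 := (hunit.smul_eq_zero).mp hz3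
    have hg0 : g = 0 := by rw [hgz, hz0, smul_zero]
    obtain ⟨z0, hz0'⟩ := F_ne_zero F n
    apply hz0'
    obtain ⟨c3, hc3⟩ := hg z0
    obtain ⟨b3, hb3⟩ := exists_smul_one n c3
    rw [← hc3, hb3, map_smul, ev_one, hg0, smul_zero]

/-- compatible sequence of generators -/
noncomputable def gseq : (n : ℕ) → {g : (F.functor.obj (E A n)).obj // Good F n g}
  | 0 => ⟨(exists_good F 0).choose, (exists_good F 0).choose_spec⟩
  | n + 1 => ⟨(Fπ_surjective F n (gseq n).1).choose,
      good_lift F n _ (gseq n).2 _ (Fπ_surjective F n (gseq n).1).choose_spec⟩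

lemma gseq_succ (n : ℕ) : lin (F.functor.map (π n)) (gseq F (n + 1)).1 = (gseq F n).1 :=
  (Fπ_surjective F n (gseq F n).1).choose_spec

/-- value at level n -/
noncomputable def val (n : ℕ) {M : Dual.FinLen A} (h : Kills (n + 1) M) (x : M.obj) :
    (F.functor.obj M).obj :=
  lin (F.functor.map (ev n h x)) (gseq F n).1

lemma val_succ (n : ℕ) {M : Dual.FinLen A} (h : Kills (n + 1) M) (x : M.obj) :
    val F (n + 1) (h.mono (Nat.le_succ _)) x = val F n h x := by
  unfold val
  rw [← π_ev n h x, Functor.map_comp, lin_comp_apply, gseq_succ]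

lemma val_add_k (n k : ℕ) {M : Dual.FinLen A} (h : Kills (n + 1) M) (h' : Kills (n + k + 1) M)
    (x : M.obj) : val F (n + k) h' x = val F n h x := by
  induction k with
  | zero => rfl
  | succ k ih =>
    have h'' : Kills (n + k + 1) M := h.mono (by omega)
    rw [← ih h'']
    exact val_succ F (n + k) h'' x

lemma val_eq (n n' : ℕ) {M : Dual.FinLen A} (h : Kills (n + 1) M) (h' : Kills (n' + 1) M)
    (x : M.obj) : val F n h x = val F n' h' x := by
  rcases le_total n n' with hle | hle
  · obtain ⟨k, rfl⟩ := Nat.exists_eq_add_of_le hle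
    exact (val_add_k F n k h h' x).symm
  · obtain ⟨k, rfl⟩ := Nat.exists_eq_add_of_le hle
    exact val_add_k F n' k h' h x

omit [IsNoetherianRing A] in
lemma exists_kills' [IsNoetherianRing A] (M : Dual.FinLen A) : ∃ n, Kills (n + 1) M := by
  obtain ⟨n, hn⟩ := exists_kills M
  exact ⟨n, hn.mono (Nat.le_succ n)⟩

/-- a level killing `M` -/
noncomputable def lvl (M : Dual.FinLen A) : ℕ := (exists_kills' M).choose

lemma lvl_spec (M : Dual.FinLen A) : Kills (lvl M + 1) M := (exists_kills' M).choose_spec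

/-- the comparison map -/
noncomputable def tFun (M : Dual.FinLen A) (x : M.obj) : (F.functor.obj M).obj :=
  val F (lvl M) (lvl_spec M) x

lemma tFun_eq (M : Dual.FinLen A) (n : ℕ) (h : Kills (n + 1) M) (x : M.obj) :
    tFun F M x = val F n h x := val_eq F _ _ _ _ x

/-- the comparison map, linear -/
noncomputable def tLin (M : Dual.FinLen A) : M.obj →ₗ[A] (F.functor.obj M).obj where
  toFun := tFun F M
  map_add' x y := by
    unfold tFun val
    rw [ev_add, Functor.map_add, lin_add, LinearMap.add_apply]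
  map_smul' a x := by
    unfold tFun val
    rw [ev_smul, Functor.map_smul, lin_smul, LinearMap.smul_apply]
    rfl

lemma tLin_natural {M N : Dual.FinLen A} (f : M ⟶ N) (x : M.obj) :
    tLin F N (lin f x) = lin (F.functor.map f) (tLin F M x) := by
  have hM : Kills (max (lvl M) (lvl N) + 1) M := (lvl_spec M).mono (by omega)
  have hN : Kills (max (lvl M) (lvl N) + 1) N := (lvl_spec N).mono (by omega)
  change tFun F N (lin f x) = lin (F.functor.map f) (tFun F M x)
  rw [tFun_eq F N _ hN, tFun_eq F M _ hM]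
  unfold val
  rw [← ev_comp _ hM hN x f, Functor.map_comp, lin_comp_apply]

lemma tLin_bijective (M : Dual.FinLen A) : Function.Bijective (tLin F M) := by
  constructor
  · rw [← LinearMap.ker_eq_bot, LinearMap.ker_eq_bot']
    intro x hx
    change lin (F.functor.map (ev (lvl M) (lvl_spec M) x)) (gseq F (lvl M)).1 = 0 at hx
    have h1 : F.functor.map (ev (lvl M) (lvl_spec M) x) = 0 := by
      apply hom_ext'
      ext z
      obtain ⟨c, rfl⟩ := (gseq F (lvl M)).2 z
      obtain ⟨b, rfl⟩ := exists_smul_one (lvl M) c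
      rw [map_smul, ev_one, map_smul, hx, smul_zero]
      rfl
    have h0 : ev (lvl M) (lvl_spec M) x = 0 :=
      F.functor.map_injective (by rw [h1, Functor.map_zero])
    have h2 := congrArg (fun k => lin k (one (lvl M))) h0
    simp only [ev_one] at h2
    exact h2
  · intro z
    let i := isoOfBijective _ ((gseq F (lvl M)).2.bijective)
    let f : F.functor.obj (E A (lvl M)) ⟶ F.functor.obj M :=
      i.inv ≫ ev (lvl M) ((lvl_spec M).map F.functor) z
    obtain ⟨f', hf'⟩ := F.functor.map_surjective f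
    refine ⟨lin f' (one (lvl M)), ?_⟩
    change lin (F.functor.map (ev (lvl M) (lvl_spec M) (lin f' (one (lvl M)))))
      (gseq F (lvl M)).1 = z
    rw [ev_lin_one, hf']
    have hg : (gseq F (lvl M)).1 = lin i.hom (one (lvl M)) :=
      (ev_one (lvl M) (kills_fun F (lvl M)) (gseq F (lvl M)).1).symm
    rw [hg, ← lin_comp_apply, ← Category.assoc, Iso.hom_inv_id, Category.id_comp, ev_one]

/-- the natural isomorphism -/
noncomputable def tIso : 𝟭 (Dual.FinLen A) ≅ F.functor :=
  NatIso.ofComponents (fun M => isoOfBijective (mkHom (tLin F M)) (tLin_bijective F M))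
    (by
      intro M N f
      apply hom_ext'
      ext x
      exact tLin_natural F f x)

theorem main (A : Type u) [CommRing A] [IsLocalRing A] [IsNoetherianRing A]
    (F : Dual.FinLen A ≌ Dual.FinLen A) [F.functor.Additive] [F.functor.Linear A] :
    Nonempty (F.functor ≅ 𝟭 (Dual.FinLen A)) :=
  ⟨(tIso F).symm⟩

end Groth.Agent.H95.FinLenEquiv
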