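import Mathlib.Tactic
import Mathlib.Algebra.CharP.Lemmas
import Mathlib.Algebra.CharP.Frobenius
import Mathlib.RingTheory.RingHom.Finite
import Mathlib.RingTheory.FiniteType
import Mathlib.RingTheory.IntegralClosure.IsIntegralClosure.Basic
import Mathlib.RingTheory.MvPolynomial.Basic
import Mathlib.RingTheory.PowerSeries.Expand
import Mathlib.RingTheory.MvPowerSeries.Expand
import Mathlib.FieldTheory.Perfect

set_option autoImplicit false
universe u

namespace Groth.Agent.H95

open Polynomial in
theorem frobenius_isIntegral (p : ℕ) (R : Type*) [CommRing R] [ExpChar R p] :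
    (frobenius R p).IsIntegral := by
  intro x
  refine ⟨X ^ p - C x, monic_X_pow_sub_C x (expChar_pos R p).ne', ?_⟩
  simp [frobenius_def]

theorem frobenius_finite_of_finiteType (p : ℕ) (R : Type*) [CommRing R] [ExpChar R p]
    (h : (frobenius R p).FiniteType) : (frobenius R p).Finite :=
  RingHom.Finite.of_isIntegral_of_finiteType (frobenius_isIntegral p R) h

theorem frobenius_comm (p : ℕ) {R A : Type*} [CommRing R] [CommRing A] [ExpChar R p] [ExpChar A p]
    (φ : R →+* A) : (frobenius A p).comp φ = φ.comp (frobenius R p) := by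
  ext a
  simp [frobenius_def]

theorem frobenius_finite_of_surjective (p : ℕ) {R A : Type*} [CommRing R] [CommRing A]
    [ExpChar R p] [ExpChar A p] (φ : R →+* A) (hφ : Function.Surjective φ)
    (h : (frobenius R p).Finite) : (frobenius A p).Finite := by
  have h1 : (φ.comp (frobenius R p)).Finite :=
    RingHom.Finite.comp (RingHom.Finite.of_surjective _ hφ) h
  rw [← frobenius_comm] at h1
  exact RingHom.Finite.of_comp_finite h1

theorem frobenius_finite_of_finiteType_hom (p : ℕ) {R A : Type*} [CommRing R] [CommRing A]
    [ExpChar R p] [ExpChar A p] (φ : R →+* A) (hφ : φ.FiniteType)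
    (h : (frobenius R p).Finite) : (frobenius A p).Finite := by
  apply frobenius_finite_of_finiteType
  have h1 : (φ.comp (frobenius R p)).FiniteType := RingHom.FiniteType.comp hφ h.finiteType
  rw [← frobenius_comm] at h1
  exact RingHom.FiniteType.of_comp_finiteType h1

theorem frobenius_finite_localization (p : ℕ) (A : Type u) [CommRing A] [ExpChar A p]
    (hF : (frobenius A p).Finite) (S : Submonoid A) (B : Type u) [CommRing B] [Algebra A B]
    [IsLocalization S B] [ExpChar B p] : (frobenius B p).Finite := by
  have hp0 : 0 < p := expChar_pos A p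
  haveI hloc : IsLocalization (S.map (frobenius A p)) B := by
    rw [isLocalization_iff]
    refine ⟨?_, ?_, ?_⟩
    · rintro ⟨_, s, hs, rfl⟩
      change IsUnit (algebraMap A B (frobenius A p s))
      rw [frobenius_def, map_pow]
      exact (IsLocalization.map_units B (⟨s, hs⟩ : S)).pow p
    · intro z
      obtain ⟨⟨a, s⟩, hz⟩ := IsLocalization.surj S z
      refine ⟨(a * (s : A) ^ (p - 1), ⟨frobenius A p s, s, s.2, rfl⟩), ?_⟩
      change z * algebraMap A B (frobenius A p s) = algebraMap A B (a * (s : A) ^ (p - 1))
      have hs : (s : A) ^ p = s * (s : A) ^ (p - 1) := by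
        rw [← pow_succ', Nat.sub_add_cancel hp0]
      rw [frobenius_def, hs, map_mul, ← mul_assoc]
      simp only at hz
      rw [hz, ← map_mul]
    · intro x y hxy
      obtain ⟨c, hc⟩ := (IsLocalization.eq_iff_exists S B).mp hxy
      refine ⟨⟨frobenius A p c, c, c.2, rfl⟩, ?_⟩
      change frobenius A p c * x = frobenius A p c * y
      have hcp : (c : A) ^ p = (c : A) ^ (p - 1) * c := by
        rw [← pow_succ, Nat.sub_add_cancel hp0]
      rw [frobenius_def, hcp, mul_assoc, mul_assoc, hc]
  have h1 := RingHom.finite_localizationPreserves (frobenius A p) S B B hF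
  have heq : (IsLocalization.map B (frobenius A p) (Submonoid.le_comap_map S) : B →+* B) =
      frobenius B p := by
    apply IsLocalization.ringHom_ext S
    rw [IsLocalization.map_comp]
    ext a
    simp [frobenius_def]
  rw [heq] at h1
  exact h1

open PowerSeries in
theorem powerSeries_pow_char_coeff (p : ℕ) [hp : Fact p.Prime] (k : Type*) [CommRing k] [CharP k p]
    (c : PowerSeries k) (m : ℕ) :
    PowerSeries.coeff m (c ^ p) = if p ∣ m then (PowerSeries.coeff (m / p) c) ^ p else 0 := by
  have hp0 : p ≠ 0 := hp.out.ne_zero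
  have h1 : c ^ p = (c.expand p hp0).map (frobenius k p) :=
    (MvPowerSeries.map_frobenius_expand p hp0 (f := c)).symm
  rw [h1, PowerSeries.coeff_map, PowerSeries.coeff_expand]
  split_ifs
  · rw [frobenius_def]
  · rw [map_zero]

open PowerSeries in
theorem powerSeries_decomp (p : ℕ) [hp : Fact p.Prime] (k : Type*) [Field k] [CharP k p]
    [PerfectRing k p] (b : PowerSeries k) :
    b = ∑ r ∈ Finset.range p,
      (PowerSeries.mk fun i => (frobeniusEquiv k p).symm (PowerSeries.coeff (i * p + r) b)) ^ p *
        (PowerSeries.X : PowerSeries k) ^ r := by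
  have hp0 : 0 < p := hp.out.pos
  ext n
  rw [map_sum, Finset.sum_eq_single (n % p)]
  · rw [PowerSeries.coeff_mul_X_pow', if_pos (Nat.mod_le n p), powerSeries_pow_char_coeff,
      if_pos (Nat.dvd_sub_mod n), PowerSeries.coeff_mk]
    have h1 : (n - n % p) / p = n / p := by
      have := Nat.div_add_mod' n p
      have h2 : n - n % p = n / p * p := by omega
      rw [h2, Nat.mul_div_cancel _ hp0]
    rw [h1, Nat.div_add_mod']
    exact (frobeniusEquiv_symm_pow_p k p _).symm
  · intro r hr hne
    rw [PowerSeries.coeff_mul_X_pow']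
    split_ifs with hrn
    · rw [powerSeries_pow_char_coeff, if_neg]
      intro hdvd
      apply hne
      have hr' : r < p := Finset.mem_range.mp hr
      obtain ⟨q, hq⟩ := hdvd
      have : n = r + p * q := by omega
      rw [this, Nat.add_mul_mod_self_left, Nat.mod_eq_of_lt hr']
    · rfl
  · intro h
    exact absurd (Finset.mem_range.mpr (Nat.mod_lt n hp0)) h


theorem frobenius_finite_powerSeries (p : ℕ) [hp : Fact p.Prime] (k : Type*) [Field k] [CharP k p]
    [PerfectRing k p] [ExpChar (PowerSeries k) p] : (frobenius (PowerSeries k) p).Finite := by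
  apply frobenius_finite_of_finiteType
  letI := (frobenius (PowerSeries k) p).toAlgebra
  change Algebra.FiniteType (PowerSeries k) (PowerSeries k)
  refine ⟨⟨{(PowerSeries.X : PowerSeries k)}, ?_⟩⟩
  rw [eq_top_iff]
  intro b _
  rw [powerSeries_decomp p k b]
  refine Subalgebra.sum_mem _ fun r _ => ?_
  refine Subalgebra.mul_mem _ ?_ (Subalgebra.pow_mem _ (Algebra.subset_adjoin (by simp)) r)
  have : (PowerSeries.mk fun i => (frobeniusEquiv k p).symm (PowerSeries.coeff (i * p + r) b)) ^ p =
      algebraMap (PowerSeries k) (PowerSeries k)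
        (PowerSeries.mk fun i => (frobeniusEquiv k p).symm (PowerSeries.coeff (i * p + r) b)) := by
    rw [RingHom.algebraMap_toAlgebra, frobenius_def]
  rw [this]
  exact Subalgebra.algebraMap_mem _ _

theorem frobenius_finite_mvPolynomial (p : ℕ) (R : Type*) [CommRing R] [ExpChar R p]
    (σ : Type*) [Finite σ] (h : (frobenius R p).Finite) :
    (frobenius (MvPolynomial σ R) p).Finite := by
  have hC : (algebraMap R (MvPolynomial σ R)).FiniteType :=
    RingHom.finiteType_algebraMap.mpr inferInstance
  exact frobenius_finite_of_finiteType_hom p (algebraMap R (MvPolynomial σ R)) hC h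

end Groth.Agent.H95
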