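import Mathlib
set_option autoImplicit false
universe u
open TensorProduct

namespace Groth.Agent.H95.FrobFixed

/-- Solutions in an extension field `k'` of the system `x_j = Σ_i a_ji x_i^p` over an algebraically
closed field `k` of characteristic `p` all lie in `k`: the subalgebra they generate is unramified
and of finite type over `k`, hence finite, hence equal to `k`. -/
theorem key {k k' : Type u} [Field k] [IsAlgClosed k] [Field k'] [Algebra k k']
    (p : ℕ) [Fact p.Prime] [CharP k p] {n : ℕ} (a : Fin n → Fin n → k) (c : Fin n → k')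
    (hc : ∀ j, c j = ∑ i, a j i • c i ^ p) : ∀ j, ∃ d : k, algebraMap k k' d = c j := by
  classical
  set B : Subalgebra k k' := Algebra.adjoin k (Set.range c) with hB
  let c' : Fin n → B := fun i => ⟨c i, Algebra.subset_adjoin ⟨i, rfl⟩⟩
  have hc' : ∀ j, c' j = ∑ i, a j i • c' i ^ p := by
    intro j
    apply Subtype.ext
    simp only [c']
    rw [hc j]
    simp
  have hgen : Algebra.adjoin k (Set.range c') = ⊤ := by
    have h1 : Set.range c' = (Subtype.val : B → k') ⁻¹' (Set.range c) := by
      ext x
      constructor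
      · rintro ⟨i, rfl⟩; exact ⟨i, rfl⟩
      · rintro ⟨i, hi⟩; exact ⟨i, Subtype.ext hi⟩
    rw [h1]
    exact Algebra.adjoin_adjoin_coe_preimage
  have hD : (KaehlerDifferential.D k B) = 0 := by
    apply Derivation.ext_of_adjoin_eq_top _ hgen
    rintro _ ⟨j, rfl⟩
    rw [hc' j]
    simp only [map_sum, Derivation.map_smul, Derivation.leibniz_pow]
    have hp0 : ∀ x : Ω[B⁄k], p • x = 0 := by
      intro x
      rw [← Nat.cast_smul_eq_nsmul k p x, CharP.cast_eq_zero k p, zero_smul]
    simp [hp0]
  have hsub : Subsingleton (Ω[B⁄k]) := by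
    have htop : (⊤ : Submodule B (Ω[B⁄k])) = ⊥ := by
      rw [← KaehlerDifferential.span_range_derivation k B, hD, Submodule.span_eq_bot]
      rintro _ ⟨x, rfl⟩
      rfl
    refine subsingleton_of_forall_eq 0 (fun x => ?_)
    have : x ∈ (⊤ : Submodule B (Ω[B⁄k])) := trivial
    rw [htop] at this
    simpa using this
  have hunr : Algebra.FormallyUnramified k B := ⟨hsub⟩
  have hft : Algebra.FiniteType k B := by
    rw [← Subalgebra.fg_iff_finiteType]
    exact ⟨Finset.univ.image c, by simp [hB]⟩
  have hfin : Module.Finite k B := Algebra.FormallyUnramified.finite_of_free k B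
  have hint : Algebra.IsIntegral k B := Algebra.IsIntegral.of_finite k B
  have hbij := IsAlgClosed.algebraMap_bijective_of_isIntegral (k := k) (K := B)
  intro j
  obtain ⟨d, hd⟩ := hbij.2 (c' j)
  refine ⟨d, ?_⟩
  have := congrArg (Subtype.val : B → k') hd
  simpa [c'] using this

end Groth.Agent.H95.FrobFixed
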