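import Groth.Agent.H26.Pi1
import Groth.Agent.H26.Pi1Exact
import Groth.Agent.H26.Pi1Fiber
import Mathlib.CategoryTheory.Galois.Full
import Mathlib.CategoryTheory.Galois.EssSurj

/-!
# Induced maps of fundamental groups of Galois categories: injectivity, surjectivity, exactness

Built on helper26's `Groth.Agent.H26.Pi1*` library.
-/

set_option autoImplicit false
set_option linter.unusedSectionVars false
set_option linter.unusedVariables false
universe u v w
open CategoryTheory PreGaloisCategory Limits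

namespace Groth.Agent.H95.GalWhisker

open Groth.Agent.H26.Pi1

section Inj

variable {C C' : Type u} [Category.{v} C] [Category.{v} C'] [GaloisCategory C] [GaloisCategory C']
  (H : C ⥤ C') [PreservesFiniteLimits H] [PreservesFiniteColimits H]
  (F' : C' ⥤ FintypeCat.{w}) [FiberFunctor F'] [FiberFunctor (H ⋙ F')]

/-- an automorphism of a fibre functor fixing all points of connected objects is trivial -/
lemma eq_one_of_forall_connected_fixed (σ : Aut F')
    (h : ∀ (X' : C') (_ : IsConnected X') (a' : F'.obj X'), σ • a' = a') : σ = 1 := by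
  apply Iso.ext
  ext X b
  obtain ⟨Y', i, y, hy, hconn, hmono⟩ := fiber_in_connected_component F' X b
  have h1 := h Y' hconn y
  rw [smul_eq_iff_of_mono F' i, hy] at h1
  exact h1

theorem injective_iff :
    Function.Injective (Pi1X.autWhisker H F') ↔
      ∀ X' : C', IsConnected X' →
        ∃ (X : C) (Y' : C') (p : Y' ⟶ X') (q : Y' ⟶ H.obj X), Epi p ∧ Mono q := by
  constructor
  · intro hinj X' hX'
    obtain ⟨a'⟩ := nonempty_fiber_of_isConnected F' X'
    have hker : (Pi1X.autWhisker H F').ker ≤ MulAction.stabilizer (Aut F') a' := by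
      rw [(MonoidHom.ker_eq_bot_iff _).2 hinj]
      exact bot_le
    obtain ⟨X, Y', i, q, hmono, hconn⟩ := (ker_le_stabilizer_iff H F' X' a').1 hker
    have : Nonempty (F'.obj Y') := nonempty_fiber_of_isConnected F' Y'
    exact ⟨X, Y', q, i, epi_of_nonempty_of_isConnected F' q, hmono⟩
  · intro h
    rw [← MonoidHom.ker_eq_bot_iff, eq_bot_iff]
    intro σ hσ
    rw [Subgroup.mem_bot]
    apply eq_one_of_forall_connected_fixed F' σ
    intro X' hX' a'
    obtain ⟨X, Y', p, q, hp, hq⟩ := h X' hX'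
    obtain ⟨y, hy⟩ := surjective_on_fiber_of_epi F' p a'
    obtain ⟨Y'', i, y'', hy'', hconn, hmono⟩ := fiber_in_connected_component F' Y' y
    have : Mono (i ≫ q) := mono_comp _ _
    have hk := (ker_le_stabilizer_iff H F' X' a').2 ⟨X, Y'', i ≫ q, i ≫ p, this, hconn⟩
    exact hk hσ

end Inj


section Surj

variable {C C' : Type u} [Category.{v} C] [Category.{v} C'] [GaloisCategory C] [GaloisCategory C']

lemma exists_hom_of_equivariant (F : C ⥤ FintypeCat.{w}) [FiberFunctor F] {X Y : C}
    (φ : F.obj X ⟶ F.obj Y) (hφ : ∀ (σ : Aut F) (x : F.obj X), φ (σ • x) = σ • φ x) :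
    ∃ f : X ⟶ Y, F.map f = φ := by
  let m : (functorToAction F).obj X ⟶ (functorToAction F).obj Y :=
    { hom := φ
      comm := fun g => by
        ext x
        exact hφ g x }
  obtain ⟨f, hf⟩ := (functorToAction F).map_surjective m
  exact ⟨f, congrArg Action.Hom.hom hf⟩

variable (H : C ⥤ C') [PreservesFiniteLimits H] [PreservesFiniteColimits H]
  (F' : C' ⥤ FintypeCat.{w}) [FiberFunctor F'] [FiberFunctor (H ⋙ F')]

include F' in
lemma faithful_of_fiberFunctor_comp : H.Faithful := Functor.Faithful.of_comp H F'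

lemma full_of_surjective (hs : Function.Surjective (Pi1X.autWhisker H F')) : H.Full := by
  refine ⟨fun {X Y} g => ?_⟩
  obtain ⟨f, hf⟩ := exists_hom_of_equivariant (H ⋙ F') (X := X) (Y := Y) (F'.map g) (by
    intro σ x
    obtain ⟨σ', rfl⟩ := hs σ
    rw [autWhisker_smul, autWhisker_smul]
    exact (mulAction_naturality F' σ' g x).symm)
  exact ⟨f, F'.map_injective hf⟩

lemma surjective_of_full [H.Full] : Function.Surjective (Pi1X.autWhisker H F') := by
  intro σ
  by_contra hσ
  have hclosed : IsClosed ((Pi1X.autWhisker H F').range : Set (Aut (H ⋙ F'))) := by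
    rw [MonoidHom.coe_range]
    exact (isCompact_range (continuous_autWhisker H F')).isClosed
  let R : ClosedSubgroup (Aut (H ⋙ F')) := ⟨(Pi1X.autWhisker H F').range, hclosed⟩
  have hR := ProfiniteGrp.closedSubgroup_eq_sInf_open R
  have hσR : σ ∉ (R : Subgroup (Aut (H ⋙ F'))) := fun h => hσ h
  rw [hR, Subgroup.mem_sInf] at hσR
  push Not at hσR
  obtain ⟨N, ⟨hNopen, hRN⟩, hσN⟩ := hσR
  obtain ⟨X, a, hconn, hstab⟩ := exists_connected_stabilizer_eq (H ⋙ F') N hNopen
  have h1 : (Pi1X.autWhisker H F').range ≤ MulAction.stabilizer (Aut (H ⋙ F')) a := by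
    rw [hstab]; exact hRN
  obtain ⟨s, hs⟩ := (range_le_stabilizer_iff H F' X a).1 h1
  obtain ⟨f, hf⟩ := H.map_surjective ((PreservesTerminal.iso H).hom ≫ s)
  let _ := uniqueFiberTerminal (H ⋙ F')
  let _ := uniqueFiberTerminal F'
  let t₀ : (H ⋙ F').obj (⊤_ C) := default
  have ha : (H ⋙ F').map f t₀ = a := by
    change F'.map (H.map f) t₀ = a
    rw [hf, F'.map_comp, FintypeCat.comp_apply]
    exact hs _
  apply hσN
  rw [← hstab, MulAction.mem_stabilizer_iff, ← ha, mulAction_naturality]
  congr 1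
  exact Subsingleton.elim _ _

theorem surjective_iff :
    Function.Surjective (Pi1X.autWhisker H F') ↔ (H.Full ∧ H.Faithful) := by
  constructor
  · intro hs
    exact ⟨full_of_surjective H F' hs, faithful_of_fiberFunctor_comp H F'⟩
  · rintro ⟨hfull, -⟩
    exact surjective_of_full H F'

end Surj


section Triv

variable {C : Type u} [Category.{v} C] [GaloisCategory C]

/-- all automorphisms of a fibre functor act trivially on the fibre of a finite coproduct of
terminal objects -/
lemma smul_eq_of_iso_coprod_terminal (F : C ⥤ FintypeCat.{w}) [FiberFunctor F] {Z : C} {n : ℕ}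
    (φ : Z ≅ ∐ fun _ : Fin n => ⊤_ C) (σ : Aut F) (b : F.obj Z) : σ • b = b := by
  obtain ⟨⟨j⟩, t, ht⟩ := FintypeCat.jointly_surjective _ _
    (isColimitOfPreserves F (coproductIsCoproduct (fun _ : Fin n => ⊤_ C))) (F.map φ.hom b)
  have hb : b = F.map (Sigma.ι (fun _ : Fin n => ⊤_ C) j ≫ φ.inv) t := by
    rw [F.map_comp, FintypeCat.comp_apply]
    have : F.map (Sigma.ι (fun _ : Fin n => ⊤_ C) j) t = F.map φ.hom b := ht
    rw [this, ← FintypeCat.comp_apply, ← F.map_comp, Iso.hom_inv_id, F.map_id]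
    rfl
  let _ := uniqueFiberTerminal F
  rw [hb, mulAction_naturality]
  congr 1
  exact Subsingleton.elim _ _

variable {C' C'' : Type u} [Category.{v} C'] [Category.{v} C''] [GaloisCategory C']
  [GaloisCategory C'']
  (H : C ⥤ C') (H' : C' ⥤ C'')
  (F'' : C'' ⥤ FintypeCat.{w}) [FiberFunctor F''] [FiberFunctor (H' ⋙ F'')]
  [FiberFunctor (H ⋙ (H' ⋙ F''))]

theorem comp_trivial_iff :
    (∀ σ : Aut F'', Pi1X.autWhisker H (H' ⋙ F'') (Pi1X.autWhisker H' F'' σ) = 1) ↔
      ∀ X : C, ∃ n : ℕ, Nonempty (H'.obj (H.obj X) ≅ ∐ fun _ : Fin n => ⊤_ C'') := by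
  constructor
  · intro h X
    apply exists_iso_coprod_terminal_of_fixed F''
    intro σ z
    have := congrArg (fun τ : Aut (H ⋙ (H' ⋙ F'')) => τ.hom.app X z) (h σ)
    exact this
  · intro h σ
    apply Iso.ext
    ext X b
    obtain ⟨n, ⟨φ⟩⟩ := h X
    exact smul_eq_of_iso_coprod_terminal F'' φ σ b

end Triv


section FiberUnique

variable {C : Type u} [Category.{v} C] [GaloisCategory C]

/-- Every exact functor to finite sets on a Galois category is isomorphic to the fibre functor. -/
theorem nonempty_iso_of_exact (F : C ⥤ FintypeCat.{w}) [FiberFunctor F] (F' : C ⥤ FintypeCat.{w})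
    [PreservesFiniteLimits F'] [PreservesFiniteColimits F'] : Nonempty (F' ≅ F) := by
  apply nonempty_iso_of_preservesBinaryCoproducts F F'
  intro X hX
  rw [initial_iff_fiber_empty F]
  by_contra hne
  rw [not_isEmpty_iff] at hne
  obtain ⟨x⟩ := hne
  let f := terminal.from X
  have hsurj : Function.Surjective (F.map f) := by
    intro t
    let _ := uniqueFiberTerminal F
    exact ⟨x, Subsingleton.elim _ _⟩
  have h1 : Epi (F.map f) := ConcreteCategory.epi_of_surjective _ hsurj
  have h2 : Epi f := F.epi_of_epi_map h1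
  have h3 : Epi (F'.map f) := inferInstance
  have hs' : Function.Surjective (F'.map f) :=
    surjective_of_epi (FintypeCat.incl.map (F'.map f))
  let _ := uniqueFiberTerminal F'
  obtain ⟨y, _⟩ := hs' default
  exact hX.false y

end FiberUnique


section Conn

variable {C : Type u} [Category.{v} C] [GaloisCategory C]

/-- A functor isomorphic to a fibre functor is a fibre functor. -/
lemma fiberFunctorOfIso {F G : C ⥤ FintypeCat.{w}} (α : F ≅ G) [FiberFunctor F] :
    FiberFunctor G where
  preservesTerminalObjects := preservesLimitsOfShape_of_natIso α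
  preservesPullbacks := preservesLimitsOfShape_of_natIso α
  preservesFiniteCoproducts := ⟨fun n => preservesColimitsOfShape_of_natIso α⟩
  preservesEpis := Functor.PreservesEpimorphisms.of_iso α
  preservesQuotientsByFiniteGroups := fun G _ _ => preservesColimitsOfShape_of_natIso α
  reflectsIsos := reflectsIsomorphisms_of_iso α

/-- transitivity of the action on a nonempty fibre implies connectedness -/
lemma isConnected_of_transitive (F : C ⥤ FintypeCat.{w}) [FiberFunctor F] (X : C) (x : F.obj X)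
    (h : ∀ x' : F.obj X, ∃ σ : Aut F, σ • x = x') : IsConnected X := by
  obtain ⟨Y, i, y, hy, hconn, hmono⟩ := fiber_in_connected_component F X x
  have hbij : Function.Bijective (F.map i) := by
    refine ⟨map_injective_of_mono F i, fun x' => ?_⟩
    obtain ⟨σ, hσ⟩ := h x'
    exact ⟨σ • y, by rw [← mulAction_naturality, hy, hσ]⟩
  have h1 : IsIso (F.map i) := (ConcreteCategory.isIso_iff_bijective _).2 hbij
  have h2 : IsIso i := isIso_of_reflects_iso i F
  refine ⟨not_initial_of_inhabited F x, fun Z j _ hZ => ?_⟩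
  have : Mono (j ≫ inv i) := mono_comp _ _
  have h3 : IsIso (j ≫ inv i) := IsConnected.noTrivialComponent Z (j ≫ inv i) hZ
  exact IsIso.of_isIso_comp_right j (inv i)

variable {C' : Type u} [Category.{v} C'] [GaloisCategory C']
  (H : C ⥤ C') [PreservesFiniteLimits H] [PreservesFiniteColimits H]

/-- an exact functor between Galois categories composed with a fibre functor is (isomorphic to)
a fibre functor -/
theorem nonempty_fiberFunctor_comp (F' : C' ⥤ FintypeCat.{v}) [FiberFunctor F'] :
    Nonempty (FiberFunctor (H ⋙ F')) := by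
  let F := GaloisCategory.getFiberFunctor C
  have hpl : PreservesFiniteLimits (H ⋙ F') := comp_preservesFiniteLimits H F'
  have hpc : PreservesColimitsOfShape (Discrete WalkingPair) (H ⋙ F') := inferInstance
  have hiso : Nonempty ((H ⋙ F') ≅ F) := by
    apply nonempty_iso_of_preservesBinaryCoproducts F (H ⋙ F')
    intro X hX
    rw [initial_iff_fiber_empty F]
    by_contra hne
    rw [not_isEmpty_iff] at hne
    obtain ⟨x⟩ := hne
    let f := terminal.from X
    have hsurj : Function.Surjective (F.map f) := by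
      intro t
      let _ := uniqueFiberTerminal F
      exact ⟨x, Subsingleton.elim _ _⟩
    have h1 : Epi (F.map f) := ConcreteCategory.epi_of_surjective _ hsurj
    have h2 : Epi f := F.epi_of_epi_map h1
    have h3 : Epi (H.map f) := inferInstance
    have h4 : Epi (F'.map (H.map f)) := inferInstance
    have hs' : Function.Surjective (F'.map (H.map f)) :=
      surjective_of_epi (FintypeCat.incl.map (F'.map (H.map f)))
    let _ := uniqueFiberTerminal (H ⋙ F')
    obtain ⟨y, _⟩ := hs' (default : (H ⋙ F').obj (⊤_ C))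
    exact hX.false y
  obtain ⟨α⟩ := hiso
  exact ⟨fiberFunctorOfIso α.symm⟩

variable (F' : C' ⥤ FintypeCat.{w}) [FiberFunctor F'] [FiberFunctor (H ⋙ F')]

lemma isConnected_map_of_surjective (hs : Function.Surjective (Pi1X.autWhisker H F')) (X : C)
    [IsConnected X] : IsConnected (H.obj X) := by
  obtain ⟨a⟩ := nonempty_fiber_of_isConnected (H ⋙ F') X
  apply isConnected_of_transitive F' (H.obj X) a
  intro b
  obtain ⟨τ, hτ⟩ := MulAction.exists_smul_eq (Aut (H ⋙ F')) a (show (H ⋙ F').obj X from b)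
  obtain ⟨σ', rfl⟩ := hs τ
  exact ⟨σ', hτ⟩

lemma surjective_of_preserves_connected
    (hc : ∀ X : C, IsConnected X → IsConnected (H.obj X)) :
    Function.Surjective (Pi1X.autWhisker H F') := by
  intro σ
  by_contra hσ
  have hclosed : IsClosed ((Pi1X.autWhisker H F').range : Set (Aut (H ⋙ F'))) := by
    rw [MonoidHom.coe_range]
    exact (isCompact_range (continuous_autWhisker H F')).isClosed
  let R : ClosedSubgroup (Aut (H ⋙ F')) := ⟨(Pi1X.autWhisker H F').range, hclosed⟩
  have hR := ProfiniteGrp.closedSubgroup_eq_sInf_open R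
  have hσR : σ ∉ (R : Subgroup (Aut (H ⋙ F'))) := fun h => hσ h
  rw [hR, Subgroup.mem_sInf] at hσR
  push Not at hσR
  obtain ⟨N, ⟨hNopen, hRN⟩, hσN⟩ := hσR
  obtain ⟨X, a, hconn, hstab⟩ := exists_connected_stabilizer_eq (H ⋙ F') N hNopen
  have := hc X hconn
  apply hσN
  rw [← hstab, MulAction.mem_stabilizer_iff]
  obtain ⟨σ', hσ'⟩ := MulAction.exists_smul_eq (Aut F') (show F'.obj (H.obj X) from a)
    (show F'.obj (H.obj X) from σ • a)
  have h1 : Pi1X.autWhisker H F' σ' ∈ MulAction.stabilizer (Aut (H ⋙ F')) a := by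
    rw [hstab]
    exact hRN ⟨σ', rfl⟩
  rw [MulAction.mem_stabilizer_iff] at h1
  have h2 : Pi1X.autWhisker H F' σ' • a = σ • a := hσ'
  rw [← h2, h1]

end Conn

section Conn2

variable {C : Type u} [Category.{v} C] [GaloisCategory C]
  {D : Type u} [Category.{v} D] [GaloisCategory D]
  (H : C ⥤ D) [PreservesFiniteLimits H] [PreservesFiniteColimits H]

theorem fullyFaithful_iff_preserves_connected :
    (H.Full ∧ H.Faithful) ↔ ∀ X : C, IsConnected X → IsConnected (H.obj X) := by
  let F' := GaloisCategory.getFiberFunctor D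
  obtain ⟨inst⟩ := nonempty_fiberFunctor_comp H F'
  rw [← surjective_iff H F']
  constructor
  · intro hs X hX
    exact isConnected_map_of_surjective H F' hs X
  · intro hc
    exact surjective_of_preserves_connected H F' hc

end Conn2


section Exact

variable {C C' : Type u} [Category.{v} C] [Category.{v} C'] [GaloisCategory C] [GaloisCategory C']
  (H : C ⥤ C') [PreservesFiniteLimits H] [PreservesFiniteColimits H]
  (F' : C' ⥤ FintypeCat.{w}) [FiberFunctor F'] [FiberFunctor (H ⋙ F')]

/-- transport of a trivial action along an isomorphism -/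
lemma smul_eq_of_iso {X' Y' : C'} (e : X' ≅ Y') (σ : Aut F') (h : ∀ b : F'.obj X', σ • b = b)
    (c : F'.obj Y') : σ • c = c := by
  have hc : c = F'.map e.hom (F'.map e.inv c) := by
    rw [← FintypeCat.comp_apply, ← F'.map_comp, e.inv_hom_id, F'.map_id]
    rfl
  rw [hc, mulAction_naturality, h]

lemma isOpen_map_of_ker_le (hs : Function.Surjective (Pi1X.autWhisker H F'))
    (U' : Subgroup (Aut F')) (hU : IsOpen (U' : Set (Aut F')))
    (hker : (Pi1X.autWhisker H F').ker ≤ U') :
    IsOpen ((U'.map (Pi1X.autWhisker H F') : Subgroup (Aut (H ⋙ F'))) : Set (Aut (H ⋙ F'))) := by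
  have hset : ((U'.map (Pi1X.autWhisker H F') : Subgroup (Aut (H ⋙ F'))) : Set (Aut (H ⋙ F'))) =
      ((Pi1X.autWhisker H F') '' (U' : Set (Aut F'))ᶜ)ᶜ := by
    ext x
    simp only [Subgroup.coe_map, Set.mem_image, SetLike.mem_coe, Set.mem_compl_iff, not_exists,
      not_and]
    constructor
    · rintro ⟨u, hu, rfl⟩ y hy hyx
      apply hy
      have h1 : u⁻¹ * y ∈ (Pi1X.autWhisker H F').ker := by
        rw [MonoidHom.mem_ker, map_mul, map_inv, hyx, inv_mul_cancel]
      have h2 := U'.mul_mem hu (hker h1)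
      rwa [mul_inv_cancel_left] at h2
    · intro hx
      obtain ⟨y, rfl⟩ := hs x
      refine ⟨y, ?_, rfl⟩
      by_contra hy
      exact hx y hy rfl
  rw [hset]
  have hcl : IsClosed ((U' : Set (Aut F'))ᶜ) := hU.isClosed_compl
  exact ((hcl.isCompact.image (continuous_autWhisker H F')).isClosed).isOpen_compl

lemma exists_iso_of_connected_of_ker_le (hs : Function.Surjective (Pi1X.autWhisker H F'))
    (X' : C') [IsConnected X'] (a' : F'.obj X')
    (hker : (Pi1X.autWhisker H F').ker ≤ MulAction.stabilizer (Aut F') a') :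
    ∃ X : C, Nonempty (H.obj X ≅ X') := by
  have hU : IsOpen ((MulAction.stabilizer (Aut F') a' : Subgroup (Aut F')) : Set (Aut F')) :=
    stabilizer_isOpen (Aut F') a'
  have hV := isOpen_map_of_ker_le H F' hs _ hU hker
  obtain ⟨X, a, hconn, hstab⟩ := exists_connected_stabilizer_eq (H ⋙ F') _ hV
  have hHX : IsConnected (H.obj X) := isConnected_map_of_surjective H F' hs X
  have hstab' : MulAction.stabilizer (Aut F') (show F'.obj (H.obj X) from a) =
      MulAction.stabilizer (Aut F') a' := by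
    ext σ'
    have h1 : σ' ∈ MulAction.stabilizer (Aut F') (show F'.obj (H.obj X) from a) ↔
        Pi1X.autWhisker H F' σ' ∈ MulAction.stabilizer (Aut (H ⋙ F')) a := by
      rw [MulAction.mem_stabilizer_iff, MulAction.mem_stabilizer_iff]
      rfl
    rw [h1, hstab, Subgroup.mem_map]
    constructor
    · rintro ⟨u, hu, huσ⟩
      have h2 : u⁻¹ * σ' ∈ (Pi1X.autWhisker H F').ker := by
        rw [MonoidHom.mem_ker, map_mul, map_inv, huσ, inv_mul_cancel]
      have h3 := (MulAction.stabilizer (Aut F') a').mul_mem hu (hker h2)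
      rwa [mul_inv_cancel_left] at h3
    · intro hσ'
      exact ⟨σ', hσ', rfl⟩
  obtain ⟨q, hq⟩ := exists_hom_of_stabilizer_le F' (H.obj X) X' a a' (le_of_eq hstab')
  obtain ⟨q', hq'⟩ := exists_hom_of_stabilizer_le F' X' (H.obj X) a' a (le_of_eq hstab'.symm)
  refine ⟨X, ⟨⟨q, q', ?_, ?_⟩⟩⟩
  · apply evaluation_injective_of_isConnected F' (H.obj X) (H.obj X) a
    change F'.map (q ≫ q') a = F'.map (𝟙 _) a
    rw [F'.map_comp, FintypeCat.comp_apply, hq, hq', F'.map_id]
    rfl
  · apply evaluation_injective_of_isConnected F' X' X' a'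
    change F'.map (q' ≫ q) a' = F'.map (𝟙 _) a'
    rw [F'.map_comp, FintypeCat.comp_apply, hq', hq, F'.map_id]
    rfl

end Exact


section Exact2

variable {C C' C'' : Type u} [Category.{v} C] [Category.{v} C'] [Category.{v} C'']
  [GaloisCategory C] [GaloisCategory C'] [GaloisCategory C'']
  (H : C ⥤ C') [PreservesFiniteLimits H] [PreservesFiniteColimits H]
  (H' : C' ⥤ C'') [PreservesFiniteLimits H'] [PreservesFiniteColimits H']
  (F'' : C'' ⥤ FintypeCat.{w}) [FiberFunctor F''] [FiberFunctor (H' ⋙ F'')]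
  [FiberFunctor (H ⋙ (H' ⋙ F''))]

lemma closure_le_ker
    (htriv : ∀ σ : Aut F'', Pi1X.autWhisker H (H' ⋙ F'') (Pi1X.autWhisker H' F'' σ) = 1) :
    (Subgroup.normalClosure (Set.range (Pi1X.autWhisker H' F''))).topologicalClosure ≤
      (Pi1X.autWhisker H (H' ⋙ F'')).ker := by
  apply Subgroup.topologicalClosure_minimal
  · apply Subgroup.normalClosure_le_normal
    rintro _ ⟨σ, rfl⟩
    exact htriv σ
  · have : ((Pi1X.autWhisker H (H' ⋙ F'')).ker : Set (Aut (H' ⋙ F''))) =
        (Pi1X.autWhisker H (H' ⋙ F'')) ⁻¹' {1} := by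
      ext x
      simp only [SetLike.mem_coe, MonoidHom.mem_ker, Set.mem_preimage, Set.mem_singleton_iff]
    rw [this]
    exact isClosed_singleton.preimage (continuous_autWhisker H (H' ⋙ F''))

/-- the closed normal subgroup generated by the image of `h'` acts trivially on the fibre of `X'`
as soon as `π''` acts trivially on the fibre of `H' X'` -/
lemma closure_smul_eq (X' : C')
    (hfix : ∀ (σ : Aut F'') (b : F''.obj (H'.obj X')), σ • b = b)
    (g : Aut (H' ⋙ F''))
    (hg : g ∈ (Subgroup.normalClosure (Set.range (Pi1X.autWhisker H' F''))).topologicalClosure)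
    (b : (H' ⋙ F'').obj X') : g • b = b := by
  let K := (MulAction.toPermHom (Aut (H' ⋙ F'')) ((H' ⋙ F'').obj X')).ker
  have hKmem : ∀ τ : Aut (H' ⋙ F''), τ ∈ K ↔ ∀ c : (H' ⋙ F'').obj X', τ • c = c := by
    intro τ
    rw [MonoidHom.mem_ker]
    constructor
    · intro h c
      exact congrArg (fun p => p c) h
    · intro h
      ext c
      exact h c
  have hKclosed : IsClosed (K : Set (Aut (H' ⋙ F''))) := by
    have : (K : Set (Aut (H' ⋙ F''))) =
        ⋂ c : (H' ⋙ F'').obj X', (MulAction.stabilizer (Aut (H' ⋙ F'')) c : Set _) := by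
      ext τ
      simp only [SetLike.mem_coe, hKmem, Set.mem_iInter, MulAction.mem_stabilizer_iff]
    rw [this]
    exact isClosed_iInter fun c =>
      Subgroup.isClosed_of_isOpen _ (stabilizer_isOpen (Aut (H' ⋙ F'')) c)
  have hle : (Subgroup.normalClosure (Set.range (Pi1X.autWhisker H' F''))).topologicalClosure ≤
      K := by
    apply Subgroup.topologicalClosure_minimal _ _ hKclosed
    apply Subgroup.normalClosure_le_normal
    rintro _ ⟨σ, rfl⟩
    rw [SetLike.mem_coe, hKmem]
    intro c
    exact hfix σ c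
  exact (hKmem g).1 (hle hg) b

lemma ker_le_closure_of_essImage
    (hE : ∀ X' : C', (∃ n : ℕ, Nonempty (H'.obj X' ≅ ∐ fun _ : Fin n => ⊤_ C'')) →
      ∃ X : C, Nonempty (H.obj X ≅ X')) :
    (Pi1X.autWhisker H (H' ⋙ F'')).ker ≤
      (Subgroup.normalClosure (Set.range (Pi1X.autWhisker H' F''))).topologicalClosure := by
  intro g hg
  set Nn := Subgroup.normalClosure (Set.range (Pi1X.autWhisker H' F'')) with hNn
  have hNnormal : Nn.topologicalClosure.Normal :=
    Subgroup.is_normal_topologicalClosure Nn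
  let R : ClosedSubgroup (Aut (H' ⋙ F'')) :=
    ⟨Nn.topologicalClosure, Subgroup.isClosed_topologicalClosure Nn⟩
  have hR := ProfiniteGrp.closedSubgroup_eq_sInf_open R
  change g ∈ (R : Subgroup (Aut (H' ⋙ F'')))
  rw [hR, Subgroup.mem_sInf]
  rintro U' ⟨hUopen, hNU⟩
  obtain ⟨X', a', hconn, hstab⟩ := exists_connected_stabilizer_eq (H' ⋙ F'') U' hUopen
  have htriv : ∀ n ∈ Nn.topologicalClosure, ∀ b : (H' ⋙ F'').obj X', n • b = b := by
    intro n hn b
    obtain ⟨τ, rfl⟩ := MulAction.exists_smul_eq (Aut (H' ⋙ F'')) a' b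
    have h1 : τ⁻¹ * n * τ ∈ Nn.topologicalClosure := by
      have := hNnormal.conj_mem n hn τ⁻¹
      simpa using this
    have h2 : τ⁻¹ * n * τ ∈ MulAction.stabilizer (Aut (H' ⋙ F'')) a' := by
      rw [hstab]
      exact hNU h1
    rw [MulAction.mem_stabilizer_iff, mul_smul, mul_smul, inv_smul_eq_iff] at h2
    exact h2
  have h1 : ∀ (σ : Aut F'') (z : F''.obj (H'.obj X')), σ • z = z := by
    intro σ z
    have hmem : Pi1X.autWhisker H' F'' σ ∈ Nn.topologicalClosure :=
      Nn.le_topologicalClosure (Subgroup.subset_normalClosure ⟨σ, rfl⟩)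
    exact htriv _ hmem z
  obtain ⟨n, ⟨φ⟩⟩ := exists_iso_coprod_terminal_of_fixed F'' (H'.obj X') h1
  obtain ⟨X, ⟨e⟩⟩ := hE X' ⟨n, ⟨φ⟩⟩
  rw [mem_ker_autWhisker_iff] at hg
  rw [← hstab, MulAction.mem_stabilizer_iff]
  exact smul_eq_of_iso (H' ⋙ F'') e g (hg X) a'

theorem exact_iff :
    (Function.Surjective (Pi1X.autWhisker H (H' ⋙ F'')) ∧
      (∀ σ : Aut F'', Pi1X.autWhisker H (H' ⋙ F'') (Pi1X.autWhisker H' F'' σ) = 1) ∧
      (Pi1X.autWhisker H (H' ⋙ F'')).ker =
        (Subgroup.normalClosure (Set.range (Pi1X.autWhisker H' F''))).topologicalClosure) ↔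
    ((H.Full ∧ H.Faithful) ∧
      ∀ X' : C', (∃ X : C, Nonempty (H.obj X ≅ X')) ↔
        ∃ n : ℕ, Nonempty (H'.obj X' ≅ ∐ fun _ : Fin n => ⊤_ C'')) := by
  constructor
  · rintro ⟨h1, h2, h3⟩
    refine ⟨(surjective_iff H (H' ⋙ F'')).1 h1, fun X' => ⟨?_, ?_⟩⟩
    · rintro ⟨X, ⟨e⟩⟩
      obtain ⟨n, ⟨φ⟩⟩ := (comp_trivial_iff H H' F'').1 h2 X
      exact ⟨n, ⟨(H'.mapIso e).symm ≪≫ φ⟩⟩
    · rintro ⟨n, ⟨φ⟩⟩
      have htr : ∀ g ∈ (Pi1X.autWhisker H (H' ⋙ F'')).ker,
          ∀ b : (H' ⋙ F'').obj X', g • b = b := by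
        intro g hg b
        rw [h3] at hg
        exact closure_smul_eq H' F'' X'
          (fun σ c => smul_eq_of_iso_coprod_terminal F'' φ σ c) g hg b
      obtain ⟨ι, hfin, f, e, hconn⟩ := has_decomp_connected_components' X'
      have hex : ∀ i, ∃ X : C, Nonempty (H.obj X ≅ f i) := by
        intro i
        have := hconn i
        obtain ⟨y⟩ := nonempty_fiber_of_isConnected (H' ⋙ F'') (f i)
        apply exists_iso_of_connected_of_ker_le H (H' ⋙ F'') h1 (f i) y
        intro g hg
        rw [MulAction.mem_stabilizer_iff]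
        have : Mono (Sigma.ι f i ≫ e.hom) := mono_comp _ _
        rw [smul_eq_iff_of_mono (H' ⋙ F'') (Sigma.ι f i ≫ e.hom)]
        exact htr g hg _
      choose X_ hX_ using hex
      exact ⟨∐ X_, ⟨PreservesCoproduct.iso H X_ ≪≫
        Sigma.mapIso (fun i => (hX_ i).some) ≪≫ e⟩⟩
  · rintro ⟨hff, hE⟩
    have h1 := (surjective_iff H (H' ⋙ F'')).2 hff
    have h2 : ∀ σ : Aut F'', Pi1X.autWhisker H (H' ⋙ F'') (Pi1X.autWhisker H' F'' σ) = 1 :=
      (comp_trivial_iff H H' F'').2 (fun X => (hE (H.obj X)).1 ⟨X, ⟨Iso.refl _⟩⟩)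
    refine ⟨h1, h2, le_antisymm ?_ (closure_le_ker H H' F'' h2)⟩
    exact ker_le_closure_of_essImage H H' F'' (fun X' hX' => (hE X').2 hX')

end Exact2

end Groth.Agent.H95.GalWhisker
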