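import Groth.Prelude.Def_W4c6eohyperellchar2Gc
import Mathlib.Tactic

set_option autoImplicit false
universe u

namespace Groth.Agent.H95
open W4c6eohyperellchar2

section basic
variable (c : ℕ) (k : Type u) [Field k]

theorem coefX_X (n m : ℕ) :
    coefX (X c k n) m = if 1 ≤ m ∧ m ≤ c ∧ m = n then 1 else 0 := by
  unfold coefX X
  by_cases h : 1 ≤ m ∧ m ≤ c
  · rw [dif_pos h]
    have : (m - 1 + 1 = n) ↔ (1 ≤ m ∧ m ≤ c ∧ m = n) := by omega
    simp only [this]
  · rw [dif_neg h]
    rw [if_neg]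
    tauto

theorem coefY_X (n m : ℕ) : coefY (X c k n) m = 0 := by
  unfold coefY X
  split_ifs <;> rfl

theorem coefX_Y (n m : ℕ) : coefX (Y c k n) m = 0 := by
  unfold coefX Y
  split_ifs <;> rfl

theorem coefY_Y (n m : ℕ) :
    coefY (Y c k n) m = if 1 ≤ m ∧ m ≤ c ∧ m = n then 1 else 0 := by
  unfold coefY Y
  by_cases h : 1 ≤ m ∧ m ≤ c
  · rw [dif_pos h]
    have : (m - 1 + 1 = n) ↔ (1 ≤ m ∧ m ≤ c ∧ m = n) := by omega
    simp only [this]
  · rw [dif_neg h]
    rw [if_neg]
    tauto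

theorem F_Y (n : ℕ) : F c k (Y c k n) = 0 := by
  unfold F
  simp only [coefX_Y]
  ext i <;> simp

theorem F_X_even (n : ℕ) (hn : 2 * n ≤ c) : F c k (X c k (2 * n)) = X c k n := by
  unfold F
  simp only [coefX_X]
  ext i
  · simp only [X]
    have : (1 ≤ 2 * (i.val + 1) ∧ 2 * (i.val + 1) ≤ c ∧ 2 * (i.val + 1) = 2 * n) ↔ (i.val + 1 = n) := by
      have := i.2
      omega
    simp only [this]
    split_ifs <;> simp
  · simp only [X]
    have : ¬ (1 ≤ 2 * (c - (i.val + 1)) + 1 ∧ 2 * (c - (i.val + 1)) + 1 ≤ c ∧ 2 * (c - (i.val + 1)) + 1 = 2 * n) := by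
      omega
    rw [if_neg this]
    simp

theorem F_X_odd (n : ℕ) (hn : 2 * n + 1 ≤ c) : F c k (X c k (2 * n + 1)) = Y c k (c - n) := by
  unfold F
  simp only [coefX_X]
  ext i
  · simp only [Y]
    have : ¬ (1 ≤ 2 * (i.val + 1) ∧ 2 * (i.val + 1) ≤ c ∧ 2 * (i.val + 1) = 2 * n + 1) := by
      omega
    simp [this]
  · simp only [Y]
    have : (1 ≤ 2 * (c - (i.val + 1)) + 1 ∧ 2 * (c - (i.val + 1)) + 1 ≤ c ∧ 2 * (c - (i.val + 1)) + 1 = 2 * n + 1) ↔ (i.val + 1 = c - n) := by
      have := i.2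
      omega
    simp only [this]
    split_ifs <;> simp

end basic

section V
variable (c : ℕ) (k : Type u) [Field k] [CharP k 2] [PerfectRing k 2]

theorem V_Y (n : ℕ) : V c k (Y c k n) = Y c k (2 * n) := by
  unfold V
  simp only [coefX_Y, coefY_Y]
  ext i
  · simp [Y]
  · simp only [Y]
    by_cases h : (i.val + 1) % 2 = 0
    · rw [if_pos h]
      have : (1 ≤ (i.val + 1) / 2 ∧ (i.val + 1) / 2 ≤ c ∧ (i.val + 1) / 2 = n) ↔ (i.val + 1 = 2 * n) := by
        have := i.2
        omega
      simp only [this]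
      split_ifs <;> simp
    · rw [if_neg h]
      have : ¬ (i.val + 1 = 2 * n) := by omega
      simp [this]

theorem V_X (n : ℕ) (h1 : 1 ≤ n) (hn : n ≤ c) : V c k (X c k n) = Y c k (2 * c - 2 * n + 1) := by
  unfold V
  simp only [coefX_X, coefY_X]
  ext i
  · simp [Y]
  · simp only [Y]
    by_cases h : (i.val + 1) % 2 = 0
    · rw [if_pos h]
      have : ¬ (i.val + 1 = 2 * c - 2 * n + 1) := by omega
      rw [if_neg this]
      simp
    · rw [if_neg h]
      have : (1 ≤ (2 * c - i.val) / 2 ∧ (2 * c - i.val) / 2 ≤ c ∧ (2 * c - i.val) / 2 = n) ↔ (i.val + 1 = 2 * c - 2 * n + 1) := by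
        have := i.2
        omega
      simp only [this]
      split_ifs <;> simp

theorem V_iterate_Y (n m : ℕ) : (V c k)^[n] (Y c k m) = Y c k (2 ^ n * m) := by
  induction n generalizing m with
  | zero => simp
  | succ n ih =>
    rw [Function.iterate_succ_apply, V_Y, ih]
    congr 1
    ring

theorem F_iterate_X (e l : ℕ) (h : 2 ^ e * l ≤ c) : (F c k)^[e] (X c k (2 ^ e * l)) = X c k l := by
  induction e with
  | zero => simp
  | succ e ih =>
    have h' : 2 * (2 ^ e * l) ≤ c := by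
      have : 2 ^ (e + 1) * l = 2 * (2 ^ e * l) := by ring
      omega
    have e1 : 2 ^ (e + 1) * l = 2 * (2 ^ e * l) := by ring
    rw [Function.iterate_succ_apply, e1, F_X_even c k _ h', ih (by omega)]

theorem Y_add_Y (m : ℕ) : Y c k m + Y c k m = 0 := by
  ext i
  · simp [Y]
  · simp only [Y, Prod.snd_add, Pi.add_apply, Prod.snd_zero, Pi.zero_apply]
    exact CharTwo.add_self_eq_zero _

end V
end Groth.Agent.H95

namespace Groth.Agent.H95
open W4c6eohyperellchar2

section span
variable (c : ℕ) (k : Type u) [Field k]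

theorem gc_decomp (v : GcMod c k) :
    v = ∑ i : Fin c, v.1 i • X c k (i.val + 1) + ∑ i : Fin c, v.2 i • Y c k (i.val + 1) := by
  ext j
  · simp only [Prod.fst_add, Prod.fst_sum, Prod.smul_fst, Pi.add_apply, Finset.sum_apply,
      Pi.smul_apply, X, Y, smul_eq_mul, Pi.zero_apply, mul_zero, Finset.sum_const_zero, add_zero]
    rw [Finset.sum_eq_single j]
    · simp
    · intro b _ hb
      have : ¬ (j.val = b.val) := by
        intro h
        apply hb
        ext
        omega
      simp [this]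
    · intro h
      exact absurd (Finset.mem_univ _) h
  · simp only [Prod.snd_add, Prod.snd_sum, Prod.smul_snd, Pi.add_apply, Finset.sum_apply,
      Pi.smul_apply, X, Y, smul_eq_mul, Pi.zero_apply, mul_zero, Finset.sum_const_zero, zero_add]
    rw [Finset.sum_eq_single j]
    · simp
    · intro b _ hb
      have : ¬ (j.val = b.val) := by
        intro h
        apply hb
        ext
        omega
      simp [this]
    · intro h
      exact absurd (Finset.mem_univ _) h

theorem gc_eq_top_of_basis_mem (N : Submodule k (GcMod c k))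
    (hX : ∀ n, 1 ≤ n → n ≤ c → X c k n ∈ N) (hY : ∀ n, 1 ≤ n → n ≤ c → Y c k n ∈ N) : N = ⊤ := by
  rw [eq_top_iff]
  intro v _
  rw [gc_decomp c k v]
  refine N.add_mem (N.sum_mem fun i _ => N.smul_mem _ (hX _ (by omega) (by have := i.2; omega)))
    (N.sum_mem fun i _ => N.smul_mem _ (hY _ (by omega) (by have := i.2; omega)))

end span
end Groth.Agent.H95
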