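import Groth.Agent.H95.Gc
import Mathlib.LinearAlgebra.Basis.Prod
import Mathlib.LinearAlgebra.StdBasis
import Mathlib.LinearAlgebra.Dimension.Constructions

set_option autoImplicit false
universe u

namespace Groth.Agent.H95
open W4c6eohyperellchar2

section Nfil
variable (c : ℕ) (k : Type u) [Field k]

theorem mem_Nfil_iff (i : ℕ) (v : GcMod c k) :
    v ∈ Nfil c k i ↔ (∀ j : Fin c, min i c < j.val + 1 → v.2 j = 0) ∧
      (∀ j : Fin c, j.val + 1 ≤ 2 * c - i → v.1 j = 0) := by
  constructor
  · intro hv
    unfold Nfil at hv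
    induction hv using Submodule.span_induction with
    | mem x hx =>
      rcases hx with ⟨n, hn, rfl⟩ | ⟨n, hn, rfl⟩
      · simp only [Set.mem_Icc] at hn
        refine ⟨fun j hj => ?_, fun j _ => by simp [Y]⟩
        simp only [Y]
        rw [if_neg]
        omega
      · simp only [Set.mem_Ioc] at hn
        refine ⟨fun j _ => by simp [X], fun j hj => ?_⟩
        simp only [X]
        rw [if_neg]
        omega
    | zero => exact ⟨fun _ _ => rfl, fun _ _ => rfl⟩
    | add x y _ _ hx hy =>
      refine ⟨fun j hj => ?_, fun j hj => ?_⟩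
      · simp [hx.1 j hj, hy.1 j hj]
      · simp [hx.2 j hj, hy.2 j hj]
    | smul r x _ hx =>
      refine ⟨fun j hj => ?_, fun j hj => ?_⟩
      · simp [hx.1 j hj]
      · simp [hx.2 j hj]
  · rintro ⟨h1, h2⟩
    rw [gc_decomp c k v]
    refine Submodule.add_mem _ (Submodule.sum_mem _ fun j _ => ?_) (Submodule.sum_mem _ fun j _ => ?_)
    · by_cases hj : j.val + 1 ≤ 2 * c - i
      · rw [h2 j hj, zero_smul]
        exact Submodule.zero_mem _
      · apply Submodule.smul_mem
        apply Submodule.subset_span
        right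
        refine ⟨j.val + 1, ?_, rfl⟩
        simp only [Set.mem_Ioc]
        have := j.2
        omega
    · by_cases hj : min i c < j.val + 1
      · rw [h1 j hj, zero_smul]
        exact Submodule.zero_mem _
      · apply Submodule.smul_mem
        apply Submodule.subset_span
        left
        refine ⟨j.val + 1, ?_, rfl⟩
        simp only [Set.mem_Icc]
        omega

theorem Y_mem_Nfil (i n : ℕ) (h1 : 1 ≤ n) (hn : n ≤ min i c) : Y c k n ∈ Nfil c k i :=
  Submodule.subset_span (Or.inl ⟨n, ⟨h1, hn⟩, rfl⟩)

theorem X_mem_Nfil (i n : ℕ) (h1 : 2 * c - i < n) (hn : n ≤ c) : X c k n ∈ Nfil c k i :=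
  Submodule.subset_span (Or.inr ⟨n, ⟨h1, hn⟩, rfl⟩)

theorem Nfil_mono {i i' : ℕ} (h : i ≤ i') : Nfil c k i ≤ Nfil c k i' := by
  intro v hv
  rw [mem_Nfil_iff] at hv ⊢
  refine ⟨fun j hj => hv.1 j ?_, fun j hj => hv.2 j ?_⟩
  · omega
  · omega

/-- the standard basis of `GcMod c k`. -/
noncomputable def gcBasis : Module.Basis (Fin c ⊕ Fin c) k (GcMod c k) :=
  (Pi.basisFun k (Fin c)).prod (Pi.basisFun k (Fin c))

theorem gcBasis_inl (j : Fin c) : gcBasis c k (Sum.inl j) = X c k (j.val + 1) := by
  ext t
  · simp only [gcBasis, Module.Basis.prod_apply, Sum.elim_inl, Function.comp_apply,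
      LinearMap.inl_apply, Pi.basisFun_apply, X, Pi.single_apply]
    congr 1
    rw [eq_iff_iff]
    constructor
    · rintro rfl; rfl
    · intro h; ext; omega
  · simp [gcBasis, X]

theorem gcBasis_inr (j : Fin c) : gcBasis c k (Sum.inr j) = Y c k (j.val + 1) := by
  ext t
  · simp [gcBasis, Y]
  · simp only [gcBasis, Module.Basis.prod_apply, Sum.elim_inr, Function.comp_apply,
      LinearMap.inr_apply, Pi.basisFun_apply, Y, Pi.single_apply]
    congr 1
    rw [eq_iff_iff]
    constructor
    · rintro rfl; rfl
    · intro h; ext; omega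

theorem finrank_Nfil (i : ℕ) (hi : i ≤ 2 * c) : Module.finrank k (Nfil c k i) = i := by
  classical
  let f : Fin i → Fin c ⊕ Fin c := fun t =>
    if h : t.val < c then Sum.inr ⟨t.val, h⟩ else Sum.inl ⟨2 * c - t.val - 1, by have := t.2; omega⟩
  have hf : Function.Injective f := by
    intro t t' h
    simp only [f] at h
    split_ifs at h with h1 h2 h2
    · simp only [Sum.inr.injEq, Fin.mk.injEq] at h
      exact Fin.ext h
    · simp only [Sum.inl.injEq, Fin.mk.injEq] at h
      have := t.2
      have := t'.2
      exact Fin.ext (by omega)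
  have hli : LinearIndependent k (gcBasis c k ∘ f) := (gcBasis c k).linearIndependent.comp f hf
  have hspan : Nfil c k i = Submodule.span k (Set.range (gcBasis c k ∘ f)) := by
    apply le_antisymm
    · unfold Nfil
      rw [Submodule.span_le]
      rintro x (⟨n, hn, rfl⟩ | ⟨n, hn, rfl⟩)
      · simp only [Set.mem_Icc] at hn
        apply Submodule.subset_span
        refine ⟨⟨n - 1, by omega⟩, ?_⟩
        have hlt : n - 1 < c := by omega
        simp only [Function.comp_apply, f, dif_pos hlt, gcBasis_inr]
        congr 1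
        omega
      · simp only [Set.mem_Ioc] at hn
        apply Submodule.subset_span
        refine ⟨⟨2 * c - n, by omega⟩, ?_⟩
        have hlt : ¬ (2 * c - n < c) := by omega
        simp only [Function.comp_apply, f, dif_neg hlt, gcBasis_inl]
        congr 1
        omega
    · rw [Submodule.span_le]
      rintro x ⟨t, rfl⟩
      simp only [Function.comp_apply, f]
      have := t.2
      split_ifs with h
      · rw [gcBasis_inr]
        exact Y_mem_Nfil c k i _ (by omega) (by simp only [le_min_iff]; omega)
      · rw [gcBasis_inl]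
        exact X_mem_Nfil c k i _ (by simp only; omega) (by simp only; omega)
  rw [hspan, finrank_span_eq_card hli, Fintype.card_fin]

end Nfil
end Groth.Agent.H95
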