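import Groth.Agent.H95.GcN

set_option autoImplicit false
universe u

namespace Groth.Agent.H95
open W4c6eohyperellchar2

section NV
variable (c : ℕ) (k : Type u) [Field k] [CharP k 2] [PerfectRing k 2] (a : ℕ → k)

omit [CharP k 2] [PerfectRing k 2] in
theorem coefY_add (v w : GcMod c k) (n : ℕ) : coefY (v + w) n = coefY v n + coefY w n := by
  unfold coefY
  split_ifs <;> simp

omit [CharP k 2] [PerfectRing k 2] in
theorem coefY_smul (r : k) (v : GcMod c k) (n : ℕ) : coefY (r • v) n = r * coefY v n := by
  unfold coefY
  split_ifs <;> simp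

theorem NV_add (v w : GcMod c k) : NV c k a (v + w) = NV c k a v + NV c k a w := by
  unfold NV
  ext i
  · simp
  · simp only [coefY_add, map_add, Prod.fst_add, Pi.add_apply, add_mul, Prod.snd_add, Prod.mk_add_mk]
    rw [add_add_add_comm, ← Finset.sum_add_distrib]
    congr 1
    apply Finset.sum_congr rfl
    intro j _
    split_ifs <;> simp

theorem NV_smul (r : k) (v : GcMod c k) :
    NV c k a (r • v) = (frobeniusEquiv k 2).symm r • NV c k a v := by
  unfold NV
  ext i
  · simp
  · simp only [coefY_smul, map_mul, Prod.smul_fst, Pi.smul_apply, smul_eq_mul, Prod.smul_snd,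
      Prod.smul_mk, smul_zero, mul_add, Finset.mul_sum]
    congr 1
    apply Finset.sum_congr rfl
    intro j _
    split_ifs
    · ring
    · simp

/-- `NV` as a semilinear map. -/
noncomputable def NVs : GcMod c k →ₛₗ[((frobeniusEquiv k 2).symm : k →+* k)] GcMod c k where
  toFun := NV c k a
  map_add' := NV_add c k a
  map_smul' := NV_smul c k a

theorem NVs_apply (v : GcMod c k) : NVs c k a v = NV c k a v := rfl

theorem NV_Y_even (m : ℕ) (hm : 2 * m ≤ c) : NV c k a (Y c k (2 * m)) = Y c k m := by
  unfold NV
  ext i
  · simp [Y]
  · simp only [coefY_Y]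
    have h0 : ∀ j : Fin c, (Y c k (2 * m)).1 j = 0 := fun j => rfl
    simp only [h0, zero_mul, map_zero, ite_self, Finset.sum_const_zero, add_zero]
    simp only [Y]
    have : (1 ≤ 2 * (i.val + 1) ∧ 2 * (i.val + 1) ≤ c ∧ 2 * (i.val + 1) = 2 * m) ↔ (i.val + 1 = m) := by
      omega
    simp only [this]
    split_ifs <;> simp

theorem NV_X_odd (t : ℕ) (ht : 2 * t + 1 ≤ c) :
    NV c k a (X c k (2 * t + 1)) =
      (0, fun i => if i.val + 1 + t ≤ c then (frobeniusEquiv k 2).symm (a (i.val + 1 + t)) else 0) := by
  unfold NV
  ext i
  · simp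
  · simp only [coefY_X, map_zero, zero_add]
    rw [Finset.sum_eq_single (⟨2 * t, by omega⟩ : Fin c)]
    · have h1 : (2 * t + 1) % 2 = 1 := by omega
      have h2 : 2 * t / 2 = t := by omega
      simp only [h1, h2, true_and, X]
      split_ifs <;> simp
    · intro b _ hb
      have : ¬ (b.val = 2 * t) := by
        intro h
        apply hb
        ext
        simp only
        omega
      simp [X, this]
    · intro h
      exact absurd (Finset.mem_univ _) h

theorem NV_mem_Nfil (i : ℕ) (v : GcMod c k) (hv : v ∈ Nfil c k i) :
    NV c k a v ∈ Nfil c k (i / 2) := by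
  rw [mem_Nfil_iff] at hv ⊢
  obtain ⟨h1, h2⟩ := hv
  refine ⟨fun j hj => ?_, fun j _ => rfl⟩
  simp only [NV]
  have e1 : coefY v (2 * (j.val + 1)) = 0 := by
    unfold coefY
    split_ifs with h
    · apply h1
      simp only
      omega
    · rfl
  rw [e1, map_zero, zero_add]
  apply Finset.sum_eq_zero
  intro j' _
  split_ifs with h
  · rw [h2 j' (by omega), zero_mul, map_zero]
  · rfl

theorem Y_mem_map_NVs (ha : a c ≠ 0) (m : ℕ) (h1 : 1 ≤ m) (hm : m ≤ c) :
    Y c k m ∈ (Nfil c k (2 * m)).map (NVs c k a) := by
  induction m using Nat.strong_induction_on with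
  | _ m ih =>
    by_cases h2 : 2 * m ≤ c
    · refine ⟨Y c k (2 * m), Y_mem_Nfil c k _ _ (by omega) (by simp only [le_min_iff]; omega), ?_⟩
      rw [NVs_apply, NV_Y_even c k a m h2]
    · set t := c - m with ht
      have ht1 : 2 * t + 1 ≤ c := by omega
      set w := NV c k a (X c k (2 * t + 1)) with hw
      have hwM : w ∈ (Nfil c k (2 * m)).map (NVs c k a) :=
        ⟨X c k (2 * t + 1), X_mem_Nfil c k _ _ (by omega) ht1, rfl⟩
      have hw2 : ∀ j : Fin c, w.2 j =
          if j.val + 1 + t ≤ c then (frobeniusEquiv k 2).symm (a (j.val + 1 + t)) else 0 := by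
        intro j
        rw [hw, NV_X_odd c k a t ht1]
      have hw1 : ∀ j : Fin c, w.1 j = 0 := by
        intro j
        rw [hw, NV_X_odd c k a t ht1]
        rfl
      have hdec : w = ∑ j : Fin c, w.2 j • Y c k (j.val + 1) := by
        conv_lhs => rw [gc_decomp c k w]
        simp only [hw1, zero_smul, Finset.sum_const_zero, zero_add]
      let j0 : Fin c := ⟨m - 1, by omega⟩
      have hj0 : w.2 j0 ≠ 0 := by
        rw [hw2]
        have e : j0.val + 1 + t = c := by simp only [j0]; omega
        rw [if_pos (by omega), e]
        simpa using ha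
      have hsplit : w.2 j0 • Y c k m =
          w - ∑ j ∈ Finset.univ.erase j0, w.2 j • Y c k (j.val + 1) := by
        rw [eq_sub_iff_add_eq]
        conv_rhs => rw [hdec]
        rw [← Finset.add_sum_erase _ _ (Finset.mem_univ j0)]
        have : j0.val + 1 = m := by simp only [j0]; omega
        rw [this]
      have hmem : w.2 j0 • Y c k m ∈ (Nfil c k (2 * m)).map (NVs c k a) := by
        rw [hsplit]
        refine Submodule.sub_mem _ hwM (Submodule.sum_mem _ fun j hj => ?_)
        by_cases hjm : j.val + 1 < m
        · apply Submodule.smul_mem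
          have := ih (j.val + 1) hjm (by omega) (by omega)
          exact Submodule.map_mono (Nfil_mono c k (by omega)) this
        · have hne : j ≠ j0 := Finset.ne_of_mem_erase hj
          have : m < j.val + 1 := by
            rcases Nat.lt_or_ge m (j.val + 1) with h | h
            · exact h
            · exfalso
              apply hne
              ext
              simp only [j0]
              omega
          rw [hw2, if_neg (by omega), zero_smul]
          exact Submodule.zero_mem _
      exact (Submodule.smul_mem_iff _ hj0).mp hmem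

theorem NV_image_Nfil (ha : a c ≠ 0) (i : ℕ) (hi : i ≤ 2 * c) :
    NV c k a '' (Nfil c k i : Set (GcMod c k)) = (Nfil c k (i / 2) : Set (GcMod c k)) := by
  apply Set.Subset.antisymm
  · rintro _ ⟨v, hv, rfl⟩
    exact NV_mem_Nfil c k a i v hv
  · have hle : Nfil c k (i / 2) ≤ (Nfil c k i).map (NVs c k a) := by
      unfold Nfil
      rw [Submodule.span_le]
      rintro x (⟨n, hn, rfl⟩ | ⟨n, hn, rfl⟩)
      · simp only [Set.mem_Icc] at hn
        have := Y_mem_map_NVs c k a ha n hn.1 (by omega)
        exact Submodule.map_mono (Nfil_mono c k (by omega)) this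
      · simp only [Set.mem_Ioc] at hn
        omega
    intro x hx
    obtain ⟨v, hv, hvx⟩ := hle hx
    exact ⟨v, hv, hvx⟩

end NV

section NF
variable (c : ℕ) (k : Type u) [Field k] (a : ℕ → k)

theorem NF_mem_Nfil_of_mem (i : ℕ) (v : GcMod c k)
    (hv : v ∈ Nfil c k (c + (i + 1) / 2)) : NF c k a v ∈ Nfil c k i := by
  rw [mem_Nfil_iff] at hv ⊢
  obtain ⟨-, h2⟩ := hv
  refine ⟨fun j hj => ?_, fun j hj => ?_⟩
  · simp only [NF]
    split_ifs with h
    · apply Finset.sum_eq_zero
      intro j' _
      split_ifs with h'
      · have := j.2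
        rw [h2 j' (by omega)]
        simp
      · rfl
    · rfl
  · simp only [NF]
    split_ifs with h
    · unfold coefX
      split_ifs with h'
      · rw [h2 _ (by simp only; omega)]
        simp
      · simp
    · rfl

theorem mem_of_NF_mem_Nfil (ha : a c ≠ 0) (i : ℕ) (v : GcMod c k)
    (hv : NF c k a v ∈ Nfil c k i) : v ∈ Nfil c k (c + (i + 1) / 2) := by
  rw [mem_Nfil_iff] at hv ⊢
  obtain ⟨h1, h2⟩ := hv
  refine ⟨fun j hj => ?_, ?_⟩
  · have := j.2
    omega
  · have key : ∀ n : ℕ, ∀ j : Fin c, j.val = n → j.val + 1 ≤ 2 * c - (c + (i + 1) / 2) → v.1 j = 0 := by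
      intro n
      induction n using Nat.strong_induction_on with
      | _ n ih =>
        intro j hjn hj
        have hjc := j.2
        by_cases hc : 2 * (j.val + 1) ≤ c
        · have := h2 ⟨2 * (j.val + 1) - 1, by omega⟩ (by simp only; omega)
          simp only [NF] at this
          have e1 : (2 * (j.val + 1) - 1 + 1) % 2 = 0 := by omega
          have e2 : (2 * (j.val + 1) - 1 + 1) / 2 = j.val + 1 := by omega
          rw [if_pos e1, e2] at this
          unfold coefX at this
          rw [dif_pos (by omega)] at this
          have := pow_eq_zero_iff (two_ne_zero) |>.mp this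
          convert this using 2
          ext
          simp only
          omega
        · have hlt : 2 * (c - (j.val + 1)) < c := by omega
          have := h1 ⟨2 * (c - (j.val + 1)), hlt⟩ (by simp only; omega)
          simp only [NF] at this
          have e1 : (2 * (c - (j.val + 1)) + 1) % 2 = 1 := by omega
          have e2 : 2 * (c - (j.val + 1)) / 2 = c - (j.val + 1) := by omega
          rw [if_pos e1] at this
          simp only [e2] at this
          rw [Finset.sum_eq_single j] at this
          · have e3 : j.val + 1 + (c - (j.val + 1)) = c := by omega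
            rw [if_pos ⟨by omega, by omega⟩, e3] at this
            rcases mul_eq_zero.mp this with h | h
            · exact pow_eq_zero_iff (two_ne_zero) |>.mp h
            · exact absurd h ha
          · intro b _ hb
            split_ifs with h'
            · have hbj : b.val < j.val := by
                rcases Nat.lt_or_ge b.val j.val with h | h
                · exact h
                · exfalso
                  apply hb
                  ext
                  omega
              rw [ih b.val (by omega) b rfl (by omega)]
              simp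
            · rfl
          · intro h
            exact absurd (Finset.mem_univ _) h
    intro j hj
    exact key j.val j rfl hj

theorem NF_preimage_Nfil (ha : a c ≠ 0) (i : ℕ) :
    NF c k a ⁻¹' (Nfil c k i : Set (GcMod c k)) = (Nfil c k (c + (i + 1) / 2) : Set (GcMod c k)) := by
  ext v
  exact ⟨fun h => mem_of_NF_mem_Nfil c k a ha i v h, fun h => NF_mem_Nfil_of_mem c k a i v h⟩

end NF
end Groth.Agent.H95
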