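import Mathlib
import Groth.Agent.H95.ProdIntegral

/-!
# Geometrically irreducible polynomials

`Spec k[T]/(F)` is geometrically integral iff `F` stays irreducible over every extension field
iff `F` is irreducible over one algebraically closed extension.
-/

universe u

namespace Groth.Agent.H95.GeomIrred

open CategoryTheory CategoryTheory.Limits AlgebraicGeometry TensorProduct MvPolynomial

section Poly

variable {σ : Type*}

theorem totalDegree_map_inj {R S : Type*} [CommSemiring R] [CommSemiring S] (f : R →+* S)
    (hf : Function.Injective f) (p : MvPolynomial σ R) :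
    (MvPolynomial.map f p).totalDegree = p.totalDegree := by
  simp [MvPolynomial.totalDegree, MvPolynomial.support_map_of_injective _ hf]

theorem isUnit_map_iff {k K : Type*} [Field k] [Field K] (i : k →+* K) (p : MvPolynomial σ k) :
    IsUnit (MvPolynomial.map i p) ↔ IsUnit p := by
  rw [isUnit_iff_totalDegree_of_isReduced, isUnit_iff_totalDegree_of_isReduced,
    totalDegree_map_inj i i.injective, coeff_map]
  simp

theorem irreducible_of_map {k K : Type*} [Field k] [Field K] (i : k →+* K)
    (p : MvPolynomial σ k) (h : Irreducible (MvPolynomial.map i p)) : Irreducible p := by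
  rw [irreducible_iff] at h ⊢
  refine ⟨fun hu => h.1 ((isUnit_map_iff i p).mpr hu), fun a b hab => ?_⟩
  have := @And.right _ _ h (MvPolynomial.map i a) (MvPolynomial.map i b) (by rw [hab, map_mul])
  rwa [isUnit_map_iff, isUnit_map_iff] at this

theorem irreducible_iff_isDomain {K : Type*} [Field K] (p : MvPolynomial σ K) (hp : p ≠ 0) :
    Irreducible p ↔ IsDomain (MvPolynomial σ K ⧸ Ideal.span {p}) := by
  rw [Ideal.Quotient.isDomain_iff_prime, Ideal.span_singleton_prime hp,
    UniqueFactorizationMonoid.irreducible_iff_prime]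

theorem map_ne_zero_of_totalDegree_pos {k K : Type*} [Field k] [Field K] (i : k →+* K)
    (p : MvPolynomial σ k) (hp : 0 < p.totalDegree) : MvPolynomial.map i p ≠ 0 := by
  intro h
  have := totalDegree_map_inj i i.injective p
  rw [h, totalDegree_zero] at this
  omega

end Poly

variable {k : Type u} [Field k] {σ : Type}

/-- Base change of the hypersurface ring. -/
theorem nonempty_tensorEquiv (K : Type u) [Field K] [Algebra k K] (F : MvPolynomial σ k) :
    Nonempty (((MvPolynomial σ k ⧸ Ideal.span {F}) ⊗[k] K) ≃+*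
      (MvPolynomial σ K ⧸ Ideal.span {MvPolynomial.map (algebraMap k K) F})) := by
  let e1 := Algebra.TensorProduct.quotientTensorEquiv (R := k) k K (MvPolynomial σ k)
    (Ideal.span {F})
  let e2 : (MvPolynomial σ k ⊗[k] K) ≃+* MvPolynomial σ K :=
    (Algebra.TensorProduct.comm k (MvPolynomial σ k) K).toRingEquiv.trans
      (MvPolynomial.algebraTensorAlgEquiv k K).toRingEquiv
  refine ⟨e1.toRingEquiv.trans (Ideal.quotientEquiv _ _ e2 ?_)⟩
  rw [Ideal.map_map, Ideal.map_span, Set.image_singleton]
  congr 2
  simp [e2, Algebra.TensorProduct.algebraMap_apply]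

theorem isDomain_tensor_iff (K : Type u) [Field K] [Algebra k K] (F : MvPolynomial σ k)
    (hF : 0 < F.totalDegree) :
    IsDomain ((MvPolynomial σ k ⧸ Ideal.span {F}) ⊗[k] K) ↔
      Irreducible (MvPolynomial.map (algebraMap k K) F) := by
  obtain ⟨e⟩ := nonempty_tensorEquiv K F
  rw [irreducible_iff_isDomain _ (map_ne_zero_of_totalDegree_pos _ F hF)]
  exact ⟨fun h => Function.Injective.isDomain e.symm e.symm.injective,
    fun h => Function.Injective.isDomain e e.injective⟩

theorem isIntegral_of_iso {X Y : Scheme.{u}} (e : X ≅ Y) (hX : IsIntegral X) : IsIntegral Y := by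
  have : Nonempty Y := ⟨e.hom (Classical.arbitrary X)⟩
  exact isIntegral_of_isOpenImmersion e.inv

instance : ObjectProperty.IsClosedUnderIsomorphisms (C := Scheme.{u}) @IsIntegral :=
  ⟨fun e hX => isIntegral_of_iso e hX⟩

theorem geometricallyIntegral_iff (k A : Type u) [Field k] [CommRing A] [Algebra k A] :
    GeometricallyIntegral (Spec.map (CommRingCat.ofHom (algebraMap k A))) ↔
      ∀ (K : Type u) [Field K] [Algebra k K], IsDomain (A ⊗[k] K) := by
  rw [GeometricallyIntegral.eq_geometrically,
    geometrically_iff_of_commRing_of_isClosedUnderIsomorphisms]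
  refine forall_congr' fun K => forall_congr' fun _ => forall_congr' fun _ => ?_
  rw [← affine_isIntegral_iff (CommRingCat.of (A ⊗[k] K))]
  exact ⟨fun h => isIntegral_of_iso (pullbackSpecIso k A K) h,
    fun h => isIntegral_of_iso (pullbackSpecIso k A K).symm h⟩

/-- (a) ⇔ (b). -/
theorem geometricallyIntegral_iff_forall_irreducible (F : MvPolynomial σ k)
    (hF : 0 < F.totalDegree) :
    GeometricallyIntegral (Spec.map (CommRingCat.ofHom
        (algebraMap k (MvPolynomial σ k ⧸ Ideal.span ({F} : Set (MvPolynomial σ k)))))) ↔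
      ∀ (K : Type u) [Field K] [Algebra k K], Irreducible (MvPolynomial.map (algebraMap k K) F) := by
  rw [geometricallyIntegral_iff]
  exact forall_congr' fun K => forall_congr' fun _ => forall_congr' fun _ =>
    isDomain_tensor_iff K F hF

theorem exists_common_ext (k K Ω : Type u) [Field k] [Field K] [Field Ω] [Algebra k K]
    [Algebra k Ω] :
    ∃ (L : Type u) (_ : Field L) (a : K →+* L) (b : Ω →+* L),
      a.comp (algebraMap k K) = b.comp (algebraMap k Ω) := by
  have : Nontrivial (K ⊗[k] Ω) :=
    Algebra.TensorProduct.nontrivial_of_algebraMap_injective_of_isDomain k K Ω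
      (algebraMap k K).injective (algebraMap k Ω).injective
  obtain ⟨M, hM⟩ := Ideal.exists_maximal (K ⊗[k] Ω)
  let : Field ((K ⊗[k] Ω) ⧸ M) := Ideal.Quotient.field M
  refine ⟨(K ⊗[k] Ω) ⧸ M, inferInstance,
    (Ideal.Quotient.mk M).comp (Algebra.TensorProduct.includeLeftRingHom),
    (Ideal.Quotient.mk M).comp (Algebra.TensorProduct.includeRight (R := k)).toRingHom, ?_⟩
  ext x
  simp only [RingHom.comp_apply, Algebra.TensorProduct.includeLeftRingHom_apply,
    AlgHom.toRingHom_eq_coe, RingHom.coe_coe, Algebra.TensorProduct.includeRight_apply]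
  congr 1
  rw [Algebra.algebraMap_eq_smul_one, Algebra.algebraMap_eq_smul_one, TensorProduct.smul_tmul]

/-- (c) ⇒ (b). -/
theorem forall_irreducible_of_isAlgClosed [Finite σ] (Ω : Type u) [Field Ω] [Algebra k Ω]
    [IsAlgClosed Ω] (F : MvPolynomial σ k) (hF : 0 < F.totalDegree)
    (h : Irreducible (MvPolynomial.map (algebraMap k Ω) F))
    (K : Type u) [Field K] [Algebra k K] : Irreducible (MvPolynomial.map (algebraMap k K) F) := by
  set G := MvPolynomial.map (algebraMap k Ω) F with hG
  have hGdeg : 0 < G.totalDegree := by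
    rw [hG, totalDegree_map_inj _ (algebraMap k Ω).injective]; exact hF
  have hG0 : G ≠ 0 := map_ne_zero_of_totalDegree_pos _ F hF
  have hdom : IsDomain (MvPolynomial σ Ω ⧸ Ideal.span {G}) := (irreducible_iff_isDomain G hG0).mp h
  have hint : IsIntegral (Spec (CommRingCat.of (MvPolynomial σ Ω ⧸ Ideal.span {G}))) :=
    (affine_isIntegral_iff _).mpr hdom
  have hgi : GeometricallyIntegral (Spec.map (CommRingCat.ofHom
      (algebraMap Ω (MvPolynomial σ Ω ⧸ Ideal.span ({G} : Set (MvPolynomial σ Ω)))))) :=
    Groth.Agent.H95.ProdIntegral.geometricallyIntegral_of_isAlgClosed Ω _ _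
  rw [geometricallyIntegral_iff_forall_irreducible G hGdeg] at hgi
  obtain ⟨L, _, a, b, hab⟩ := exists_common_ext k K Ω
  let : Algebra Ω L := b.toAlgebra
  have h1 := hgi L
  rw [hG, MvPolynomial.map_map] at h1
  have h2 : (algebraMap Ω L).comp (algebraMap k Ω) = a.comp (algebraMap k K) := hab.symm
  rw [h2, ← MvPolynomial.map_map] at h1
  exact irreducible_of_map a _ h1

theorem main {k : Type u} [Field k] (Ω : Type u) [Field Ω] [Algebra k Ω]
    [IsAlgClosed Ω] {n : ℕ} (F : MvPolynomial (Fin n) k) (hF : 0 < F.totalDegree) :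
    List.TFAE [
      GeometricallyIntegral (Spec.map (CommRingCat.ofHom
        (algebraMap k (MvPolynomial (Fin n) k ⧸ Ideal.span ({F} : Set (MvPolynomial (Fin n) k)))))),
      ∀ (K : Type u) [Field K] [Algebra k K], Irreducible (MvPolynomial.map (algebraMap k K) F),
      Irreducible (MvPolynomial.map (algebraMap k Ω) F)] := by
  tfae_have 1 ↔ 2 := geometricallyIntegral_iff_forall_irreducible F hF
  tfae_have 2 → 3 := fun h => h Ω
  tfae_have 3 → 2 := fun h K _ _ => forall_irreducible_of_isAlgClosed Ω F hF h K
  tfae_finish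

end Groth.Agent.H95.GeomIrred
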