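import Mathlib

open DirectSum

namespace Groth.Agent.H95.GrJordan

universe u v w

set_option linter.unusedSectionVars false

section Proj

variable {k : Type u} [Field k] {Λ : Type v} [AddCommGroup Λ] [DecidableEq Λ]
  {V : Type w} [AddCommGroup V] [Module k V]
  (𝒱 : Λ → Submodule k V) [DirectSum.Decomposition 𝒱]

/-- projection to the `μ`-component as an endomorphism. -/
noncomputable def proj (μ : Λ) : V →ₗ[k] V :=
  (𝒱 μ).subtype ∘ₗ (DirectSum.component k Λ (fun i => 𝒱 i) μ) ∘ₗ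
    (DirectSum.decomposeLinearEquiv 𝒱).toLinearMap

theorem proj_apply (μ : Λ) (w : V) : proj 𝒱 μ w = (DirectSum.decompose 𝒱 w μ : V) := rfl

theorem proj_mem (μ : Λ) (w : V) : proj 𝒱 μ w ∈ 𝒱 μ := by
  rw [proj_apply]; exact Submodule.coe_mem _

theorem proj_of_mem_same {μ : Λ} {w : V} (hw : w ∈ 𝒱 μ) : proj 𝒱 μ w = w := by
  rw [proj_apply]; exact DirectSum.decompose_of_mem_same 𝒱 hw

theorem proj_of_mem_ne {μ ν : Λ} {w : V} (hw : w ∈ 𝒱 ν) (h : ν ≠ μ) : proj 𝒱 μ w = 0 := by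
  rw [proj_apply]; exact DirectSum.decompose_of_mem_ne 𝒱 hw h

open scoped Classical in
theorem sum_proj (w : V) :
    ∑ μ ∈ (DirectSum.decompose 𝒱 w).support, proj 𝒱 μ w = w :=
  DirectSum.sum_support_decompose 𝒱 w

theorem pow_mem (A : Module.End k V) (χ : Λ)
    (hhom : ∀ (μ : Λ) (v : V), v ∈ 𝒱 μ → A v ∈ 𝒱 (μ + χ)) (j : ℕ) (μ : Λ) (v : V)
    (hv : v ∈ 𝒱 μ) : (A ^ j) v ∈ 𝒱 (μ + j • χ) := by
  induction j with
  | zero => simpa using hv
  | succ j ih =>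
    rw [pow_succ', Module.End.mul_apply, succ_nsmul, ← add_assoc]
    exact hhom _ _ ih

theorem proj_comp_pow (A : Module.End k V) (χ : Λ)
    (hhom : ∀ (μ : Λ) (v : V), v ∈ 𝒱 μ → A v ∈ 𝒱 (μ + χ)) (j : ℕ) (μ : Λ) :
    proj 𝒱 μ ∘ₗ (A ^ j) = (A ^ j) ∘ₗ proj 𝒱 (μ - j • χ) := by
  apply DirectSum.decompose_lhom_ext 𝒱
  intro ν
  ext ⟨x, hx⟩
  simp only [LinearMap.comp_apply, Submodule.subtype_apply]
  have hAx := pow_mem 𝒱 A χ hhom j ν x hx
  by_cases h : ν + j • χ = μ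
  · have h' : ν = μ - j • χ := by rw [← h]; abel
    rw [proj_of_mem_same 𝒱 (h ▸ hAx), proj_of_mem_same 𝒱 (h' ▸ hx)]
  · have h' : ν ≠ μ - j • χ := by
      intro e; apply h; rw [e]; abel
    rw [proj_of_mem_ne 𝒱 hAx h, proj_of_mem_ne 𝒱 hx h', map_zero]

end Proj

end Groth.Agent.H95.GrJordan
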