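import Groth.Agent.H95.GrJordan0

open DirectSum

namespace Groth.Agent.H95.GrJordan

universe u v w

set_option linter.unusedSectionVars false

section Core

variable {k : Type u} [Field k] {V : Type w} [AddCommGroup V] [Module k V]

theorem pow_apply_eq_zero_of_le (A : Module.End k V) {m j : ℕ} {v : V}
    (hv : (A ^ m) v = 0) (h : m ≤ j) : (A ^ j) v = 0 := by
  obtain ⟨t, rfl⟩ := Nat.exists_eq_add_of_le h
  rw [add_comm, pow_add, Module.End.mul_apply, hv, map_zero]

/-- triangular core: a combination of `A^i v₀` killed by all `φ ∘ A^j` is trivial. -/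
theorem core (A : Module.End k V) (φ : V →ₗ[k] k) (m : ℕ) (v₀ : V)
    (hv₀ : (A ^ (m + 1)) v₀ = 0) (hu : φ ((A ^ m) v₀) ≠ 0)
    (c : Fin (m + 1) → k)
    (h : ∀ j : ℕ, j ≤ m → φ ((A ^ j) (∑ i, c i • (A ^ (i : ℕ)) v₀)) = 0) : c = 0 := by
  have key : ∀ i : ℕ, ∀ hi : i < m + 1, c ⟨i, hi⟩ = 0 := by
    intro i
    induction i using Nat.strong_induction_on with
    | _ i ih =>
      intro hi
      have h1 := h (m - i) (Nat.sub_le _ _)
      rw [map_sum, map_sum] at h1
      rw [Finset.sum_eq_single (⟨i, hi⟩ : Fin (m + 1))] at h1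
      · simp only [map_smul, smul_eq_mul] at h1
        rw [← Module.End.mul_apply, ← pow_add, Nat.sub_add_cancel (by omega)] at h1
        exact (mul_eq_zero.mp h1).resolve_right hu
      · intro l _ hl
        have hne : (l : ℕ) ≠ i := fun e => hl (Fin.ext e)
        rcases lt_or_gt_of_ne hne with hlt | hgt
        · have : c l = 0 := ih l hlt l.2
          rw [this]; simp
        · rw [map_smul, ← Module.End.mul_apply, ← pow_add,
            pow_apply_eq_zero_of_le A hv₀ (by omega)]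
          simp
      · intro h; exact absurd (Finset.mem_univ _) h
  funext i
  exact key i i.2

end Core

/-- reindexing equivalence for adding one chain. -/
def optSigmaEquiv {ι' : Type w} (m : ℕ) (n' : ι' → ℕ) :
    (Σ o : Option ι', Fin ((Option.elim o m n') + 1)) ≃
      Fin (m + 1) ⊕ (Σ i : ι', Fin (n' i + 1)) where
  toFun := fun x => match x with
    | ⟨none, l⟩ => Sum.inl l
    | ⟨some i, l⟩ => Sum.inr ⟨i, l⟩
  invFun := fun y => match y with
    | Sum.inl l => ⟨none, l⟩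
    | Sum.inr ⟨i, l⟩ => ⟨some i, l⟩
  left_inv := by rintro ⟨_ | i, l⟩ <;> rfl
  right_inv := by rintro (l | ⟨i, l⟩) <;> rfl

section Main

variable {k : Type u} [Field k] {Λ : Type v} [AddCommGroup Λ] [DecidableEq Λ]
  {V : Type w} [AddCommGroup V] [Module k V]
  (𝒱 : Λ → Submodule k V)

/-- the conclusion for a submodule `W`: a homogeneous Jordan family spanning `W`. -/
def Concl (A : Module.End k V) (W : Submodule k V) : Prop :=
  ∃ (ι : Type w) (_ : Finite ι) (n : ι → ℕ) (b : (Σ i : ι, Fin (n i + 1)) → V),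
    LinearIndependent k b ∧ Submodule.span k (Set.range b) = W ∧
    (∀ (i : ι) (l : Fin (n i + 1)), ∃ μ : Λ, b ⟨i, l⟩ ∈ 𝒱 μ) ∧
    (∀ i : ι, A (b ⟨i, 0⟩) = 0) ∧
    ∀ (i : ι) (l : Fin (n i)), A (b ⟨i, l.succ⟩) = b ⟨i, l.castSucc⟩

theorem Concl_bot (A : Module.End k V) : Concl 𝒱 A ⊥ := by
  refine ⟨PEmpty, inferInstance, PEmpty.elim, fun x => x.1.elim, ?_, ?_, ?_, ?_, ?_⟩
  · exact linearIndependent_empty_type
  · rw [Set.range_eq_empty, Submodule.span_empty]
  · intro i; exact i.elim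
  · intro i; exact i.elim
  · intro i; exact i.elim

theorem Concl_extend [DirectSum.Decomposition 𝒱] (A : Module.End k V) (χ : Λ)
    (hhom : ∀ (μ : Λ) (v : V), v ∈ 𝒱 μ → A v ∈ 𝒱 (μ + χ))
    (W W' : Submodule k V) (m : ℕ) (v₀ : V) (μ₀ : Λ)
    (hv₀μ : v₀ ∈ 𝒱 μ₀) (hv₀ : (A ^ (m + 1)) v₀ = 0)
    (hLI : LinearIndependent k (fun i : Fin (m + 1) => (A ^ (i : ℕ)) v₀))
    (hdisj : Disjoint
      (Submodule.span k (Set.range (fun i : Fin (m + 1) => (A ^ (i : ℕ)) v₀))) W')
    (hsup : Submodule.span k (Set.range (fun i : Fin (m + 1) => (A ^ (i : ℕ)) v₀)) ⊔ W' = W)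
    (hW' : Concl 𝒱 A W') : Concl 𝒱 A W := by
  obtain ⟨ι', hfin, n', b', hb'LI, hb'span, hb'hom, hb'0, hb'succ⟩ := hW'
  let chain' : Fin (m + 1) → V := fun i => (A ^ (i : ℕ)) v₀
  let chain : Fin (m + 1) → V := fun l => (A ^ ((Fin.rev l : Fin (m + 1)) : ℕ)) v₀
  have hchain : chain = chain' ∘ Fin.rev := rfl
  have hrange : Set.range chain = Set.range chain' := by
    rw [hchain]; exact Fin.rev_surjective.range_comp _
  have hchainLI : LinearIndependent k chain := hLI.comp _ Fin.rev_injective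
  refine ⟨Option ι', inferInstance, fun o => Option.elim o m n',
    Sum.elim chain b' ∘ optSigmaEquiv m n', ?_, ?_, ?_, ?_, ?_⟩
  · rw [linearIndependent_equiv]
    apply LinearIndependent.sum_type hchainLI hb'LI
    rw [hrange, hb'span]; exact hdisj
  · rw [EquivLike.range_comp, Set.Sum.elim_range, Submodule.span_union, hrange, hb'span, hsup]
  · rintro (_ | i) l
    · exact ⟨μ₀ + ((Fin.rev l : Fin (m + 1)) : ℕ) • χ, pow_mem 𝒱 A χ hhom _ μ₀ v₀ hv₀μ⟩
    · exact hb'hom i l
  · rintro (_ | i)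
    · show A ((A ^ ((Fin.rev (0 : Fin (m + 1)) : Fin (m + 1)) : ℕ)) v₀) = 0
      rw [← Module.End.mul_apply, ← pow_succ', Fin.rev_zero, Fin.val_last]; exact hv₀
    · exact hb'0 i
  · rintro (_ | i) l
    · show A ((A ^ ((Fin.rev (Fin.succ l) : Fin (m + 1)) : ℕ)) v₀) =
        (A ^ ((Fin.rev (Fin.castSucc l) : Fin (m + 1)) : ℕ)) v₀
      rw [← Module.End.mul_apply, ← pow_succ']
      congr 2
      have hl : (l : ℕ) < m := l.2
      simp only [Fin.val_rev, Fin.val_succ, Fin.val_castSucc]; omega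
    · exact hb'succ i l

end Main

end Groth.Agent.H95.GrJordan
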