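import Mathlib

/-!
# Graded Nakayama: a homogeneous `s ∉ m` making a graded projective module free on
homogeneous elements
-/

set_option autoImplicit false
set_option linter.unusedSectionVars false
universe u v w x

namespace Groth.Agent.H95.GrNak

open DirectSum

section

variable {k : Type u} [Field k] {M : Type v} [AddCommGroup M] [DecidableEq M]
  {A : Type w} [CommRing A] [Algebra k A] (𝒜 : M → Submodule k A) [GradedAlgebra 𝒜]
  {P : Type x} [AddCommGroup P] [Module A P] [Module k P] [IsScalarTower k A P]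
  (ℳ : M → Submodule k P) [Decomposition ℳ] [SetLike.GradedSMul 𝒜 ℳ]

/-- degree `e + d` part of `a • p` for `p` homogeneous of degree `d`. -/
theorem decompose_smul_add {a : A} {p : P} {d : M} (hp : p ∈ ℳ d) (e : M) :
    (decompose ℳ (a • p) (e + d) : P) = (decompose 𝒜 a e : A) • p := by
  classical
  have key : ∀ e' : M, (decompose ℳ ((decompose 𝒜 a e' : A) • p) (e + d) : P) =
      if e' = e then (decompose 𝒜 a e' : A) • p else 0 := by
    intro e'
    have hmem : (decompose 𝒜 a e' : A) • p ∈ ℳ (e' + d) :=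
      SetLike.GradedSMul.smul_mem (i := e') (SetLike.coe_mem _) hp
    split_ifs with h
    · subst h
      rw [decompose_of_mem_same ℳ hmem]
    · rw [decompose_of_mem_ne ℳ hmem (fun h' => h (add_right_cancel h'))]
  conv_lhs => rw [← sum_support_decompose 𝒜 a, Finset.sum_smul, decompose_sum,
    DFinsupp.finsetSum_apply, AddSubmonoidClass.coe_finsetSum]
  simp_rw [key]
  rw [Finset.sum_ite_eq']
  split_ifs with h
  · rfl
  · rw [DFinsupp.notMem_support_iff.mp h]
    simp


variable {𝒜} in
/-- the degree-`e` part of an element of a homogeneous ideal lies in the ideal. -/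
theorem decompose_mem_of_mem {m : Ideal A} (hm : m.IsHomogeneous 𝒜) {a : A} (ha : a ∈ m) (e : M) :
    (decompose 𝒜 a e : A) ∈ m := hm e ha

theorem decompose_one_zero : (decompose 𝒜 (1 : A) 0 : A) = 1 :=
  decompose_of_mem_same 𝒜 (SetLike.GradedOne.one_mem)

/-- a sum over a finite set of degrees recovering an element from shifted components. -/
theorem exists_finset_sum_decompose_sub {n : ℕ} (wt : Fin n → M) (c : Fin n → A) :
    ∃ D : Finset M, ∀ j, ∑ d ∈ D, (decompose 𝒜 (c j) (d - wt j) : A) = c j := by
  classical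
  refine ⟨Finset.univ.biUnion fun j => (decompose 𝒜 (c j)).support.image (· + wt j), fun j => ?_⟩
  set D := Finset.univ.biUnion fun j => (decompose 𝒜 (c j)).support.image (· + wt j) with hD
  conv_rhs => rw [← sum_support_decompose 𝒜 (c j)]
  have hsub : (decompose 𝒜 (c j)).support.image (· + wt j) ⊆ D := by
    intro d hd
    exact Finset.mem_biUnion.mpr ⟨j, Finset.mem_univ _, hd⟩
  rw [← Finset.sum_subset hsub, Finset.sum_image]
  · refine Finset.sum_congr rfl fun e _ => ?_
    rw [add_sub_cancel_right]
  · intro a _ b _ h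
    exact add_right_cancel h
  · intro d _ hd
    have : d - wt j ∉ (decompose 𝒜 (c j)).support := by
      intro h
      exact hd (Finset.mem_image.mpr ⟨d - wt j, h, sub_add_cancel _ _⟩)
    rw [DFinsupp.notMem_support_iff.mp this]
    simp


set_option maxHeartbeats 800000 in
theorem main [Module.Finite A P] [Module.Projective A P]
    (m : Ideal A) [hmax : m.IsMaximal] (hm : m.IsHomogeneous 𝒜)
    {n : ℕ} (wt : Fin n → M) (f : Fin n → P) (hf : ∀ i, f i ∈ ℳ (wt i))
    (hli : LinearIndependent (A ⧸ m)
      (fun i => (Submodule.Quotient.mk (f i) : P ⧸ (m • (⊤ : Submodule A P)))))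
    (hsp : Submodule.span A (Set.range f) ⊔ m • (⊤ : Submodule A P) = ⊤) :
    ∃ s : A, SetLike.IsHomogeneousElem 𝒜 s ∧ s ∉ m ∧
      (∀ p : P, ∃ (N : ℕ) (c : Fin n → A), s ^ N • p = ∑ i, c i • f i) ∧
      (∀ c : Fin n → A, ∑ i, c i • f i = 0 → ∃ N : ℕ, ∀ i, s ^ N * c i = 0) := by
  classical
  set F : Submodule A P := Submodule.span A (Set.range f) with hF
  -- Step 1: Nakayama
  obtain ⟨r, hr1, hrF⟩ : ∃ r : A, r - 1 ∈ m ∧ ∀ p : P, r • p ∈ F := by
    obtain ⟨r, hr1, hr⟩ := Submodule.exists_sub_one_mem_and_smul_le_of_fg_of_le_sup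
      (I := m) (N := F) (N' := ⊤) (P := ⊤) (Module.Finite.fg_top) le_rfl hsp.ge
    refine ⟨r, hr1, fun p => hr ?_⟩
    exact Submodule.smul_mem_pointwise_smul p r ⊤ Submodule.mem_top
  -- the linear combination map
  let φ : (Fin n → A) →ₗ[A] P := Fintype.linearCombination A f
  have hφ : ∀ c : Fin n → A, φ c = ∑ i, c i • f i := fun c =>
    Fintype.linearCombination_apply A f c
  have hφrange : LinearMap.range φ = F := Fintype.range_linearCombination A f
  -- Step 2: lift
  obtain ⟨ψ, hψ⟩ : ∃ ψ : P →ₗ[A] (Fin n → A), ∀ p, φ (ψ p) = r • p := by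
    let φ' : (Fin n → A) →ₗ[A] F := φ.codRestrict F (fun c => hφrange ▸ LinearMap.mem_range_self φ c)
    let g' : P →ₗ[A] F := (r • (LinearMap.id : P →ₗ[A] P)).codRestrict F (fun p => hrF p)
    have hsurj : Function.Surjective φ' := by
      rintro ⟨y, hy⟩
      rw [← hφrange] at hy
      obtain ⟨c, rfl⟩ := hy
      exact ⟨c, rfl⟩
    obtain ⟨ψ, hψ⟩ := Module.projective_lifting_property φ' g' hsurj
    refine ⟨ψ, fun p => ?_⟩
    have := congrArg (fun h => (h p : P)) hψ
    simpa [φ', g'] using this
  -- Step 3: the matrix of ψ ∘ φ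
  let T : Matrix (Fin n) (Fin n) A := fun i j => ψ (f j) i
  have hTa : ∀ c : Fin n → A, ∑ j, c j • f j = 0 → ∀ i, ∑ j, T i j * c j = 0 := by
    intro c hc i
    have h1 : ψ (∑ j, c j • f j) = 0 := by rw [hc, map_zero]
    rw [map_sum] at h1
    have h2 := congrFun h1 i
    simp only [map_smul, Finset.sum_apply, Pi.smul_apply, smul_eq_mul, Pi.zero_apply] at h2
    rw [← h2]
    exact Finset.sum_congr rfl fun j _ => mul_comm _ _
  have hTb : ∀ j, ∑ i, T i j • f i = r • f j := by
    intro j
    rw [← hψ (f j), hφ]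
  -- Step 4: T ≡ 1 mod m
  have hT1 : ∀ i j, T i j - (if i = j then 1 else 0) ∈ m := by
    intro i j
    have h0 : ∑ i', (T i' j - (if i' = j then r else 0)) • f i' = 0 := by
      simp only [sub_smul, Finset.sum_sub_distrib, hTb j, ite_smul, zero_smul,
        Finset.sum_ite_eq', Finset.mem_univ, if_true, sub_self]
    have h1 : ∑ i', (Ideal.Quotient.mk m (T i' j - (if i' = j then r else 0))) •
        (Submodule.Quotient.mk (f i') : P ⧸ (m • (⊤ : Submodule A P))) = 0 := by
      have := congrArg (Submodule.mkQ (m • (⊤ : Submodule A P))) h0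
      rw [map_sum, map_zero] at this
      rw [← this]
      rfl
    have h2 := Fintype.linearIndependent_iff.mp hli _ h1 i
    rw [Ideal.Quotient.eq_zero_iff_mem] at h2
    split_ifs at h2 ⊢ with hij
    · have : T i j - 1 = (T i j - r) + (r - 1) := by ring
      rw [this]
      exact m.add_mem h2 hr1
    · exact h2
  -- Step 5: the degree-0 part of T
  let T0 : Matrix (Fin n) (Fin n) A := fun i j => (decompose 𝒜 (T i j) (wt j - wt i) : A)
  have hT0mem : ∀ i j, T0 i j ∈ 𝒜 (wt j - wt i) := fun i j => SetLike.coe_mem _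
  have hT01 : ∀ i j, T0 i j - (if i = j then 1 else 0) ∈ m := by
    intro i j
    have h := decompose_mem_of_mem hm (hT1 i j) (wt j - wt i)
    rw [decompose_sub, DFinsupp.sub_apply, AddSubgroupClass.coe_sub] at h
    split_ifs at h ⊢ with hij
    · subst hij
      have h1 : (decompose 𝒜 (1 : A) (wt i - wt i) : A) = 1 := by
        rw [sub_self, decompose_one_zero]
      rw [h1] at h
      exact h
    · rw [decompose_zero, DirectSum.zero_apply, ZeroMemClass.coe_zero] at h
      exact h
  -- Step 6: T0 kills relations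
  have hT0a : ∀ c : Fin n → A, ∑ j, c j • f j = 0 → ∀ i, ∑ j, T0 i j * c j = 0 := by
    intro c hc i
    obtain ⟨D, hD⟩ := exists_finset_sum_decompose_sub 𝒜 wt c
    have hcomp : ∀ d : M, ∑ j, (decompose 𝒜 (c j) (d - wt j) : A) • f j = 0 := by
      intro d
      have h : (decompose ℳ (∑ j, c j • f j) d : P) = 0 := by
        rw [hc, decompose_zero, DirectSum.zero_apply, ZeroMemClass.coe_zero]
      rw [decompose_sum, DFinsupp.finsetSum_apply, AddSubmonoidClass.coe_finsetSum] at h
      rw [← h]
      refine Finset.sum_congr rfl fun j _ => ?_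
      have := decompose_smul_add 𝒜 ℳ (a := c j) (hf j) (d - wt j)
      rw [sub_add_cancel] at this
      exact this.symm
    have hd : ∀ d : M, ∑ j, T0 i j * (decompose 𝒜 (c j) (d - wt j) : A) = 0 := by
      intro d
      have h := hTa _ (hcomp d) i
      have h' : (decompose 𝒜 (∑ j, T i j * (decompose 𝒜 (c j) (d - wt j) : A)) (d - wt i) : A)
          = 0 := by
        rw [h, decompose_zero, DirectSum.zero_apply, ZeroMemClass.coe_zero]
      rw [decompose_sum, DFinsupp.finsetSum_apply, AddSubmonoidClass.coe_finsetSum] at h'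
      rw [← h']
      refine Finset.sum_congr rfl fun j _ => ?_
      have := coe_decompose_mul_add_of_right_mem 𝒜 (a := T i j)
        (b := (decompose 𝒜 (c j) (d - wt j) : A)) (i := wt j - wt i) (j := d - wt j)
        (SetLike.coe_mem _)
      rw [show wt j - wt i + (d - wt j) = d - wt i by abel] at this
      exact this.symm
    calc ∑ j, T0 i j * c j
        = ∑ j, T0 i j * ∑ d ∈ D, (decompose 𝒜 (c j) (d - wt j) : A) := by
          refine Finset.sum_congr rfl fun j _ => by rw [hD j]
      _ = ∑ d ∈ D, ∑ j, T0 i j * (decompose 𝒜 (c j) (d - wt j) : A) := by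
          simp_rw [Finset.mul_sum]
          exact Finset.sum_comm
      _ = 0 := Finset.sum_eq_zero fun d _ => hd d
  -- Step 7: the determinant
  set δ := T0.det with hδ
  have hδ1 : δ - 1 ∈ m := by
    rw [← Ideal.Quotient.eq_zero_iff_mem, map_sub, map_one, sub_eq_zero, hδ, RingHom.map_det]
    have : (Ideal.Quotient.mk m).mapMatrix T0 = 1 := by
      ext i j
      simp only [RingHom.mapMatrix_apply, Matrix.map_apply, Matrix.one_apply]
      have := hT01 i j
      rw [← Ideal.Quotient.eq_zero_iff_mem, map_sub, sub_eq_zero] at this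
      rw [this]
      split_ifs <;> simp
    rw [this, Matrix.det_one]
  have hδ0 : δ ∈ 𝒜 0 := by
    rw [hδ, Matrix.det_apply]
    refine Submodule.sum_mem _ fun σ _ => ?_
    have hprod : ∏ i, T0 (σ i) i ∈ 𝒜 (∑ i, (wt i - wt (σ i))) :=
      SetLike.prod_mem_graded 𝒜 _ _ (fun i _ => hT0mem (σ i) i)
    have hsum : ∑ i, (wt i - wt (σ i)) = 0 := by
      rw [Finset.sum_sub_distrib, Equiv.sum_comp σ wt, sub_self]
    rw [hsum] at hprod
    rcases Int.units_eq_one_or (Equiv.Perm.sign σ) with h | h <;> rw [h]
    · simpa using hprod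
    · simpa using neg_mem hprod
  -- Step 8: the degree-0 part of r
  set r0 : A := (decompose 𝒜 r 0 : A) with hr0
  have hr0mem : r0 ∈ 𝒜 0 := SetLike.coe_mem _
  have hr01 : r0 - 1 ∈ m := by
    have h := decompose_mem_of_mem hm hr1 0
    rwa [decompose_sub, DFinsupp.sub_apply, AddSubgroupClass.coe_sub, decompose_one_zero] at h
  -- Step 9: assemble
  refine ⟨r0 * δ, ⟨0, by simpa using SetLike.mul_mem_graded hr0mem hδ0⟩, ?_, ?_, ?_⟩
  · intro hs
    have h1 : r0 * δ - 1 ∈ m := by
      have : r0 * δ - 1 = (r0 - 1) * δ + (δ - 1) := by ring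
      rw [this]
      exact m.add_mem (m.mul_mem_right _ hr01) hδ1
    have : (1 : A) ∈ m := by
      have := m.sub_mem hs h1
      simpa using this
    exact hmax.ne_top ((Ideal.eq_top_iff_one m).mpr this)
  · -- generation
    have hgen : ∀ p : P, r0 • p ∈ F := by
      intro p
      induction p using Decomposition.inductionOn ℳ with
      | zero => simp
      | @homogeneous d p =>
        have h1 : r • (p : P) = ∑ i, (ψ p i) • f i := by rw [← hψ, hφ]
        have h2 : (decompose ℳ (r • (p : P)) d : P) =
            (decompose ℳ (∑ i, (ψ p i) • f i) d : P) := by rw [h1]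
        rw [decompose_sum, DFinsupp.finsetSum_apply, AddSubmonoidClass.coe_finsetSum] at h2
        have h3 := decompose_smul_add 𝒜 ℳ (a := r) p.2 0
        rw [zero_add] at h3
        rw [← h3, h2]
        refine Submodule.sum_mem _ fun i _ => ?_
        have h4 := decompose_smul_add 𝒜 ℳ (a := ψ p i) (hf i) (d - wt i)
        rw [sub_add_cancel] at h4
        rw [h4]
        exact F.smul_mem _ (Submodule.subset_span (Set.mem_range_self i))
      | add p q hp hq =>
        rw [smul_add]
        exact F.add_mem hp hq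
    intro p
    have := hgen p
    rw [← hφrange] at this
    obtain ⟨c, hc⟩ := this
    refine ⟨1, fun i => δ * c i, ?_⟩
    rw [pow_one, mul_comm, mul_smul, ← hc, hφ, Finset.smul_sum]
    exact Finset.sum_congr rfl fun i _ => by rw [mul_smul]
  · intro c hc
    refine ⟨1, fun i => ?_⟩
    have h0 : T0.mulVec c = 0 := by
      ext i
      exact hT0a c hc i
    have h1 : δ • c = 0 := by
      have := congrArg (T0.adjugate.mulVec) h0
      rw [Matrix.mulVec_mulVec, Matrix.adjugate_mul, Matrix.mulVec_zero] at this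
      simpa [Matrix.smul_mulVec] using this
    have h2 := congrFun h1 i
    simp only [Pi.smul_apply, smul_eq_mul, Pi.zero_apply] at h2
    rw [pow_one, mul_assoc, h2, mul_zero]

end

end Groth.Agent.H95.GrNak
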