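import Groth.Agent.H12.PowKill
import Groth.Agent.H49.SectionsExact
import Groth.Agent.H18.HH0Sections

/-!
The long exact cohomology sequence of a short exact sequence of `O_X`-modules, linearly over a base
ring, and the finiteness statements it gives over a Noetherian base ring (helper95).
-/

set_option autoImplicit false
universe u
open CategoryTheory CategoryTheory.Limits AlgebraicGeometry TopologicalSpace Opposite Abelian

namespace Groth.Agent.H95.HHLes

open Groth.Agent.H12.PowKill

variable {X : Scheme.{u}}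

/-- `H^i(φ)`, linear over the global functions -/
noncomputable def mapΓ {M N : X.Modules} (φ : M ⟶ N) (i : ℕ) :
    Coh.HH X M i →ₗ[Coh.Γtop X] Coh.HH X N i where
  toFun := Sheaf.H.map ((SheafOfModules.toSheaf X.ringCatSheaf).map φ) i
  map_add' := map_add _
  map_smul' r x := by
    change Sheaf.H.map ((SheafOfModules.toSheaf X.ringCatSheaf).map φ) i
      (Sheaf.H.map (Coh.smulAb M r) i x) =
      Sheaf.H.map (Coh.smulAb N r) i
        (Sheaf.H.map ((SheafOfModules.toSheaf X.ringCatSheaf).map φ) i x)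
    rw [← Sheaf.H.map_comp_apply, ← Sheaf.H.map_comp_apply, smulAb_naturality]

theorem mapΓ_apply {M N : X.Modules} (φ : M ⟶ N) (i : ℕ) (x : Coh.HH X M i) :
    mapΓ φ i x = x.comp (Ext.mk₀ ((SheafOfModules.toSheaf X.ringCatSheaf).map φ)) (add_zero i) :=
  rfl

variable (E : ShortComplex X.Modules) (hE : E.ShortExact)

/-- the connecting map, linear over the global functions -/
noncomputable def deltaΓ (i : ℕ) : Coh.HH X E.X₃ i →ₗ[Coh.Γtop X] Coh.HH X E.X₁ (i + 1) where
  toFun x := x.comp (Groth.Agent.H49.SectionsExact.shortExact_toSheaf E hE).extClass rfl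
  map_add' x y := Ext.add_comp _ _ _ _
  map_smul' r x := by
    have hS := Groth.Agent.H49.SectionsExact.shortExact_toSheaf E hE
    change ((x.comp (Ext.mk₀ (Coh.smulAb E.X₃ r)) (add_zero i)).comp hS.extClass rfl) =
      (x.comp hS.extClass rfl).comp (Ext.mk₀ (Coh.smulAb E.X₁ r)) (add_zero (i + 1))
    have h2 := ShortComplex.ShortExact.extClass_naturality hS hS (smulMap E r)
    have h2' : (Ext.mk₀ (Coh.smulAb E.X₃ r)).comp hS.extClass (zero_add 1) =
        hS.extClass.comp (Ext.mk₀ (Coh.smulAb E.X₁ r)) (add_zero 1) := h2.symm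
    rw [Ext.comp_assoc x (Ext.mk₀ (Coh.smulAb E.X₃ r)) hS.extClass (add_zero i)
      (zero_add 1) (by omega), h2']
    exact (Ext.comp_assoc x hS.extClass (Ext.mk₀ (Coh.smulAb E.X₁ r)) rfl
      (add_zero 1) (by omega)).symm

theorem deltaΓ_apply (i : ℕ) (x : Coh.HH X E.X₃ i) :
    deltaΓ E hE i x =
      x.comp (Groth.Agent.H49.SectionsExact.shortExact_toSheaf E hE).extClass rfl := rfl

include hE in
/-- exactness at `H^i(X₂)` -/
theorem range_mapΓ_f_eq_ker (i : ℕ) :
    LinearMap.range (mapΓ E.f i) = LinearMap.ker (mapΓ E.g i) := by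
  have hS := Groth.Agent.H49.SectionsExact.shortExact_toSheaf E hE
  apply le_antisymm
  · rintro _ ⟨x, rfl⟩
    rw [LinearMap.mem_ker]
    have h0 : (SheafOfModules.toSheaf X.ringCatSheaf).map E.f ≫
        (SheafOfModules.toSheaf X.ringCatSheaf).map E.g = 0 :=
      (E.map (Groth.Agent.H49.SectionsExact.T X)).zero
    have h1 : (x.comp (Ext.mk₀ ((SheafOfModules.toSheaf X.ringCatSheaf).map E.f))
        (add_zero i)).comp (Ext.mk₀ ((SheafOfModules.toSheaf X.ringCatSheaf).map E.g))
        (add_zero i) = x.comp ((Ext.mk₀ ((SheafOfModules.toSheaf X.ringCatSheaf).map E.f)).comp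
          (Ext.mk₀ ((SheafOfModules.toSheaf X.ringCatSheaf).map E.g)) (add_zero 0))
          (add_zero i) :=
      Ext.comp_assoc x _ _ (add_zero i) (add_zero 0) (by omega)
    refine h1.trans ?_
    rw [Ext.mk₀_comp_mk₀, h0, Ext.mk₀_zero, Ext.comp_zero]
  · intro y hy
    rw [LinearMap.mem_ker, mapΓ_apply] at hy
    obtain ⟨x, hx⟩ := Ext.covariant_sequence_exact₂ _ hS y hy
    exact ⟨x, hx⟩

/-- exactness at `H^i(X₃)` -/
theorem range_mapΓ_g_eq_ker (i : ℕ) :
    LinearMap.range (mapΓ E.g i) = LinearMap.ker (deltaΓ E hE i) := by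
  have hS := Groth.Agent.H49.SectionsExact.shortExact_toSheaf E hE
  apply le_antisymm
  · rintro _ ⟨x, rfl⟩
    rw [LinearMap.mem_ker]
    have h0' : (Ext.mk₀ ((SheafOfModules.toSheaf X.ringCatSheaf).map E.g)).comp hS.extClass
        (zero_add 1) = 0 := ShortComplex.ShortExact.comp_extClass hS
    have h1 : (x.comp (Ext.mk₀ ((SheafOfModules.toSheaf X.ringCatSheaf).map E.g))
        (add_zero i)).comp hS.extClass (rfl : i + 1 = i + 1) =
        x.comp ((Ext.mk₀ ((SheafOfModules.toSheaf X.ringCatSheaf).map E.g)).comp hS.extClass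
          (zero_add 1)) (rfl : i + 1 = i + 1) :=
      Ext.comp_assoc x _ _ (add_zero i) (zero_add 1) (by omega)
    refine h1.trans ?_
    rw [h0', Ext.comp_zero]
    rfl
  · intro y hy
    rw [LinearMap.mem_ker, deltaΓ_apply] at hy
    obtain ⟨x, hx⟩ := Ext.covariant_sequence_exact₃ _ hS y rfl hy
    exact ⟨x, hx⟩

/-! ### over a base ring -/

variable (A : Type u) [CommRing A] [X.Over (Spec (CommRingCat.of A))]

/-- restriction of scalars of a `Γtop`-linear map between cohomology groups -/
noncomputable def restr {M N : X.Modules} {i j : ℕ}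
    (f : Coh.HH X M i →ₗ[Coh.Γtop X] Coh.HH X N j) : Coh.HH X M i →ₗ[A] Coh.HH X N j where
  toFun := f
  map_add' := f.map_add
  map_smul' a x := by
    rw [RingHom.id_apply, Groth.Agent.H18.HH0.smul_def', Groth.Agent.H18.HH0.smul_def', f.map_smul]

theorem restr_apply {M N : X.Modules} {i j : ℕ}
    (f : Coh.HH X M i →ₗ[Coh.Γtop X] Coh.HH X N j) (x : Coh.HH X M i) : restr A f x = f x := rfl

theorem range_restr {M N : X.Modules} {i j : ℕ}
    (f : Coh.HH X M i →ₗ[Coh.Γtop X] Coh.HH X N j) :
    (LinearMap.range (restr A f) : Set (Coh.HH X N j)) = LinearMap.range f := rfl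

theorem ker_restr {M N : X.Modules} {i j : ℕ}
    (f : Coh.HH X M i →ₗ[Coh.Γtop X] Coh.HH X N j) :
    (LinearMap.ker (restr A f) : Set (Coh.HH X M i)) = LinearMap.ker f := rfl

include hE in
/-- finiteness of the middle term -/
theorem finite_mid [IsNoetherianRing A] (i : ℕ) (h₁ : Module.Finite A (Coh.HH X E.X₁ i))
    (h₃ : Module.Finite A (Coh.HH X E.X₃ i)) : Module.Finite A (Coh.HH X E.X₂ i) := by
  have n1 : IsNoetherian A (Coh.HH X E.X₁ i) := isNoetherian_of_isNoetherianRing_of_finite A _
  have n3 : IsNoetherian A (Coh.HH X E.X₃ i) := isNoetherian_of_isNoetherianRing_of_finite A _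
  have h : LinearMap.range (restr A (mapΓ E.f i)) = LinearMap.ker (restr A (mapΓ E.g i)) := by
    apply SetLike.coe_injective
    rw [range_restr, ker_restr, range_mapΓ_f_eq_ker E hE i]
  have := isNoetherian_of_range_eq_ker _ _ h
  exact Module.IsNoetherian.finite A _

include hE in
/-- finiteness of the last term -/
theorem finite_right [IsNoetherianRing A] (i : ℕ) (h₂ : Module.Finite A (Coh.HH X E.X₂ i))
    (h₁ : Module.Finite A (Coh.HH X E.X₁ (i + 1))) : Module.Finite A (Coh.HH X E.X₃ i) := by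
  have n2 : IsNoetherian A (Coh.HH X E.X₂ i) := isNoetherian_of_isNoetherianRing_of_finite A _
  have n1 : IsNoetherian A (Coh.HH X E.X₁ (i + 1)) :=
    isNoetherian_of_isNoetherianRing_of_finite A _
  have h : LinearMap.range (restr A (mapΓ E.g i)) = LinearMap.ker (restr A (deltaΓ E hE i)) := by
    apply SetLike.coe_injective
    rw [range_restr, ker_restr, range_mapΓ_g_eq_ker E hE i]
  have := isNoetherian_of_range_eq_ker _ _ h
  exact Module.IsNoetherian.finite A _

end Groth.Agent.H95.HHLes
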