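import Mathlib

/-! The Hermitian-type hypersurface `Σ (X_i Y_i^q - Y_i X_i^q)` over `F_q`: every rational hyperplane
section is singular (jet-lifting argument). -/

set_option autoImplicit false
universe u
open CategoryTheory AlgebraicGeometry

namespace Groth.Agent.H95.Hermitian

section Identity

variable {k : Type*} [Field k] [Fintype k] {m : Type*} [Fintype m]

/-- the Hermitian form evaluated on a family -/
def Fv {S : Type*} [CommRing S] (q : ℕ) (G : m ⊕ m → S) : S :=
  ∑ i : m, (G (Sum.inl i) * G (Sum.inr i) ^ q - G (Sum.inr i) * G (Sum.inl i) ^ q)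

/-- the linear form evaluated on a family -/
def Lv {S : Type*} [CommRing S] [Algebra k S] (c : m ⊕ m → k) (G : m ⊕ m → S) : S :=
  ∑ v, algebraMap k S (c v) * G v

/-- the tangency point attached to the coefficients of the hyperplane -/
def Pt (c : m ⊕ m → k) : m ⊕ m → k :=
  Sum.elim (fun i => - c (Sum.inr i)) (fun i => c (Sum.inl i))

theorem Lv_Pt {S : Type*} [CommRing S] [Algebra k S] (c : m ⊕ m → k) :
    Lv c (fun v => algebraMap k S (Pt c v)) = 0 := by
  simp only [Lv, Fintype.sum_sum_type, Pt, Sum.elim_inl, Sum.elim_inr, map_neg]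
  rw [← Finset.sum_add_distrib]
  refine Finset.sum_eq_zero fun i _ => ?_
  ring

theorem Lv_add {S : Type*} [CommRing S] [Algebra k S] (c : m ⊕ m → k) (G H : m ⊕ m → S) :
    Lv c (fun v => G v + H v) = Lv c G + Lv c H := by
  simp only [Lv, mul_add, Finset.sum_add_distrib]

theorem Lv_mul {S : Type*} [CommRing S] [Algebra k S] (c : m ⊕ m → k) (t : S) (H : m ⊕ m → S) :
    Lv c (fun v => t * H v) = t * Lv c H := by
  simp only [Lv, Finset.mul_sum]
  refine Finset.sum_congr rfl fun v _ => ?_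
  ring

theorem Fv_mul {S : Type*} [CommRing S] (q : ℕ) (t : S) (H : m ⊕ m → S) :
    Fv q (fun v => t * H v) = t ^ (q + 1) * Fv q H := by
  simp only [Fv, Finset.mul_sum]
  refine Finset.sum_congr rfl fun v _ => ?_
  ring

theorem term_identity {S : Type*} [CommRing S] (q : ℕ)
    (hadd : ∀ x y : S, (x + y) ^ q = x ^ q + y ^ q)
    (hneg : ∀ x : S, (-x) ^ q = -(x ^ q)) (a d α β : S) (ha : a ^ q = a) (hd : d ^ q = d) :
    (-d + α) * (a + β) ^ q - (a + β) * (-d + α) ^ q =
      (a * α + d * β) - (a * α + d * β) ^ q + (α * β ^ q - β * α ^ q) := by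
  have h1 : (a + β) ^ q = a + β ^ q := by rw [hadd, ha]
  have h2 : (-d + α) ^ q = -d + α ^ q := by rw [hadd, hneg, hd]
  have h3 : (a * α + d * β) ^ q = a * α ^ q + d * β ^ q := by
    rw [hadd, mul_pow, mul_pow, ha, hd]
  rw [h1, h2, h3]
  ring

/-- Key identity: expansion of the Hermitian form around the tangency point. -/
theorem key_identity {S : Type*} [CommRing S] [Algebra k S] (p : ℕ) [Fact p.Prime] [CharP S p]
    (e : ℕ) (hq : Fintype.card k = p ^ e) (c : m ⊕ m → k) (W : m ⊕ m → S) :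
    Fv (Fintype.card k) (fun v => algebraMap k S (Pt c v) + W v) =
      Lv c W - Lv c W ^ (Fintype.card k) + Fv (Fintype.card k) W := by
  have hk : ∀ a : k, (algebraMap k S a) ^ Fintype.card k = algebraMap k S a := fun a => by
    rw [← map_pow, FiniteField.pow_card]
  have hadd : ∀ x y : S, (x + y) ^ Fintype.card k = x ^ Fintype.card k + y ^ Fintype.card k :=
    fun x y => by rw [hq]; exact add_pow_char_pow x y p e
  have hsum : Lv c W ^ Fintype.card k =
      ∑ i : m, (algebraMap k S (c (Sum.inl i)) * W (Sum.inl i) +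
        algebraMap k S (c (Sum.inr i)) * W (Sum.inr i)) ^ Fintype.card k := by
    simp only [Lv, Fintype.sum_sum_type]
    rw [← Finset.sum_add_distrib, hq, sum_pow_char_pow]
  have hL : Lv c W = ∑ i : m, (algebraMap k S (c (Sum.inl i)) * W (Sum.inl i) +
        algebraMap k S (c (Sum.inr i)) * W (Sum.inr i)) := by
    simp only [Lv, Fintype.sum_sum_type]
    rw [← Finset.sum_add_distrib]
  have hq0 : Fintype.card k ≠ 0 := Fintype.card_ne_zero
  have hneg : ∀ x : S, (-x) ^ Fintype.card k = -(x ^ Fintype.card k) := fun x => by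
    have := hadd (-x) x
    rw [neg_add_cancel, zero_pow hq0] at this
    exact eq_neg_of_add_eq_zero_left this.symm
  rw [hsum, hL]
  simp only [Fv]
  rw [← Finset.sum_sub_distrib, ← Finset.sum_add_distrib]
  refine Finset.sum_congr rfl fun i _ => ?_
  simp only [Pt, Sum.elim_inl, Sum.elim_inr, map_neg]
  exact term_identity _ hadd hneg _ _ _ _ (hk _) (hk _)

theorem map_Fv {S S' : Type*} [CommRing S] [CommRing S'] (φ : S →+* S') (q : ℕ) (G : m ⊕ m → S) :
    φ (Fv q G) = Fv q (fun v => φ (G v)) := by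
  simp [Fv, map_sum, map_sub, map_mul, map_pow]

open Polynomial in
/-- No jet of order `q+1` through the tangency point in a direction `z` with `L(z) = 0`,
`F(z) ≠ 0` lifts to order `q+2`. -/
theorem no_lift (p : ℕ) [Fact p.Prime] [CharP k p] (e : ℕ) (hq : Fintype.card k = p ^ e)
    (c : m ⊕ m → k) (z : m ⊕ m → k[X]) (hFz : Fv (Fintype.card k) z ≠ 0)
    (G : m ⊕ m → k[X][X])
    (hG : ∀ v, (X : k[X][X]) ^ (Fintype.card k + 1) ∣ G v - (C (C (Pt c v)) + X * C (z v)))
    (hL : (X : k[X][X]) ^ (Fintype.card k + 2) ∣ Lv c G)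
    (hF : (X : k[X][X]) ^ (Fintype.card k + 2) ∣ Fv (Fintype.card k) G) : False := by
  have hq0 : Fintype.card k ≠ 0 := Fintype.card_ne_zero
  choose U hU using hG
  set Z : m ⊕ m → k[X][X] := fun v => C (z v) + X ^ Fintype.card k * U v with hZ
  have hGv : ∀ v, G v = algebraMap k k[X][X] (Pt c v) + X * Z v := by
    intro v
    have h1 := hU v
    have h2 : algebraMap k k[X][X] (Pt c v) = C (C (Pt c v)) := rfl
    rw [h2, hZ]
    rw [pow_succ] at h1
    linear_combination h1
  have hG' : G = fun v => algebraMap k k[X][X] (Pt c v) + X * Z v := funext hGv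
  have hLG : Lv c G = X * Lv c Z := by
    rw [hG', Lv_add, Lv_Pt, zero_add, Lv_mul]
  have hFG : Fv (Fintype.card k) G = X * Lv c Z - (X * Lv c Z) ^ Fintype.card k +
      X ^ (Fintype.card k + 1) * Fv (Fintype.card k) Z := by
    rw [hG', key_identity p e hq, Lv_mul, Fv_mul]
  rw [hLG] at hL
  have h1 : (X : k[X][X]) ^ (Fintype.card k + 2) ∣ (X * Lv c Z) ^ Fintype.card k :=
    dvd_pow hL hq0
  have h2 : (X : k[X][X]) ^ (Fintype.card k + 2) ∣
      X ^ (Fintype.card k + 1) * Fv (Fintype.card k) Z := by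
    have : X ^ (Fintype.card k + 1) * Fv (Fintype.card k) Z =
        Fv (Fintype.card k) G - X * Lv c Z + (X * Lv c Z) ^ Fintype.card k := by
      rw [hFG]; ring
    rw [this]
    exact dvd_add (dvd_sub hF hL) h1
  have h3 : (X : k[X][X]) ∣ Fv (Fintype.card k) Z := by
    rw [show Fintype.card k + 2 = (Fintype.card k + 1) + 1 from rfl, pow_succ] at h2
    exact (mul_dvd_mul_iff_left (pow_ne_zero _ X_ne_zero)).mp h2
  have h4 : (evalRingHom (0 : k[X])) (Fv (Fintype.card k) Z) = 0 := by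
    obtain ⟨r, hr⟩ := h3
    rw [hr]; simp
  rw [map_Fv] at h4
  apply hFz
  convert h4 using 2
  funext v
  simp [hZ, hq0]

open Polynomial in
open Classical in
/-- a direction in the hyperplane on which the Hermitian form does not vanish -/
theorem exists_dir (hm : 2 ≤ Fintype.card m) (c : m ⊕ m → k) (hc : c ≠ 0) :
    ∃ z : m ⊕ m → k[X], Lv c z = 0 ∧ Fv (Fintype.card k) z ≠ 0 := by
  obtain ⟨v0, hv0⟩ : ∃ v, c v ≠ 0 := by
    by_contra h
    push Not at h
    exact hc (funext h)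
  have : Nontrivial m := Fintype.one_lt_card_iff_nontrivial.mp hm
  obtain ⟨j, hj⟩ := exists_ne (Sum.elim id id v0 : m)
  have hv1 : v0 ≠ Sum.inl j := by
    rintro rfl; exact hj rfl
  have hv2 : v0 ≠ Sum.inr j := by
    rintro rfl; exact hj rfl
  set r : k[X] := - C (c v0)⁻¹ * (C (c (Sum.inl j)) + C (c (Sum.inr j)) * X) with hr
  refine ⟨Pi.single (Sum.inl j) 1 + Pi.single (Sum.inr j) X + Pi.single v0 r, ?_, ?_⟩
  · simp only [Lv, Pi.add_apply, mul_add, Finset.sum_add_distrib, Pi.single_apply, mul_ite,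
      mul_zero, Finset.sum_ite_eq', Finset.mem_univ, if_true, mul_one]
    have h1 : (algebraMap k k[X]) (c v0) * r =
        - (C (c (Sum.inl j)) + C (c (Sum.inr j)) * X) := by
      rw [hr, ← mul_assoc, mul_neg, ← Polynomial.C_eq_algebraMap, ← C_mul, mul_inv_cancel₀ hv0]
      simp
    rw [h1, ← Polynomial.C_eq_algebraMap, ← Polynomial.C_eq_algebraMap]
    ring
  · have hsum : Fv (Fintype.card k)
        (Pi.single (Sum.inl j) 1 + Pi.single (Sum.inr j) X + Pi.single v0 r : m ⊕ m → k[X]) =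
        X ^ Fintype.card k - X := by
      rw [Fv, Finset.sum_eq_single j]
      · simp [Pi.single_apply, hv1.symm, hv2.symm]
      · intro i _ hij
        have hq0 : Fintype.card k ≠ 0 := Fintype.card_ne_zero
        by_cases h : v0 = Sum.inl i
        · subst h
          simp [Pi.single_apply, hij, hq0, Ne.symm hij]
        · simp [Pi.single_apply, hij, hq0, Ne.symm hij, Ne.symm h]
      · intro h; exact absurd (Finset.mem_univ j) h
    rw [hsum]
    exact FiniteField.X_pow_card_sub_X_ne_zero k Fintype.one_lt_card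

theorem map_Lv {S S' : Type*} [CommRing S] [CommRing S'] [Algebra k S] [Algebra k S']
    (φ : S →ₐ[k] S') (c : m ⊕ m → k) (G : m ⊕ m → S) :
    φ (Lv c G) = Lv c (fun v => φ (G v)) := by
  simp [Lv, map_sum, map_mul]

end Identity

theorem ker_factor_nilpotent {R : Type*} [CommRing R] (x : R) (a b : ℕ)
    (hI : Ideal.span {x ^ b} ≤ Ideal.span {x ^ a}) (h2 : b ≤ 2 * a) :
    IsNilpotent (RingHom.ker (Ideal.Quotient.factor hI)) := by
  refine ⟨2, ?_⟩
  rw [Ideal.zero_eq_bot, eq_bot_iff, pow_two, Ideal.mul_le]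
  intro r hr s hs
  obtain ⟨r', rfl⟩ := Ideal.Quotient.mk_surjective r
  obtain ⟨s', rfl⟩ := Ideal.Quotient.mk_surjective s
  rw [RingHom.mem_ker, Ideal.Quotient.factor_mk, Ideal.Quotient.eq_zero_iff_mem,
    Ideal.mem_span_singleton] at hr hs
  rw [Ideal.mem_bot, ← map_mul, Ideal.Quotient.eq_zero_iff_mem, Ideal.mem_span_singleton]
  obtain ⟨u, rfl⟩ := hr
  obtain ⟨v, rfl⟩ := hs
  have : x ^ a * u * (x ^ a * v) = x ^ (2 * a) * (u * v) := by ring
  rw [this]
  exact Dvd.dvd.mul_right (pow_dvd_pow x h2) _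

section Main

variable (k : Type u) [Field k] [Fintype k] (n : ℕ)

theorem exists_lift_of_formallySmooth {R A B C : Type*} [CommRing R] [CommRing A] [CommRing B]
    [CommRing C] [Algebra R A] [Algebra R B] [Algebra R C] [Algebra.FormallySmooth R A]
    (f : A →ₐ[R] C) (g : B →ₐ[R] C) (hg : Function.Surjective g)
    (hg' : IsNilpotent (RingHom.ker (g : B →+* C))) :
    ∃ φ : A →ₐ[R] B, ∀ x, g (φ x) = f x :=
  ⟨Algebra.FormallySmooth.liftOfSurjective f g hg hg',
    Algebra.FormallySmooth.liftOfSurjective_apply f g hg hg'⟩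

theorem exists_factor {R : Type*} (k : Type*) [CommRing k] [CommRing R] [Algebra k R] (x : R)
    (a b : ℕ) (hab : a ≤ b) (h2 : b ≤ 2 * a) :
    ∃ g : (R ⧸ Ideal.span {x ^ b}) →ₐ[k] (R ⧸ Ideal.span {x ^ a}),
      (∀ r, g (Ideal.Quotient.mk _ r) = Ideal.Quotient.mk _ r) ∧ Function.Surjective g ∧
      IsNilpotent (RingHom.ker (g : (R ⧸ Ideal.span {x ^ b}) →+* (R ⧸ Ideal.span {x ^ a}))) := by
  have hI : Ideal.span {x ^ b} ≤ Ideal.span {x ^ a} :=
    Ideal.span_singleton_le_span_singleton.mpr (pow_dvd_pow x hab)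
  exact ⟨Ideal.Quotient.factorₐ k hI, fun r => rfl, Ideal.Quotient.factor_surjective hI,
    ker_factor_nilpotent x a b hI h2⟩

open Polynomial in
/-- the jet through the tangency point as an algebra map out of the localized quotient -/
theorem exists_jet (p : ℕ) [Fact p.Prime] [CharP k p] (e : ℕ) (hq : Fintype.card k = p ^ e)
    (F L : MvPolynomial (Fin (n + 1) ⊕ Fin (n + 1)) k)
    (hF : F = ∑ i : Fin (n + 1), (MvPolynomial.X (Sum.inl i) * MvPolynomial.X (Sum.inr i) ^ Fintype.card k -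
      MvPolynomial.X (Sum.inr i) * MvPolynomial.X (Sum.inl i) ^ Fintype.card k))
    (c : Fin (n + 1) ⊕ Fin (n + 1) → k)
    (hL : L = ∑ v, MvPolynomial.C (c v) * MvPolynomial.X v)
    (z : Fin (n + 1) ⊕ Fin (n + 1) → k[X]) (hLz : Lv c z = 0)
    (w : Fin (n + 1) ⊕ Fin (n + 1)) (hw : Pt c w ≠ 0) :
    ∃ ψ : Localization.Away (Ideal.Quotient.mk (Ideal.span {F, L}) (MvPolynomial.X w)) →ₐ[k]
        (k[X][X] ⧸ Ideal.span {(X : k[X][X]) ^ (Fintype.card k + 1)}),
      ∀ v, ψ (algebraMap _ _ (Ideal.Quotient.mk (Ideal.span {F, L}) (MvPolynomial.X v))) =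
        Ideal.Quotient.mk _ (C (C (Pt c v)) + X * C (z v)) := by
  have hq0 : Fintype.card k ≠ 0 := Fintype.card_ne_zero
  set q := Fintype.card k with hqdef
  set I1 : Ideal k[X][X] := Ideal.span {X ^ (q + 1)} with hI1
  let J : Fin (n + 1) ⊕ Fin (n + 1) → k[X][X] := fun v => algebraMap k k[X][X] (Pt c v) + X * C (z v)
  have aeF : ∀ G : Fin (n + 1) ⊕ Fin (n + 1) → k[X][X], MvPolynomial.aeval G F = Fv q G := by
    intro G; subst hF; simp [Fv, map_sum]
  have aeL : ∀ G : Fin (n + 1) ⊕ Fin (n + 1) → k[X][X], MvPolynomial.aeval G L = Lv c G := by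
    intro G; subst hL; simp [Lv, map_sum]
  have hCz : Lv c (fun v => (C (z v) : k[X][X])) = 0 := by
    have := map_Lv (CAlgHom (R := k) (A := k[X])) c z
    simp only [CAlgHom_apply] at this
    rw [← this, hLz, map_zero]
  have hJL : Lv c J = 0 := by
    change Lv c (fun v => algebraMap k k[X][X] (Pt c v) + X * C (z v)) = 0
    rw [Lv_add, Lv_Pt, zero_add, Lv_mul, hCz, mul_zero]
  have hJF : Fv q J ∈ I1 := by
    change Fv q (fun v => algebraMap k k[X][X] (Pt c v) + X * C (z v)) ∈ I1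
    rw [hqdef, key_identity p e hq, Lv_mul, hCz, mul_zero, zero_pow hq0, sub_zero, zero_add, Fv_mul]
    exact Ideal.mul_mem_right _ _ (Ideal.mem_span_singleton_self _)
  let ψ₀ : MvPolynomial (Fin (n + 1) ⊕ Fin (n + 1)) k →ₐ[k] k[X][X] ⧸ I1 :=
    (Ideal.Quotient.mkₐ k I1).comp (MvPolynomial.aeval J)
  have hψ₀ : ∀ a ∈ Ideal.span ({F, L} : Set (MvPolynomial (Fin (n + 1) ⊕ Fin (n + 1)) k)),
      ψ₀ a = 0 := by
    have : Ideal.span ({F, L} : Set (MvPolynomial (Fin (n + 1) ⊕ Fin (n + 1)) k)) ≤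
        RingHom.ker ψ₀.toRingHom := by
      rw [Ideal.span_le]
      rintro a (rfl | rfl)
      · change ψ₀ a = 0
        simp only [ψ₀, AlgHom.comp_apply, aeF, Ideal.Quotient.mkₐ_eq_mk]
        exact Ideal.Quotient.eq_zero_iff_mem.mpr hJF
      · change ψ₀ a = 0
        simp only [ψ₀, AlgHom.comp_apply, aeL, hJL, map_zero]
    exact fun a ha => this ha
  let ψ₁ := Ideal.Quotient.liftₐ (Ideal.span {F, L}) ψ₀ hψ₀
  have hψ₁ : ∀ v, ψ₁ (Ideal.Quotient.mk (Ideal.span {F, L}) (MvPolynomial.X v)) =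
      Ideal.Quotient.mk I1 (J v) := by
    intro v
    change ψ₀ (MvPolynomial.X v) = _
    simp [ψ₀]
  have hunit : IsUnit (ψ₁ (Ideal.Quotient.mk (Ideal.span {F, L}) (MvPolynomial.X w))) := by
    rw [hψ₁]
    change IsUnit (Ideal.Quotient.mk I1 (algebraMap k k[X][X] (Pt c w) + X * C (z w)))
    rw [map_add]
    refine IsNilpotent.isUnit_add_left_of_commute ⟨q + 1, ?_⟩ ?_
      (Commute.all (Ideal.Quotient.mk I1 (X * C (z w))) _)
    · rw [← map_pow, Ideal.Quotient.eq_zero_iff_mem, mul_pow]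
      exact Ideal.mul_mem_right _ _ (Ideal.mem_span_singleton_self _)
    · exact ((IsUnit.mk0 _ hw).map (algebraMap k k[X][X])).map (Ideal.Quotient.mk I1)
  have hunits : ∀ y : Submonoid.powers (Ideal.Quotient.mk (Ideal.span {F, L}) (MvPolynomial.X w)),
      IsUnit (ψ₁ y) := by
    rintro ⟨_, j, rfl⟩
    rw [map_pow]
    exact hunit.pow j
  refine ⟨IsLocalization.liftAlgHom (A := k)
      (M := Submonoid.powers (Ideal.Quotient.mk (Ideal.span {F, L}) (MvPolynomial.X w)))
      (S := Localization.Away (Ideal.Quotient.mk (Ideal.span {F, L}) (MvPolynomial.X w)))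
      (P := k[X][X] ⧸ I1) (f := ψ₁) hunits, fun v => ?_⟩
  rw [IsLocalization.liftAlgHom_apply, IsLocalization.lift_eq]
  exact hψ₁ v

open Polynomial in
theorem not_formallySmooth
    (F L : MvPolynomial (Fin (n + 1) ⊕ Fin (n + 1)) k)
    (hF : F = ∑ i : Fin (n + 1), (MvPolynomial.X (Sum.inl i) * MvPolynomial.X (Sum.inr i) ^ Fintype.card k -
      MvPolynomial.X (Sum.inr i) * MvPolynomial.X (Sum.inl i) ^ Fintype.card k))
    (c : Fin (n + 1) ⊕ Fin (n + 1) → k)
    (hL : L = ∑ v, MvPolynomial.C (c v) * MvPolynomial.X v)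
    (z : Fin (n + 1) ⊕ Fin (n + 1) → k[X]) (hLz : Lv c z = 0) (hFz : Fv (Fintype.card k) z ≠ 0)
    (w : Fin (n + 1) ⊕ Fin (n + 1)) (hw : Pt c w ≠ 0) :
    ¬ Algebra.FormallySmooth k
      (Localization.Away (Ideal.Quotient.mk (Ideal.span {F, L}) (MvPolynomial.X w))) := by
  intro hfs
  obtain ⟨p, hp⟩ := CharP.exists k
  obtain ⟨e, hprime, hq⟩ := FiniteField.card k p
  have : Fact p.Prime := ⟨hprime⟩
  obtain ⟨ψ, hψ⟩ := exists_jet k n p e hq F L hF c hL z hLz w hw
  obtain ⟨g, hgmk, hgs, hgn⟩ := exists_factor k (X : k[X][X]) (Fintype.card k + 1)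
    (Fintype.card k + 2) (by omega) (by omega)
  obtain ⟨φ, hφ⟩ := exists_lift_of_formallySmooth ψ g hgs hgn
  have hrep : ∀ v, ∃ Gv : k[X][X], Ideal.Quotient.mk _ Gv =
      φ (algebraMap _ _ (Ideal.Quotient.mk (Ideal.span {F, L}) (MvPolynomial.X v))) :=
    fun v => Ideal.Quotient.mk_surjective _
  choose G hG using hrep
  have aeF : ∀ G : Fin (n + 1) ⊕ Fin (n + 1) → k[X][X],
      MvPolynomial.aeval G F = Fv (Fintype.card k) G := by
    intro G; subst hF; simp [Fv, map_sum]
  have aeL : ∀ G : Fin (n + 1) ⊕ Fin (n + 1) → k[X][X], MvPolynomial.aeval G L = Lv c G := by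
    intro G; subst hL; simp [Lv, map_sum]
  have h1 : ∀ v, (X : k[X][X]) ^ (Fintype.card k + 1) ∣
      G v - (C (C (Pt c v)) + X * C (z v)) := by
    intro v
    have e1 : Ideal.Quotient.mk (Ideal.span {(X : k[X][X]) ^ (Fintype.card k + 1)}) (G v) =
        Ideal.Quotient.mk _ (C (C (Pt c v)) + X * C (z v)) := by
      rw [← hgmk, hG v, hφ, hψ]
    exact Ideal.mem_span_singleton.mp (Ideal.Quotient.eq.mp e1)
  have hΦ : ((φ.comp (IsScalarTower.toAlgHom k _ _)).comp
      (Ideal.Quotient.mkₐ k (Ideal.span {F, L}))) =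
      (Ideal.Quotient.mkₐ k _).comp (MvPolynomial.aeval G) := by
    refine MvPolynomial.algHom_ext fun v => ?_
    simp [hG v]
  have hzero : ∀ a ∈ Ideal.span ({F, L} : Set (MvPolynomial (Fin (n + 1) ⊕ Fin (n + 1)) k)),
      MvPolynomial.aeval G a ∈ Ideal.span {(X : k[X][X]) ^ (Fintype.card k + 2)} := by
    intro a ha
    have := congr($hΦ a)
    simp only [AlgHom.comp_apply, Ideal.Quotient.mkₐ_eq_mk] at this
    rw [Ideal.Quotient.eq_zero_iff_mem.mpr ha, map_zero, map_zero] at this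
    exact Ideal.Quotient.eq_zero_iff_mem.mp this.symm
  have hF' : (X : k[X][X]) ^ (Fintype.card k + 2) ∣ Fv (Fintype.card k) G := by
    rw [← aeF]
    exact Ideal.mem_span_singleton.mp (hzero F (Ideal.subset_span (by simp)))
  have hL' : (X : k[X][X]) ^ (Fintype.card k + 2) ∣ Lv c G := by
    rw [← aeL]
    exact Ideal.mem_span_singleton.mp (hzero L (Ideal.subset_span (by simp)))
  exact no_lift p e hq c z hFz G h1 hL' hF'

theorem main (hn : 1 ≤ n)
    (F L : MvPolynomial (Fin (n + 1) ⊕ Fin (n + 1)) k)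
    (hF : F = ∑ i : Fin (n + 1), (MvPolynomial.X (Sum.inl i) * MvPolynomial.X (Sum.inr i) ^ Fintype.card k -
      MvPolynomial.X (Sum.inr i) * MvPolynomial.X (Sum.inl i) ^ Fintype.card k))
    (c : Fin (n + 1) ⊕ Fin (n + 1) → k) (hc : c ≠ 0)
    (hL : L = ∑ v, MvPolynomial.C (c v) * MvPolynomial.X v) :
    ¬ ∀ w : Fin (n + 1) ⊕ Fin (n + 1),
      Smooth (Spec.map (CommRingCat.ofHom (algebraMap k
        (Localization.Away (Ideal.Quotient.mk (Ideal.span {F, L}) (MvPolynomial.X w)))))) := by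
  intro h
  obtain ⟨z, hLz, hFz⟩ := exists_dir (k := k) (m := Fin (n + 1)) (by simp; omega) c hc
  obtain ⟨w, hw⟩ : ∃ w, Pt c w ≠ 0 := by
    obtain ⟨v, hv⟩ : ∃ v, c v ≠ 0 := by
      by_contra h'
      push Not at h'
      exact hc (funext h')
    rcases v with i | i
    · exact ⟨Sum.inr i, by simpa [Pt] using hv⟩
    · exact ⟨Sum.inl i, by simpa [Pt] using hv⟩
  have h1 := (HasRingHomProperty.Spec_iff (P := @Smooth)).mp (h w)
  have h2 : Algebra.Smooth k
      (Localization.Away (Ideal.Quotient.mk (Ideal.span {F, L}) (MvPolynomial.X w))) :=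
    RingHom.smooth_algebraMap.mp h1
  exact not_formallySmooth k n F L hF c hL z hLz hFz w hw h2.formallySmooth

end Main

end Groth.Agent.H95.Hermitian
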