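import Groth.Agent.H95.EulerPn
import Groth.Agent.H95.SerreFin

/-!
Dimensions of the cohomology of the twists on `P^r_F`, `F` a field, `r ≥ 1` (helper95).
-/

set_option autoImplicit false
universe u
open CategoryTheory CategoryTheory.Limits AlgebraicGeometry TopologicalSpace Opposite MvPolynomial

namespace Groth.Agent.H95.HypDim

open Groth.Agent.H18.PSL Groth.Agent.H95.TopCech

variable (F : Type u) [Field F] (r : ℕ)

theorem finite_HH (m : ℤ) (p : ℕ) :
    Module.Finite F (Coh.HH (CohB1.ProjSpace r F) (Twist.twistProjSpace r F m) p) :=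
  Groth.Agent.H95.SerreFin.finite_HH_twist r F m p

theorem subsingleton_HH_mid (m : ℤ) (p : ℕ) (hp0 : p ≠ 0) (hpr : p ≠ r) :
    Subsingleton (Coh.HH (CohB1.ProjSpace r F) (Twist.twistProjSpace r F m) p) :=
  subsingleton_HH_twist r F m p (fun h => hp0 h.1) (fun h => hpr h.1)

theorem finrank_HH_zero (hr : 1 ≤ r) (m : ℤ) :
    Module.finrank F (Coh.HH (CohB1.ProjSpace r F) (Twist.twistProjSpace r F m) 0) =
      ((m + (r : ℤ)).toNat).choose r := by
  rcases le_or_gt 0 m with hm | hm
  · obtain ⟨d, rfl⟩ := Int.eq_ofNat_of_zero_le hm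
    obtain ⟨e⟩ := nonempty_HH0_linearEquiv r F d
    rw [e.finrank_eq, finrank_homogeneousSubmodule]
    have : ((d : ℤ) + (r : ℤ)).toNat = r + d := by omega
    rw [this]
  · have := subsingleton_HH_twist r F m 0 (fun h => by omega) (fun h => by omega)
    rw [Module.finrank_zero_of_subsingleton, Nat.choose_eq_zero_of_lt (by omega)]

theorem finrank_HH_top (hr : 1 ≤ r) (m : ℤ) :
    Module.finrank F (Coh.HH (CohB1.ProjSpace r F) (Twist.twistProjSpace r F m) r) =
      ((-m - 1).toNat).choose r := by
  rcases le_or_gt m (-((r : ℤ) + 1)) with hm | hm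
  · obtain ⟨k', hk'⟩ := Int.eq_ofNat_of_zero_le (show 0 ≤ -m - r - 1 by omega)
    have hm' : m = -((r : ℤ) + 1 + k') := by omega
    obtain ⟨e⟩ := nonempty_HH_top_linearEquiv_topSet F r m (by omega)
    have : Finite (topSet r m) := (topSet_finite r m).to_subtype
    rw [e.finrank_eq, finrank_fun]
    have h1 : Nat.card (topSet r m) = (r + k').choose r := by
      rw [hm']
      exact card_topSet r k'
    have h2 : (-m - 1).toNat = r + k' := by omega
    rw [h1, h2]
  · have := subsingleton_HH_twist r F m r (fun h => by omega) (fun h => by omega)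
    rw [Module.finrank_zero_of_subsingleton, Nat.choose_eq_zero_of_lt (by omega)]

end Groth.Agent.H95.HypDim
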