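import Groth.Agent.Lead.Coh.FiniteLES

/-!
Dimension count in the long exact cohomology sequence over a field (helper95).
-/

set_option autoImplicit false
universe u
open CategoryTheory CategoryTheory.Limits AlgebraicGeometry

namespace Groth.Agent.H95.HypLES

open Groth.Agent.Lead.FiniteLES

variable {X : Scheme.{u}} (k : Type u) [Field k] [X.Over (Spec (CommRingCat.of k))]
variable (E : ShortComplex X.Modules) (hE : E.ShortExact)

/-- `H^p(f)` as a `k`-linear map -/
noncomputable abbrev fk (p : ℕ) : Coh.HH X E.X₁ p →ₗ[k] Coh.HH X E.X₂ p := toA k (HHmap E.f p)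

include hE in
/-- the dimension of `H^p(X₃)` from the long exact sequence -/
theorem finrank_X₃ (p : ℕ) (h₂ : Module.Finite k (Coh.HH X E.X₂ p))
    (h₁ : Module.Finite k (Coh.HH X E.X₁ (p + 1))) :
    Module.Finite k (Coh.HH X E.X₃ p) ∧
      Module.finrank k (Coh.HH X E.X₃ p) + Module.finrank k (LinearMap.range (fk k E p)) +
          Module.finrank k (LinearMap.range (fk k E (p + 1))) =
        Module.finrank k (Coh.HH X E.X₂ p) + Module.finrank k (Coh.HH X E.X₁ (p + 1)) := by
  have h₃ : Module.Finite k (Coh.HH X E.X₃ p) := finite_X₃ k E hE p h₂ h₁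
  refine ⟨h₃, ?_⟩
  let g : Coh.HH X E.X₂ p →ₗ[k] Coh.HH X E.X₃ p := toA k (HHmap E.g p)
  let δ : Coh.HH X E.X₃ p →ₗ[k] Coh.HH X E.X₁ (p + 1) := toA k (HHδ E hE p)
  have e1 : LinearMap.ker g = LinearMap.range (fk k E p) := by
    ext x
    rw [ker_toA, range_toA, ker_HHmap_g E hE p]
  have e2 : LinearMap.ker δ = LinearMap.range g := by
    ext x
    rw [ker_toA, range_toA, ker_HHδ E hE p]
  have e3 : LinearMap.ker (fk k E (p + 1)) = LinearMap.range δ := by
    ext x
    rw [ker_toA, range_toA, ker_HHmap_f_succ E hE p]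
  have r1 := LinearMap.finrank_range_add_finrank_ker g
  have r2 := LinearMap.finrank_range_add_finrank_ker δ
  have r3 := LinearMap.finrank_range_add_finrank_ker (fk k E (p + 1))
  rw [e1] at r1
  rw [e2] at r2
  rw [e3] at r3
  omega

end Groth.Agent.H95.HypLES
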