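import Groth.Agent.H86.Serre.Main
import Groth.Agent.H44.SeqLimModules
import Groth.Agent.H18.TwistTensor2
import Groth.Prelude.Def_ClSub2

/-!
The twisted ideal sequence `0 → O(a + m) → O(m) → O_X ⊗ O(m) → 0` of a closed subscheme of
projective space whose ideal sheaf is isomorphic to `O(a)` (helper95).
-/

set_option autoImplicit false
universe u
open CategoryTheory CategoryTheory.Limits AlgebraicGeometry TopologicalSpace Opposite

namespace Groth.Agent.H95.HypSeq

/-- transport of a short exact sequence along isomorphisms of its three terms -/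
theorem exists_shortExact_of_isos {C : Type*} [Category C] [Abelian C] (S : ShortComplex C)
    (hS : S.ShortExact) {A B D : C} (e₁ : S.X₁ ≅ A) (e₂ : S.X₂ ≅ B) (e₃ : S.X₃ ≅ D) :
    ∃ (f : A ⟶ B) (g : B ⟶ D) (w : f ≫ g = 0), (ShortComplex.mk f g w).ShortExact := by
  refine ⟨e₁.inv ≫ S.f ≫ e₂.hom, e₂.inv ≫ S.g ≫ e₃.hom, ?_, ?_⟩
  · simp
  · refine ShortComplex.shortExact_of_iso
      (ShortComplex.isoMk e₁ e₂ e₃ ?_ ?_) hS
    · simp
    · simp

section General

variable {X : Scheme.{u}}

/-- the ideal sequence `0 → I → O_X → O_X / I → 0` is short exact -/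
theorem shortExact_ideal (I : X.IdealSheafData) :
    (ShortComplex.mk (ClSub.idealModι I) (ClSub.toSubscheme I)
      (kernel.condition (ClSub.toSubscheme I))).ShortExact := by
  have hepi : Epi (ClSub.toSubscheme I) := by
    refine Groth.Agent.H44.epi_of_surjective_on_basis _ (fun U : X.affineOpens => U.1)
      (by rw [Subtype.range_coe]; exact X.isBasis_affineOpens) ?_
    intro U y
    obtain ⟨x, hx⟩ := I.subschemeι.app_surjective U.1 U.2 y
    exact ⟨x, hx⟩
  exact
    { exact := ShortComplex.exact_of_f_is_kernel _ (kernelIsKernel (ClSub.toSubscheme I))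
      mono_f := inferInstanceAs (Mono (kernel.ι (ClSub.toSubscheme I)))
      epi_g := hepi }

/-- the left unit isomorphism of `tensorMod` -/
noncomputable def unitorL (L : X.Modules) : CohB1.tensorMod (Coh.structureModule X) L ≅ L :=
  Groth.Agent.H18.tensorModComm (Coh.structureModule X) L ≪≫ SecTwist.unitorR L

end General

variable (N : ℕ) (B : Type u) [CommRing B]

/-- **the twisted ideal sequence** -/
theorem exists_shortExact (I : (CohB1.ProjSpace N B).IdealSheafData) (a : ℤ)
    (hI : Nonempty (ClSub.idealMod I ≅ Twist.twistProjSpace N B a)) (m : ℤ) :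
    ∃ (f : Twist.twistProjSpace N B (a + m) ⟶ Twist.twistProjSpace N B m)
      (g : Twist.twistProjSpace N B m ⟶
        CohB1.tensorMod (ClSub.quotMod I) (Twist.twistProjSpace N B m)) (w : f ≫ g = 0),
      (ShortComplex.mk f g w).ShortExact := by
  obtain ⟨eI⟩ := hI
  let L : (CohB1.ProjSpace N B).Modules := Twist.twistProjSpace N B m
  have hL : PicF.IsInvertible L := Groth.Agent.H86.Serre.isInvertible_twist N B m
  let S₀ : ShortComplex (CohB1.ProjSpace N B).Modules :=
    ShortComplex.mk (ClSub.idealModι I) (ClSub.toSubscheme I)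
      (kernel.condition (ClSub.toSubscheme I))
  have hS₀ : S₀.ShortExact := shortExact_ideal I
  let S := S₀.map (DCoh.tensorRightMod L)
  have hS : S.ShortExact := Groth.Agent.H86.Serre.shortExact_map_tensorRightMod L hL S₀ hS₀
  obtain ⟨et⟩ := Groth.Agent.H86.Serre.nonempty_twistBy_twist_iso N B a m
  let e₁ : S.X₁ ≅ Twist.twistProjSpace N B (a + m) :=
    (DCoh.tensorRightMod L).mapIso eI ≪≫ et
  let e₂ : S.X₂ ≅ Twist.twistProjSpace N B m := unitorL L
  let e₃ : S.X₃ ≅ CohB1.tensorMod (ClSub.quotMod I) (Twist.twistProjSpace N B m) := Iso.refl _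
  exact exists_shortExact_of_isos S hS e₁ e₂ e₃

end Groth.Agent.H95.HypSeq
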