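import Groth.Agent.H95.HypSurj2
import Groth.Agent.H95.HypLES
import Groth.Agent.H95.HypDim
import Groth.Agent.H95.HypSeq

/-!
Cohomology of the twists of the structure sheaf of a hypersurface in projective space over a
field (helper95).
-/

set_option autoImplicit false
universe u
open CategoryTheory CategoryTheory.Limits AlgebraicGeometry TopologicalSpace Opposite

namespace Groth.Agent.H95.HypMain

open Groth.Agent.Lead.FiniteLES Groth.Agent.H95.HypLES Groth.Agent.H95.HypDim

variable (F : Type u) [Field F] (M : ℕ)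

/-- `h⁰(P^{M+1}, O(x))` -/
def h0 (x : ℤ) : ℕ := ((x + ((M : ℤ) + 1)).toNat).choose (M + 1)

/-- `h^{M+1}(P^{M+1}, O(x))` -/
def hT (x : ℤ) : ℕ := ((-x - 1).toNat).choose (M + 1)

theorem finrank_zero (x : ℤ) :
    Module.finrank F (Coh.HH (CohB1.ProjSpace (M + 1) F) (Twist.twistProjSpace (M + 1) F x) 0) =
      h0 M x := by
  rw [finrank_HH_zero F (M + 1) (by omega) x, h0]
  push_cast
  rfl

theorem finrank_top (x : ℤ) :
    Module.finrank F (Coh.HH (CohB1.ProjSpace (M + 1) F) (Twist.twistProjSpace (M + 1) F x)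
      (M + 1)) = hT M x :=
  finrank_HH_top F (M + 1) (by omega) x

theorem finrank_range_zero {V W : Type*} [AddCommGroup V] [Module F V] [AddCommGroup W]
    [Module F W] (f : V →ₗ[F] W) (h : Subsingleton V ∨ Subsingleton W) :
    Module.finrank F (LinearMap.range f) = 0 := by
  rcases h with h | h
  · have h1 := LinearMap.finrank_range_le f
    have h2 : Module.finrank F V = 0 := Module.finrank_zero_of_subsingleton
    omega
  · have h1 := Submodule.finrank_le (LinearMap.range f)
    have h2 : Module.finrank F W = 0 := Module.finrank_zero_of_subsingleton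
    omega

/-- **cohomology of `O_X(m)`** for a closed subscheme `X ⊆ P^{M+1}_F` with ideal sheaf `≅ O(a)` -/
theorem main (I : (CohB1.ProjSpace (M + 1) F).IdealSheafData) (a : ℤ)
    (hI : Nonempty (ClSub.idealMod I ≅ Twist.twistProjSpace (M + 1) F a)) (m : ℤ) :
    (∀ p, Module.Finite F (Coh.HH (CohB1.ProjSpace (M + 1) F)
      (CohB1.tensorMod (ClSub.quotMod I) (Twist.twistProjSpace (M + 1) F m)) p)) ∧
    (∀ p, p ≠ 0 → p ≠ M → Subsingleton (Coh.HH (CohB1.ProjSpace (M + 1) F)
      (CohB1.tensorMod (ClSub.quotMod I) (Twist.twistProjSpace (M + 1) F m)) p)) ∧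
    (1 ≤ M →
      Module.finrank F (Coh.HH (CohB1.ProjSpace (M + 1) F)
        (CohB1.tensorMod (ClSub.quotMod I) (Twist.twistProjSpace (M + 1) F m)) 0) +
          h0 M (a + m) = h0 M m ∧
      Module.finrank F (Coh.HH (CohB1.ProjSpace (M + 1) F)
        (CohB1.tensorMod (ClSub.quotMod I) (Twist.twistProjSpace (M + 1) F m)) M) +
          hT M m = hT M (a + m)) ∧
    (M = 0 →
      Module.finrank F (Coh.HH (CohB1.ProjSpace (M + 1) F)
        (CohB1.tensorMod (ClSub.quotMod I) (Twist.twistProjSpace (M + 1) F m)) 0) +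
          h0 M (a + m) + hT M m = h0 M m + hT M (a + m)) := by
  obtain ⟨f, g, w, hE⟩ := Groth.Agent.H95.HypSeq.exists_shortExact (M + 1) F I a hI m
  let E : ShortComplex (CohB1.ProjSpace (M + 1) F).Modules := ShortComplex.mk f g w
  have : Mono f := hE.mono_f
  have hsurj : Function.Surjective (fk F E (M + 1)) := fun y =>
    Groth.Agent.H95.SD.surjective_HHlin_top (M + 1) F (by omega) f y
  have hinj : Function.Injective (fk F E 0) := fun x y h => HHmap_f_zero_injective E hE h
  -- the general formula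
  have P : ∀ p, Module.Finite F (Coh.HH (CohB1.ProjSpace (M + 1) F) (CohB1.tensorMod (ClSub.quotMod I) (Twist.twistProjSpace (M + 1) F m)) p) ∧
      Module.finrank F (Coh.HH (CohB1.ProjSpace (M + 1) F) (CohB1.tensorMod (ClSub.quotMod I) (Twist.twistProjSpace (M + 1) F m)) p) +
          Module.finrank F (LinearMap.range (fk F E p)) +
          Module.finrank F (LinearMap.range (fk F E (p + 1))) =
        Module.finrank F (Coh.HH (CohB1.ProjSpace (M + 1) F) (Twist.twistProjSpace (M + 1) F m) p) +
          Module.finrank F (Coh.HH (CohB1.ProjSpace (M + 1) F) (Twist.twistProjSpace (M + 1) F (a + m)) (p + 1)) := fun p =>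
    finrank_X₃ F E hE p (finite_HH F (M + 1) m p) (finite_HH F (M + 1) (a + m) (p + 1))
  -- vanishing of the cohomology of the twists
  have v₁ : ∀ p, p ≠ 0 → p ≠ M + 1 →
      Subsingleton (Coh.HH (CohB1.ProjSpace (M + 1) F) (Twist.twistProjSpace (M + 1) F (a + m)) p) := fun p h0 h1 =>
    subsingleton_HH_mid F (M + 1) (a + m) p h0 h1
  have v₂ : ∀ p, p ≠ 0 → p ≠ M + 1 →
      Subsingleton (Coh.HH (CohB1.ProjSpace (M + 1) F) (Twist.twistProjSpace (M + 1) F m) p) := fun p h0 h1 =>
    subsingleton_HH_mid F (M + 1) m p h0 h1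
  -- ranks
  have rk0 : Module.finrank F (LinearMap.range (fk F E 0)) = h0 M (a + m) := by
    rw [LinearMap.finrank_range_of_inj hinj]
    exact finrank_zero F M (a + m)
  have rkT : Module.finrank F (LinearMap.range (fk F E (M + 1))) = hT M m := by
    rw [LinearMap.range_eq_top.mpr hsurj, _root_.finrank_top]
    exact finrank_top F M m
  have rkmid : ∀ p, p ≠ 0 → p ≠ M + 1 →
      Module.finrank F (LinearMap.range (fk F E p)) = 0 := fun p h0 h1 =>
    finrank_range_zero F _ (Or.inl (v₁ p h0 h1))
  have z₁ : ∀ p, p ≠ 0 → p ≠ M + 1 →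
      Module.finrank F (Coh.HH (CohB1.ProjSpace (M + 1) F) (Twist.twistProjSpace (M + 1) F (a + m)) p) = 0 := fun p h0 h1 => by
    have := v₁ p h0 h1
    exact Module.finrank_zero_of_subsingleton
  have z₂ : ∀ p, p ≠ 0 → p ≠ M + 1 →
      Module.finrank F (Coh.HH (CohB1.ProjSpace (M + 1) F) (Twist.twistProjSpace (M + 1) F m) p) = 0 := fun p h0 h1 => by
    have := v₂ p h0 h1
    exact Module.finrank_zero_of_subsingleton
  have f₂0 : Module.finrank F (Coh.HH (CohB1.ProjSpace (M + 1) F) (Twist.twistProjSpace (M + 1) F m) 0) = h0 M m :=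
    finrank_zero F M m
  have f₁T : Module.finrank F (Coh.HH (CohB1.ProjSpace (M + 1) F) (Twist.twistProjSpace (M + 1) F (a + m)) (M + 1)) =
      hT M (a + m) := finrank_top F M (a + m)
  have f₂T : Module.finrank F (Coh.HH (CohB1.ProjSpace (M + 1) F) (Twist.twistProjSpace (M + 1) F m) (M + 1)) = hT M m :=
    finrank_top F M m
  refine ⟨fun p => (P p).1, ?_, ?_, ?_⟩
  · intro p hp0 hpM
    by_cases hpT : p = M + 1
    · subst hpT
      have h1 := (P (M + 1)).2
      rw [rkT, rkmid (M + 1 + 1) (by omega) (by omega), f₂T, z₁ (M + 1 + 1) (by omega) (by omega)]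
        at h1
      have := (P (M + 1)).1
      have hz : Module.finrank F (Coh.HH (CohB1.ProjSpace (M + 1) F)
          (CohB1.tensorMod (ClSub.quotMod I) (Twist.twistProjSpace (M + 1) F m)) (M + 1)) = 0 := by
        omega
      exact Module.finrank_zero_iff.mp hz
    · exact Groth.Agent.H86.Serre.subsingleton_X₃ E hE p (v₂ p hp0 hpT)
        (v₁ (p + 1) (by omega) (by omega))
  · intro hM
    constructor
    · have h1 := (P 0).2
      rw [rk0, rkmid (0 + 1) (by omega) (by omega), f₂0, z₁ (0 + 1) (by omega) (by omega)] at h1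
      exact h1
    · have h1 := (P M).2
      rw [rkmid M (by omega) (by omega), rkT, z₂ M (by omega) (by omega), f₁T] at h1
      omega
  · intro hM
    subst hM
    have h1 := (P 0).2
    rw [rk0, rkT, f₂0, f₁T] at h1
    exact h1

/-- `main` with the dimension as a free variable (avoids `0 + 1` in applications) -/
theorem main' (N : ℕ) (hN : N = M + 1) (I : (CohB1.ProjSpace N F).IdealSheafData) (a : ℤ)
    (hI : Nonempty (ClSub.idealMod I ≅ Twist.twistProjSpace N F a)) (m : ℤ) :
    (∀ p, Module.Finite F (Coh.HH (CohB1.ProjSpace N F)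
      (CohB1.tensorMod (ClSub.quotMod I) (Twist.twistProjSpace N F m)) p)) ∧
    (∀ p, p ≠ 0 → p ≠ M → Subsingleton (Coh.HH (CohB1.ProjSpace N F)
      (CohB1.tensorMod (ClSub.quotMod I) (Twist.twistProjSpace N F m)) p)) ∧
    (1 ≤ M →
      Module.finrank F (Coh.HH (CohB1.ProjSpace N F)
        (CohB1.tensorMod (ClSub.quotMod I) (Twist.twistProjSpace N F m)) 0) +
          h0 M (a + m) = h0 M m ∧
      Module.finrank F (Coh.HH (CohB1.ProjSpace N F)
        (CohB1.tensorMod (ClSub.quotMod I) (Twist.twistProjSpace N F m)) M) +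
          hT M m = hT M (a + m)) ∧
    (M = 0 →
      Module.finrank F (Coh.HH (CohB1.ProjSpace N F)
        (CohB1.tensorMod (ClSub.quotMod I) (Twist.twistProjSpace N F m)) 0) +
          h0 M (a + m) + hT M m = h0 M m + hT M (a + m)) := by
  subst hN
  exact main F M I a hI m

end Groth.Agent.H95.HypMain
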