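import Groth.Agent.H95.HypMain

/-!
The hypersurface rows S19434 / S19435 in their frozen shape (helper95).
-/

set_option autoImplicit false
universe u
open CategoryTheory CategoryTheory.Limits AlgebraicGeometry

namespace Groth.Agent.H95.HypRows

open Groth.Agent.H95.HypMain

theorem s19434 (F : Type u) [Field F] (d k : ℕ)
    (hd : 1 ≤ d) (_hk : 1 ≤ k) (I : (CohB1.ProjSpace (d + 1) F).IdealSheafData)
    (hI : Nonempty (ClSub.idealMod I ≅ Twist.twistProjSpace (d + 1) F (-(k : ℤ)))) (n : ℤ) :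
    (∀ p : ℕ, p ≠ 0 → p ≠ d →
      Subsingleton (Coh.HH (CohB1.ProjSpace (d + 1) F)
        (CohB1.tensorMod (ClSub.quotMod I) (Twist.twistProjSpace (d + 1) F n)) p)) ∧
    (Module.Finite F (Coh.HH (CohB1.ProjSpace (d + 1) F)
        (CohB1.tensorMod (ClSub.quotMod I) (Twist.twistProjSpace (d + 1) F n)) 0) ∧
      Module.finrank F (Coh.HH (CohB1.ProjSpace (d + 1) F)
        (CohB1.tensorMod (ClSub.quotMod I) (Twist.twistProjSpace (d + 1) F n)) 0) =
        (Nat.choose (n + ((d : ℤ) + 1)).toNat (d + 1) - Nat.choose (n - (k : ℤ) + ((d : ℤ) + 1)).toNat (d + 1))) ∧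
    (Module.Finite F (Coh.HH (CohB1.ProjSpace (d + 1) F)
        (CohB1.tensorMod (ClSub.quotMod I) (Twist.twistProjSpace (d + 1) F n)) d) ∧
      Module.finrank F (Coh.HH (CohB1.ProjSpace (d + 1) F)
        (CohB1.tensorMod (ClSub.quotMod I) (Twist.twistProjSpace (d + 1) F n)) d) =
        (Nat.choose (((k : ℤ) - 2 - (d : ℤ) - n) + ((d : ℤ) + 1)).toNat (d + 1) - Nat.choose (((k : ℤ) - 2 - (d : ℤ) - n) - (k : ℤ) + ((d : ℤ) + 1)).toNat (d + 1))) := by
  obtain ⟨hfin, hvan, h1, -⟩ := main F d I (-(k : ℤ)) hI n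
  obtain ⟨e0, eT⟩ := h1 hd
  have a1 : h0 d (-(k : ℤ) + n) = Nat.choose (n - (k : ℤ) + ((d : ℤ) + 1)).toNat (d + 1) := by
    unfold h0
    congr 2
    ring
  have a2 : h0 d n = Nat.choose (n + ((d : ℤ) + 1)).toNat (d + 1) := rfl
  have a3 : hT d (-(k : ℤ) + n) =
      Nat.choose (((k : ℤ) - 2 - (d : ℤ) - n) + ((d : ℤ) + 1)).toNat (d + 1) := by
    unfold hT
    congr 2
    ring
  have a4 : hT d n =
      Nat.choose (((k : ℤ) - 2 - (d : ℤ) - n) - (k : ℤ) + ((d : ℤ) + 1)).toNat (d + 1) := by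
    unfold hT
    congr 2
    ring
  refine ⟨fun p hp0 hpd => hvan p hp0 hpd, ⟨hfin 0, ?_⟩, ⟨hfin d, ?_⟩⟩
  · rw [← a1, ← a2]
    omega
  · rw [← a3, ← a4]
    omega

theorem s19435 (F : Type u) [Field F] (k : ℕ)
    (hk : 1 ≤ k) (I : (CohB1.ProjSpace 1 F).IdealSheafData)
    (hI : Nonempty (ClSub.idealMod I ≅ Twist.twistProjSpace 1 F (-(k : ℤ)))) (n : ℤ) :
    (Module.Finite F (Coh.HH (CohB1.ProjSpace 1 F)
        (CohB1.tensorMod (ClSub.quotMod I) (Twist.twistProjSpace 1 F n)) 0) ∧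
      Module.finrank F (Coh.HH (CohB1.ProjSpace 1 F)
        (CohB1.tensorMod (ClSub.quotMod I) (Twist.twistProjSpace 1 F n)) 0) =
        (Nat.choose (n + 1).toNat 1 - Nat.choose (n - (k : ℤ) + 1).toNat 1) +
        (Nat.choose ((k : ℤ) - 2 - n + 1).toNat 1 - Nat.choose ((k : ℤ) - 2 - n - (k : ℤ) + 1).toNat 1)) ∧
    (∀ p : ℕ, 1 ≤ p →
      Subsingleton (Coh.HH (CohB1.ProjSpace 1 F)
        (CohB1.tensorMod (ClSub.quotMod I) (Twist.twistProjSpace 1 F n)) p)) := by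
  obtain ⟨hfin, hvan, -, h2⟩ := main' F 0 1 rfl I (-(k : ℤ)) hI n
  have e := h2 rfl
  refine ⟨⟨hfin 0, ?_⟩, fun p hp => hvan p (by omega) (by omega)⟩
  simp only [h0, hT, Nat.choose_one_right, Nat.cast_zero, zero_add] at e
  simp only [Nat.choose_one_right]
  have e' : Module.finrank F (Coh.HH (CohB1.ProjSpace 1 F)
      (CohB1.tensorMod (ClSub.quotMod I) (Twist.twistProjSpace 1 F n)) 0) +
        (-(k : ℤ) + n + 1).toNat + (-n - 1).toNat =
      (n + 1).toNat + (-(-(k : ℤ) + n) - 1).toNat := e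
  omega

end Groth.Agent.H95.HypRows
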