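import Groth.Agent.H95.SDT2

/-!
Hypersurfaces in projective space, part 1: composition of multiplication maps, uniqueness of the
multiplier, and surjectivity of a monomorphism of twists on top cohomology over a field
(helper95).
-/

set_option autoImplicit false
universe u
open CategoryTheory CategoryTheory.Limits AlgebraicGeometry TopologicalSpace Opposite MvPolynomial

namespace Groth.Agent.H95.SD

open Groth.Agent.H18 Groth.Agent.H18.PSL Groth.Agent.H95.TopCech

variable (n : ℕ) (R : Type u) [CommRing R]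

/-- multiplication maps compose -/
theorem IsMulBy.comp {d d' d'' : ℤ}
    {φ : Twist.twistProjSpace n R d ⟶ Twist.twistProjSpace n R d'}
    {φ' : Twist.twistProjSpace n R d' ⟶ Twist.twistProjSpace n R d''}
    {q q' : MvPolynomial (Fin (n + 1)) R} (h : IsMulBy n R φ q) (h' : IsMulBy n R φ' q') :
    IsMulBy n R (φ ≫ φ') (q' * q) := by
  intro W s z
  have h1 : (φ ≫ φ').app W s = φ'.app W (φ.app W s) := rfl
  rw [h1, h' W (φ.app W s) z, h W s z, map_mul, mul_assoc]

/-- the multiplier of the zero map is zero -/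
theorem eq_zero_of_isMulBy_zero {d d' : ℤ} {k : ℕ} (hd : d' = d + k)
    {q : MvPolynomial (Fin (n + 1)) R} (hq : q ∈ CohB1.polyGrading n R k)
    (h : IsMulBy n R (0 : Twist.twistProjSpace n R d ⟶ Twist.twistProjSpace n R d') q) :
    q = 0 := by
  classical
  by_contra hne
  obtain ⟨b₀, hb₀⟩ := (MvPolynomial.support_nonempty.mpr hne)
  let e : Fin (n + 1) →₀ ℕ := Finsupp.single 0 1
  have he : 0 < e.degree := by
    rw [Finsupp.degree_single]; exact Nat.one_pos
  let a₀ : Fin (n + 1) → ℤ := fun i => if i = 0 then d else 0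
  let r : (Fin (n + 1) → ℤ) → R := Pi.single a₀ 1
  have hr : (Function.support r).Finite :=
    (Set.finite_singleton a₀).subset (by
      intro a ha
      by_contra hne'
      exact ha (Pi.single_eq_of_ne hne' _))
  have hcond : ∀ a, r a ≠ 0 → (∑ i, a i = d) ∧ ∀ i, a i < 0 → 0 < e i := by
    intro a ha
    have haa : a = a₀ := by
      by_contra hne'
      exact ha (Pi.single_eq_of_ne hne' _)
    subst haa
    refine ⟨?_, fun i hi => ?_⟩
    · simp [a₀]
    · by_cases h0 : i = 0
      · subst h0; simp [e]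
      · simp [a₀, h0] at hi
  obtain ⟨s, hs⟩ := exists_lauSect_eq n R (d := d) he (W := monoOpen n R e) rfl r hr hcond
  have key := lauSect_of_isMulBy n R hd hq h he (W := monoOpen n R e) rfl s
    (fun i => a₀ i + (b₀ i : ℤ))
  have h0 : lauSect n R d' e he (monoOpen n R e) rfl 0 (fun i => a₀ i + (b₀ i : ℤ)) = 0 :=
    congrFun (lauSect_zero n R (d := d') he (W := monoOpen n R e) rfl) _
  rw [hs] at key
  replace key : (0 : R) = ∑ b ∈ q.support, q.coeff b *
      r (fun i => a₀ i + (b₀ i : ℤ) - (b i : ℤ)) := h0.symm.trans key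
  have hterm : ∀ b ∈ q.support, q.coeff b * r (fun i => a₀ i + (b₀ i : ℤ) - (b i : ℤ)) =
      if b = b₀ then q.coeff b₀ else 0 := by
    intro b _
    by_cases hb : b = b₀
    · subst hb
      rw [if_pos rfl]
      have : (fun i => a₀ i + (b i : ℤ) - (b i : ℤ)) = a₀ := by funext i; ring
      rw [this]
      simp [r]
    · rw [if_neg hb]
      have : (fun i => a₀ i + (b₀ i : ℤ) - (b i : ℤ)) ≠ a₀ := by
        intro heq
        apply hb
        ext i
        have h3 : a₀ i + (b₀ i : ℤ) - (b i : ℤ) = a₀ i := congrFun heq i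
        omega
      show q.coeff b * (Pi.single a₀ (1 : R) : (Fin (n + 1) → ℤ) → R) _ = 0
      rw [Pi.single_eq_of_ne this, mul_zero]
  rw [Finset.sum_congr rfl hterm, Finset.sum_ite_eq' q.support b₀, if_pos hb₀] at key
  exact (MvPolynomial.mem_support_iff.mp hb₀) key.symm

end Groth.Agent.H95.SD
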