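import Groth.Agent.H95.HypSurj1
import Groth.Agent.Lead.Coh.FiniteLES

/-!
Hypersurfaces in projective space, part 2: a monomorphism of twists on `P^n_F`, `F` a field,
`n ≥ 1`, is surjective on top cohomology (helper95).
-/

set_option autoImplicit false
universe u
open CategoryTheory CategoryTheory.Limits AlgebraicGeometry TopologicalSpace Opposite MvPolynomial

namespace Groth.Agent.H95.SD

open Groth.Agent.H18 Groth.Agent.H18.PSL Groth.Agent.H95.TopCech

variable (n : ℕ) (R : Type u) [CommRing R]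

theorem HHlin_comp {F G H : (CohB1.ProjSpace n R).Modules} (φ : F ⟶ G) (ψ : G ⟶ H) (i : ℕ) :
    HHlin n R (φ ≫ ψ) i = (HHlin n R ψ i).comp (HHlin n R φ i) := by
  ext x
  exact LinearMap.congr_fun (Groth.Agent.Lead.FiniteLES.HHmap_comp φ ψ i) x

theorem HHlin_zero {F G : (CohB1.ProjSpace n R).Modules} (i : ℕ) :
    HHlin n R (0 : F ⟶ G) i = 0 := by
  ext x
  have h0 : (SheafOfModules.toSheaf (CohB1.ProjSpace n R).ringCatSheaf).map (0 : F ⟶ G) = 0 :=
    Functor.map_zero _ _ _
  change Sheaf.H.map ((SheafOfModules.toSheaf (CohB1.ProjSpace n R).ringCatSheaf).map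
    (0 : F ⟶ G)) i x = 0
  rw [h0]
  change x.comp (Abelian.Ext.mk₀ 0) (add_zero i) = 0
  rw [Abelian.Ext.mk₀_zero, Abelian.Ext.comp_zero]

theorem isMulBy_id (d : ℤ) : IsMulBy n R (𝟙 (Twist.twistProjSpace n R d)) 1 := by
  intro W s z
  rw [map_one, one_mul]
  rfl

/-- the twists on `P^n_R` are nonzero when `R` is nontrivial -/
theorem id_twist_ne_zero [Nontrivial R] (d : ℤ) :
    (𝟙 (Twist.twistProjSpace n R d)) ≠ 0 := by
  intro h
  have h1 := isMulBy_id n R d
  rw [h] at h1
  have h2 : (1 : MvPolynomial (Fin (n + 1)) R) = 0 :=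
    eq_zero_of_isMulBy_zero n R (d := d) (d' := d) (k := 0) (by simp)
      (SetLike.GradedOne.one_mem) h1
  exact one_ne_zero h2

/-- **surjectivity on top cohomology**: a monomorphism of twists on `P^n_F`, `F` a field,
`n ≥ 1`, induces a surjection on `H^n`. -/
theorem surjective_HHlin_top (F : Type u) [Field F] (hn : 1 ≤ n) {d d' : ℤ}
    (φ : Twist.twistProjSpace n F d ⟶ Twist.twistProjSpace n F d') [Mono φ] :
    Function.Surjective (HHlin n F φ n) := by
  obtain ⟨t, ht⟩ := duality_twists n F hn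
  rw [← LinearMap.dualMap_injective_iff]
  refine (injective_iff_map_eq_zero _).mpr fun ψ hψ => ?_
  have hψ' : ∀ x, ψ (HHlin n F φ n x) = 0 := fun x => LinearMap.congr_fun hψ x
  obtain ⟨φ', hφ', -⟩ := ht d' ψ
  -- `φ ≫ φ' = 0` by uniqueness
  have h1 : φ ≫ φ' = 0 := by
    obtain ⟨φ0, -, huniq⟩ := ht d 0
    have ha : φ ≫ φ' = φ0 := huniq _ (fun x => by
      rw [HHlin_comp, LinearMap.comp_apply, ← hφ', hψ' x]
      rfl)
    have hb : (0 : Twist.twistProjSpace n F d ⟶ _) = φ0 := huniq _ (fun x => by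
      rw [HHlin_zero]
      exact (map_zero t).symm)
    exact ha.trans hb.symm
  obtain ⟨k, q, hq, hk, hm⟩ := exists_isMulBy n F hn φ
  obtain ⟨k', q', hq', hk', hm'⟩ := exists_isMulBy n F hn φ'
  have hqne : q ≠ 0 := by
    rintro rfl
    have hφ0 : φ = 0 := hom_ext_of_isMulBy n F hm (isMulBy_zero n F)
    have : 𝟙 (Twist.twistProjSpace n F d) = 0 := by
      rw [← cancel_mono φ, Category.id_comp, zero_comp, hφ0]
    exact id_twist_ne_zero n F d this
  have hφ'0 : φ' = 0 := by
    rcases hk' with hk' | rfl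
    · have hk0 : (k : ℤ) = d' - d := by
        rcases hk with h | h
        · exact h
        · exact absurd h hqne
      have hcomp := IsMulBy.comp n F hm hm'
      rw [h1] at hcomp
      have hmul : q' * q = 0 :=
        eq_zero_of_isMulBy_zero n F (k := k' + k) (by push_cast; omega)
          (SetLike.mul_mem_graded hq' hq) hcomp
      have hq'0 : q' = 0 := (mul_eq_zero.mp hmul).resolve_right hqne
      rw [hq'0] at hm'
      exact hom_ext_of_isMulBy n F hm' (isMulBy_zero n F)
    · exact hom_ext_of_isMulBy n F hm' (isMulBy_zero n F)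
  ext x
  rw [hφ' x, hφ'0, HHlin_zero]
  exact map_zero t

end Groth.Agent.H95.SD
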