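import Mathlib
import Groth.Agent.H13.PBasisKaehler

/-! For `L^p ⊆ K ⊆ L` the map `L ⊗_K Ω_{K/L^p} → Ω_{L/L^p}` is injective. -/

set_option autoImplicit false
universe u

namespace Groth.Agent.H95.ImperfVanish

open EGA41 KaehlerDifferential Groth.Agent.H13

theorem main (p : ℕ) [Fact p.Prime] {R K L : Type u} [Field R] [Field K] [Field L]
    [Algebra R K] [Algebra K L] [Algebra R L] [IsScalarTower R K L] [CharP L p]
    (hR : Set.range (algebraMap R L) = Set.range fun y : L => y ^ p) :
    Function.Injective (KaehlerDifferential.mapBaseChange R K L) := by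
  classical
  have hcK : CharP K p := (RingHom.charP_iff (algebraMap K L) (algebraMap K L).injective p).2 inferInstance
  obtain ⟨T, -, -, hT⟩ := PB.exists_isPBasis_between (k := R) (K := K) p Set.univ ∅
    (Set.empty_subset _) (PB.isPGenerating_univ p) (PB.isPIndependent_empty p)
  obtain ⟨b, hb⟩ := PB.exists_basis_kaehler_of_isPBasis p (Subtype.val : T → K) hT
  let x : T → L := fun t => algebraMap K L t
  have hxind : IsPIndependent p R x := by
    rw [PB.isPIndependent_iff_notMem_adjoin]
    intro a ha
    have hT' := (PB.isPIndependent_iff_notMem_adjoin p (Subtype.val : T → K)).1 hT.1 a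
    apply hT'
    have hle : IntermediateField.adjoin R ((Set.range fun y : L => y ^ p) ∪ x '' {b | b ≠ a}) ≤
        (IntermediateField.adjoin R ((Subtype.val : T → K) '' {b | b ≠ a})).map
          (IsScalarTower.toAlgHom R K L) := by
      rw [IntermediateField.adjoin_le_iff]
      rintro y (⟨z, rfl⟩ | ⟨t, ht, rfl⟩)
      · have hz : z ^ p ∈ Set.range (algebraMap R L) := hR ▸ ⟨z, rfl⟩
        obtain ⟨r, hr⟩ := hz
        change z ^ p ∈ _
        rw [← hr]
        exact IntermediateField.algebraMap_mem _ r
      · exact ⟨t, IntermediateField.subset_adjoin _ _ ⟨t, ht, rfl⟩, rfl⟩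
    obtain ⟨w, hw, hwa⟩ := hle ha
    have hwa' : w = (a : K) := (algebraMap K L).injective hwa
    rw [hwa'] at hw
    exact IntermediateField.adjoin.mono _ _ _ Set.subset_union_right hw
  have hLI := PB.linearIndependent_D_of_isPIndependent p x hxind
  apply LinearMap.injective_of_linearIndependent (v := b.baseChange L) (b.baseChange L).span_eq
  have heq : (⇑(KaehlerDifferential.mapBaseChange R K L) ∘ ⇑(b.baseChange L)) =
      fun t : T => D R L (x t) := by
    funext t
    simp [hb, x]
  rw [heq]
  exact hLI

end Groth.Agent.H95.ImperfVanish
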