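import Mathlib

namespace Groth.Agent.H95.KaehlerInsep

open Polynomial KaehlerDifferential TensorProduct

universe u
variable (k E : Type u) [Field k] [Field E] [Algebra k E] (P : E[X]) [Fact (Irreducible P)]

theorem span_D_root :
    Submodule.span (AdjoinRoot P) {D E (AdjoinRoot P) (AdjoinRoot.root P)} = ⊤ := by
  set N := Submodule.span (AdjoinRoot P) {D E (AdjoinRoot P) (AdjoinRoot.root P)} with hN
  let D' : Derivation E (AdjoinRoot P) (Ω[AdjoinRoot P⁄E] ⧸ N) :=
    N.mkQ.compDer (D E (AdjoinRoot P))
  have h0 : D' = 0 := by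
    apply Derivation.ext_of_adjoin_eq_top {AdjoinRoot.root P} AdjoinRoot.adjoinRoot_eq_top
    intro x hx
    rw [Set.mem_singleton_iff] at hx
    subst hx
    change N.mkQ (D E (AdjoinRoot P) (AdjoinRoot.root P)) = 0
    rw [Submodule.mkQ_apply, Submodule.Quotient.mk_eq_zero]
    exact Submodule.subset_span rfl
  rw [eq_top_iff, ← span_range_derivation E (AdjoinRoot P), Submodule.span_le]
  rintro _ ⟨x, rfl⟩
  have : D' x = 0 := by rw [h0]; rfl
  change N.mkQ (D E (AdjoinRoot P) x) = 0 at this
  rwa [Submodule.mkQ_apply, Submodule.Quotient.mk_eq_zero] at this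

theorem not_separable (hP : Polynomial.derivative P = 0) :
    ¬ Algebra.IsSeparable E (AdjoinRoot P) := by
  intro h
  have hirr : Irreducible P := Fact.out
  have h1 : (minpoly E (AdjoinRoot.root P)).Separable := Algebra.IsSeparable.isSeparable E _
  rw [AdjoinRoot.minpoly_root hirr.ne_zero] at h1
  have h2 : P.Separable := h1.of_mul_left
  exact (Polynomial.separable_iff_derivative_ne_zero hirr).mp h2 hP

instance finite_adjoinRoot : Module.Finite E (AdjoinRoot P) :=
  (AdjoinRoot.powerBasis (Fact.out : Irreducible P).ne_zero).finite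

theorem finrank_kaehler_self (hP : Polynomial.derivative P = 0) :
    Module.finrank (AdjoinRoot P) (Ω[AdjoinRoot P⁄E]) = 1 := by
  apply le_antisymm
  · have h := span_D_root E P
    rw [← finrank_top (AdjoinRoot P) (Ω[AdjoinRoot P⁄E]), ← h]
    exact (finrank_span_le_card _).trans (by simp)
  · rw [Nat.one_le_iff_ne_zero, Ne, Module.finrank_eq_zero_iff_of_free]
    · intro hsub
      apply not_separable E P hP
      have : Algebra.FormallyUnramified E (AdjoinRoot P) := ⟨hsub⟩
      exact Algebra.FormallyUnramified.isSeparable E (AdjoinRoot P)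

noncomputable def ext : Algebra.Extension.{u} E (AdjoinRoot P) :=
  Algebra.Extension.ofSurjective (AdjoinRoot.mkₐ P) AdjoinRoot.mk_surjective

theorem ext_ker : (ext E P).ker = Ideal.span {P} := by
  ext g
  have : ∀ g : E[X], AdjoinRoot.mk P g = 0 ↔ g ∈ Ideal.span {P} := fun g => by
    rw [AdjoinRoot.mk_eq_zero, Ideal.mem_span_singleton]
  exact this g

instance : Algebra.FormallySmooth E (ext E P).Ring :=
  inferInstanceAs (Algebra.FormallySmooth E E[X])

theorem ext_span : Ideal.span (Set.range (fun _ : Unit => (P : (ext E P).Ring))) =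
    (ext E P).ker := by
  rw [ext_ker]; congr 1; ext; simp

theorem finrank_cotangent_le : Module.finrank (AdjoinRoot P) (ext E P).Cotangent ≤ 1 := by
  have h := Algebra.Extension.Cotangent.span_eq_top_of_span_eq_ker (P := ext E P)
    (fun _ : Unit => (P : (ext E P).Ring)) (ext_span E P)
  rw [← finrank_top (AdjoinRoot P) (ext E P).Cotangent, ← h]
  exact (finrank_range_le_card _).trans (by simp)

instance finite_cotangent : Module.Finite (AdjoinRoot P) (ext E P).Cotangent := by
  have h := Algebra.Extension.Cotangent.span_eq_top_of_span_eq_ker (P := ext E P)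
    (fun _ : Unit => (P : (ext E P).Ring)) (ext_span E P)
  exact ⟨by rw [← h]; exact Submodule.fg_span (Set.finite_range _)⟩

theorem finrank_H1_le : Module.finrank (AdjoinRoot P) (Algebra.H1Cotangent E (AdjoinRoot P)) ≤ 1 := by
  have e := (ext E P).equivH1CotangentOfFormallySmooth
  rw [← e.finrank_eq]
  change Module.finrank (AdjoinRoot P) ↥(LinearMap.ker (ext E P).cotangentComplex) ≤ 1
  exact (Submodule.finrank_le _).trans (finrank_cotangent_le E P)

theorem main (hP : Polynomial.derivative P = 0) [Module.Finite E (Ω[E⁄k])] :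
    Module.finrank (AdjoinRoot P) (Ω[AdjoinRoot P⁄E]) = 1 ∧
      Module.finrank E (Ω[E⁄k]) ≤ Module.finrank (AdjoinRoot P) (Ω[AdjoinRoot P⁄k]) ∧
      Module.finrank (AdjoinRoot P) (Ω[AdjoinRoot P⁄k]) ≤ Module.finrank E (Ω[E⁄k]) + 1 := by
  have h1 := finrank_kaehler_self E P hP
  refine ⟨h1, ?_⟩
  set K := AdjoinRoot P
  set f := mapBaseChange k E K with hf
  set g := KaehlerDifferential.map k E K K with hg
  have hgs : Function.Surjective g := KaehlerDifferential.map_surjective k E K
  have hex : Function.Exact f g := exact_mapBaseChange_map k E K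
  have hex2 : Function.Exact (Algebra.H1Cotangent.δ k E K) f :=
    Algebra.H1Cotangent.exact_δ_mapBaseChange k E K
  have hker : LinearMap.ker g = LinearMap.range f := (LinearMap.exact_iff.mp hex)
  have hker2 : LinearMap.ker f = LinearMap.range (Algebra.H1Cotangent.δ k E K) :=
    (LinearMap.exact_iff.mp hex2)
  have hfinT : Module.Finite K (K ⊗[E] Ω[E⁄k]) := inferInstance
  have hfin : Module.Finite K (Ω[K⁄k]) := by
    have : Module.Finite K (LinearMap.ker g) := by rw [hker]; infer_instance
    have : Module.Finite K (Ω[K⁄k] ⧸ LinearMap.ker g) :=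
      Module.Finite.equiv (LinearMap.quotKerEquivOfSurjective g hgs).symm
    exact Module.Finite.of_submodule_quotient (LinearMap.ker g)
  have r1 := LinearMap.finrank_range_add_finrank_ker g
  have r2 := LinearMap.finrank_range_add_finrank_ker f
  rw [LinearMap.range_eq_top.mpr hgs, finrank_top, h1, hker] at r1
  have hT : Module.finrank K (K ⊗[E] Ω[E⁄k]) = Module.finrank E (Ω[E⁄k]) :=
    Module.finrank_baseChange
  rw [hT, hker2] at r2
  have hH : Module.finrank K (LinearMap.range (Algebra.H1Cotangent.δ k E K)) ≤ 1 := by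
    have : Module.Finite K (Algebra.H1Cotangent E K) := by
      have e := (ext E P).equivH1CotangentOfFormallySmooth
      have : Module.Finite K (ext E P).H1Cotangent :=
        inferInstanceAs (Module.Finite K ↥(LinearMap.ker (ext E P).cotangentComplex))
      exact Module.Finite.equiv e
    exact (LinearMap.finrank_range_le _).trans (finrank_H1_le E P)
  change _ ≤ Module.finrank K (Ω[K⁄k]) ∧ Module.finrank K (Ω[K⁄k]) ≤ _
  omega

end Groth.Agent.H95.KaehlerInsep
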