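import Mathlib
import Groth.Agent.H13.PBasisKaehler

/-! `ds = 0` in absolute differentials of a normal domain of char `p` forces `s` to be a `p`-th power. -/

set_option autoImplicit false
universe u

namespace Groth.Agent.H95.KaehlerPth

/-- Field case: `D_ℤ s = 0` in `Ω_{K/ℤ}` implies `s` is a `p`-th power. -/
theorem field_case (p : ℕ) [Fact p.Prime] {K : Type u} [Field K] [CharP K p] (s : K)
    (h1 : KaehlerDifferential.D ℤ K s = 0) : ∃ b : K, b ^ p = s := by
  classical
  have h2 : KaehlerDifferential.D (⊥ : Subfield K) K s = 0 := by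
    have := congrArg (KaehlerDifferential.map ℤ (⊥ : Subfield K) K K) h1
    simpa [KaehlerDifferential.map_D] using this
  have h3 := (Groth.Agent.H13.PB.mem_adjoin_iff_D_mem_span
    (k := (⊥ : Subfield K)) p (∅ : Set K) s).mpr (by
      rw [Set.image_empty, Submodule.span_empty, h2]; exact Submodule.zero_mem _)
  rw [Algebra.adjoin_empty] at h3
  obtain ⟨c, hc⟩ := Algebra.mem_bot.mp h3
  have hc2 : (c : K) = s := hc
  have key : ∀ y ∈ EGA41.pPowerSubalgebra p (⊥ : Subfield K) K, ∃ b : K, b ^ p = y := by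
    intro y hy
    unfold EGA41.pPowerSubalgebra at hy
    induction hy using Algebra.adjoin_induction with
    | mem y hy =>
      obtain ⟨b, rfl⟩ := hy
      exact ⟨b, rfl⟩
    | algebraMap c =>
      refine ⟨(c : K), ?_⟩
      exact (Subfield.mem_bot_iff_pow_eq_self K p).1 c.2
    | add x y _ _ hx hy =>
      obtain ⟨b1, rfl⟩ := hx
      obtain ⟨b2, rfl⟩ := hy
      exact ⟨b1 + b2, add_pow_char b1 b2 p⟩
    | mul x y _ _ hx hy =>
      obtain ⟨b1, rfl⟩ := hx
      obtain ⟨b2, rfl⟩ := hy
      exact ⟨b1 * b2, mul_pow b1 b2 p⟩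
  obtain ⟨b, hb⟩ := key c c.2
  exact ⟨b, hb.trans hc2⟩

theorem main (p : ℕ) [Fact p.Prime] {A K : Type u} [CommRing A] [IsDomain A]
    [IsIntegrallyClosed A] [CharP A p] [Field K] [Algebra A K] [IsFractionRing A K] (s : A)
    (hs : KaehlerDifferential.D ℤ A s = 0) : ∃ f : A, f ^ p = s := by
  have hcK : CharP K p := charP_of_injective_algebraMap (IsFractionRing.injective A K) p
  have h1 : KaehlerDifferential.D ℤ K (algebraMap A K s) = 0 := by
    have := congrArg (KaehlerDifferential.map ℤ ℤ A K) hs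
    simpa [KaehlerDifferential.map_D] using this
  obtain ⟨b, hb⟩ := field_case p (algebraMap A K s) h1
  have hint : IsIntegral A b := by
    refine ⟨Polynomial.X ^ p - Polynomial.C s,
      Polynomial.monic_X_pow_sub_C s (Fact.out : p.Prime).ne_zero, ?_⟩
    simp [hb]
  obtain ⟨f, hf⟩ := (IsIntegrallyClosed.isIntegral_iff (K := K)).mp hint
  refine ⟨f, IsFractionRing.injective A K ?_⟩
  rw [map_pow, hf, hb]

end Groth.Agent.H95.KaehlerPth
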