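import Mathlib
set_option autoImplicit false
universe u
open Polynomial Finset

namespace Groth.Agent.H95.KummerAS


/-- In a domain of characteristic zero with a primitive `p`-th root of unity `ζ`,
`p = ∏_{i<p-1} (1 - ζ^(i+1))`. -/
theorem prod_one_sub_pow {D : Type*} [CommRing D] [IsDomain D] (p : ℕ) (hp : p.Prime) (ζ : D)
    (hζ : IsPrimitiveRoot ζ p) : (p : D) = ∏ i ∈ range (p - 1), (1 - ζ ^ (i + 1)) := by
  have h1 := X_pow_sub_C_eq_prod hζ hp.pos (one_pow p)
  have hp1 : p = (p - 1) + 1 := (Nat.succ_pred_eq_of_pos hp.pos).symm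
  rw [hp1, Finset.prod_range_succ'] at h1
  simp only [pow_zero, mul_one, map_one] at h1
  have h2 : (∑ j ∈ range p, (X : D[X]) ^ j) * (X - 1) = X ^ p - 1 := geom_sum_mul X p
  rw [← hp1] at h1
  have h3 : (∑ j ∈ range p, (X : D[X]) ^ j) = ∏ i ∈ range (p - 1), (X - C (ζ ^ (i + 1))) := by
    have hne : (X - 1 : D[X]) ≠ 0 := X_sub_C_ne_zero 1
    apply mul_right_cancel₀ hne
    rw [h2]
    simpa using h1
  have h4 := congrArg (Polynomial.eval 1) h3
  simp only [eval_finsetSum, eval_pow, eval_X, one_pow, sum_const, card_range, nsmul_eq_mul,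
    mul_one, eval_prod, eval_sub, eval_C] at h4
  exact h4



theorem wilson_int (p : ℕ) (hp : p.Prime) : ∃ m : ℤ, (((p - 1).factorial : ℕ) : ℤ) + 1 = p * m := by
  have := Fact.mk hp
  have h := ZMod.wilsons_lemma (p := p)
  have h2 : (((((p - 1).factorial : ℕ) : ℤ) + 1 : ℤ) : ZMod p) = 0 := by
    push_cast
    rw [h]; ring
  rw [ZMod.intCast_zmod_eq_zero_iff_dvd] at h2
  obtain ⟨m, hm⟩ := h2
  exact ⟨m, hm⟩

theorem exists_u {D : Type*} [CommRing D] [IsDomain D] (p : ℕ) (hp : p.Prime) (ζ : D)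
    (hζ : IsPrimitiveRoot ζ p) :
    ∃ u t : D, (p : D) = u * (1 - ζ) ^ (p - 1) ∧ u + 1 = (1 - ζ) * t := by
  set u : D := ∏ i ∈ range (p - 1), ∑ j ∈ range (i + 1), ζ ^ j with hu
  have h1 : (p : D) = u * (1 - ζ) ^ (p - 1) := by
    have hc : (1 - ζ) ^ (p - 1) = ∏ _i ∈ range (p - 1), (1 - ζ) := by
      rw [Finset.prod_const, Finset.card_range]
    rw [prod_one_sub_pow p hp ζ hζ, hu, hc, ← Finset.prod_mul_distrib]
    refine Finset.prod_congr rfl (fun i _ => ?_)
    rw [mul_comm, mul_neg_geom_sum]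
  refine ⟨u, ?_⟩
  have hp1 : 1 ≤ p - 1 := by have := hp.two_le; omega
  set I : Ideal D := Ideal.span {1 - ζ} with hI
  have hζ1 : Ideal.Quotient.mk I ζ = 1 := by
    have : Ideal.Quotient.mk I (1 - ζ) = 0 :=
      Ideal.Quotient.eq_zero_iff_mem.mpr (Ideal.mem_span_singleton_self _)
    rw [map_sub, map_one, sub_eq_zero] at this
    exact this.symm
  have hmku : Ideal.Quotient.mk I u = (((p - 1).factorial : ℕ) : D ⧸ I) := by
    rw [hu, map_prod, ← Finset.prod_range_add_one_eq_factorial, Nat.cast_prod]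
    refine Finset.prod_congr rfl (fun i _ => ?_)
    rw [map_sum]
    simp [hζ1]
  have hmkp : Ideal.Quotient.mk I (p : D) = 0 := by
    rw [h1, map_mul, map_pow]
    have : Ideal.Quotient.mk I (1 - ζ) = 0 :=
      Ideal.Quotient.eq_zero_iff_mem.mpr (Ideal.mem_span_singleton_self _)
    rw [this, zero_pow (by omega), mul_zero]
  obtain ⟨m, hm⟩ := wilson_int p hp
  have hmem : u + 1 ∈ I := by
    rw [← Ideal.Quotient.eq_zero_iff_mem, map_add, map_one, hmku]
    have h3 := congrArg (fun z : ℤ => ((z : D ⧸ I))) hm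
    simp only [Int.cast_add, Int.cast_natCast, Int.cast_one, Int.cast_mul] at h3
    rw [h3]
    have : ((p : ℕ) : D ⧸ I) = 0 := by
      rw [← hmkp]; simp
    rw [this, zero_mul]
  rw [hI, Ideal.mem_span_singleton'] at hmem
  obtain ⟨t, ht⟩ := hmem
  exact ⟨t, h1, by rw [← ht, mul_comm]⟩



theorem sum_Ioo_zero {M : Type*} [AddCommMonoid M] (q : ℕ) (g : ℕ → M) :
    ∑ i ∈ Ioo 0 (q + 2), g i = ∑ m ∈ range q, g (m + 2) + g 1 := by
  rw [← Finset.Ico_add_one_left_eq_Ioo, Finset.sum_Ico_eq_sum_range]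
  have : q + 2 - (0 + 1) = q + 1 := by omega
  rw [this, Finset.sum_range_succ']
  simp [add_comm, add_left_comm]

theorem exists_P {D : Type*} [CommRing D] (p : ℕ) (hp : p.Prime) (w u t : D)
    (h1 : (p : D) = u * w ^ (p - 1)) (h2 : u + 1 = w * t) :
    ∃ a : ℕ → D, (∀ i, w ∣ a i) ∧
      C (w ^ p) * (X ^ p - X + ∑ i ∈ Ioo 0 p, C (a i) * X ^ i) = (1 + C w * X) ^ p - 1 := by
  obtain ⟨q, rfl⟩ : ∃ q, p = q + 2 := ⟨p - 2, by have := hp.two_le; omega⟩
  have h1' : ((q + 2 : ℕ) : D) = u * w ^ (q + 1) := by simpa using h1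
  refine ⟨fun i => if i = 1 then u + 1 else (((q + 2).choose i / (q + 2) : ℕ) : D) * u * w ^ (i - 2) * w,
    ?_, ?_⟩
  · intro i
    by_cases hi : i = 1
    · simp only [hi, if_true]; exact ⟨t, h2⟩
    · simp only [hi, if_false]; exact dvd_mul_left _ _
  · rw [sum_Ioo_zero, add_comm (1 : D[X]) (C w * X), add_pow, Finset.sum_range_succ,
      Finset.sum_range_succ', Finset.sum_range_succ']
    simp only [if_true, one_pow, mul_one, pow_zero, Nat.choose_zero_right, Nat.cast_one,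
      Nat.choose_self, pow_one, Nat.choose_one_right]
    have hterm : ∀ m ∈ range q, C (w ^ (q + 2)) * (C (if m + 2 = 1 then u + 1 else
        (((q + 2).choose (m + 2) / (q + 2) : ℕ) : D) * u * w ^ (m + 2 - 2) * w) * X ^ (m + 2)) =
        (C w * X) ^ (m + 2) * (((q + 2).choose (m + 2) : ℕ) : D[X]) := by
      intro m hm
      have hm' : m < q := Finset.mem_range.mp hm
      have hne : ¬ (m + 2 = 1) := by omega
      have hdvd : (q + 2) ∣ (q + 2).choose (m + 2) :=
        hp.dvd_choose_self (by omega) (by omega)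
      obtain ⟨c, hc⟩ := hdvd
      have hc' : (q + 2).choose (m + 2) / (q + 2) = c := by
        rw [hc]; exact Nat.mul_div_cancel_left c (by omega)
      simp only [hne, if_false, hc']
      rw [hc, mul_pow, ← C_pow, ← map_natCast (C : D →+* D[X]), Nat.cast_mul, h1']
      simp only [Nat.add_sub_cancel]
      rw [← mul_assoc, ← C_mul, mul_right_comm _ (X ^ (m + 2)), ← C_mul]
      congr 2
      ring
    have hsum := Finset.sum_congr rfl hterm
    rw [← Finset.mul_sum] at hsum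
    have hX : C (w ^ (q + 2)) * (-X + C (u + 1) * X) = C w * X * ((q + 2 : ℕ) : D[X]) := by
      rw [← map_natCast (C : D →+* D[X]), h1']
      have : (-X + C (u + 1) * X : D[X]) = C u * X := by
        rw [map_add, map_one]; ring
      rw [this, ← mul_assoc, ← C_mul, mul_right_comm, ← C_mul]
      congr 2
      ring
    have hpow : C (w ^ (q + 2)) * X ^ (q + 2) = (C w * X) ^ (q + 2) := by
      rw [mul_pow, C_pow]
    calc C (w ^ (q + 2)) * (X ^ (q + 2) - X + (∑ m ∈ range q, C (if m + 2 = 1 then u + 1 else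
            (((q + 2).choose (m + 2) / (q + 2) : ℕ) : D) * u * w ^ (m + 2 - 2) * w) * X ^ (m + 2) +
            C (u + 1) * X))
        = C (w ^ (q + 2)) * X ^ (q + 2) + C (w ^ (q + 2)) * (∑ m ∈ range q, C (if m + 2 = 1 then u + 1 else
            (((q + 2).choose (m + 2) / (q + 2) : ℕ) : D) * u * w ^ (m + 2 - 2) * w) * X ^ (m + 2)) +
            C (w ^ (q + 2)) * (-X + C (u + 1) * X) := by ring
      _ = _ := by
        rw [hsum, hX, hpow]
        simp only [zero_add, Nat.choose_one_right]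
        ring



theorem FE {D : Type*} [CommRing D] [IsDomain D] (p : ℕ) (w : D) (hw : w ≠ 0) (P : D[X])
    (hP : C (w ^ p) * P = (1 + C w * X) ^ p - 1) :
    aeval (MvPolynomial.X 0 + MvPolynomial.X 1 +
        MvPolynomial.C w * MvPolynomial.X 0 * MvPolynomial.X 1 : MvPolynomial (Fin 2) D) P =
      aeval (MvPolynomial.X 0 : MvPolynomial (Fin 2) D) P +
        aeval (MvPolynomial.X 1 : MvPolynomial (Fin 2) D) P +
        MvPolynomial.C (w ^ p) * aeval (MvPolynomial.X 0 : MvPolynomial (Fin 2) D) P *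
          aeval (MvPolynomial.X 1 : MvPolynomial (Fin 2) D) P := by
  have hE : ∀ z : MvPolynomial (Fin 2) D,
      MvPolynomial.C (w ^ p) * aeval z P = (1 + MvPolynomial.C w * z) ^ p - 1 := by
    intro z
    have := congrArg (aeval z) hP
    simpa [MvPolynomial.algebraMap_eq] using this
  have hne : (MvPolynomial.C (w ^ p) : MvPolynomial (Fin 2) D) ≠ 0 := by
    rw [Ne, MvPolynomial.C_eq_zero]
    exact pow_ne_zero _ hw
  apply mul_left_cancel₀ hne
  have e0 := hE (MvPolynomial.X 0)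
  have e1 := hE (MvPolynomial.X 1)
  have e2 := hE (MvPolynomial.X 0 + MvPolynomial.X 1 +
        MvPolynomial.C w * MvPolynomial.X 0 * MvPolynomial.X 1)
  have hfac : (1 + MvPolynomial.C w * (MvPolynomial.X 0 + MvPolynomial.X 1 +
        MvPolynomial.C w * MvPolynomial.X 0 * MvPolynomial.X 1) : MvPolynomial (Fin 2) D) =
      (1 + MvPolynomial.C w * MvPolynomial.X 0) * (1 + MvPolynomial.C w * MvPolynomial.X 1) := by
    ring
  rw [hfac, mul_pow] at e2
  rw [e2]
  have : MvPolynomial.C (w ^ p) * (aeval (MvPolynomial.X 0 : MvPolynomial (Fin 2) D) P +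
        aeval (MvPolynomial.X 1 : MvPolynomial (Fin 2) D) P +
        MvPolynomial.C (w ^ p) * aeval (MvPolynomial.X 0 : MvPolynomial (Fin 2) D) P *
          aeval (MvPolynomial.X 1 : MvPolynomial (Fin 2) D) P) =
      MvPolynomial.C (w ^ p) * aeval (MvPolynomial.X 0 : MvPolynomial (Fin 2) D) P +
      MvPolynomial.C (w ^ p) * aeval (MvPolynomial.X 1 : MvPolynomial (Fin 2) D) P +
      (MvPolynomial.C (w ^ p) * aeval (MvPolynomial.X 0 : MvPolynomial (Fin 2) D) P) *
      (MvPolynomial.C (w ^ p) * aeval (MvPolynomial.X 1 : MvPolynomial (Fin 2) D) P) := by ring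
  rw [this, e0, e1]
  ring

/-- transfer of the functional equation along `φ : D →+* A` to any `A`-algebra `S`. -/
theorem FE_transfer {D A S : Type*} [CommRing D] [CommRing A] [CommRing S] [Algebra A S]
    (φ : D →+* A) (p : ℕ) (w : D) (P : D[X])
    (hFE : aeval (MvPolynomial.X 0 + MvPolynomial.X 1 +
        MvPolynomial.C w * MvPolynomial.X 0 * MvPolynomial.X 1 : MvPolynomial (Fin 2) D) P =
      aeval (MvPolynomial.X 0 : MvPolynomial (Fin 2) D) P +
        aeval (MvPolynomial.X 1 : MvPolynomial (Fin 2) D) P +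
        MvPolynomial.C (w ^ p) * aeval (MvPolynomial.X 0 : MvPolynomial (Fin 2) D) P *
          aeval (MvPolynomial.X 1 : MvPolynomial (Fin 2) D) P) (z₁ z₂ : S) :
    aeval (z₁ + z₂ + algebraMap A S (φ w) * z₁ * z₂) (P.map φ) =
      aeval z₁ (P.map φ) + aeval z₂ (P.map φ) +
        algebraMap A S ((φ w) ^ p) * aeval z₁ (P.map φ) * aeval z₂ (P.map φ) := by
  set g : D →+* S := (algebraMap A S).comp φ with hg
  set ψ : MvPolynomial (Fin 2) D →+* S := MvPolynomial.eval₂Hom g ![z₁, z₂] with hψ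
  have hψC : ∀ d : D, ψ (MvPolynomial.C d) = g d := fun d => MvPolynomial.eval₂Hom_C _ _ d
  have hψ0 : ψ (MvPolynomial.X 0) = z₁ := by simp [hψ]
  have hψ1 : ψ (MvPolynomial.X 1) = z₂ := by simp [hψ]
  have key : ∀ q : MvPolynomial (Fin 2) D, ψ (aeval q P) = aeval (ψ q) (P.map φ) := by
    intro q
    rw [aeval_def, aeval_def, Polynomial.hom_eval₂, Polynomial.eval₂_map]
    congr 1
    ext d
    simp [MvPolynomial.algebraMap_eq, hψC, hg]
  have := congrArg ψ hFE
  simp only [map_add, map_mul, key, hψ0, hψ1, hψC, map_pow] at this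
  simpa [hg] using this


theorem main (p : ℕ) (hp : p.Prime) (A : Type u) [CommRing A] (ζ : A)
    (hζ : aeval ζ (cyclotomic p ℤ) = 0) :
    ∃ P : A[X], C ((1 - ζ) ^ p) * P = (1 + C (1 - ζ) * X) ^ p - 1 ∧
      (∃ a : ℕ → A, (∀ i, a i ∈ Ideal.span {1 - ζ}) ∧
        P = X ^ p - X + (Finset.Ioo 0 p).sum (fun i => C (a i) * X ^ i)) ∧
      ∀ (S : Type u) [CommRing S] [Algebra A S] (z₁ z₂ : S),
        aeval (z₁ + z₂ + algebraMap A S (1 - ζ) * z₁ * z₂) P =
          aeval z₁ P + aeval z₂ P + algebraMap A S ((1 - ζ) ^ p) * aeval z₁ P * aeval z₂ P := by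
  have hprime : Prime (cyclotomic p ℤ) := (cyclotomic.irreducible hp.pos).prime
  have hdom : IsDomain (AdjoinRoot (cyclotomic p ℤ)) := AdjoinRoot.isDomain_of_prime hprime
  have hinj : Function.Injective (AdjoinRoot.of (cyclotomic p ℤ)) :=
    AdjoinRoot.of.injective_of_degree_ne_zero (degree_cyclotomic_pos p ℤ hp.pos).ne'
  have hchar : CharZero (AdjoinRoot (cyclotomic p ℤ)) := charZero_of_injective_ringHom hinj
  set ζ₀ := AdjoinRoot.root (cyclotomic p ℤ) with hζ₀
  have hroot : IsRoot (cyclotomic p (AdjoinRoot (cyclotomic p ℤ))) ζ₀ := by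
    have e := map_cyclotomic_int p (AdjoinRoot (cyclotomic p ℤ))
    rw [IsRoot.def, ← e, eval_map]
    have hof : Int.castRingHom (AdjoinRoot (cyclotomic p ℤ)) = AdjoinRoot.of (cyclotomic p ℤ) :=
      RingHom.ext_int _ _
    rw [hof]
    exact AdjoinRoot.eval₂_root (cyclotomic p ℤ)
  have hprim : IsPrimitiveRoot ζ₀ p := (isRoot_cyclotomic_iff_charZero hp.pos).mp hroot
  obtain ⟨u, t, h1, h2⟩ := exists_u p hp ζ₀ hprim
  obtain ⟨a, ha, hP⟩ := exists_P p hp (1 - ζ₀) u t h1 h2
  have hw : (1 - ζ₀) ≠ 0 := by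
    intro h
    exact hprim.ne_one hp.one_lt (sub_eq_zero.mp h).symm
  have hFE := FE p (1 - ζ₀) hw _ hP
  have hlift : eval₂ (Int.castRingHom A) ζ (cyclotomic p ℤ) = 0 := by
    rw [← hζ, aeval_def]; rfl
  set φ : AdjoinRoot (cyclotomic p ℤ) →+* A := AdjoinRoot.lift (Int.castRingHom A) ζ hlift with hφ
  have hφζ : φ ζ₀ = ζ := AdjoinRoot.lift_root hlift
  have hφw : φ (1 - ζ₀) = 1 - ζ := by rw [map_sub, map_one, hφζ]
  refine ⟨(X ^ p - X + ∑ i ∈ Ioo 0 p, C (a i) * X ^ i).map φ, ?_, ⟨fun i => φ (a i), ?_, ?_⟩, ?_⟩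
  · have := congrArg (Polynomial.map φ) hP
    simp only [Polynomial.map_mul, Polynomial.map_sub, Polynomial.map_pow, Polynomial.map_add,
      Polynomial.map_one, map_C, map_X, map_pow, hφw] at this
    simpa [hφw] using this
  · intro i
    rw [Ideal.mem_span_singleton, ← hφw]
    exact map_dvd φ (ha i)
  · simp [Polynomial.map_sum]
  · intro S _ _ z₁ z₂
    have := FE_transfer (S := S) φ p (1 - ζ₀) _ hFE z₁ z₂
    rw [hφw] at this
    exact this

end Groth.Agent.H95.KummerAS
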