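import Mathlib

/-!
# Intermediate fields of a radical extension `K(a)`, `a ^ [L:K] ∈ K`, with enough roots of unity
-/

namespace Groth.Agent.H95.KummerSub

open IntermediateField Polynomial Module

universe u

variable {K L : Type u} [Field K] [Field L] [Algebra K L]

/-- if `K⟮a⟯ = ⊤` then `E⟮a⟯ = ⊤` for every intermediate field `E` -/
theorem adjoin_simple_eq_top_of_le (a : L) (ha : K⟮a⟯ = ⊤) (E : IntermediateField K L) :
    (E⟮a⟯ : IntermediateField E L) = ⊤ := by
  rw [eq_top_iff]
  intro x _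
  have h1 : K⟮a⟯ ≤ (E⟮a⟯ : IntermediateField E L).restrictScalars K := by
    rw [adjoin_simple_le_iff, mem_restrictScalars]
    exact mem_adjoin_simple_self E a
  have h2 : x ∈ K⟮a⟯ := by rw [ha]; trivial
  exact (mem_restrictScalars K).1 (h1 h2)

/-- the polynomial `X ^ e - C (a ^ e)` splits over `L` when `X ^ e - 1` splits over `K` -/
theorem splits_X_pow_sub_C_pow (e : ℕ) (hroots : (X ^ e - 1 : K[X]).Splits) (a : L) (ha0 : a ≠ 0) :
    (X ^ e - C (a ^ e) : L[X]).Splits := by
  have h1 : ((X ^ e - 1 : K[X]).map (algebraMap K L)).Splits := hroots.map _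
  have hinv : Invertible (C a⁻¹ * X : L[X]).leadingCoeff := by
    rw [leadingCoeff_mul, leadingCoeff_C, leadingCoeff_X, mul_one]
    exact invertibleOfNonzero (inv_ne_zero ha0)
  have h2 := (h1.comp_of_natDegree_le_one_of_invertible (g := C a⁻¹ * X)
    (by
      refine (natDegree_C_mul_le _ _).trans ?_
      exact natDegree_X_le) hinv).C_mul (a ^ e)
  have h3 : C (a ^ e) * ((X ^ e - 1 : K[X]).map (algebraMap K L)).comp (C a⁻¹ * X) =
      (X ^ e - C (a ^ e) : L[X]) := by
    simp only [Polynomial.map_sub, Polynomial.map_pow, map_X, Polynomial.map_one, sub_comp,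
      pow_comp, X_comp, one_comp, mul_pow, mul_sub, mul_one]
    rw [← mul_assoc, ← C_pow, ← C_mul, ← mul_pow, mul_inv_cancel₀ ha0, one_pow, C_1, one_mul]
  rwa [h3] at h2

/-- roots of `X ^ e - C (a ^ e)` are `K`-multiples of `a` -/
theorem div_mem_range_of_root (e : ℕ) (he : 0 < e) (hroots : (X ^ e - 1 : K[X]).Splits) (a : L)
    (ha0 : a ≠ 0) (r : L) (hr : r ^ e = a ^ e) : r / a ∈ (algebraMap K L).range := by
  have hne : (X ^ e - 1 : K[X]) ≠ 0 := by
    have := X_pow_sub_C_ne_zero he (1 : K)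
    rwa [C_1] at this
  apply hroots.mem_range_of_isRoot hne (i := algebraMap K L)
  rw [IsRoot.def, eval_map, eval₂_sub, eval₂_pow, eval₂_X, eval₂_one, div_pow, hr,
    div_self (pow_ne_zero _ ha0), sub_self]

theorem exists_pow_adjoin [FiniteDimensional K L] (a : L) (ha : K⟮a⟯ = ⊤)
    (hpow : a ^ finrank K L ∈ Set.range (algebraMap K L))
    (hroots : (X ^ finrank K L - 1 : K[X]).Splits) (L' : IntermediateField K L) :
    ∃ d : ℕ, d ∣ finrank K L ∧ L' = K⟮a ^ d⟯ := by
  set e := finrank K L with he_def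
  have he : 0 < e := finrank_pos
  by_cases ha0 : a = 0
  · -- degenerate case: `L = K`
    refine ⟨e, dvd_rfl, ?_⟩
    have htop : (⊤ : IntermediateField K L) = ⊥ := by
      rw [← ha, ha0]
      exact adjoin_zero
    have h1 : L' = ⊥ := eq_bot_iff.2 (htop ▸ le_top)
    have h2 : K⟮a ^ e⟯ = ⊥ := eq_bot_iff.2 (htop ▸ le_top)
    rw [h1, h2]
  obtain ⟨c, hc⟩ := hpow
  -- the minimal polynomial of `a` over `L'`
  let f := minpoly L' a
  have hint : IsIntegral L' a := IsIntegral.of_finite L' a
  have hfmonic : f.Monic := minpoly.monic hint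
  set d := f.natDegree with hd_def
  have hL'top := adjoin_simple_eq_top_of_le a ha L'
  have hd : d = finrank L' L := (Field.primitive_element_iff_minpoly_natDegree_eq L' a).1 hL'top
  have hd_dvd : d ∣ e := by
    rw [hd, he_def, ← finrank_mul_finrank K L' L]
    exact dvd_mul_left _ _
  have hdpos : 0 < d := hd ▸ finrank_pos
  -- `f` divides `X ^ e - C c`
  have hdvd : f ∣ (X ^ e - C (algebraMap K L' c) : L'[X]) := by
    apply minpoly.dvd
    rw [map_sub, map_pow, aeval_X, aeval_C, ← IsScalarTower.algebraMap_apply, hc, sub_self]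
  have hP : (X ^ e - C (a ^ e) : L[X]).Splits := splits_X_pow_sub_C_pow e hroots a ha0
  have hP0 : (X ^ e - C (a ^ e) : L[X]) ≠ 0 := by
    intro h
    have := congrArg natDegree h
    rw [natDegree_X_pow_sub_C, natDegree_zero] at this
    omega
  have hmapP : (X ^ e - C (algebraMap K L' c) : L'[X]).map (algebraMap L' L) =
      (X ^ e - C (a ^ e) : L[X]) := by
    rw [Polynomial.map_sub, Polynomial.map_pow, map_X, map_C, ← IsScalarTower.algebraMap_apply, hc]
  have hdvdL : f.map (algebraMap L' L) ∣ (X ^ e - C (a ^ e) : L[X]) := by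
    rw [← hmapP]
    exact Polynomial.map_dvd _ hdvd
  have hfLs : (f.map (algebraMap L' L)).Splits := hP.of_dvd hP0 hdvdL
  have hfLmonic : (f.map (algebraMap L' L)).Monic := hfmonic.map _
  have hcoeff := hfLs.coeff_zero_eq_prod_roots_of_monic hfLmonic
  rw [coeff_map, natDegree_map] at hcoeff
  set Rts := (f.map (algebraMap L' L)).roots with hRts
  have hcard : Rts.card = d := by
    rw [hRts, ← hfLs.natDegree_eq_card_roots, natDegree_map]
  have hroot_pow : ∀ r ∈ Rts, r ^ e = a ^ e := by
    intro r hr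
    have h1 : r ∈ (X ^ e - C (a ^ e) : L[X]).roots :=
      Multiset.mem_of_le (roots.le_of_dvd hP0 hdvdL) hr
    have h2 := (mem_roots hP0).1 h1
    rw [IsRoot.def, eval_sub, eval_pow, eval_X, eval_C, sub_eq_zero] at h2
    exact h2
  -- the product of the roots
  have hprod : Rts.prod = (Rts.map (fun r => r / a)).prod * a ^ d := by
    have h1 : Rts = Rts.map (fun r => r / a * a) := by
      conv_lhs => rw [← Multiset.map_id Rts]
      apply Multiset.map_congr rfl
      intro r _
      simp [div_mul_cancel₀ _ ha0]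
    conv_lhs => rw [h1]
    rw [Multiset.prod_map_mul, Multiset.map_const', Multiset.prod_replicate, hcard]
  set u := (Rts.map (fun r => r / a)).prod with hu
  have hu_mem : u ∈ (algebraMap K L).range := by
    apply Subring.multiset_prod_mem
    intro x hx
    obtain ⟨r, hr, rfl⟩ := Multiset.mem_map.1 hx
    exact div_mem_range_of_root e he hroots a ha0 r (hroot_pow r hr)
  have hu0 : u ≠ 0 := by
    apply Multiset.prod_ne_zero
    intro h0
    obtain ⟨r, hr, hr0⟩ := Multiset.mem_map.1 h0
    have hr0' : r = 0 := by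
      rcases div_eq_zero_iff.1 hr0 with h | h
      · exact h
      · exact absurd h ha0
    have := hroot_pow r hr
    rw [hr0', zero_pow (by omega)] at this
    exact pow_ne_zero _ ha0 this.symm
  -- `a ^ d ∈ L'`
  have had : a ^ d ∈ L' := by
    have h1 : a ^ d = u⁻¹ * ((-1) ^ d * algebraMap L' L (f.coeff 0)) := by
      rw [hcoeff, hprod]
      have hsq : ((-1 : L) ^ d) * ((-1) ^ d * (u * a ^ d)) = u * a ^ d := by
        rw [← mul_assoc, ← mul_pow, neg_one_mul, neg_neg, one_pow, one_mul]
      rw [hsq, ← mul_assoc, inv_mul_cancel₀ hu0, one_mul]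
    rw [h1]
    obtain ⟨u', hu'⟩ := hu_mem
    refine mul_mem ?_ (mul_mem (pow_mem (neg_mem (one_mem L')) d) (f.coeff 0).2)
    rw [← hu', ← map_inv₀]
    exact L'.algebraMap_mem _
  have hle : K⟮a ^ d⟯ ≤ L' := adjoin_simple_le_iff.2 had
  refine ⟨d, hd_dvd, (eq_of_le_of_finrank_le' hle ?_).symm⟩
  -- `[L : K(a^d)] ≤ d = [L : L']`
  set M := K⟮a ^ d⟯ with hM
  have hMtop := adjoin_simple_eq_top_of_le a ha M
  have h1 : (minpoly M a).natDegree = finrank M L :=
    (Field.primitive_element_iff_minpoly_natDegree_eq M a).1 hMtop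
  have hmem : a ^ d ∈ M := mem_adjoin_simple_self K (a ^ d)
  have h2 : minpoly M a ∣ (X ^ d - C (⟨a ^ d, hmem⟩ : M) : M[X]) := by
    apply minpoly.dvd
    rw [map_sub, map_pow, aeval_X, aeval_C]
    exact sub_self _
  have h3 : (X ^ d - C (⟨a ^ d, hmem⟩ : M) : M[X]) ≠ 0 := by
    intro h
    have := congrArg natDegree h
    rw [natDegree_X_pow_sub_C, natDegree_zero] at this
    omega
  have h4 := natDegree_le_of_dvd h2 h3
  rw [natDegree_X_pow_sub_C] at h4
  rw [← h1, ← hd]
  exact h4

end Groth.Agent.H95.KummerSub
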