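import Mathlib
import Groth.Prelude.Def_W4c4cptpiccptjacBI

set_option linter.unusedSectionVars false

namespace Groth.Agent.H95.LabGraphBI
open LabGraph
universe u
variable {V E : Type u} [Fintype V] [Fintype E] [DecidableEq V] [DecidableEq E]
  (ends : E → V × V) (w : V → ℕ)

/-- `e` crosses `Y`. -/
abbrev Crosses (e : E) (Y : Finset V) : Prop :=
  ((ends e).1 ∈ Y ∧ (ends e).2 ∉ Y) ∨ ((ends e).1 ∉ Y ∧ (ends e).2 ∈ Y)

theorem cut_eq (Y : Finset V) :
    cut ends Y = (Finset.univ.filter (fun e => Crosses ends e Y)).card := rfl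

theorem sum_endCount : ∑ v, (endCount ends Finset.univ v : ℤ) = 2 * (Fintype.card E : ℤ) := by
  unfold endCount
  push_cast
  rw [Finset.sum_comm]
  simp [Finset.sum_add_distrib]
  ring

theorem canDeg_univ : canDeg ends w Finset.univ = 2 * genus ends w - 2 := by
  unfold canDeg genus
  rw [Finset.sum_add_distrib, Finset.sum_sub_distrib, sum_endCount]
  simp [← Finset.mul_sum]
  ring

theorem endCount_of_noloop (q : V) (hnl : ∀ e : E, ends e ≠ (q, q)) :
    endCount ends Finset.univ q = cut ends {q} := by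
  unfold endCount
  rw [cut_eq, Finset.card_filter]
  refine Finset.sum_congr rfl fun e _ => ?_
  have h := hnl e
  by_cases h1 : (ends e).1 = q <;> by_cases h2 : (ends e).2 = q
  · exact absurd (Prod.ext h1 h2) h
  · simp [h1, h2]
  · simp [h1, h2]
  · simp [h1, h2]

theorem canDeg_insert_exceptional (Y : Finset V) (q : V) (hq : q ∉ Y)
    (hex : IsExceptional ends w q) : canDeg ends w (insert q Y) = canDeg ends w Y := by
  unfold canDeg
  rw [Finset.sum_insert hq, endCount_of_noloop ends q hex.2.1, hex.2.2, hex.1]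
  simp

theorem cut_insert_le (Y : Finset V) (q : V) (hq : q ∉ Y) (hcq : cut ends {q} = 2)
    (e : E) (he : ((ends e).1 ∈ Y ∧ (ends e).2 = q) ∨ ((ends e).1 = q ∧ (ends e).2 ∈ Y)) :
    cut ends (insert q Y) ≤ cut ends Y + 1 := by
  classical
  rw [cut_eq, cut_eq]
  have hsub : Finset.univ.filter (fun e => Crosses ends e (insert q Y)) ⊆
      ((Finset.univ.filter (fun e => Crosses ends e Y)) ∪
        (Finset.univ.filter (fun e => Crosses ends e {q}))).erase e := by
    intro f hf
    rw [Finset.mem_filter] at hf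
    have hf := hf.2
    rw [Finset.mem_erase, Finset.mem_union, Finset.mem_filter, Finset.mem_filter]
    refine ⟨?_, ?_⟩
    · rintro rfl
      rcases he with ⟨h1, h2⟩ | ⟨h1, h2⟩ <;> rcases hf with ⟨h3, h4⟩ | ⟨h3, h4⟩ <;>
        simp_all [Finset.mem_insert]
    · rcases hf with ⟨h3, h4⟩ | ⟨h3, h4⟩
      · rw [Finset.mem_insert, not_or] at h4
        rcases Finset.mem_insert.1 h3 with h5 | h5
        · right
          exact ⟨Finset.mem_univ _, Or.inl ⟨by simp [h5], by simpa using h4.1⟩⟩
        · left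
          exact ⟨Finset.mem_univ _, Or.inl ⟨h5, h4.2⟩⟩
      · rw [Finset.mem_insert, not_or] at h3
        rcases Finset.mem_insert.1 h4 with h5 | h5
        · right
          exact ⟨Finset.mem_univ _, Or.inr ⟨by simpa using h3.1, by simp [h5]⟩⟩
        · left
          exact ⟨Finset.mem_univ _, Or.inr ⟨h3.2, h5⟩⟩
  have hmem : e ∈ (Finset.univ.filter (fun e => Crosses ends e Y)) ∪
        (Finset.univ.filter (fun e => Crosses ends e {q})) := by
    rw [Finset.mem_union, Finset.mem_filter]
    left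
    refine ⟨Finset.mem_univ _, ?_⟩
    rcases he with ⟨h1, h2⟩ | ⟨h1, h2⟩
    · exact Or.inl ⟨h1, by rw [h2]; exact hq⟩
    · exact Or.inr ⟨by rw [h1]; exact hq, h2⟩
  have h1 := Finset.card_le_card hsub
  rw [Finset.card_erase_of_mem hmem] at h1
  have h2 := Finset.card_union_le (Finset.univ.filter (fun e => Crosses ends e Y))
    (Finset.univ.filter (fun e => Crosses ends e {q}))
  rw [← cut_eq ends {q}, hcq] at h2
  omega


theorem exists_crossing (hconn : Connected ends) (Y : Finset V) (hne : Y.Nonempty)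
    (hnu : Y ≠ Finset.univ) : ∃ e : E, Crosses ends e Y := by
  obtain ⟨a, ha⟩ := hne
  have hb : ∃ b, b ∉ Y := by
    by_contra hcon
    push Not at hcon
    exact hnu (Finset.eq_univ_iff_forall.2 hcon)
  obtain ⟨b, hb⟩ := hb
  have hpath := hconn.2 a b
  by_contra hno
  have hno : ∀ e : E, ¬ Crosses ends e Y := fun e he => hno ⟨e, he⟩
  have hall : ∀ c, Relation.ReflTransGen (Adj ends) a c → c ∈ Y := by
    intro c hc
    induction hc with
    | refl => exact ha
    | tail _ hadj ih =>
      obtain ⟨e, he | he⟩ := hadj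
      · by_contra hc'
        exact hno e (Or.inl ⟨by rw [he]; exact ih, by rw [he]; exact hc'⟩)
      · by_contra hc'
        exact hno e (Or.inr ⟨by rw [he]; exact hc', by rw [he]; exact ih⟩)
  exact hb (hall b hpath)

/-- indicator function of a vertex set -/
def ind (Z : Finset V) : V → ℤ := fun u => if u ∈ Z then 1 else 0

theorem twist_ind_empty (v : V) : twist ends (ind (∅ : Finset V)) v = 0 := by
  unfold twist ind
  simp

theorem twist_ind_univ (v : V) : twist ends (ind (Finset.univ : Finset V)) v = 0 := by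
  unfold twist ind
  simp

theorem twist_ind_term_nonpos (Z : Finset V) (p : V) (hp : p ∈ Z) (e : E) :
    (if (ends e).1 = p then ind Z (ends e).2 - ind Z (ends e).1 else 0) +
      (if (ends e).2 = p then ind Z (ends e).1 - ind Z (ends e).2 else 0) ≤ 0 := by
  have hle : ∀ u, ind Z u ≤ 1 := by
    intro u
    unfold ind
    split_ifs <;> simp
  have hp1 : ind Z p = 1 := by simp [ind, hp]
  have h1 := hle (ends e).1
  have h2 := hle (ends e).2
  split_ifs with h3 h4 h4
  · rw [h3] at h1 ⊢
    rw [h4] at h2 ⊢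
    simp
  · rw [h3, hp1]
    linarith
  · rw [h4, hp1]
    linarith
  · simp

theorem twist_ind_nonpos (Z : Finset V) (p : V) (hp : p ∈ Z) : twist ends (ind Z) p ≤ 0 := by
  unfold twist
  exact Finset.sum_nonpos fun e _ => twist_ind_term_nonpos ends Z p hp e

theorem twist_ind_le_neg_one (Z : Finset V) (p : V) (hp : p ∈ Z) (e₀ : E)
    (he₀ : ((ends e₀).1 = p ∧ (ends e₀).2 ∉ Z) ∨ ((ends e₀).2 = p ∧ (ends e₀).1 ∉ Z)) :
    twist ends (ind Z) p ≤ -1 := by
  classical
  unfold twist
  rw [← Finset.add_sum_erase _ _ (Finset.mem_univ e₀)]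
  have h1 : ∑ e ∈ Finset.univ.erase e₀,
      ((if (ends e).1 = p then ind Z (ends e).2 - ind Z (ends e).1 else 0) +
      (if (ends e).2 = p then ind Z (ends e).1 - ind Z (ends e).2 else 0)) ≤ 0 :=
    Finset.sum_nonpos fun e _ => twist_ind_term_nonpos ends Z p hp e
  have hp1 : ind Z p = 1 := by simp [ind, hp]
  have h2 : (if (ends e₀).1 = p then ind Z (ends e₀).2 - ind Z (ends e₀).1 else 0) +
      (if (ends e₀).2 = p then ind Z (ends e₀).1 - ind Z (ends e₀).2 else 0) ≤ -1 := by
    rcases he₀ with ⟨h3, h4⟩ | ⟨h3, h4⟩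
    · have h5 : (ends e₀).2 ≠ p := fun h => h4 (h ▸ hp)
      have h6 : ind Z (ends e₀).2 = 0 := by simp [ind, h4]
      rw [if_pos h3, if_neg h5, h6, h3, hp1]
      norm_num
    · have h5 : (ends e₀).1 ≠ p := fun h => h4 (h ▸ hp)
      have h6 : ind Z (ends e₀).1 = 0 := by simp [ind, h4]
      rw [if_neg h5, if_pos h3, h6, h3, hp1]
      norm_num
  linarith


theorem main (hX : IsQuasistableGraph ends w)
    (hg : 2 ≤ genus ends w) (d d' : V → ℤ)
    (hBI : SatisfiesBI ends w d)
    (hone : ∀ v : V, IsExceptional ends w v → d v = 1) (hone' : ∀ v : V, IsExceptional ends w v → d' v = 1)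
    (hstrict : ∀ Y : Finset V, Y.Nonempty → Y ≠ Finset.univ →
      2 * (canDeg ends w Finset.univ * (∑ v ∈ Y, d v) - (∑ v, d v) * canDeg ends w Y)
          = (cut ends Y : ℤ) * canDeg ends w Finset.univ →
      ∀ e : E, (((ends e).1 ∈ Y ∧ (ends e).2 ∉ Y) ∨ ((ends e).1 ∉ Y ∧ (ends e).2 ∈ Y)) →
        (IsExceptional ends w (ends e).1 ∨ IsExceptional ends w (ends e).2))
    (m : ℕ) (Z : Fin m → Finset V) (hmono : ∀ i j : Fin m, i ≤ j → Z i ⊆ Z j)
    (hext : ∀ i : Fin m, 2 * (canDeg ends w Finset.univ * (∑ v ∈ Z i, d v) - (∑ v, d v) * canDeg ends w (Z i))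
          = (cut ends (Z i) : ℤ) * canDeg ends w Finset.univ)
    (hsum : ∀ v : V, d' v = d v + ∑ i : Fin m, twist ends (fun u => if u ∈ Z i then (1 : ℤ) else 0) v) :
    d = d' := by
  classical
  by_cases hall : ∀ i, Z i = ∅ ∨ Z i = Finset.univ
  · funext v
    rw [hsum v]
    have : ∀ i : Fin m, twist ends (fun u => if u ∈ Z i then (1 : ℤ) else 0) v = 0 := by
      intro i
      rcases hall i with h | h
      · rw [h]; exact twist_ind_empty ends v
      · rw [h]; exact twist_ind_univ ends v
    simp [this]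
  · exfalso
    push Not at hall
    obtain ⟨i, hi1, hi2⟩ := hall
    set s := Finset.univ.filter (fun j : Fin m => (Z j).Nonempty) with hs
    have hsne : s.Nonempty := ⟨i, by simp [hs, hi1]⟩
    set j₀ := s.min' hsne with hj₀def
    have hj₀ : (Z j₀).Nonempty := (Finset.mem_filter.1 (Finset.min'_mem s hsne)).2
    have hmin : ∀ j, (Z j).Nonempty → Z j₀ ⊆ Z j := fun j hj =>
      hmono _ _ (Finset.min'_le s j (by simp [hs, hj]))
    have hj₀u : Z j₀ ≠ Finset.univ := by
      intro h
      apply hi2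
      have := hmin i hi1
      rw [h] at this
      exact Finset.univ_subset_iff.1 this
    obtain ⟨e, he⟩ := exists_crossing ends hX.1.1 (Z j₀) hj₀ hj₀u
    have hexc := hstrict (Z j₀) hj₀ hj₀u (hext j₀) e he
    have hK : 0 < canDeg ends w Finset.univ := by
      rw [canDeg_univ]
      linarith
    have caseA : ∀ p, p ∈ Z j₀ → IsExceptional ends w p →
        (((ends e).1 = p ∧ (ends e).2 ∉ Z j₀) ∨ ((ends e).2 = p ∧ (ends e).1 ∉ Z j₀)) → False := by
      intro p hp hpex hpe
      have h1 := hone p hpex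
      have h1' := hone' p hpex
      have h2 := hsum p
      have h3 : ∑ i : Fin m, twist ends (fun u => if u ∈ Z i then (1 : ℤ) else 0) p ≤ -1 := by
        rw [← Finset.add_sum_erase _ _ (Finset.mem_univ j₀)]
        have h4 : twist ends (fun u => if u ∈ Z j₀ then (1 : ℤ) else 0) p ≤ -1 :=
          twist_ind_le_neg_one ends (Z j₀) p hp e hpe
        have h5 : ∑ i ∈ Finset.univ.erase j₀,
            twist ends (fun u => if u ∈ Z i then (1 : ℤ) else 0) p ≤ 0 := by
          refine Finset.sum_nonpos fun i _ => ?_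
          rcases Finset.eq_empty_or_nonempty (Z i) with h | h
          · rw [h]
            exact (twist_ind_empty ends p).le
          · exact twist_ind_nonpos ends (Z i) p (hmin i h hp)
        linarith
      linarith
    have caseB : ∀ q, q ∉ Z j₀ → IsExceptional ends w q →
        (((ends e).1 ∈ Z j₀ ∧ (ends e).2 = q) ∨ ((ends e).1 = q ∧ (ends e).2 ∈ Z j₀)) → False := by
      intro q hq hqex hqe
      have h1 := hBI (insert q (Z j₀))
      rw [Finset.sum_insert hq, canDeg_insert_exceptional ends w (Z j₀) q hq hqex,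
        hone q hqex] at h1
      have h2 := cut_insert_le ends (Z j₀) q hq hqex.2.2 e hqe
      have h3 := hext j₀
      have h4 := le_abs_self (canDeg ends w Finset.univ * (1 + ∑ v ∈ Z j₀, d v) -
        (∑ v, d v) * canDeg ends w (Z j₀))
      have h5 : (cut ends (insert q (Z j₀)) : ℤ) ≤ (cut ends (Z j₀) : ℤ) + 1 := by
        exact_mod_cast h2
      have h6 := mul_le_mul_of_nonneg_right h5 hK.le
      nlinarith
    rcases he with ⟨h1, h2⟩ | ⟨h1, h2⟩
    · rcases hexc with hx | hx
      · exact caseA _ h1 hx (Or.inl ⟨rfl, h2⟩)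
      · exact caseB _ h2 hx (Or.inl ⟨h1, rfl⟩)
    · rcases hexc with hx | hx
      · exact caseB _ h1 hx (Or.inr ⟨rfl, h2⟩)
      · exact caseA _ h2 hx (Or.inr ⟨rfl, h1⟩)

end Groth.Agent.H95.LabGraphBI
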