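import Mathlib
import Groth.Prelude.Def_W4c4cptpiccptjacBI
import Groth.Agent.H95.LabGraphBI

set_option linter.unusedSectionVars false

namespace Groth.Agent.H95.LabGraphBI
open LabGraph
universe u
variable {V E : Type u} [Fintype V] [Fintype E] [DecidableEq V] [DecidableEq E]
  (ends : E → V × V) (w : V → ℕ)

/-- all edges at `v` end in `W` -/
abbrev AllIn (v : V) (W : Finset V) : Prop :=
  ∀ e : E, ((ends e).1 = v → (ends e).2 ∈ W) ∧ ((ends e).2 = v → (ends e).1 ∈ W)

/-- the saturation of `W` by the vertices of `S` all of whose edges end in `W` -/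
abbrev hat (S W : Finset V) : Finset V :=
  Finset.univ.filter (fun v : V => v ∈ W ∨ (v ∈ S ∧ AllIn ends v W))

theorem cut_insert_le_of_allIn (Y : Finset V) (s : V) (hall : AllIn ends s Y) :
    cut ends (insert s Y) ≤ cut ends Y := by
  rw [cut_eq, cut_eq]
  refine Finset.card_le_card fun f hf => ?_
  rw [Finset.mem_filter] at hf ⊢
  refine ⟨Finset.mem_univ _, ?_⟩
  rcases hf.2 with ⟨h1, h2⟩ | ⟨h1, h2⟩
  · rw [Finset.mem_insert, not_or] at h2
    rcases Finset.mem_insert.1 h1 with h3 | h3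
    · exact absurd ((hall f).1 h3) h2.2
    · exact Or.inl ⟨h3, h2.2⟩
  · rw [Finset.mem_insert, not_or] at h1
    rcases Finset.mem_insert.1 h2 with h3 | h3
    · exact absurd ((hall f).2 h3) h1.2
    · exact Or.inr ⟨h1.2, h3⟩

theorem cut_erase_le (Y : Finset V) (s : V) (hs : s ∈ Y) (hcs : cut ends {s} = 2) (e₀ : E)
    (he₀ : ((ends e₀).1 = s ∧ (ends e₀).2 ∉ Y) ∨ ((ends e₀).1 ∉ Y ∧ (ends e₀).2 = s)) :
    cut ends (Y.erase s) ≤ cut ends Y := by
  classical
  rw [cut_eq, cut_eq]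
  have hsub : Finset.univ.filter (fun e => Crosses ends e (Y.erase s)) ⊆
      ((Finset.univ.filter (fun e => Crosses ends e Y)) ∪
        (Finset.univ.filter (fun e => Crosses ends e {s}))).erase e₀ := by
    intro f hf
    rw [Finset.mem_filter] at hf
    have hf := hf.2
    rw [Finset.mem_erase, Finset.mem_union, Finset.mem_filter, Finset.mem_filter]
    rcases hf with ⟨h1, h2⟩ | ⟨h1, h2⟩
    · rw [Finset.mem_erase] at h1
      rw [Finset.mem_erase, not_and_or, not_not] at h2
      refine ⟨?_, ?_⟩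
      · rintro rfl
        rcases he₀ with ⟨h3, h4⟩ | ⟨h3, h4⟩
        · exact h1.1 h3
        · exact h3 h1.2
      · rcases h2 with h2 | h2
        · right
          exact ⟨Finset.mem_univ _, Or.inr ⟨by simpa using h1.1, by simp [h2]⟩⟩
        · left
          exact ⟨Finset.mem_univ _, Or.inl ⟨h1.2, h2⟩⟩
    · rw [Finset.mem_erase] at h2
      rw [Finset.mem_erase, not_and_or, not_not] at h1
      refine ⟨?_, ?_⟩
      · rintro rfl
        rcases he₀ with ⟨h3, h4⟩ | ⟨h3, h4⟩
        · exact h4 h2.2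
        · exact h2.1 h4
      · rcases h1 with h1 | h1
        · right
          exact ⟨Finset.mem_univ _, Or.inl ⟨by simp [h1], by simpa using h2.1⟩⟩
        · left
          exact ⟨Finset.mem_univ _, Or.inr ⟨h1, h2.2⟩⟩
  have hmemY : e₀ ∈ Finset.univ.filter (fun e => Crosses ends e Y) := by
    rw [Finset.mem_filter]
    refine ⟨Finset.mem_univ _, ?_⟩
    rcases he₀ with ⟨h3, h4⟩ | ⟨h3, h4⟩
    · exact Or.inl ⟨by rw [h3]; exact hs, h4⟩
    · exact Or.inr ⟨h3, by rw [h4]; exact hs⟩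
  have hmems : e₀ ∈ Finset.univ.filter (fun e => Crosses ends e {s}) := by
    rw [Finset.mem_filter]
    refine ⟨Finset.mem_univ _, ?_⟩
    rcases he₀ with ⟨h3, h4⟩ | ⟨h3, h4⟩
    · refine Or.inl ⟨by simp [h3], ?_⟩
      rw [Finset.mem_singleton]
      rintro h5
      exact h4 (h5 ▸ hs)
    · refine Or.inr ⟨?_, by simp [h4]⟩
      rw [Finset.mem_singleton]
      rintro h5
      exact h3 (h5 ▸ hs)
  have h1 := Finset.card_le_card hsub
  rw [Finset.card_erase_of_mem (Finset.mem_union_left _ hmemY)] at h1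
  have h2 := Finset.card_union_add_card_inter (Finset.univ.filter (fun e => Crosses ends e Y))
    (Finset.univ.filter (fun e => Crosses ends e {s}))
  have h3 : 1 ≤ ((Finset.univ.filter (fun e => Crosses ends e Y)) ∩
      (Finset.univ.filter (fun e => Crosses ends e {s}))).card :=
    Finset.card_pos.2 ⟨e₀, Finset.mem_inter.2 ⟨hmemY, hmems⟩⟩
  rw [← cut_eq ends {s}, hcs] at h2
  omega


theorem nbr_notin_S (hQ : IsQuasistableGraph ends w) (S : Finset V)
    (hS : ∀ v ∈ S, IsExceptional ends w v) (e : E) :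
    ((ends e).1 ∈ S → (ends e).2 ∉ S) := by
  intro h1 h2
  have hne : (ends e).1 ≠ (ends e).2 := by
    intro h
    exact (hS _ h1).2.1 e (Prod.ext rfl h.symm)
  exact hQ.2 e hne ⟨hS _ h1, hS _ h2⟩

theorem cut_sdiff_le (hQ : IsQuasistableGraph ends w) (S : Finset V)
    (hS : ∀ v ∈ S, IsExceptional ends w v) (Y R : Finset V)
    (hR : ∀ s ∈ R, s ∈ S ∧ s ∈ Y ∧ ¬ AllIn ends s (Y \ S)) :
    cut ends (Y \ R) ≤ cut ends Y := by
  classical
  induction R using Finset.induction_on with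
  | empty => simp
  | insert s R' hsR' ih =>
    have ih' := ih (fun t ht => hR t (Finset.mem_insert_of_mem ht))
    obtain ⟨hsS, hsY, hnot⟩ := hR s (Finset.mem_insert_self s R')
    rw [Finset.sdiff_insert]
    refine le_trans ?_ ih'
    have hsY' : s ∈ Y \ R' := Finset.mem_sdiff.2 ⟨hsY, hsR'⟩
    have hnot' : ∃ e : E, ((ends e).1 = s ∧ (ends e).2 ∉ Y \ S) ∨
        ((ends e).2 = s ∧ (ends e).1 ∉ Y \ S) := by
      by_contra hcon
      apply hnot
      intro e
      refine ⟨fun h => ?_, fun h => ?_⟩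
      · by_contra h'
        exact hcon ⟨e, Or.inl ⟨h, h'⟩⟩
      · by_contra h'
        exact hcon ⟨e, Or.inr ⟨h, h'⟩⟩
    obtain ⟨e₀, he₀⟩ := hnot'
    refine cut_erase_le ends (Y \ R') s hsY' (hS s hsS).2.2 e₀ ?_
    rcases he₀ with ⟨h1, h2⟩ | ⟨h1, h2⟩
    · left
      refine ⟨h1, fun h3 => h2 ?_⟩
      have h4 : (ends e₀).2 ∉ S := nbr_notin_S ends w hQ S hS e₀ (by rw [h1]; exact hsS)
      exact Finset.mem_sdiff.2 ⟨(Finset.mem_sdiff.1 h3).1, h4⟩
    · right
      refine ⟨fun h3 => h2 ?_, h1⟩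
      have h4 : (ends e₀).1 ∉ S := fun h5 =>
        nbr_notin_S ends w hQ S hS e₀ h5 (by rw [h1]; exact hsS)
      exact Finset.mem_sdiff.2 ⟨(Finset.mem_sdiff.1 h3).1, h4⟩

theorem cut_union_le (W Y₁ A : Finset V) (hW : W ⊆ Y₁)
    (hA : ∀ s ∈ A, AllIn ends s W) :
    cut ends (Y₁ ∪ A) ≤ cut ends Y₁ := by
  classical
  induction A using Finset.induction_on with
  | empty => simp
  | insert s A' hsA' ih =>
    have ih' := ih (fun t ht => hA t (Finset.mem_insert_of_mem ht))
    rw [Finset.union_insert]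
    refine le_trans (cut_insert_le_of_allIn ends (Y₁ ∪ A') s ?_) ih'
    intro e
    have := hA s (Finset.mem_insert_self s A') e
    exact ⟨fun h => Finset.mem_union_left _ (hW (this.1 h)),
      fun h => Finset.mem_union_left _ (hW (this.2 h))⟩

theorem cut_hat_le (hQ : IsQuasistableGraph ends w) (S : Finset V)
    (hS : ∀ v ∈ S, IsExceptional ends w v) (Y : Finset V) :
    cut ends (hat ends S (Y \ S)) ≤ cut ends Y := by
  classical
  set W := Y \ S with hW
  set R := (S ∩ Y).filter (fun s => ¬ AllIn ends s W) with hR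
  set A := S.filter (fun s => AllIn ends s W) with hA
  have h1 : cut ends (Y \ R) ≤ cut ends Y := by
    refine cut_sdiff_le ends w hQ S hS Y R fun s hs => ?_
    rw [hR, Finset.mem_filter, Finset.mem_inter] at hs
    exact ⟨hs.1.1, hs.1.2, hs.2⟩
  have hWY : W ⊆ Y \ R := by
    intro v hv
    rw [hW, Finset.mem_sdiff] at hv
    refine Finset.mem_sdiff.2 ⟨hv.1, fun h => ?_⟩
    rw [hR, Finset.mem_filter, Finset.mem_inter] at h
    exact hv.2 h.1.1
  have h2 : cut ends ((Y \ R) ∪ A) ≤ cut ends (Y \ R) := by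
    refine cut_union_le ends W (Y \ R) A hWY fun s hs => ?_
    rw [hA, Finset.mem_filter] at hs
    exact hs.2
  have heq : hat ends S W = (Y \ R) ∪ A := by
    ext v
    simp only [hat, Finset.mem_filter, Finset.mem_univ, true_and, Finset.mem_union]
    constructor
    · rintro (h | ⟨h3, h4⟩)
      · exact Or.inl (hWY h)
      · right
        rw [hA, Finset.mem_filter]
        exact ⟨h3, h4⟩
    · rintro (h | h)
      · rw [Finset.mem_sdiff] at h
        by_cases hvS : v ∈ S
        · right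
          refine ⟨hvS, ?_⟩
          by_contra hnot
          apply h.2
          rw [hR, Finset.mem_filter, Finset.mem_inter]
          exact ⟨⟨hvS, h.1⟩, hnot⟩
        · left
          rw [hW, Finset.mem_sdiff]
          exact ⟨h.1, hvS⟩
      · rw [hA, Finset.mem_filter] at h
        exact Or.inr h
  rw [heq]
  exact h2.trans h1

theorem sum_sdiff_eq_of_zero (S Y : Finset V) (c : V → ℤ) (hc : ∀ v ∈ S, c v = 0) :
    ∑ v ∈ Y \ S, c v = ∑ v ∈ Y, c v := by
  refine Finset.sum_subset Finset.sdiff_subset fun v hv hnv => ?_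
  apply hc
  by_contra h
  exact hnv (Finset.mem_sdiff.2 ⟨hv, h⟩)

theorem canDeg_term_exceptional (v : V) (hv : IsExceptional ends w v) :
    (2 * (w v : ℤ) - 2 + (endCount ends Finset.univ v : ℤ)) = 0 := by
  rw [endCount_of_noloop ends v hv.2.1, hv.2.2, hv.1]
  simp

theorem main2 (hZ : IsQuasistableGraph ends w)
    (hg : 2 ≤ genus ends w) (S : Finset V) (hS : ∀ v ∈ S, IsExceptional ends w v)
    (dt : V → ℤ) (hzero : ∀ v ∈ S, dt v = 0)
    (hBI : ∀ W : Finset V, Disjoint W S →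
      2 * |canDeg ends w Finset.univ * (∑ v ∈ W, dt v) - (∑ v, dt v) * canDeg ends w (Finset.univ.filter (fun v : V => v ∈ W ∨ (v ∈ S ∧ ∀ e : E, ((ends e).1 = v → (ends e).2 ∈ W) ∧ ((ends e).2 = v → (ends e).1 ∈ W))))|
        ≤ (cut ends (Finset.univ.filter (fun v : V => v ∈ W ∨ (v ∈ S ∧ ∀ e : E, ((ends e).1 = v → (ends e).2 ∈ W) ∧ ((ends e).2 = v → (ends e).1 ∈ W)))) : ℤ) * canDeg ends w Finset.univ) :
    SatisfiesBI ends w dt := by
  classical
  intro Y
  have hK : 0 ≤ canDeg ends w Finset.univ := by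
    rw [canDeg_univ]
    linarith
  have hdisj : Disjoint (Y \ S) S := Finset.sdiff_disjoint
  have h1 := hBI (Y \ S) hdisj
  have h2 : ∑ v ∈ Y \ S, dt v = ∑ v ∈ Y, dt v := sum_sdiff_eq_of_zero S Y dt hzero
  have hc : ∀ v ∈ S, (2 * (w v : ℤ) - 2 + (endCount ends Finset.univ v : ℤ)) = 0 :=
    fun v hv => canDeg_term_exceptional ends w v (hS v hv)
  have h3 : canDeg ends w (Y \ S) = canDeg ends w Y := sum_sdiff_eq_of_zero S Y _ hc
  have h4 : canDeg ends w (hat ends S (Y \ S)) = canDeg ends w (Y \ S) := by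
    have h5 : hat ends S (Y \ S) \ S = Y \ S := by
      ext v
      simp only [hat, Finset.mem_sdiff, Finset.mem_filter, Finset.mem_univ, true_and]
      constructor
      · rintro ⟨h6 | h6, h7⟩
        · exact h6
        · exact absurd h6.1 h7
      · intro h6
        exact ⟨Or.inl h6, h6.2⟩
    have := sum_sdiff_eq_of_zero S (hat ends S (Y \ S)) _ hc
    rw [h5] at this
    exact this.symm
  have h6 : canDeg ends w (Finset.univ.filter (fun v : V => v ∈ Y \ S ∨ (v ∈ S ∧ ∀ e : E, ((ends e).1 = v → (ends e).2 ∈ Y \ S) ∧ ((ends e).2 = v → (ends e).1 ∈ Y \ S)))) = canDeg ends w Y := h4.trans h3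
  rw [h2, h6] at h1
  refine h1.trans ?_
  have h7 : (cut ends (hat ends S (Y \ S)) : ℤ) ≤ (cut ends Y : ℤ) := by
    exact_mod_cast cut_hat_le ends w hZ S hS Y
  exact mul_le_mul_of_nonneg_right h7 hK

end Groth.Agent.H95.LabGraphBI
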