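import Mathlib.Tactic
import Mathlib.RingTheory.MvPolynomial.Ideal
import Mathlib.LinearAlgebra.Dimension.Finrank
import Mathlib.LinearAlgebra.Dimension.Constructions
import Mathlib.LinearAlgebra.Dimension.Free
import Mathlib.Algebra.MvPolynomial.PDeriv

set_option autoImplicit false
universe u

namespace Groth.Agent.H95

open MvPolynomial

/-- the exponent vector `(i, j)` -/
noncomputable def expo (i j : ℕ) : Fin 2 →₀ ℕ := Finsupp.single 0 i + Finsupp.single 1 j

theorem expo_zero (i j : ℕ) : expo i j 0 = i := by simp [expo]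

theorem expo_one (i j : ℕ) : expo i j 1 = j := by simp [expo]

theorem expo_eta (m : Fin 2 →₀ ℕ) : m = expo (m 0) (m 1) := by
  ext i
  fin_cases i
  · simp [expo]
  · simp [expo]

theorem expo_inj {i j i' j' : ℕ} (h : expo i j = expo i' j') : i = i' ∧ j = j' := by
  constructor
  · have := congrArg (fun m => m 0) h
    simpa [expo_zero] using this
  · have := congrArg (fun m => m 1) h
    simpa [expo_one] using this

theorem mem_span_pow_iff (k : Type u) [Field k] (a b : ℕ) (q : MvPolynomial (Fin 2) k) :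
    q ∈ Ideal.span ({X 0 ^ a, X 1 ^ b} : Set (MvPolynomial (Fin 2) k)) ↔
      ∀ m ∈ q.support, a ≤ m 0 ∨ b ≤ m 1 := by
  have h : ({X 0 ^ a, X 1 ^ b} : Set (MvPolynomial (Fin 2) k)) =
      (fun s => monomial s (1 : k)) '' {Finsupp.single 0 a, Finsupp.single 1 b} := by
    rw [Set.image_pair, X_pow_eq_monomial, X_pow_eq_monomial]
  rw [h, mem_ideal_span_monomial_image]
  refine forall₂_congr fun m _ => ?_
  constructor
  · rintro ⟨s, hs, hsm⟩
    rcases hs with rfl | rfl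
    · left
      have := hsm 0
      simpa using this
    · right
      have := hsm 1
      simpa using this
  · rintro (h | h)
    · refine ⟨Finsupp.single 0 a, Or.inl rfl, ?_⟩
      intro i
      fin_cases i
      · simpa using h
      · simp
    · refine ⟨Finsupp.single 1 b, Or.inr rfl, ?_⟩
      intro i
      fin_cases i
      · simp
      · simpa using h

theorem finrank_quot_pow (k : Type u) [Field k] (a b : ℕ) :
    Module.finrank k (MvPolynomial (Fin 2) k ⧸
      Ideal.span ({X 0 ^ a, X 1 ^ b} : Set (MvPolynomial (Fin 2) k))) = a * b := by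
  classical
  set J : Ideal (MvPolynomial (Fin 2) k) :=
    Ideal.span ({X 0 ^ a, X 1 ^ b} : Set (MvPolynomial (Fin 2) k)) with hJ
  let Φ : MvPolynomial (Fin 2) k →ₗ[k] (Fin a × Fin b → k) :=
    LinearMap.pi fun ij => lcoeff k (expo ij.1 ij.2)
  have hΦ : ∀ q ij, Φ q ij = coeff (expo ij.1 ij.2) q := fun q ij => rfl
  have hker : LinearMap.ker Φ = J.restrictScalars k := by
    ext q
    rw [LinearMap.mem_ker, Submodule.restrictScalars_mem, hJ, mem_span_pow_iff]
    constructor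
    · intro hq m hm
      by_contra hcon
      push Not at hcon
      have h1 := congrFun hq (⟨m 0, hcon.1⟩, ⟨m 1, hcon.2⟩)
      rw [hΦ] at h1
      simp only at h1
      rw [← expo_eta] at h1
      exact (mem_support_iff.mp hm) h1
    · intro hq
      funext ij
      rw [hΦ]
      by_contra hcon
      have hm : expo ij.1 ij.2 ∈ q.support := mem_support_iff.mpr hcon
      rcases hq _ hm with h | h
      · rw [expo_zero] at h
        exact absurd ij.1.2 (not_lt.mpr h)
      · rw [expo_one] at h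
        exact absurd ij.2.2 (not_lt.mpr h)
  have hsurj : Function.Surjective Φ := by
    intro f
    refine ⟨∑ ij : Fin a × Fin b, monomial (expo ij.1 ij.2) (f ij), ?_⟩
    funext ij'
    rw [hΦ, coeff_sum]
    rw [Finset.sum_eq_single ij']
    · rw [coeff_monomial, if_pos rfl]
    · intro ij _ hne
      rw [coeff_monomial, if_neg]
      intro heq
      apply hne
      obtain ⟨h1, h2⟩ := expo_inj heq
      exact Prod.ext (Fin.ext h1) (Fin.ext h2)
    · intro h
      exact absurd (Finset.mem_univ _) h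
  have e1 : (MvPolynomial (Fin 2) k ⧸ J) ≃ₗ[k] (MvPolynomial (Fin 2) k ⧸ J.restrictScalars k) :=
    (Submodule.Quotient.restrictScalarsEquiv k J).symm
  have e2 : (MvPolynomial (Fin 2) k ⧸ J.restrictScalars k) ≃ₗ[k] (Fin a × Fin b → k) :=
    (Submodule.quotEquivOfEq _ _ hker.symm).trans (Φ.quotKerEquivOfSurjective hsurj)
  rw [(e1.trans e2).finrank_eq, Module.finrank_fintype_fun_eq_card, Fintype.card_prod,
    Fintype.card_fin, Fintype.card_fin]


theorem mem_span_three {A : Type*} [CommRing A] (g₁ g₂ g₃ c₁ c₂ c₃ : A) :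
    c₁ * g₁ + c₂ * g₂ + c₃ * g₃ ∈ Ideal.span ({g₁, g₂, g₃} : Set A) :=
  add_mem (add_mem (Ideal.mul_mem_left _ _ (Ideal.subset_span (by simp)))
    (Ideal.mul_mem_left _ _ (Ideal.subset_span (by simp))))
    (Ideal.mul_mem_left _ _ (Ideal.subset_span (by simp)))

theorem mem_span_two {A : Type*} [CommRing A] (g₁ g₂ c₁ c₂ : A) :
    c₁ * g₁ + c₂ * g₂ ∈ Ideal.span ({g₁, g₂} : Set A) :=
  add_mem (Ideal.mul_mem_left _ _ (Ideal.subset_span (by simp)))
    (Ideal.mul_mem_left _ _ (Ideal.subset_span (by simp)))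

theorem span_three_eq_span_two {A : Type*} [CommRing A] (g₁ g₂ g₃ h₁ h₂ : A)
    (c00 c01 c10 c11 c20 c21 d00 d01 d02 d10 d11 d12 : A)
    (e1 : g₁ = c00 * h₁ + c01 * h₂) (e2 : g₂ = c10 * h₁ + c11 * h₂)
    (e3 : g₃ = c20 * h₁ + c21 * h₂)
    (f1 : h₁ = d00 * g₁ + d01 * g₂ + d02 * g₃)
    (f2 : h₂ = d10 * g₁ + d11 * g₂ + d12 * g₃) :
    Ideal.span ({g₁, g₂, g₃} : Set A) = Ideal.span ({h₁, h₂} : Set A) := by
  apply le_antisymm
  · rw [Ideal.span_le]
    intro x hx
    simp only [Set.mem_insert_iff, Set.mem_singleton_iff] at hx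
    rcases hx with rfl | rfl | rfl
    · rw [e1]; exact mem_span_two _ _ _ _
    · rw [e2]; exact mem_span_two _ _ _ _
    · rw [e3]; exact mem_span_two _ _ _ _
  · rw [Ideal.span_le]
    intro x hx
    simp only [Set.mem_insert_iff, Set.mem_singleton_iff] at hx
    rcases hx with rfl | rfl
    · rw [f1]; exact mem_span_three _ _ _ _ _ _
    · rw [f2]; exact mem_span_three _ _ _ _ _ _

theorem pderiv0_cusp (k : Type u) [Field k] :
    pderiv 0 (X 1 ^ 2 - X 0 ^ 3 : MvPolynomial (Fin 2) k) = -(3 * X 0 ^ 2) := by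
  simp [pderiv_X, Derivation.leibniz_pow]

theorem pderiv1_cusp (k : Type u) [Field k] :
    pderiv 1 (X 1 ^ 2 - X 0 ^ 3 : MvPolynomial (Fin 2) k) = 2 * X 1 := by
  simp [pderiv_X, Derivation.leibniz_pow]

theorem cusp_ideal_char_two (k : Type u) [Field k] [CharP k 2] :
    Ideal.span ({X 1 ^ 2 - X 0 ^ 3, pderiv 0 (X 1 ^ 2 - X 0 ^ 3), pderiv 1 (X 1 ^ 2 - X 0 ^ 3)} :
      Set (MvPolynomial (Fin 2) k)) = Ideal.span {X 0 ^ 2, X 1 ^ 2} := by
  rw [pderiv0_cusp, pderiv1_cusp]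
  have h2 : (2 : MvPolynomial (Fin 2) k) = 0 := by
    have := CharP.cast_eq_zero (MvPolynomial (Fin 2) k) 2
    exact_mod_cast this
  apply span_three_eq_span_two _ _ _ _ _ (-X 0) 1 (-3) 0 0 0 0 (-1) 0 1 (-X 0) 0
  · ring
  · ring
  · linear_combination (X 1 : MvPolynomial (Fin 2) k) * h2
  · linear_combination (-(X 0 ^ 2 : MvPolynomial (Fin 2) k)) * h2
  · linear_combination (-(X 0 ^ 3 : MvPolynomial (Fin 2) k)) * h2

theorem cusp_ideal_char_three (k : Type u) [Field k] [CharP k 3] :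
    Ideal.span ({X 1 ^ 2 - X 0 ^ 3, pderiv 0 (X 1 ^ 2 - X 0 ^ 3), pderiv 1 (X 1 ^ 2 - X 0 ^ 3)} :
      Set (MvPolynomial (Fin 2) k)) = Ideal.span {X 0 ^ 3, X 1 ^ 1} := by
  rw [pderiv0_cusp, pderiv1_cusp]
  have h3 : (3 : MvPolynomial (Fin 2) k) = 0 := by
    have := CharP.cast_eq_zero (MvPolynomial (Fin 2) k) 3
    exact_mod_cast this
  have h2k : (2 : k) ≠ 0 := by
    intro h
    have h' : ((2 : ℕ) : k) = 0 := by exact_mod_cast h
    rw [CharP.cast_eq_zero_iff k 3] at h'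
    omega
  have hinv : (C (2 : k)⁻¹ : MvPolynomial (Fin 2) k) * 2 = 1 := by
    have : (2 : MvPolynomial (Fin 2) k) = C (2 : k) := (map_ofNat C 2).symm
    rw [this, ← C_mul, inv_mul_cancel₀ h2k, C_1]
  apply span_three_eq_span_two _ _ _ _ _ (-1) (X 1) 0 0 0 2
    (-1) 0 (C (2 : k)⁻¹ * X 1) 0 0 (C (2 : k)⁻¹)
  · ring
  · linear_combination (-(X 0 ^ 2 : MvPolynomial (Fin 2) k)) * h3
  · ring
  · linear_combination (-(X 1 ^ 2 : MvPolynomial (Fin 2) k)) * hinv
  · linear_combination (-(X 1 : MvPolynomial (Fin 2) k)) * hinv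

theorem cusp_ideal_char_other (k : Type u) [Field k] (h2k : (2 : k) ≠ 0) (h3k : (3 : k) ≠ 0) :
    Ideal.span ({X 1 ^ 2 - X 0 ^ 3, pderiv 0 (X 1 ^ 2 - X 0 ^ 3), pderiv 1 (X 1 ^ 2 - X 0 ^ 3)} :
      Set (MvPolynomial (Fin 2) k)) = Ideal.span {X 0 ^ 2, X 1 ^ 1} := by
  rw [pderiv0_cusp, pderiv1_cusp]
  have hinv2 : (C (2 : k)⁻¹ : MvPolynomial (Fin 2) k) * 2 = 1 := by
    have : (2 : MvPolynomial (Fin 2) k) = C (2 : k) := (map_ofNat C 2).symm
    rw [this, ← C_mul, inv_mul_cancel₀ h2k, C_1]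
  have hinv3 : (C (3 : k)⁻¹ : MvPolynomial (Fin 2) k) * 3 = 1 := by
    have : (3 : MvPolynomial (Fin 2) k) = C (3 : k) := (map_ofNat C 3).symm
    rw [this, ← C_mul, inv_mul_cancel₀ h3k, C_1]
  apply span_three_eq_span_two _ _ _ _ _ (-X 0) (X 1) (-3) 0 0 2
    0 (-C (3 : k)⁻¹) 0 0 0 (C (2 : k)⁻¹)
  · ring
  · ring
  · ring
  · linear_combination (-(X 0 ^ 2 : MvPolynomial (Fin 2) k)) * hinv3
  · linear_combination (-(X 1 : MvPolynomial (Fin 2) k)) * hinv2

end Groth.Agent.H95
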