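import Mathlib.Tactic

set_option autoImplicit false

namespace Groth.Agent.H95

open Finset

theorem sum_range_line (n : ℝ) (m : ℕ) :
    ∑ i ∈ range (m + 1), (n - (i : ℝ)) = ((m : ℝ) + 1) * (2 * n - m) / 2 := by
  induction m with
  | zero => simp
  | succ m ih =>
    rw [Finset.sum_range_succ, ih]
    push_cast
    ring

theorem newton_chain (n : ℕ) : ∀ (p : ℕ → ℝ), 1 ≤ n →
    (∀ i j : ℕ, i ≤ j → j ≤ n → p j ≤ p i) → p n = 0 →
    ∃ (l : ℕ) (s : ℕ → ℕ), s 0 = 0 ∧ s l = n ∧ (∀ k : ℕ, k < l → s k < s (k + 1)) ∧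
      (∑ k ∈ Finset.range l, (p (s k) - p (s (k + 1))) * ((s k : ℝ) + (s (k + 1) : ℝ))) ≤
        2 * (n : ℝ) / ((n : ℝ) + 1) * ∑ i ∈ Finset.range (n + 1), p i := by
  induction n using Nat.strong_induction_on with
  | _ n ih =>
    intro p hn hp hpn
    -- choose the index minimizing the slope to the end point
    obtain ⟨m, hm, hmin⟩ := Finset.exists_min_image (range n) (fun i => p i / ((n : ℝ) - i))
      ⟨0, Finset.mem_range.mpr hn⟩
    have hmn : m < n := Finset.mem_range.mp hm
    have hmnR : (0 : ℝ) < (n : ℝ) - m := by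
      have : (m : ℝ) < n := by exact_mod_cast hmn
      linarith
    set σ : ℝ := p m / ((n : ℝ) - m) with hσ
    have hpm : p m = σ * ((n : ℝ) - m) := by
      rw [hσ, div_mul_cancel₀ _ hmnR.ne']
    have hpm0 : 0 ≤ p m := by
      have := hp m n hmn.le le_rfl
      rw [hpn] at this
      exact this
    have hσ0 : 0 ≤ σ := div_nonneg hpm0 hmnR.le
    have hline : ∀ i : ℕ, i ≤ n → σ * ((n : ℝ) - i) ≤ p i := by
      intro i hi
      rcases Nat.lt_or_ge i n with hlt | hge
      · have hiR : (0 : ℝ) < (n : ℝ) - i := by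
          have : (i : ℝ) < n := by exact_mod_cast hlt
          linarith
        have := hmin i (Finset.mem_range.mpr hlt)
        rwa [le_div_iff₀ hiR] at this
      · have : i = n := le_antisymm hi hge
        subst this
        rw [sub_self, mul_zero, hpn]
    -- error terms
    set E₁ : ℝ := ∑ i ∈ range (m + 1), (p i - σ * ((n : ℝ) - i)) with hE₁
    set Et : ℝ := ∑ i ∈ range (n + 1), (p i - σ * ((n : ℝ) - i)) with hEt
    have hE₁0 : 0 ≤ E₁ := Finset.sum_nonneg fun i hi =>
      sub_nonneg.mpr (hline i (by have := Finset.mem_range.mp hi; omega))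
    have hE₁Et : E₁ ≤ Et := by
      apply Finset.sum_le_sum_of_subset_of_nonneg
      · intro i hi
        rw [Finset.mem_range] at hi ⊢
        omega
      · intro i hi _
        exact sub_nonneg.mpr (hline i (by have := Finset.mem_range.mp hi; omega))
    have hsum1 : ∑ i ∈ range (m + 1), p i = E₁ + σ * (((m : ℝ) + 1) * (2 * n - m) / 2) := by
      rw [hE₁, Finset.sum_sub_distrib, ← Finset.mul_sum, sum_range_line]
      ring
    have hsumt : ∑ i ∈ range (n + 1), p i = Et + σ * (((n : ℝ) + 1) * (2 * n - n) / 2) := by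
      rw [hEt, Finset.sum_sub_distrib, ← Finset.mul_sum, sum_range_line]
      ring
    have hm1 : (0 : ℝ) < (m : ℝ) + 1 := by positivity
    have hn1 : (0 : ℝ) < (n : ℝ) + 1 := by positivity
    have hratio : (m : ℝ) / ((m : ℝ) + 1) ≤ (n : ℝ) / ((n : ℝ) + 1) := by
      rw [div_le_div_iff₀ hm1 hn1]
      have : (m : ℝ) ≤ n := by exact_mod_cast hmn.le
      nlinarith
    have hfinal : 2 * (m : ℝ) / ((m : ℝ) + 1) * (∑ i ∈ range (m + 1), p i - ((m : ℝ) + 1) * p m) +
        p m * ((m : ℝ) + n) ≤ 2 * (n : ℝ) / ((n : ℝ) + 1) * ∑ i ∈ range (n + 1), p i := by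
      rw [hsum1, hsumt, hpm]
      have h1 : 2 * (m : ℝ) / ((m : ℝ) + 1) * (E₁ + σ * (((m : ℝ) + 1) * (2 * n - m) / 2) -
          ((m : ℝ) + 1) * (σ * ((n : ℝ) - m))) + σ * ((n : ℝ) - m) * ((m : ℝ) + n) =
          2 * ((m : ℝ) / ((m : ℝ) + 1)) * E₁ + σ * (n : ℝ) ^ 2 := by
        field_simp
        ring
      have h2 : 2 * (n : ℝ) / ((n : ℝ) + 1) * (Et + σ * (((n : ℝ) + 1) * (2 * n - n) / 2)) =
          2 * ((n : ℝ) / ((n : ℝ) + 1)) * Et + σ * (n : ℝ) ^ 2 := by
        field_simp
        ring
      rw [h1, h2]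
      have hn0 : 0 ≤ (n : ℝ) / ((n : ℝ) + 1) := by positivity
      have : (m : ℝ) / ((m : ℝ) + 1) * E₁ ≤ (n : ℝ) / ((n : ℝ) + 1) * Et :=
        mul_le_mul hratio hE₁Et hE₁0 hn0
      linarith
    rcases Nat.eq_zero_or_pos m with hm0 | hmpos
    · -- the chain (0, n)
      subst hm0
      refine ⟨1, fun k => if k = 0 then 0 else n, by simp, by simp, ?_, ?_⟩
      · intro k hk
        have : k = 0 := by omega
        subst this
        simp only [if_true, zero_add, one_ne_zero, if_false]
        omega
      · simp only [Finset.sum_range_one, if_true, zero_add, one_ne_zero, if_false]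
        rw [hpn]
        have := hfinal
        simp only [Nat.cast_zero, zero_div, zero_mul, zero_add] at this
        simpa using this
    · -- use the induction hypothesis on [0, m]
      have hp' : ∀ i j : ℕ, i ≤ j → j ≤ m → p j - p m ≤ p i - p m := by
        intro i j hij hj
        have := hp i j hij (by omega)
        linarith
      obtain ⟨l', s', hs0, hsl, hsinc, hsA⟩ := ih m hmn (fun i => p i - p m) hmpos hp' (sub_self _)
      refine ⟨l' + 1, fun k => if k ≤ l' then s' k else n, by simp [hs0], by simp, ?_, ?_⟩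
      · intro k hk
        rcases Nat.lt_or_ge k l' with hlt | hge
        · have h1 : k ≤ l' := hlt.le
          have h2 : k + 1 ≤ l' := hlt
          simp only [h1, h2, if_true]
          exact hsinc k hlt
        · have hkl : k = l' := by omega
          subst hkl
          simp only [le_refl, if_true]
          have : ¬ (k + 1 ≤ k) := by omega
          simp only [this, if_false]
          rw [hsl]
          exact hmn
      · rw [Finset.sum_range_succ]
        have hfirst : ∑ k ∈ range l', (p (if k ≤ l' then s' k else n) - p (if k + 1 ≤ l' then s' (k + 1) else n)) *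
            (((if k ≤ l' then s' k else n : ℕ) : ℝ) + ((if k + 1 ≤ l' then s' (k + 1) else n : ℕ) : ℝ)) =
            ∑ k ∈ range l', ((p (s' k) - p m) - (p (s' (k + 1)) - p m)) * ((s' k : ℝ) + (s' (k + 1) : ℝ)) := by
          apply Finset.sum_congr rfl
          intro k hk
          have hlt := Finset.mem_range.mp hk
          have h1 : k ≤ l' := hlt.le
          have h2 : k + 1 ≤ l' := hlt
          simp only [h1, h2, if_true]
          ring
        rw [hfirst]
        have hlast : ¬ (l' + 1 ≤ l') := by omega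
        simp only [le_refl, if_true, hlast, if_false]
        rw [hsl, hpn, sub_zero]
        have hsum' : ∑ i ∈ range (m + 1), (p i - p m) =
            ∑ i ∈ range (m + 1), p i - ((m : ℝ) + 1) * p m := by
          rw [Finset.sum_sub_distrib, Finset.sum_const, Finset.card_range]
          simp
        have hsA' := hsA
        rw [hsum'] at hsA'
        calc ∑ k ∈ range l', ((p (s' k) - p m) - (p (s' (k + 1)) - p m)) * ((s' k : ℝ) + (s' (k + 1) : ℝ)) +
              p m * ((m : ℝ) + (n : ℝ))
            ≤ 2 * (m : ℝ) / ((m : ℝ) + 1) * (∑ i ∈ range (m + 1), p i - ((m : ℝ) + 1) * p m) +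
              p m * ((m : ℝ) + n) := by linarith
          _ ≤ _ := hfinal

end Groth.Agent.H95
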