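import Mathlib

open IntermediateField

namespace Groth.Agent.H95.OmegaPts

universe u v w

theorem exists_algHom_of_not_finTrdeg (L : Type u) (F : Type v) (Ω : Type w)
    [Field L] [Field F] [Field Ω]
    [Algebra L F] [Algebra L Ω] [IsAlgClosed Ω] [FinTrdeg L F] (h : ¬ FinTrdeg L Ω) :
    Nonempty (F →ₐ[L] Ω) := by
  obtain ⟨s, hs⟩ := exists_isTranscendenceBasis L F
  have hsfin : Finite s := finite_of_isTranscendenceBasis hs
  obtain ⟨B, hB⟩ := exists_isTranscendenceBasis L Ω
  have hBinf : Infinite B := by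
    by_contra hfin
    rw [not_infinite_iff_finite] at hfin
    exact h (FinTrdeg.of_isTranscendenceBasis hB)
  -- an injection s ↪ B
  obtain ⟨ι⟩ : Nonempty (s ↪ B) := by
    have := Fintype.ofFinite s
    exact ⟨(Fintype.equivFin s).toEmbedding.trans
      ((Fin.valEmbedding).trans (Infinite.natEmbedding B))⟩
  let y : s → Ω := fun i => (ι i : Ω)
  have hy : AlgebraicIndependent L y := hB.1.comp ι ι.injective
  let E := IntermediateField.adjoin L (Set.range ((↑) : s → F))
  let E' := IntermediateField.adjoin L (Set.range y)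
  let e : E ≃ₐ[L] E' := hs.1.aevalEquivField.symm.trans hy.aevalEquivField
  let φ : E →ₐ[L] Ω := E'.val.comp e.toAlgHom
  have halg : Algebra.IsAlgebraic E F := hs.isAlgebraic_field
  let _ : Algebra E Ω := φ.toRingHom.toAlgebra
  have : IsScalarTower L E Ω := IsScalarTower.of_algebraMap_eq (fun x => (φ.commutes x).symm)
  let ψ : F →ₐ[E] Ω := IsAlgClosed.lift
  exact ⟨ψ.restrictScalars L⟩

end Groth.Agent.H95.OmegaPts
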