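import Mathlib
import Groth.Agent.H95.OmegaPts0

open IntermediateField

namespace Groth.Agent.H95.OmegaPts

universe u

/-- finite transcendence degree, for a ring hom of fields. -/
def FT {k l : Type*} [Field k] [Field l] (f : k →+* l) : Prop :=
  @FinTrdeg k l _ _ f.toAlgebra

theorem FT_algebraMap {k l : Type*} [Field k] [Field l] [Algebra k l] :
    FT (algebraMap k l) ↔ FinTrdeg k l := by
  unfold FT
  rw [toAlgebra_algebraMap]

theorem FT.comp {k₁ k₂ k₃ : Type*} [Field k₁] [Field k₂] [Field k₃] {a : k₁ →+* k₂}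
    {b : k₂ →+* k₃} (ha : FT a) (hb : FT b) : FT (b.comp a) := by
  unfold FT at *
  let _ : Algebra k₁ k₂ := a.toAlgebra
  let _ : Algebra k₂ k₃ := b.toAlgebra
  let _ : Algebra k₁ k₃ := (b.comp a).toAlgebra
  have : IsScalarTower k₁ k₂ k₃ := IsScalarTower.of_algebraMap_eq (fun x => rfl)
  have := ha
  have := hb
  exact FinTrdeg.trans k₁ k₂ k₃

theorem FT.of_essFiniteType {k l : Type*} [Field k] [Field l] {f : k →+* l}
    (hf : f.EssFiniteType) : FT f := by
  unfold FT
  let _ : Algebra k l := f.toAlgebra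
  have : Algebra.EssFiniteType k l := hf
  infer_instance

theorem FT.of_surjective {k l : Type*} [Field k] [Field l] {f : k →+* l}
    (hf : Function.Surjective f) : FT f :=
  FT.of_essFiniteType (RingHom.FiniteType.of_surjective f hf).essFiniteType

theorem exists_extension {k F Ω : Type u} [Field k] [Field F] [Field Ω] [IsAlgClosed Ω]
    (a : k →+* F) (ha : FT a) (ψ : k →+* Ω) (hψ : ¬ FT ψ) : ∃ ξ : F →+* Ω, ξ.comp a = ψ := by
  unfold FT at *
  let _ : Algebra k F := a.toAlgebra
  let _ : Algebra k Ω := ψ.toAlgebra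
  have := ha
  obtain ⟨ξ⟩ := exists_algHom_of_not_finTrdeg k F Ω hψ
  refine ⟨ξ.toRingHom, ?_⟩
  ext x
  exact ξ.commutes x

end Groth.Agent.H95.OmegaPts
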