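import Mathlib
import Groth.Agent.H95.OmegaPts1

open AlgebraicGeometry CategoryTheory

namespace Groth.Agent.H95.OmegaPts

universe u

theorem FT_residueFieldMap {X Z : Scheme.{u}} (g : X ⟶ Z) [LocallyOfFiniteType g] (x : X) :
    FT (g.residueFieldMap x).hom := by
  apply FT.of_essFiniteType
  exact (LocallyOfFiniteType.stalkMap g x).residueFieldMap

theorem exists_lift_residue {X Z : Scheme.{u}} (g : X ⟶ Z) [LocallyOfFiniteType g] (x₀ : X)
    (Ω : Type u) [Field Ω] [IsAlgClosed Ω] (ψ : Z.residueField (g x₀) ⟶ .of Ω)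
    (hbig : ¬ FT ψ.hom) :
    ∃ ξ : X.residueField x₀ ⟶ .of Ω, (Spec.map ξ ≫ X.fromSpecResidueField x₀) ≫ g =
      Spec.map ψ ≫ Z.fromSpecResidueField (g x₀) := by
  obtain ⟨ξ, hξ⟩ := exists_extension (g.residueFieldMap x₀).hom (FT_residueFieldMap g x₀) ψ.hom hbig
  refine ⟨CommRingCat.ofHom ξ, ?_⟩
  rw [Category.assoc, ← Scheme.Hom.SpecMap_residueFieldMap_fromSpecResidueField,
    ← Category.assoc, ← Spec.map_comp]
  congr 2
  ext a
  exact congrArg (fun φ => φ a) hξ

set_option backward.isDefEq.respectTransparency.types false in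
theorem not_FT_of_point {K Ω : Type u} [Field K] [Field Ω] [Algebra K Ω] (t : ℕ → Ω)
    (ht : AlgebraicIndependent K t)
    {W : Scheme.{u}} (pW : W ⟶ Spec (.of K)) [LocallyOfFiniteType pW] (w : W)
    (ψ : W.residueField w ⟶ .of Ω)
    (h : (Spec.map ψ ≫ W.fromSpecResidueField w) ≫ pW =
      Spec.map (CommRingCat.ofHom (algebraMap K Ω))) :
    ¬ FT ψ.hom := by
  intro hψ
  set p₀ := pW w with hp₀
  let χ : (Spec (.of K)).residueField p₀ ⟶ .of Ω := pW.residueFieldMap w ≫ ψ
  have hχFT : FT χ.hom := (FT_residueFieldMap pW w).comp hψ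
  have hχ : Spec.map χ ≫ (Spec (.of K)).fromSpecResidueField p₀ =
      Spec.map (CommRingCat.ofHom (algebraMap K Ω)) := by
    rw [← h, Spec.map_comp, Category.assoc, Category.assoc,
      Scheme.Hom.SpecMap_residueFieldMap_fromSpecResidueField]
  let ρ₀ : CommRingCat.of K ⟶ (Spec (.of K)).residueField p₀ :=
    CommRingCat.ofHom (algebraMap K p₀.asIdeal.ResidueField) ≫
      (Scheme.Spec.residueFieldIso (.of K) p₀).inv
  have hρ : ρ₀ ≫ χ = CommRingCat.ofHom (algebraMap K Ω) := by
    apply Spec.map_injective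
    rw [← hχ, ← Scheme.Spec.map_residueFieldIso_inv_eq_fromSpecResidueField, ← Spec.map_comp,
      ← Spec.map_comp]
  have hmax : p₀.asIdeal.IsMaximal := by
    have : p₀.asIdeal = ⊥ := Ideal.eq_bot_of_prime p₀.asIdeal
    rw [this]
    exact Ideal.bot_isMaximal
  have hρFT : FT ρ₀.hom := by
    apply FT.of_surjective
    have h1 : Function.Surjective (algebraMap K p₀.asIdeal.ResidueField) :=
      p₀.asIdeal.algebraMap_residueField_surjective
    have h2 : Function.Bijective (Scheme.Spec.residueFieldIso (.of K) p₀).inv :=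
      (ConcreteCategory.isIso_iff_bijective _).mp inferInstance
    exact h2.2.comp h1
  have hall : FT (algebraMap K Ω) := by
    have := hρFT.comp hχFT
    have e : χ.hom.comp ρ₀.hom = algebraMap K Ω := by
      have := congrArg CommRingCat.Hom.hom hρ
      exact this
    rwa [e] at this
  have hfin : FinTrdeg K Ω := FT_algebraMap.mp hall
  have : Finite ℕ := finite_of_algebraicIndependent ht
  exact not_finite ℕ

end Groth.Agent.H95.OmegaPts
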