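import Mathlib
import Groth.Agent.H95.OmegaPts2

open AlgebraicGeometry CategoryTheory

namespace Groth.Agent.H95.OmegaPts

universe u

theorem exists_pair {Ω : Type u} [Field Ω] {Y : Scheme.{u}} (y : Spec (.of Ω) ⟶ Y) :
    ∃ (y₀ : Y) (ψ : Y.residueField y₀ ⟶ .of Ω), y = Spec.map ψ ≫ Y.fromSpecResidueField y₀ :=
  ⟨_, _, ((Scheme.SpecToEquivOfField Ω Y).left_inv y).symm⟩

theorem main (K Ω : Type u) [Field K] [Field Ω] [IsAlgClosed Ω] [Algebra K Ω]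
    (t : ℕ → Ω) (ht : AlgebraicIndependent K t)
    {X Y : Scheme.{u}} (pX : X ⟶ Spec (CommRingCat.of K)) (pY : Y ⟶ Spec (CommRingCat.of K))
    [LocallyOfFiniteType pX] [LocallyOfFiniteType pY] (f : X ⟶ Y) (hf : f ≫ pY = pX) :
    Surjective f ↔ ∀ y : Spec (CommRingCat.of Ω) ⟶ Y,
      y ≫ pY = Spec.map (CommRingCat.ofHom (algebraMap K Ω)) →
        ∃ x : Spec (CommRingCat.of Ω) ⟶ X, x ≫ f = y := by
  have hfLFT : LocallyOfFiniteType f := by
    have : LocallyOfFiniteType (f ≫ pY) := hf ▸ inferInstance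
    exact locallyOfFiniteType_of_comp f pY
  constructor
  · intro hsurj y hy
    obtain ⟨y₀, ψ, rfl⟩ := exists_pair y
    obtain ⟨x₀, rfl⟩ := hsurj.surj y₀
    have hbig : ¬ FT ψ.hom := not_FT_of_point t ht pY (f x₀) ψ hy
    obtain ⟨ξ, hξ⟩ := exists_lift_residue f x₀ Ω ψ hbig
    exact ⟨_, hξ⟩
  · intro H
    refine ⟨fun y₀ => ?_⟩
    obtain ⟨z₀, ψ, hz⟩ := exists_pair (Spec.map (CommRingCat.ofHom (algebraMap K Ω)))
    obtain rfl : z₀ = pY y₀ := Subsingleton.elim (α := PrimeSpectrum K) _ _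
    have hbig : ¬ FT ψ.hom := by
      refine not_FT_of_point t ht (𝟙 (Spec (.of K))) (pY y₀) ψ ?_
      rw [Category.comp_id, ← hz]
    obtain ⟨ξ, hξ⟩ := exists_lift_residue pY y₀ Ω ψ hbig
    obtain ⟨x, hx⟩ := H (Spec.map ξ ≫ Y.fromSpecResidueField y₀) (by rw [hξ, ← hz])
    refine ⟨x (IsLocalRing.closedPoint Ω), ?_⟩
    have h1 : f (x (IsLocalRing.closedPoint Ω)) = (x ≫ f) (IsLocalRing.closedPoint Ω) := rfl
    have h2 : (Spec.map ξ ≫ Y.fromSpecResidueField y₀) (IsLocalRing.closedPoint Ω) =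
        Y.fromSpecResidueField y₀ ((Spec.map ξ) (IsLocalRing.closedPoint Ω)) := rfl
    rw [h1, hx, h2, Scheme.fromSpecResidueField_apply]

end Groth.Agent.H95.OmegaPts
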