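import Mathlib

/-! Finite purely inseparable extensions are towers of `p`-th root adjunctions. -/

set_option autoImplicit false
universe u

namespace Groth.Agent.H95.PInsepTower

open IntermediateField Polynomial

/-- An element outside the base with `p`-th power in the base. -/
theorem exists_pth_root_not_mem {F E : Type u} [Field F] [Field E] [Algebra F E] (p : ℕ)
    [Fact p.Prime] [CharP F p] [IsPurelyInseparable F E]
    (h : ¬ Function.Surjective (algebraMap F E)) :
    ∃ b : E, b ∉ (algebraMap F E).range ∧ b ^ p ∈ (algebraMap F E).range := by
  classical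
  have : ExpChar F p := ExpChar.prime Fact.out
  obtain ⟨x, hx⟩ : ∃ x : E, x ∉ (algebraMap F E).range := by
    by_contra hcon
    push Not at hcon
    exact h fun x => hcon x
  have hex := IsPurelyInseparable.pow_mem F p x
  set n := Nat.find hex with hn
  have hn1 : n ≠ 0 := by
    intro h0
    have := Nat.find_spec hex
    rw [← hn, h0] at this
    simp only [pow_zero, pow_one] at this
    exact hx this
  obtain ⟨m, hm⟩ := Nat.exists_eq_succ_of_ne_zero hn1
  refine ⟨x ^ p ^ m, ?_, ?_⟩
  · exact Nat.find_min hex (by omega : m < n)
  · have := Nat.find_spec hex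
    rw [← hn, hm, pow_succ, pow_mul] at this
    exact this

/-- Degree of adjoining a `p`-th root. -/
theorem finrank_adjoin_pth_root {F E : Type u} [Field F] [Field E] [Algebra F E] (p : ℕ)
    [Fact p.Prime] [CharP F p] (b : E) (hb : b ∉ (algebraMap F E).range)
    (hbp : b ^ p ∈ (algebraMap F E).range) :
    Module.finrank F F⟮b⟯ = p := by
  obtain ⟨c, hc⟩ := hbp
  have : CharP E p := charP_of_injective_algebraMap (algebraMap F E).injective p
  have hirr : Irreducible (X ^ p - C c : F[X]) := by
    apply X_pow_sub_C_irreducible_of_prime (Fact.out : p.Prime)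
    intro d hd
    apply hb
    refine ⟨d, ?_⟩
    apply frobenius_inj E p
    simp only [frobenius_def]
    rw [← map_pow, hd, hc]
  have hroot : aeval b (X ^ p - C c : F[X]) = 0 := by
    simp [hc]
  have hmonic : (X ^ p - C c : F[X]).Monic := monic_X_pow_sub_C c (Fact.out : p.Prime).ne_zero
  have hmin : X ^ p - C c = minpoly F b := minpoly.eq_of_irreducible_of_monic hirr hroot hmonic
  have hint : IsIntegral F b := ⟨_, hmonic, hroot⟩
  rw [adjoin.finrank hint, ← hmin, natDegree_X_pow_sub_C]

theorem main (p : ℕ) [Fact p.Prime] : ∀ (d : ℕ) (F E : Type u) [Field F] [Field E] [Algebra F E]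
    [CharP F p] [FiniteDimensional F E] [IsPurelyInseparable F E], Module.finrank F E = d →
    ∃ (n : ℕ) (a : Fin n → E), adjoin F (Set.range a) = ⊤ ∧
      (∀ i : Fin n, a i ^ p ∈ adjoin F (a '' {j | j < i}) ∧ a i ∉ adjoin F (a '' {j | j < i})) ∧
      Module.finrank F E = p ^ n := by
  intro d
  induction d using Nat.strong_induction_on with
  | _ d ih =>
    intro F E _ _ _ _ _ _ hd
    by_cases hsurj : Function.Surjective (algebraMap F E)
    · -- trivial extension
      have hbot : (⊥ : IntermediateField F E) = ⊤ := by
        rw [eq_top_iff]
        intro x _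
        obtain ⟨y, rfl⟩ := hsurj x
        exact IntermediateField.algebraMap_mem _ y
      refine ⟨0, Fin.elim0, ?_, fun i => i.elim0, ?_⟩
      · have : Set.range (Fin.elim0 : Fin 0 → E) = ∅ := Set.range_eq_empty _
        rw [this, adjoin_empty, hbot]
      · rw [pow_zero, ← finrank_top', ← hbot, IntermediateField.finrank_bot]
    · obtain ⟨b, hb, hbp⟩ := exists_pth_root_not_mem p hsurj
      have hdeg := finrank_adjoin_pth_root p b hb hbp
      have : CharP F⟮b⟯ p := charP_of_injective_algebraMap (algebraMap F F⟮b⟯).injective p
      have : IsPurelyInseparable F⟮b⟯ E := IsPurelyInseparable.tower_top F F⟮b⟯ E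
      have hmul : Module.finrank F F⟮b⟯ * Module.finrank F⟮b⟯ E = Module.finrank F E :=
        Module.finrank_mul_finrank F F⟮b⟯ E
      have hpos : 0 < Module.finrank F⟮b⟯ E := Module.finrank_pos
      have hlt : Module.finrank F⟮b⟯ E < d := by
        rw [← hd, ← hmul, hdeg]
        have : 2 ≤ p := (Fact.out : p.Prime).two_le
        nlinarith
      obtain ⟨n, a, htop, hchain, hfin⟩ := ih _ hlt F⟮b⟯ E rfl
      refine ⟨n + 1, Fin.cons b a, ?_, ?_, ?_⟩
      · have hr : Set.range (Fin.cons b a : Fin (n + 1) → E) = {b} ∪ Set.range a := by
          ext x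
          simp only [Set.mem_range, Set.mem_union, Set.mem_singleton_iff]
          constructor
          · rintro ⟨i, rfl⟩
            refine Fin.cases ?_ (fun j => ?_) i
            · left; simp
            · right; exact ⟨j, by simp⟩
          · rintro (rfl | ⟨j, rfl⟩)
            · exact ⟨0, by simp⟩
            · exact ⟨j.succ, by simp⟩
        rw [hr, ← adjoin_adjoin_left, htop]
        rfl
      · intro i
        refine Fin.cases ?_ (fun j => ?_) i
        · have hempty : (Fin.cons b a : Fin (n + 1) → E) '' {j | j < 0} = ∅ := by
            ext x; simp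
          rw [hempty, adjoin_empty]
          simp only [Fin.cons_zero]
          constructor
          · obtain ⟨c, hc⟩ := hbp
            rw [← hc]; exact IntermediateField.algebraMap_mem _ c
          · intro hmem
            rw [mem_bot] at hmem
            exact hb hmem
        · have himg : (Fin.cons b a : Fin (n + 1) → E) '' {k | k < j.succ}
              = {b} ∪ a '' {k | k < j} := by
            ext x
            simp only [Set.mem_image, Set.mem_ofPred_eq, Set.mem_union, Set.mem_singleton_iff]
            constructor
            · rintro ⟨k, hk, rfl⟩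
              revert hk
              refine Fin.cases ?_ (fun k' => ?_) k
              · intro _; left; simp
              · intro hk; right
                exact ⟨k', by simpa using hk, by simp⟩
            · rintro (rfl | ⟨k', hk', rfl⟩)
              · exact ⟨0, by simp, by simp⟩
              · exact ⟨k'.succ, by simpa using hk', by simp⟩
          rw [himg, ← adjoin_adjoin_left]
          simp only [Fin.cons_succ]
          exact hchain j
      · rw [← hmul, hdeg, hfin, pow_succ, mul_comm]

end Groth.Agent.H95.PInsepTower
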