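import Mathlib
import Groth.Agent.H65.FormalIFT

namespace Groth.Agent.H95.PSInvol

open PowerSeries

universe u
variable {k : Type u} [Field k]

theorem constCoeff_map_X (ψ : PowerSeries k →ₐ[k] PowerSeries k) :
    constantCoeff (ψ X) = 0 := by
  by_contra hc
  set c := constantCoeff (ψ X) with hcdef
  have hu : IsUnit (X - C c : PowerSeries k) := by
    rw [PowerSeries.isUnit_iff_constantCoeff]
    simp only [map_sub, constantCoeff_X, constantCoeff_C, zero_sub, IsUnit.neg_iff]
    exact isUnit_iff_ne_zero.mpr hc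
  have hu2 : IsUnit (ψ (X - C c)) := hu.map ψ
  have hCc : ψ (C c) = C c := by
    have : (C c : PowerSeries k) = algebraMap k (PowerSeries k) c := rfl
    rw [this, ψ.commutes]
  rw [map_sub, hCc, PowerSeries.isUnit_iff_constantCoeff, map_sub, constantCoeff_C, ← hcdef,
    sub_self] at hu2
  exact not_isUnit_zero hu2

theorem constCoeff_map (ψ : PowerSeries k →ₐ[k] PowerSeries k) (f : PowerSeries k) :
    constantCoeff (ψ f) = constantCoeff f := by
  have h := PowerSeries.eq_X_pow_mul_shift_add_trunc 1 f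
  have hCc : ∀ c : k, ψ (C c) = C c := fun c => by
    have : (C c : PowerSeries k) = algebraMap k (PowerSeries k) c := rfl
    rw [this, ψ.commutes]
  have ht : ((trunc 1 f : Polynomial k) : PowerSeries k) = C (constantCoeff f) := by
    ext n
    rw [Polynomial.coeff_coe, coeff_trunc]
    rcases n with _ | n
    · simp
    · simp
  rw [ht, pow_one] at h
  conv_lhs => rw [h]
  rw [map_add, map_mul, hCc, map_add, map_mul, constCoeff_map_X, zero_mul, zero_add,
    constantCoeff_C]

theorem algHom_ext_X (ψ₁ ψ₂ : PowerSeries k →ₐ[k] PowerSeries k) (h : ψ₁ X = ψ₂ X) :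
    ψ₁ = ψ₂ := by
  ext f n
  have hf := PowerSeries.eq_X_pow_mul_shift_add_trunc (n + 1) f
  set g := (mk fun i ↦ coeff (i + (n + 1)) f : PowerSeries k)
  set P := trunc (n + 1) f
  have hP : ψ₁ (P : PowerSeries k) = ψ₂ (P : PowerSeries k) := by
    have : (ψ₁.comp (Polynomial.coeToPowerSeries.algHom k)) =
        (ψ₂.comp (Polynomial.coeToPowerSeries.algHom k)) := by
      apply Polynomial.algHom_ext
      simpa using h
    exact congrArg (fun F => F P) this
  obtain ⟨a', ha'⟩ : X ∣ ψ₂ X := PowerSeries.X_dvd_iff.mpr (constCoeff_map_X ψ₂)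
  have key : ∀ ψ : PowerSeries k →ₐ[k] PowerSeries k, ψ X = ψ₂ X →
      coeff n (ψ f) = coeff n (ψ (P : PowerSeries k)) := by
    intro ψ hψ
    conv_lhs => rw [hf]
    rw [map_add, map_mul, map_pow, hψ, ha', mul_pow, mul_assoc, map_add, coeff_X_pow_mul',
      if_neg (by omega), zero_add]
  rw [key ψ₁ h, key ψ₂ rfl, hP]

theorem main (h2 : (2 : k) ≠ 0)
    (σ : PowerSeries k ≃ₐ[k] PowerSeries k) (hσ : ∀ f, σ (σ f) = f) :
    (PowerSeries.coeff 1 (σ PowerSeries.X)) ^ 2 = 1 ∧
    ∃ φ : PowerSeries k ≃ₐ[k] PowerSeries k,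
      φ PowerSeries.X = PowerSeries.C (2⁻¹ : k) *
        (PowerSeries.X + PowerSeries.C (PowerSeries.coeff 1 (σ PowerSeries.X)) * σ PowerSeries.X) ∧
      ∀ f, φ.symm (σ (φ f)) = PowerSeries.rescale (PowerSeries.coeff 1 (σ PowerSeries.X)) f := by
  set s := σ X with hs
  set ξ := coeff 1 s with hξ
  have hs0 : constantCoeff s = 0 := constCoeff_map_X σ.toAlgHom
  obtain ⟨s', hs'⟩ : X ∣ s := PowerSeries.X_dvd_iff.mpr hs0
  have hξ' : constantCoeff s' = ξ := by
    rw [hξ, hs', coeff_succ_X_mul, coeff_zero_eq_constantCoeff]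
  have hξ2 : ξ ^ 2 = 1 := by
    have h1 : σ s = X := hσ X
    have h3 : σ s = X * (s' * σ s') := by
      conv_lhs => rw [hs']
      rw [map_mul, ← hs, hs']; ring
    have h4 := congrArg (coeff 1) h3
    have e1 : constantCoeff (σ s') = constantCoeff s' := constCoeff_map σ.toAlgHom s'
    rw [h1, coeff_succ_X_mul, coeff_zero_eq_constantCoeff, map_mul,
      e1, hξ', coeff_one_X] at h4
    rw [sq]; exact h4.symm
  refine ⟨hξ2, ?_⟩
  set u : PowerSeries k := C (2⁻¹ : k) * (X + C ξ * s) with hu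
  have hu0 : constantCoeff u = 0 := by
    rw [hu]; simp [hs0]
  have hu1 : coeff 1 u = 1 := by
    rw [hu, coeff_C_mul, map_add, coeff_one_X, coeff_C_mul, ← hξ, ← sq, hξ2]
    rw [one_add_one_eq_two, inv_mul_cancel₀ h2]
  let a : Unit → MvPowerSeries Unit k := fun _ => u
  have ha : ∀ i : Unit, MvPowerSeries.constantCoeff (a i) = 0 := fun _ => hu0
  have hr : ∀ i : Unit, (2 : ℕ∞) ≤ MvPowerSeries.order (a i - MvPowerSeries.X i) := by
    intro i
    apply MvPowerSeries.le_order
    intro d hd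
    have hd' : d = Finsupp.single () (d ()) := by
      ext; simp
    have hdeg : Finsupp.degree d = d () := by
      rw [hd']; simp
    rw [hdeg] at hd
    have hd2 : d () < 2 := by exact_mod_cast hd
    rw [hd']
    change coeff (d ()) (u - X) = 0
    rw [map_sub]
    interval_cases (d ())
    · rw [coeff_zero_eq_constantCoeff, hu0]; simp
    · rw [hu1, coeff_one_X, sub_self]
  have hbij := Groth.Agent.H65.ift_bijective_of_tangent ha hr
  have hsa : MvPowerSeries.HasSubst a := MvPowerSeries.hasSubst_of_constantCoeff_zero ha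
  let φ : PowerSeries k ≃ₐ[k] PowerSeries k :=
    AlgEquiv.ofBijective (MvPowerSeries.substAlgHom hsa)
      (by rw [MvPowerSeries.coe_substAlgHom]; exact hbij)
  have hφX : φ X = u := by
    change MvPowerSeries.substAlgHom hsa (MvPowerSeries.X ()) = u
    rw [MvPowerSeries.substAlgHom_X]
  refine ⟨φ, hφX, ?_⟩
  intro f
  rw [AlgEquiv.symm_apply_eq]
  have hext : (σ.toAlgHom.comp φ.toAlgHom) = (φ.toAlgHom.comp (rescaleAlgHom ξ)) := by
    apply algHom_ext_X
    change σ (φ X) = φ (rescaleAlgHom ξ X)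
    rw [show (rescaleAlgHom ξ X : PowerSeries k) = rescale ξ X from
      DFunLike.congr_fun (coe_rescaleAlgHom ξ) X]
    rw [rescale_X, map_mul, hφX, hu, map_mul, map_add, map_mul, ← hs, hσ X]
    have hC : ∀ c : k, σ (C c) = C c := fun c => by
      have : (C c : PowerSeries k) = algebraMap k (PowerSeries k) c := rfl
      rw [this, σ.commutes]
    have hC' : ∀ c : k, φ (C c) = C c := fun c => by
      have : (C c : PowerSeries k) = algebraMap k (PowerSeries k) c := rfl
      rw [this, φ.commutes]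
    rw [hC, hC, hC']
    have : (C ξ : PowerSeries k) * C ξ = 1 := by rw [← map_mul, ← sq, hξ2, map_one]
    calc C (2⁻¹ : k) * (s + C ξ * X) = C (2⁻¹ : k) * ((C ξ * C ξ) * s + C ξ * X) := by
          rw [this, one_mul]
      _ = C ξ * (C (2⁻¹ : k) * (X + C ξ * s)) := by ring
  have := congrArg (fun F => F f) hext
  change σ (φ f) = φ (rescaleAlgHom ξ f) at this
  rw [this]
  congr 1
  exact DFunLike.congr_fun (coe_rescaleAlgHom ξ) f

end Groth.Agent.H95.PSInvol
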