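import Mathlib.RingTheory.PiTensorProduct
import Mathlib.RingTheory.Ideal.Operations
import Mathlib.RingTheory.Ideal.Quotient.Operations
import Mathlib.Tactic

set_option autoImplicit false
set_option linter.unusedSectionVars false
universe u v

namespace Groth.Agent.H95

open scoped TensorProduct
open PiTensorProduct

section
variable {k : Type u} [CommRing k] {A : Type v} [CommRing A] [Algebra k A]
  {ι : Type*} [Fintype ι] [DecidableEq ι]

/-- the permutation action on the tensor power -/
noncomputable abbrev permAct (σ : Equiv.Perm ι) : (⨂[k] _ : ι, A) →ₗ[k] (⨂[k] _ : ι, A) :=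
  (PiTensorProduct.reindex k (fun _ : ι => A) σ).toLinearMap

theorem permAct_tprod (σ : Equiv.Perm ι) (f : ι → A) :
    permAct (k := k) σ (tprod k f) = tprod k (fun i => f (σ.symm i)) :=
  PiTensorProduct.reindex_tprod σ f

theorem permAct_mul (σ : Equiv.Perm ι) (x y : ⨂[k] _ : ι, A) :
    permAct σ (x * y) = permAct σ x * permAct σ y := by
  induction x using PiTensorProduct.induction_on with
  | smul_tprod r f =>
    induction y using PiTensorProduct.induction_on with
    | smul_tprod s g =>
      rw [smul_mul_smul_comm, tprod_mul_tprod, map_smul, map_smul, map_smul, permAct_tprod,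
        permAct_tprod, permAct_tprod, smul_mul_smul_comm, tprod_mul_tprod]
      rfl
    | add y₁ y₂ h₁ h₂ => rw [mul_add, map_add, map_add, h₁, h₂, mul_add]
  | add x₁ x₂ h₁ h₂ => rw [add_mul, map_add, map_add, h₁, h₂, add_mul]

theorem permAct_one (σ : Equiv.Perm ι) : permAct σ (1 : ⨂[k] _ : ι, A) = 1 := by
  rw [PiTensorProduct.one_def, permAct_tprod]
  rfl

/-- the permutation action as an algebra hom -/
noncomputable def permAlgHom (σ : Equiv.Perm ι) : (⨂[k] _ : ι, A) →ₐ[k] (⨂[k] _ : ι, A) :=
  AlgHom.ofLinearMap (permAct σ) (permAct_one σ) (permAct_mul σ)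

theorem permAlgHom_apply (σ : Equiv.Perm ι) (x : ⨂[k] _ : ι, A) :
    permAlgHom σ x = PiTensorProduct.reindex k (fun _ : ι => A) σ x := rfl

theorem permAlgHom_single (σ : Equiv.Perm ι) (i : ι) (a : A) :
    permAlgHom σ (singleAlgHom (R := k) (A := fun _ : ι => A) i a) =
      singleAlgHom (R := k) (A := fun _ : ι => A) (σ i) a := by
  rw [permAlgHom_apply, singleAlgHom_apply, singleAlgHom_apply, PiTensorProduct.reindex_tprod]
  congr 1
  funext l
  simp only [MonoidHom.mulSingle_apply, Pi.mulSingle_apply]
  by_cases h : l = σ i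
  · subst h
    simp
  · rw [if_neg h, if_neg]
    intro h'
    apply h
    rw [← h', Equiv.apply_symm_apply]

/-- the generator `a_i - a_j` of the diagonal ideal -/
noncomputable def diagGen (i j : ι) (a : A) : ⨂[k] _ : ι, A :=
  singleAlgHom (R := k) (A := fun _ : ι => A) i a - singleAlgHom (R := k) (A := fun _ : ι => A) j a

/-- the diagonal ideal `I_{ij}` -/
noncomputable def diagIdeal (i j : ι) : Ideal (⨂[k] _ : ι, A) :=
  Ideal.span (Set.range fun a : A => diagGen (k := k) i j a)

theorem permAlgHom_swap_diagGen (i j : ι) (a : A) :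
    permAlgHom (Equiv.swap i j) (diagGen (k := k) i j a) = -diagGen (k := k) i j a := by
  unfold diagGen
  rw [map_sub, permAlgHom_single, permAlgHom_single, Equiv.swap_apply_left, Equiv.swap_apply_right]
  ring

theorem permAlgHom_swap_sub_mem (i j : ι) (x : ⨂[k] _ : ι, A) :
    permAlgHom (Equiv.swap i j) x - x ∈ diagIdeal (k := k) (A := A) i j := by
  have heq : (Ideal.Quotient.mkₐ k (diagIdeal (k := k) (A := A) i j)).comp
      (permAlgHom (Equiv.swap i j)) = Ideal.Quotient.mkₐ k (diagIdeal (k := k) (A := A) i j) := by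
    apply PiTensorProduct.algHom_ext
    intro l
    ext a
    simp only [AlgHom.comp_apply, Ideal.Quotient.mkₐ_eq_mk]
    rw [permAlgHom_single, Ideal.Quotient.eq]
    by_cases hli : l = i
    · subst hli
      rw [Equiv.swap_apply_left]
      have : singleAlgHom (R := k) (A := fun _ : ι => A) j a -
          singleAlgHom (R := k) (A := fun _ : ι => A) l a = -diagGen (k := k) l j a := by
        unfold diagGen; ring
      rw [this]
      exact Ideal.neg_mem_iff _ |>.mpr (Ideal.subset_span ⟨a, rfl⟩)
    · by_cases hlj : l = j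
      · subst hlj
        rw [Equiv.swap_apply_right]
        exact Ideal.subset_span ⟨a, rfl⟩
      · rw [Equiv.swap_apply_of_ne_of_ne hli hlj, sub_self]
        exact Ideal.zero_mem _
  have := AlgHom.congr_fun heq x
  simp only [AlgHom.comp_apply, Ideal.Quotient.mkₐ_eq_mk] at this
  rwa [Ideal.Quotient.eq] at this

theorem permAlgHom_swap_add_mem_sq (i j : ι) (z : ⨂[k] _ : ι, A)
    (hz : z ∈ diagIdeal (k := k) (A := A) i j) :
    permAlgHom (Equiv.swap i j) z + z ∈ (diagIdeal (k := k) (A := A) i j) ^ 2 := by
  unfold diagIdeal at hz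
  induction hz using Submodule.span_induction with
  | mem x hx =>
    obtain ⟨a, rfl⟩ := hx
    simp only
    rw [permAlgHom_swap_diagGen, neg_add_cancel]
    exact Ideal.zero_mem _
  | zero => simp
  | add x y _ _ hx hy =>
    have : permAlgHom (Equiv.swap i j) (x + y) + (x + y) =
        (permAlgHom (Equiv.swap i j) x + x) + (permAlgHom (Equiv.swap i j) y + y) := by
      rw [map_add]; ring
    rw [this]
    exact Ideal.add_mem _ hx hy
  | smul r x hx' hx =>
    rw [smul_eq_mul, map_mul]
    have : permAlgHom (Equiv.swap i j) r * permAlgHom (Equiv.swap i j) x + r * x =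
        permAlgHom (Equiv.swap i j) r * (permAlgHom (Equiv.swap i j) x + x) -
          (permAlgHom (Equiv.swap i j) r - r) * x := by ring
    rw [this]
    refine Ideal.sub_mem _ (Ideal.mul_mem_left _ _ hx) ?_
    rw [pow_two]
    exact Ideal.mul_mem_mul (permAlgHom_swap_sub_mem i j r) hx'

theorem permAlgHom_swap_sub_pow_mem (i j : ι) (s : ℕ) (x : ⨂[k] _ : ι, A)
    (hx : x ∈ (diagIdeal (k := k) (A := A) i j) ^ s) :
    permAlgHom (Equiv.swap i j) x - (-1) ^ s * x ∈ (diagIdeal (k := k) (A := A) i j) ^ (s + 1) := by
  induction s generalizing x with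
  | zero =>
    simpa using permAlgHom_swap_sub_mem i j x
  | succ s ih =>
    rw [pow_succ] at hx
    refine Submodule.mul_induction_on hx ?_ ?_
    · intro y hy z hz
      set ρ := permAlgHom (k := k) (A := A) (Equiv.swap i j) with hρ
      have hu := ih y hy
      have hw := permAlgHom_swap_add_mem_sq i j z hz
      have : ρ (y * z) - (-1) ^ (s + 1) * (y * z) =
          (-1) ^ s * y * (ρ z + z) - (ρ y - (-1) ^ s * y) * z +
            (ρ y - (-1) ^ s * y) * (ρ z + z) := by
        rw [map_mul]; ring
      rw [this]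
      have e1 : (diagIdeal (k := k) (A := A) i j) ^ (s + 1 + 1) =
          (diagIdeal (k := k) (A := A) i j) ^ s * (diagIdeal (k := k) (A := A) i j) ^ 2 := by
        rw [← pow_add]
      have e2 : (diagIdeal (k := k) (A := A) i j) ^ (s + 1 + 1) =
          (diagIdeal (k := k) (A := A) i j) ^ (s + 1) * (diagIdeal (k := k) (A := A) i j) := by
        rw [pow_succ]
      refine Ideal.add_mem _ (Ideal.sub_mem _ ?_ ?_) ?_
      · rw [e1]
        exact Ideal.mul_mem_mul (Ideal.mul_mem_left _ _ hy) hw
      · rw [e2]
        exact Ideal.mul_mem_mul hu hz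
      · rw [e2]
        refine Ideal.mul_mem_mul hu ?_
        exact Ideal.add_mem _ (by
          have := permAlgHom_swap_sub_mem i j z
          have h2 : ρ z = (ρ z - z) + z := by ring
          rw [h2]
          exact Ideal.add_mem _ this hz) hz
    · intro y z hy hz
      have : permAlgHom (Equiv.swap i j) (y + z) - (-1) ^ (s + 1) * (y + z) =
          (permAlgHom (Equiv.swap i j) y - (-1) ^ (s + 1) * y) +
            (permAlgHom (Equiv.swap i j) z - (-1) ^ (s + 1) * z) := by
        rw [map_add]; ring
      rw [this]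
      exact Ideal.add_mem _ hy hz

end
end Groth.Agent.H95
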