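import Mathlib

/-! Points of quasi-affine schemes with values in a topological ring with open unit group
land in an affine open (approximation argument). -/

set_option autoImplicit false
universe u
open CategoryTheory AlgebraicGeometry

namespace Groth.Agent.H95.QAffPoint

/-- Approximation: if `J.map ψ = ⊤` and `B₀ → B` has dense image with units of `B` open, some element
of `J` maps to a unit. -/
theorem exists_mem_isUnit {B B₀ R : Type*} [CommRing B] [CommRing B₀] [CommRing R]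
    [TopologicalSpace B] [IsTopologicalRing B] (hB : IsOpen {b : B | IsUnit b})
    (φ : B₀ →+* B) (hφ : DenseRange φ) (α : B₀ →+* R) (ψ : R →+* B)
    (hαψ : ψ.comp α = φ) (J : Ideal R) (hJ : J.map ψ = ⊤) :
    ∃ r ∈ J, IsUnit (ψ r) := by
  have h1 : (1 : B) ∈ Ideal.span (ψ '' (J : Set R)) := by
    have : Ideal.span (ψ '' (J : Set R)) = J.map ψ := rfl
    rw [this, hJ]; trivial
  obtain ⟨n, c, g, hsum⟩ := Submodule.mem_span_set'.mp h1
  have hg : ∀ i, ∃ r ∈ J, ψ r = (g i : B) := fun i => by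
    obtain ⟨r, hr, h⟩ := (g i).2
    exact ⟨r, hr, h⟩
  choose r hrJ hr using hg
  let F : (Fin n → B) → B := fun c => ∑ i, c i * (g i : B)
  have hF : Continuous F := by
    refine continuous_finsetSum _ fun i _ => ?_
    exact (continuous_apply i).mul continuous_const
  have hopen : IsOpen (F ⁻¹' {b : B | IsUnit b}) := hB.preimage hF
  have hne : (F ⁻¹' {b : B | IsUnit b}).Nonempty := by
    refine ⟨c, ?_⟩
    change IsUnit (∑ i, c i * (g i : B))
    have : ∑ i, c i * (g i : B) = 1 := by simpa [smul_eq_mul] using hsum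
    rw [this]; exact isUnit_one
  have hd : DenseRange (Pi.map (fun _ : Fin n => (φ : B₀ → B))) :=
    DenseRange.piMap (fun _ => hφ)
  obtain ⟨b, hb⟩ := hd.exists_mem_open hopen hne
  refine ⟨∑ i, α (b i) * r i, J.sum_mem fun i _ => J.mul_mem_left _ (hrJ i), ?_⟩
  have : ψ (∑ i, α (b i) * r i) = F (Pi.map (fun _ : Fin n => (φ : B₀ → B)) b) := by
    simp only [map_sum, map_mul, F, Pi.map_apply, hr]
    refine Finset.sum_congr rfl fun i _ => ?_
    rw [← hαψ]; rfl
  rw [this]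
  exact hb

theorem main (B : Type u) [CommRing B] [TopologicalSpace B]
    [IsTopologicalRing B] (hB : IsOpen {b : B | IsUnit b})
    (B₀ : Type u) [CommRing B₀] (φ : B₀ →+* B) (hφ : DenseRange φ)
    (X : Scheme.{u}) [X.IsQuasiAffine] (p : X ⟶ Spec (CommRingCat.of B₀))
    (f : Spec (CommRingCat.of B) ⟶ X) (hf : f ≫ p = Spec.map (CommRingCat.ofHom φ)) :
    ∃ U : X.Opens, IsAffineOpen U ∧ Set.range f.base ⊆ (U : Set X) := by
  -- the ring maps
  let ψ : Γ(X, ⊤) ⟶ CommRingCat.of B := f.appTop ≫ (Scheme.ΓSpecIso (CommRingCat.of B)).hom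
  let α : CommRingCat.of B₀ ⟶ Γ(X, ⊤) := (Scheme.ΓSpecIso (CommRingCat.of B₀)).inv ≫ p.appTop
  have hαψ : α ≫ ψ = CommRingCat.ofHom φ := by
    have h1 : p.appTop ≫ f.appTop = (Spec.map (CommRingCat.ofHom φ)).appTop := by
      rw [← hf]; simp
    simp only [α, ψ, Category.assoc]
    rw [reassoc_of% h1, Scheme.ΓSpecIso_naturality, Iso.inv_hom_id_assoc]
  have hq : f ≫ X.toSpecΓ = Spec.map ψ := by
    rw [Scheme.toSpecΓ_naturality, ← SpecMap_ΓSpecIso_hom, ← Spec.map_comp]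
  -- the open image and its ideal
  let W : Set (PrimeSpectrum Γ(X, ⊤)) := Set.range X.toSpecΓ
  have hW : IsOpen W := X.toSpecΓ.isOpenEmbedding.isOpen_range
  let J : Ideal Γ(X, ⊤) := PrimeSpectrum.vanishingIdeal Wᶜ
  have hpt : ∀ y : Spec (CommRingCat.of B), X.toSpecΓ (f y) = PrimeSpectrum.comap ψ.hom y := by
    intro y
    have := congr($(hq) y)
    exact this
  have hJtop : J.map ψ.hom = ⊤ := by
    by_contra hne
    obtain ⟨m, hm, hle⟩ := Ideal.exists_le_maximal _ hne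
    let y : Spec (CommRingCat.of B) := ⟨m, hm.isPrime⟩
    have hz : X.toSpecΓ (f y) ∈ W := Set.mem_range_self _
    have hcl : PrimeSpectrum.zeroLocus (J : Set Γ(X, ⊤)) = Wᶜ := by
      rw [PrimeSpectrum.zeroLocus_vanishingIdeal_eq_closure, hW.isClosed_compl.closure_eq]
    have hz' : X.toSpecΓ (f y) ∉ PrimeSpectrum.zeroLocus (J : Set Γ(X, ⊤)) := by
      rw [hcl]; exact fun h => h hz
    have hz'' : ¬ ((J : Set Γ(X, ⊤)) ⊆ ((X.toSpecΓ (f y) : PrimeSpectrum Γ(X, ⊤)).asIdeal : Set Γ(X, ⊤))) := hz'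
    rw [Set.not_subset] at hz''
    obtain ⟨r, hrJ, hr⟩ := hz''
    rw [hpt] at hr
    apply hr
    change ψ.hom r ∈ m
    exact hle (Ideal.mem_map_of_mem _ hrJ)
  obtain ⟨r, hrJ, hru⟩ := exists_mem_isUnit hB φ hφ α.hom ψ.hom
    (by rw [← CommRingCat.hom_comp, hαψ]; rfl) J hJtop
  refine ⟨X.basicOpen r, ?_, ?_⟩
  · have hsub : (PrimeSpectrum.basicOpen r : Set (PrimeSpectrum Γ(X, ⊤))) ⊆ Set.range X.toSpecΓ := by
      intro x hx
      by_contra hxW
      exact hx ((PrimeSpectrum.mem_vanishingIdeal _ _).mp hrJ x hxW)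
    rw [← Scheme.toSpecΓ_preimage_basicOpen, ← Scheme.Hom.isAffineOpen_iff_of_isOpenImmersion X.toSpecΓ]
    have heq : X.toSpecΓ ''ᵁ X.toSpecΓ ⁻¹ᵁ PrimeSpectrum.basicOpen r = PrimeSpectrum.basicOpen r :=
      SetLike.coe_injective (Set.image_preimage_eq_of_subset hsub)
    rw [heq]
    exact IsAffineOpen.Spec_basicOpen r
  · rintro _ ⟨y, rfl⟩
    have : f y ∈ X.toSpecΓ ⁻¹ᵁ PrimeSpectrum.basicOpen r := by
      change X.toSpecΓ (f y) ∈ PrimeSpectrum.basicOpen r
      rw [hpt]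
      change ψ.hom r ∉ y.asIdeal
      exact fun h => y.2.ne_top (Ideal.eq_top_of_isUnit_mem _ h hru)
    rwa [Scheme.toSpecΓ_preimage_basicOpen] at this

end Groth.Agent.H95.QAffPoint
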