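import Groth.Agent.H95.SDNat2
import Groth.Agent.H12.QCohAbelian

/-!
Extension of duality from coherent to quasi-coherent modules, part 1: a cohomology class whose
Čech cocycle has all its components in a submodule comes from the cohomology of that submodule
(helper95).
-/

set_option autoImplicit false
universe u
open CategoryTheory CategoryTheory.Limits AlgebraicGeometry TopologicalSpace Opposite

namespace Groth.Agent.H95.QcohExt

open Groth.Agent.Lead.Cech Groth.Agent.H62.NL Groth.Agent.H95.SD

variable {X : Scheme.{u}} {ι : Type u} (U : ι → X.Opens)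

/-- the action of a monomorphism on Čech cochains is injective -/
theorem cechPush_injective {G F : X.Modules} (m : G ⟶ F) [Mono m] (p : ℕ) :
    Function.Injective (cechPush U m p) := by
  intro x y h
  refine ext_elem (X := X) U G.presheaf fun σ => ?_
  have h1 := congrArg (proj (X := X) U F.presheaf p σ) h
  rw [proj_cechPush, proj_cechPush] at h1
  exact Groth.Agent.H12.QCohAbelian.app_injective_of_mono m (cechOpen (X := X) U σ) h1

variable (hcov : ⨆ i, U i = ⊤)

/-- **classes come from submodules capturing a cocycle** -/
theorem exists_HH_preimage {G F : X.Modules} (m : G ⟶ F) [Mono m]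
    (hG : Acyc (X := X.toTopCat) U (Coh.toAb G)) (hF : Acyc (X := X.toTopCat) U (Coh.toAb F))
    (p : ℕ) (z : cocyc (K (X := X) U F.presheaf) p)
    (hz : ∀ σ : Fin (p + 1) → ι, ∃ w : (G.presheaf.obj (op (cechOpen (X := X) U σ)) : Type u),
      ((SheafOfModules.toSheaf X.ringCatSheaf).map m).hom.app (op (cechOpen (X := X) U σ)) w =
        proj (X := X) U F.presheaf p σ z.1) :
    ∃ y : Coh.HH X G p,
      Sheaf.H.map ((SheafOfModules.toSheaf X.ringCatSheaf).map m) p y =
        cechCls U hcov F hF p z := by
  choose w hw using hz
  let c : ((K (X := X) U G.presheaf).X p : Type u) := (coords (X := X) U G.presheaf p).symm w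
  have hc : cechPush U m p c = z.1 := by
    refine ext_elem (X := X) U F.presheaf fun σ => ?_
    rw [proj_cechPush, proj_coords_symm]
    exact hw σ
  have hcoc : c ∈ cocyc (K (X := X) U G.presheaf) p := by
    rw [mem_cocyc]
    apply cechPush_injective U m (p + 1)
    rw [← d_cechPush, hc, (mem_cocyc _ z.1).mp z.2, map_zero]
  refine ⟨cechCls U hcov G hG p ⟨c, hcoc⟩, ?_⟩
  rw [cechCls_naturality U hcov hG hF m p ⟨c, hcoc⟩]
  congr 1
  exact Subtype.ext hc

end Groth.Agent.H95.QcohExt
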