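import Groth.Agent.H30.CohLoc.Closure
import Groth.Agent.Lead.Coh.SerreAffineFT
import Groth.Agent.H33.SchemeDer.Restrict
import Groth.Agent.H44.SeqLimModules

/-!
Extension of duality from coherent to quasi-coherent modules, part 2: a quasi-coherent module on
a qcqs scheme is the filtered colimit of a directed system of subobjects of finite type, indexed
by finite sets of local sections; compatible families of morphisms glue (helper95).
-/

set_option autoImplicit false
set_option linter.style.haveILetI false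
universe u
open CategoryTheory CategoryTheory.Limits AlgebraicGeometry TopologicalSpace Opposite

namespace Groth.Agent.H95.QcohExt

open Groth.Agent.H12.SubSum Groth.Agent.H12.QCohAbelian

variable {X : Scheme.{u}}

/-- the supremum of two subobjects of finite type of a quasi-coherent module is of finite type -/
theorem isCoh_sup {F : X.Modules} [F.IsQuasicoherent] (s₁ s₂ : Subobject F)
    (h₁ : Coh.IsCoh (s₁ : X.Modules)) (h₂ : Coh.IsCoh (s₂ : X.Modules)) :
    Coh.IsCoh ((s₁ ⊔ s₂ : Subobject F) : X.Modules) := by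
  haveI : (s₁ : X.Modules).IsQuasicoherent := h₁.1
  haveI : (s₂ : X.Modules).IsQuasicoherent := h₂.1
  obtain ⟨φ, hφ⟩ : ∃ φ : (s₁ : X.Modules) ⊞ (s₂ : X.Modules) ⟶ F,
      φ = biprod.desc s₁.arrow s₂.arrow := ⟨_, rfl⟩
  let h : (s₁ : X.Modules) ⊞ (s₂ : X.Modules) ⟶ ((s₁ ⊔ s₂ : Subobject F) : X.Modules) :=
    biprod.desc (s₁.ofLE _ le_sup_left) (s₂.ofLE _ le_sup_right)
  have hh : h ≫ (s₁ ⊔ s₂).arrow = φ := by
    apply biprod.hom_ext' <;> simp [h, hφ]
  have heq : s₁ ⊔ s₂ = Subobject.mk (Abelian.image.ι φ) := by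
    apply le_antisymm
    · refine sup_le ?_ ?_
      · exact Subobject.le_mk_of_comm (biprod.inl ≫ Abelian.factorThruImage φ) (by simp [hφ])
      · exact Subobject.le_mk_of_comm (biprod.inr ≫ Abelian.factorThruImage φ) (by simp [hφ])
    · haveI : StrongEpi (Abelian.factorThruImage φ) := strongEpi_of_epi _
      have sq : CommSq h (Abelian.factorThruImage φ) (s₁ ⊔ s₂).arrow (Abelian.image.ι φ) :=
        ⟨by rw [hh, Abelian.image.fac]⟩
      exact Subobject.mk_le_of_comm sq.lift sq.fac_right
  haveI hqb : ((s₁ : X.Modules) ⊞ (s₂ : X.Modules)).IsQuasicoherent := isQuasicoherent_biprod _ _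
  haveI hqi : (Abelian.image φ).IsQuasicoherent := isQuasicoherent_image φ
  have hfi : SheafOfModules.IsFiniteType (R := X.ringCatSheaf) (Abelian.image φ) :=
    Groth.Agent.H12.QCohEpi.isFiniteType_of_epi
      (M := (s₁ : X.Modules) ⊞ (s₂ : X.Modules)) (N := Abelian.image φ)
      (Abelian.factorThruImage φ) (isFiniteType_biprod _ _ h₁.2 h₂.2)
  exact Groth.Agent.H30.CohLoc.isCoh_of_iso
    ((Subobject.underlyingIso (Abelian.image.ι φ)).symm ≪≫ (Subobject.isoOfEq _ _ heq).symm)
    ⟨hqi, hfi⟩

section System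

variable [CompactSpace X] [QuasiSeparatedSpace X] (F : X.Modules) [F.IsQuasicoherent]

/-- the index type: local sections over affine opens -/
abbrev Idx : Type u := Σ U : X.affineOpens, Γ(F, U.1)

theorem exists_sub1 (a : Idx F) : ∃ s : Subobject F, Coh.IsCoh (s : X.Modules) ∧
    ∃ g : Γ((s : X.Modules), a.1.1), (s.arrow.app a.1.1).hom g = a.2 := by
  obtain ⟨E, i, hm, hq, hft, hcap⟩ := Groth.Agent.Lead.SerreAffine.captured_singleton F a
  obtain ⟨g, hg⟩ := hcap a rfl
  haveI := hm
  refine ⟨Subobject.mk i,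
    Groth.Agent.H30.CohLoc.isCoh_of_iso (Subobject.underlyingIso i).symm ⟨hq, hft⟩,
    ((Subobject.underlyingIso i).inv.app a.1.1).hom g, ?_⟩
  have h1 : (Subobject.underlyingIso i).inv ≫ (Subobject.mk i).arrow = i :=
    Subobject.underlyingIso_arrow i
  exact (congrArg (fun k : E ⟶ F => (k.app a.1.1).hom g) h1).trans hg

/-- the chosen subobject of finite type containing a given local section -/
noncomputable def sub1 (a : Idx F) : Subobject F := (exists_sub1 F a).choose

theorem isCoh_sub1 (a : Idx F) : Coh.IsCoh (sub1 F a : X.Modules) :=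
  (exists_sub1 F a).choose_spec.1

theorem exists_sub1_app (a : Idx F) :
    ∃ g : Γ((sub1 F a : X.Modules), a.1.1), ((sub1 F a).arrow.app a.1.1).hom g = a.2 :=
  (exists_sub1 F a).choose_spec.2

/-- the directed system of subobjects of finite type, indexed by finite sets of sections -/
noncomputable def sys (T : Finset (Idx F)) : Subobject F := T.sup (sub1 F)

theorem sys_mono : Monotone (sys F) := fun _ _ h => Finset.sup_mono h

theorem isCoh_sys (T : Finset (Idx F)) : Coh.IsCoh (sys F T : X.Modules) := by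
  refine Finset.sup_induction (p := fun s : Subobject F => Coh.IsCoh (s : X.Modules)) ?_ ?_ ?_
  · exact Groth.Agent.H30.CohLoc.isCoh_of_isZero _
      (IsZero.of_iso (isZero_zero _) Subobject.botCoeIsoZero)
  · intro s₁ h₁ s₂ h₂
    exact isCoh_sup s₁ s₂ h₁ h₂
  · intro a _
    exact isCoh_sub1 F a

theorem exists_sys_app {T : Finset (Idx F)} {a : Idx F} (ha : a ∈ T) :
    ∃ g : Γ((sys F T : X.Modules), a.1.1), ((sys F T).arrow.app a.1.1).hom g = a.2 := by
  obtain ⟨g, hg⟩ := exists_sub1_app F a
  have hle : sub1 F a ≤ sys F T := Finset.le_sup (f := sub1 F) ha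
  refine ⟨(((sub1 F a).ofLE (sys F T) hle).app a.1.1).hom g, ?_⟩
  have h1 : (sub1 F a).ofLE (sys F T) hle ≫ (sys F T).arrow = (sub1 F a).arrow :=
    Subobject.ofLE_arrow hle
  exact (congrArg (fun k : (sub1 F a : X.Modules) ⟶ F => (k.app a.1.1).hom g) h1).trans hg

end System

end Groth.Agent.H95.QcohExt
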