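import Groth.Agent.H95.QcohExt2

/-!
Extension of duality from coherent to quasi-coherent modules, part 3: gluing morphisms along the
directed system of subobjects of finite type (helper95).
-/

set_option autoImplicit false
set_option linter.style.haveILetI false
universe u
open CategoryTheory CategoryTheory.Limits AlgebraicGeometry TopologicalSpace Opposite

namespace Groth.Agent.H95.QcohExt

variable {X : Scheme.{u}} [CompactSpace X] [QuasiSeparatedSpace X]
  (F : X.Modules) [F.IsQuasicoherent]

/-- the diagram of the directed system, in `MonoOver F` -/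
noncomputable def diag : Finset (Idx F) ⥤ MonoOver F :=
  (sys_mono F).functor ⋙ Subobject.representative

/-- the underlying diagram of modules -/
noncomputable abbrev diagC : Finset (Idx F) ⥤ X.Modules :=
  diag F ⋙ MonoOver.forget F ⋙ Over.forget F

theorem diagC_obj (T : Finset (Idx F)) : (diagC F).obj T = (sys F T : X.Modules) := rfl

theorem diagC_map_arrow {T T' : Finset (Idx F)} (h : T ⟶ T') :
    (diagC F).map h ≫ (sys F T').arrow = (sys F T).arrow :=
  MonoOver.w ((diag F).map h)

/-- the cocone of the arrows into `F` -/
noncomputable def arrowCocone : Cocone (diagC F) where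
  pt := F
  ι := { app := fun T => (sys F T).arrow
         naturality := fun _ _ h =>
           (diagC_map_arrow F h).trans (Category.comp_id _).symm }

/-- the comparison from the colimit -/
noncomputable def comp : colimit (diagC F) ⟶ F := colimit.desc (diagC F) (arrowCocone F)

theorem ι_comp (T : Finset (Idx F)) : colimit.ι (diagC F) T ≫ comp F = (sys F T).arrow :=
  colimit.ι_desc (arrowCocone F) T

instance : Mono (comp F) :=
  IsGrothendieckAbelian.mono_of_isColimit_monoOver (diag F) (colimit.isColimit (diagC F))
    (comp F) (fun T => ι_comp F T)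

instance : Epi (comp F) := by
  refine Groth.Agent.H44.epi_of_surjective_on_basis _ (fun U : X.affineOpens => U.1)
    (by rw [Subtype.range_coe]; exact X.isBasis_affineOpens) ?_
  intro U s
  let a : Idx F := ⟨U, s⟩
  obtain ⟨g, hg⟩ := exists_sys_app F (T := {a}) (a := a) (Finset.mem_singleton_self a)
  refine ⟨((colimit.ι (diagC F) {a}).app U.1).hom g, ?_⟩
  have h1 := ι_comp F {a}
  exact (congrArg (fun k : (sys F {a} : X.Modules) ⟶ F => (k.app U.1).hom g) h1).trans hg

instance : IsIso (comp F) := isIso_of_mono_of_epi _

/-- **gluing**: a compatible family of morphisms on the directed system glues -/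
theorem exists_glue {ω : X.Modules} (φ : ∀ T : Finset (Idx F), (sys F T : X.Modules) ⟶ ω)
    (hφ : ∀ (T T' : Finset (Idx F)) (h : T ≤ T'),
      (sys F T).ofLE (sys F T') (sys_mono F h) ≫ φ T' = φ T) :
    ∃ Φ : F ⟶ ω, ∀ T, (sys F T).arrow ≫ Φ = φ T := by
  let c : Cocone (diagC F) :=
    { pt := ω
      ι := { app := fun T => φ T
             naturality := fun T T' h =>
               (hφ T T' (leOfHom h)).trans (Category.comp_id _).symm } }
  refine ⟨inv (comp F) ≫ colimit.desc (diagC F) c, fun T => ?_⟩
  have h1 : (sys F T).arrow ≫ inv (comp F) = colimit.ι (diagC F) T :=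
    (IsIso.comp_inv_eq (comp F)).mpr (ι_comp F T).symm
  have h2 : colimit.ι (diagC F) T ≫ colimit.desc (diagC F) c = φ T := colimit.ι_desc c T
  have h3 : (sys F T).arrow ≫ inv (comp F) ≫ colimit.desc (diagC F) c =
      ((sys F T).arrow ≫ inv (comp F)) ≫ colimit.desc (diagC F) c := (Category.assoc _ _ _).symm
  have h4 : ((sys F T).arrow ≫ inv (comp F)) ≫ colimit.desc (diagC F) c =
      colimit.ι (diagC F) T ≫ colimit.desc (diagC F) c :=
    congrArg (fun k => k ≫ colimit.desc (diagC F) c) h1
  exact h3.trans (h4.trans h2)

/-- morphisms out of `F` are determined on the directed system -/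
theorem hom_ext_sys {ω : X.Modules} (Φ Φ' : F ⟶ ω)
    (h : ∀ T, (sys F T).arrow ≫ Φ = (sys F T).arrow ≫ Φ') : Φ = Φ' := by
  rw [← cancel_epi (comp F)]
  refine colimit.hom_ext fun T => ?_
  rw [← Category.assoc, ← Category.assoc, ι_comp]
  exact h T

end Groth.Agent.H95.QcohExt
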