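import Groth.Agent.H95.QcohExt1
import Groth.Agent.H95.QcohExt3
import Groth.Agent.Lead.Coh.FiniteLES
import Groth.Prelude.Def_Canon

/-!
Extension of duality from coherent to quasi-coherent modules, part 4: if the duality map of a
pair `(ω, tr)` is bijective on all quasi-coherent modules of finite type, it is bijective on all
quasi-coherent modules (qcqs scheme with a finite cover with affine finite intersections)
(helper95).
-/

set_option autoImplicit false
set_option linter.style.haveILetI false
universe u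
open CategoryTheory CategoryTheory.Limits AlgebraicGeometry TopologicalSpace Opposite

namespace Groth.Agent.H95.QcohExt

open Groth.Agent.Lead.Cech Groth.Agent.H62.NL Groth.Agent.H95.SD

variable (A : Type u) [CommRing A] {X : Scheme.{u}} [X.Over (Spec (CommRingCat.of A))]

theorem HHlin_comp' {F G H : X.Modules} (φ : F ⟶ G) (ψ : G ⟶ H) (i : ℕ) :
    Canon.HHlin A (φ ≫ ψ) i = (Canon.HHlin A ψ i).comp (Canon.HHlin A φ i) := by
  ext x
  exact LinearMap.congr_fun (Groth.Agent.Lead.FiniteLES.HHmap_comp φ ψ i) x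

theorem dualityMap_comp (r : ℕ) (ω : X.Modules) (tr : Coh.HH X ω r →ₗ[A] A) {F G : X.Modules}
    (g : G ⟶ F) (φ : F ⟶ ω) :
    Canon.dualityMap A X r ω tr G (g ≫ φ) =
      (Canon.dualityMap A X r ω tr F φ).comp (Canon.HHlin A g r) := by
  unfold Canon.dualityMap
  rw [HHlin_comp', LinearMap.comp_assoc]

variable [CompactSpace X] [QuasiSeparatedSpace X]
  {ι : Type u} [Finite ι] (U : ι → X.Opens) (hcov : ⨆ i, U i = ⊤)
  (hU : ∀ s : Finset ι, s.Nonempty → IsAffineOpen (⨅ i ∈ s, U i))

omit [CompactSpace ↥X] [QuasiSeparatedSpace ↥X] [Finite ι] in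
include hU in
theorem isAffineOpen_cechOpen {n : ℕ} (σ : Fin (n + 1) → ι) :
    IsAffineOpen (cechOpen (X := X) U σ) := by
  classical
  rw [cechOpen_eq_iInf]
  have h := hU (Finset.univ.image σ) ⟨σ 0, Finset.mem_image_of_mem σ (Finset.mem_univ 0)⟩
  have heq : (⨅ i ∈ Finset.univ.image σ, U i) = ⨅ a, U (σ a) := by
    apply le_antisymm
    · exact le_iInf fun a => iInf₂_le (σ a) (Finset.mem_image_of_mem σ (Finset.mem_univ a))
    · refine le_iInf₂ fun i hi => ?_
      obtain ⟨a, -, rfl⟩ := Finset.mem_image.mp hi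
      exact iInf_le _ a
  rwa [heq] at h

include hcov hU in
/-- every cohomology class of a quasi-coherent module comes from a member of the directed system
of subobjects of finite type -/
theorem exists_sys_preimage (F : X.Modules) [F.IsQuasicoherent] (r : ℕ) (x : Coh.HH X F r) :
    ∃ (T : Finset (Idx F)) (y : Coh.HH X (sys F T : X.Modules) r),
      Sheaf.H.map ((SheafOfModules.toSheaf X.ringCatSheaf).map (sys F T).arrow) r y = x := by
  classical
  have hF' : Acyc (X := X.toTopCat) U (Coh.toAb F) := acyc_of_isAffineOpen X U hU F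
  obtain ⟨z, rfl⟩ := cechCls_surjective U hcov F hF' r x
  haveI : Fintype (Fin (r + 1) → ι) := Fintype.ofFinite _
  let a : (Fin (r + 1) → ι) → Idx F := fun σ =>
    ⟨⟨cechOpen (X := X) U σ, isAffineOpen_cechOpen U hU σ⟩, proj (X := X) U F.presheaf r σ z.1⟩
  let T : Finset (Idx F) := Finset.univ.image a
  haveI : (sys F T : X.Modules).IsQuasicoherent := (isCoh_sys F T).1
  have hG : Acyc (X := X.toTopCat) U (Coh.toAb (sys F T : X.Modules)) :=
    acyc_of_isAffineOpen X U hU _
  have hz : ∀ σ : Fin (r + 1) → ι,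
      ∃ w : ((sys F T : X.Modules).presheaf.obj (op (cechOpen (X := X) U σ)) : Type u),
        ((SheafOfModules.toSheaf X.ringCatSheaf).map (sys F T).arrow).hom.app
          (op (cechOpen (X := X) U σ)) w = proj (X := X) U F.presheaf r σ z.1 := by
    intro σ
    obtain ⟨g, hg⟩ := exists_sys_app F (T := T) (a := a σ)
      (Finset.mem_image_of_mem a (Finset.mem_univ σ))
    exact ⟨g, hg⟩
  obtain ⟨y, hy⟩ := exists_HH_preimage U hcov (sys F T).arrow hG hF' r z hz
  exact ⟨T, y, hy⟩

include hcov hU in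
/-- **extension of duality from finite type to all quasi-coherent modules** -/
theorem bijective_dualityMap (r : ℕ) (ω : X.Modules) (tr : Coh.HH X ω r →ₗ[A] A)
    (hcoh : ∀ G : X.Modules, Coh.IsCoh G → Function.Bijective (Canon.dualityMap A X r ω tr G))
    (F : X.Modules) (hF : Coh.IsQCoh F) :
    Function.Bijective (Canon.dualityMap A X r ω tr F) := by
  haveI : F.IsQuasicoherent := hF
  have hinj : Function.Injective (Canon.dualityMap A X r ω tr F) := by
    intro φ φ' h
    refine hom_ext_sys F φ φ' fun T => ?_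
    apply (hcoh _ (isCoh_sys F T)).1
    rw [dualityMap_comp, dualityMap_comp, h]
  refine ⟨hinj, fun ψ => ?_⟩
  -- the compatible family
  have hex : ∀ T : Finset (Idx F), ∃ φ : (sys F T : X.Modules) ⟶ ω,
      Canon.dualityMap A X r ω tr _ φ = ψ.comp (Canon.HHlin A (sys F T).arrow r) := fun T =>
    (hcoh _ (isCoh_sys F T)).2 _
  choose φ hφ using hex
  have hcompat : ∀ (T T' : Finset (Idx F)) (h : T ≤ T'),
      (sys F T).ofLE (sys F T') (sys_mono F h) ≫ φ T' = φ T := by
    intro T T' h
    apply (hcoh _ (isCoh_sys F T)).1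
    rw [dualityMap_comp, hφ T', hφ T, LinearMap.comp_assoc, ← HHlin_comp',
      Subobject.ofLE_arrow]
  obtain ⟨Φ, hΦ⟩ := exists_glue F φ hcompat
  refine ⟨Φ, ?_⟩
  ext x
  obtain ⟨T, y, rfl⟩ := exists_sys_preimage U hcov hU F r x
  have h1 : Canon.dualityMap A X r ω tr F Φ
      (Sheaf.H.map ((SheafOfModules.toSheaf X.ringCatSheaf).map (sys F T).arrow) r y) =
      Canon.dualityMap A X r ω tr _ ((sys F T).arrow ≫ Φ) y := by
    rw [dualityMap_comp]
    rfl
  rw [h1, hΦ T, hφ T]
  rfl

end Groth.Agent.H95.QcohExt
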