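import Groth.Agent.H95.SDT1

/-!
Serre duality on projective space, piece (T): `O(-n-1)` with the coefficient of `x^{(-1,…,-1)}`
represents the dual of the top cohomology on all twists of `P^n_R`, `n ≥ 1` (helper95).
-/

set_option autoImplicit false
universe u
open CategoryTheory CategoryTheory.Limits AlgebraicGeometry TopologicalSpace Opposite MvPolynomial

namespace Groth.Agent.H95.SD

open Groth.Agent.H18 Groth.Agent.H18.PSL Groth.Agent.H95.TopCech

variable (n : ℕ) (R : Type u) [CommRing R]

theorem exists_bExp_eq {d : ℤ} {k : ℕ} (hd : -((n : ℤ) + 1) = d + k) (b : Fin (n + 1) →₀ ℕ)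
    (hb : b.degree = k) : ∃ a : topSet n d, bExp n a.1 = b := by
  have hmem : (fun i => -1 - (b i : ℤ)) ∈ topSet n d := by
    refine ⟨?_, fun i => ?_⟩
    · have h1 : ((b.degree : ℕ) : ℤ) = k := by exact_mod_cast hb
      rw [Finsupp.degree_eq_sum] at h1
      push_cast at h1
      rw [Finset.sum_sub_distrib, h1]
      simp only [Finset.sum_const, Finset.card_univ, Fintype.card_fin, nsmul_eq_mul]
      push_cast
      omega
    · have : (0 : ℤ) ≤ (b i : ℤ) := Int.natCast_nonneg _
      show -1 - (b i : ℤ) < 0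
      omega
  refine ⟨⟨_, hmem⟩, ?_⟩
  ext i
  change bExp n (fun i => -1 - (b i : ℤ)) i = b i
  have h2 : ((bExp n (fun i => -1 - (b i : ℤ)) i : ℕ) : ℤ) = -1 - (-1 - (b i : ℤ)) :=
    bExp_apply n hmem i
  omega

theorem isEmpty_topSet {d : ℤ} (h : ¬ ∃ k : ℕ, -((n : ℤ) + 1) = d + k) : IsEmpty (topSet n d) := by
  refine ⟨fun a => h ⟨(-((n : ℤ) + 1) - d).toNat, ?_⟩⟩
  have h1 : ∑ i, a.1 i ≤ ∑ _i : Fin (n + 1), (-1 : ℤ) :=
    Finset.sum_le_sum fun i _ => by have := a.2.2 i; omega
  rw [a.2.1] at h1
  simp only [Finset.sum_const, Finset.card_univ, Fintype.card_fin, nsmul_eq_mul] at h1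
  push_cast at h1
  omega

/-- **(T)** duality on the twists of `P^n_R`, `n ≥ 1`, `R` any ring -/
theorem duality_twists (hn : 1 ≤ n) :
    ∃ t : Coh.HH (CohB1.ProjSpace n R) (Twist.twistProjSpace n R (-((n : ℤ) + 1))) n ≃ₗ[R] R,
      ∀ (d : ℤ) (ψ : Coh.HH (CohB1.ProjSpace n R) (Twist.twistProjSpace n R d) n →ₗ[R] R),
        ∃! φ : Twist.twistProjSpace n R d ⟶ Twist.twistProjSpace n R (-((n : ℤ) + 1)),
          ∀ x, ψ x = t (HHlin n R φ n x) := by
  classical
  obtain ⟨p, rfl⟩ : ∃ p, n = p + 1 := ⟨n - 1, by omega⟩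
  obtain ⟨c, hc⟩ := natTopCoeff R p
  let ev : (topSet (p + 1) (-(((p + 1 : ℕ) : ℤ) + 1)) → R) ≃ₗ[R] R := LinearEquiv.funUnique _ R R
  refine ⟨(c _).trans ev, ?_⟩
  have ht : ∀ x, ((c (-(((p + 1 : ℕ) : ℤ) + 1))).trans ev) x =
      c (-(((p + 1 : ℕ) : ℤ) + 1)) x ⟨a0 (p + 1), a0_mem (p + 1)⟩ := fun x => rfl
  intro d ψ
  by_cases hk : ∃ k : ℕ, -(((p + 1 : ℕ) : ℤ) + 1) = d + k
  · obtain ⟨k, hd⟩ := hk
    have : Fintype (topSet (p + 1) d) := (topSet_finite (p + 1) d).fintype
    let e : topSet (p + 1) d → Coh.HH (CohB1.ProjSpace (p + 1) R)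
        (Twist.twistProjSpace (p + 1) R d) (p + 1) := fun a => (c d).symm (Pi.single a 1)
    let q : MvPolynomial (Fin (p + 1 + 1)) R :=
      ∑ a : topSet (p + 1) d, monomial (bExp (p + 1) a.1) (ψ (e a))
    have hq : q ∈ CohB1.polyGrading (p + 1) R k := by
      refine Submodule.sum_mem _ fun a _ => ?_
      refine (mem_homogeneousSubmodule _ _).mpr (isHomogeneous_monomial _ ?_)
      have h1 := bExp_degree (p + 1) a.2
      have h2 : ((bExp (p + 1) a.1).degree : ℤ) = k := by rw [h1]; omega
      exact_mod_cast h2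
    have hcoeff : ∀ a : topSet (p + 1) d, q.coeff (bExp (p + 1) a.1) = ψ (e a) := by
      intro a
      change coeff _ (∑ a' : topSet (p + 1) d, monomial (bExp (p + 1) a'.1) (ψ (e a'))) = _
      rw [coeff_sum]
      simp only [coeff_monomial]
      rw [Finset.sum_eq_single a]
      · rw [if_pos rfl]
      · intro a' _ hne
        rw [if_neg]
        intro h
        exact hne (Subtype.ext (bExp_injOn (p + 1) a'.2 a.2 h))
      · intro h
        exact absurd (Finset.mem_univ a) h
    -- the pairing with a multiplication map is determined on the basis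
    have hpair : ∀ (φ : Twist.twistProjSpace (p + 1) R d ⟶
        Twist.twistProjSpace (p + 1) R (-(((p + 1 : ℕ) : ℤ) + 1)))
        (q' : MvPolynomial (Fin (p + 1 + 1)) R), q' ∈ CohB1.polyGrading (p + 1) R k →
        IsMulBy (p + 1) R φ q' →
        ((∀ x, ψ x = ((c _).trans ev) (HHlin (p + 1) R φ (p + 1) x)) ↔
          ∀ a : topSet (p + 1) d, q'.coeff (bExp (p + 1) a.1) = ψ (e a)) := by
      intro φ q' hq' hφ
      have hform : ∀ a : topSet (p + 1) d,
          ((c _).trans ev) (HHlin (p + 1) R φ (p + 1) (e a)) = q'.coeff (bExp (p + 1) a.1) :=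
        fun a => (ht _).trans (pairing_formula (p + 1) R c hc d k hd φ q' hq' hφ a)
      constructor
      · intro h a
        rw [← hform a, ← h]
      · intro h
        have hlin : ψ.comp (c d).symm.toLinearMap =
            ((((c _).trans ev).toLinearMap).comp (HHlin (p + 1) R φ (p + 1))).comp
              (c d).symm.toLinearMap := by
          refine LinearMap.pi_ext fun a r => ?_
          have hr : (Pi.single a r : topSet (p + 1) d → R) = r • Pi.single a (1 : R) := by
            rw [← Pi.single_smul, smul_eq_mul, mul_one]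
          rw [hr, map_smul, map_smul]
          congr 1
          exact ((h a).symm.trans (hform a).symm)
        intro x
        have := LinearMap.congr_fun hlin (c d x)
        simpa using this
    refine ⟨mulPoly (p + 1) R d _ k hd q hq, ?_, ?_⟩
    · exact (hpair _ q hq (isMulBy_mulPoly (p + 1) R d _ k hd q hq)).mpr hcoeff
    · intro φ' hφ'
      obtain ⟨k', q', hq', hk', hm'⟩ := exists_isMulBy (p + 1) R hn φ'
      have hq'k : q' ∈ CohB1.polyGrading (p + 1) R k := by
        rcases hk' with h | h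
        · have : k' = k := by
            have : (k' : ℤ) = k := by omega
            exact_mod_cast this
          exact this ▸ hq'
        · rw [h]; exact Submodule.zero_mem _
      have hcoeff' := (hpair φ' q' hq'k hm').mp hφ'
      have hqq : q' = q := by
        ext b
        by_cases hb : b.degree = k
        · obtain ⟨a, rfl⟩ := exists_bExp_eq (p + 1) hd b hb
          rw [hcoeff' a, hcoeff a]
        · rw [((mem_homogeneousSubmodule _ _).mp hq'k).coeff_eq_zero hb,
            ((mem_homogeneousSubmodule _ _).mp hq).coeff_eq_zero hb]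
      rw [hqq] at hm'
      exact hom_ext_of_isMulBy (p + 1) R hm' (isMulBy_mulPoly (p + 1) R d _ k hd q hq)
  · have := isEmpty_topSet (p + 1) hk
    have : Subsingleton (Coh.HH (CohB1.ProjSpace (p + 1) R)
        (Twist.twistProjSpace (p + 1) R d) (p + 1)) := (c d).toEquiv.subsingleton
    refine ⟨0, fun x => ?_, fun φ' _ => ?_⟩
    · rw [Subsingleton.elim x 0, map_zero, map_zero, map_zero]
    · obtain ⟨k', q', hq', hk', hm'⟩ := exists_isMulBy (p + 1) R hn φ'
      rcases hk' with h | h
      · exact absurd ⟨k', by omega⟩ hk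
      · rw [h] at hm'
        exact hom_ext_of_isMulBy (p + 1) R hm' (isMulBy_zero (p + 1) R)

end Groth.Agent.H95.SD
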