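import Groth.Agent.H95.QcohExt4
import Groth.Agent.H56.ProjDual.Assemble
import Groth.Agent.H18.ProjSpaceVanish
import Groth.Agent.H97.ProjProper
import Groth.Agent.S11326

/-!
`(O(-d-1), tr)` is a `d`-dualizing pair on `P^d_A` over a Noetherian ring `A`, for ALL
quasi-coherent modules (helper95): the coherent case is helper56's `ProjDual.exists_perfect`
(on top of row S11326), the passage to quasi-coherent modules is `QcohExt.bijective_dualityMap`.
-/

set_option autoImplicit false
set_option linter.style.haveILetI false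
universe u
open CategoryTheory CategoryTheory.Limits AlgebraicGeometry TopologicalSpace Opposite

namespace Groth.Agent.H95.QcohExt

open Groth.Agent.H18.PSL

theorem exists_isRDualOver_projSpace (A : Type u) [CommRing A] [IsNoetherianRing A] (d : ℕ) :
    ∃ tr : Coh.HH (CohB1.ProjSpace d A) (Twist.twistProjSpace d A (-((d : ℤ) + 1))) d →ₗ[A] A,
      Canon.IsRDualOver A (CohB1.ProjSpace d A) d (Twist.twistProjSpace d A (-((d : ℤ) + 1))) tr := by
  obtain ⟨t, ht⟩ := Groth.Agent.H56.ProjDual.exists_perfect A d
    (fun hn => Groth.Agent.S11326.result A d hn)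
  haveI : IsProper ((CohB1.ProjSpace d A) ↘ Spec (CommRingCat.of A)) :=
    Groth.Agent.H97.ProjProper.isProper_toSpec A d
  haveI : CompactSpace (CohB1.ProjSpace d A) :=
    QuasiCompact.compactSpace_of_compactSpace ((CohB1.ProjSpace d A) ↘ Spec (CommRingCat.of A))
  haveI : QuasiSeparatedSpace (CohB1.ProjSpace d A) :=
    quasiSeparatedSpace_of_quasiSeparated ((CohB1.ProjSpace d A) ↘ Spec (CommRingCat.of A))
  refine ⟨t.toLinearMap, isQCoh_twistProjSpace d A _, fun F hF => ?_⟩
  refine bijective_dualityMap A (stdU d A) (iSup_stdU d A) (isAffineOpen_iInf_stdU d A) d _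
    t.toLinearMap (fun G hG => ?_) F hF
  exact (Groth.Agent.H56.ProjDual.perfect_iff A t.toLinearMap G).mp (ht G hG)

end Groth.Agent.H95.QcohExt
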