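import Mathlib

namespace Groth.Agent.H95.RatMax

open Matrix Module

section
variable {n : ℕ} (BR : Matrix (Fin n) (Fin n) ℝ)

/-- the quadratic form -/
def qf (y : Fin n → ℝ) : ℝ := y ⬝ᵥ BR *ᵥ y
/-- the symmetrized bilinear pairing -/
def sf (u v : Fin n → ℝ) : ℝ := u ⬝ᵥ BR *ᵥ v + v ⬝ᵥ BR *ᵥ u

theorem qf_add_smul (u v : Fin n → ℝ) (t : ℝ) :
    qf BR (u + t • v) = qf BR u + t * sf BR u v + t ^ 2 * qf BR v := by
  simp only [qf, sf, Matrix.mulVec_add, Matrix.mulVec_smul, dotProduct_add, add_dotProduct,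
    dotProduct_smul, smul_dotProduct, smul_eq_mul]
  ring

theorem qf_smul (c : ℝ) (y : Fin n → ℝ) : qf BR (c • y) = c ^ 2 * qf BR y := by
  simp only [qf, Matrix.mulVec_smul, dotProduct_smul, smul_dotProduct, smul_eq_mul]
  ring

theorem sf_self (u : Fin n → ℝ) : sf BR u u = 2 * qf BR u := by
  simp only [sf, qf]; ring

theorem sf_expand (u y : Fin n → ℝ) :
    sf BR u y = ∑ i, y i * ∑ j, (BR j i + BR i j) * u j := by
  have h1 : u ⬝ᵥ BR *ᵥ y = ∑ i, ∑ j, u j * (BR j i * y i) := by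
    simp only [dotProduct, Matrix.mulVec, Finset.mul_sum]
    exact Finset.sum_comm
  have h2 : y ⬝ᵥ BR *ᵥ u = ∑ i, ∑ j, y i * (BR i j * u j) := by
    simp only [dotProduct, Matrix.mulVec, Finset.mul_sum]
  rw [sf, h1, h2, ← Finset.sum_add_distrib]
  refine Finset.sum_congr rfl fun i _ => ?_
  rw [Finset.mul_sum, ← Finset.sum_add_distrib]
  exact Finset.sum_congr rfl fun j _ => by ring

theorem cauchy (hnn : ∀ y, 0 ≤ qf BR y) (u v : Fin n → ℝ) :
    sf BR u v ^ 2 ≤ 4 * qf BR u * qf BR v := by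
  have h := discrim_le_zero (a := qf BR v) (b := sf BR u v) (c := qf BR u) (fun t => by
    have := hnn (u + t • v)
    rw [qf_add_smul] at this
    nlinarith)
  unfold discrim at h
  nlinarith

end

theorem lin_zero_aux (c₁ c₂ δ : ℝ) (hδ : 0 < δ)
    (h : ∀ t : ℝ, |t| ≤ δ → 0 ≤ t * c₁ + t ^ 2 * c₂) : ¬ 0 < c₁ := by
  intro hc
  set τ := min δ (c₁ / (2 * (|c₂| + 1))) with hτdef
  have hden : 0 < 2 * (|c₂| + 1) := by positivity
  have hτ : 0 < τ := lt_min hδ (div_pos hc hden)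
  have hτδ : τ ≤ δ := min_le_left _ _
  have hτc : τ * (2 * (|c₂| + 1)) ≤ c₁ := by
    rw [← le_div_iff₀ hden]; exact min_le_right _ _
  have h1 := h (-τ) (by rw [abs_neg, abs_of_pos hτ]; exact hτδ)
  have h2 : τ * c₂ ≤ c₁ / 2 := by
    have := mul_le_mul_of_nonneg_left (le_abs_self c₂) hτ.le
    nlinarith [abs_nonneg c₂]
  nlinarith [mul_le_mul_of_nonneg_left h2 hτ.le]

theorem lin_zero (c₁ c₂ δ : ℝ) (hδ : 0 < δ)
    (h : ∀ t : ℝ, |t| ≤ δ → 0 ≤ t * c₁ + t ^ 2 * c₂) : c₁ = 0 := by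
  have h1 := lin_zero_aux c₁ c₂ δ hδ h
  have h2 := lin_zero_aux (-c₁) c₂ δ hδ (fun t ht => by
    have := h (-t) (by rwa [abs_neg])
    nlinarith)
  linarith [not_lt.1 h1, not_lt.1 h2]


section
variable {n : ℕ} (BR : Matrix (Fin n) (Fin n) ℝ) (lR : Fin n → ℝ)

/-- the objective function -/
noncomputable def Fobj (y : Fin n → ℝ) : ℝ := lR ⬝ᵥ y / Real.sqrt (qf BR y)

theorem Fobj_smul (c : ℝ) (hc : 0 < c) (y : Fin n → ℝ) : Fobj BR lR (c • y) = Fobj BR lR y := by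
  unfold Fobj
  rw [qf_smul, dotProduct_smul, smul_eq_mul, Real.sqrt_mul (sq_nonneg c), Real.sqrt_sq hc.le,
    mul_div_mul_left _ _ hc.ne']

theorem sum_pos_of_nonneg_ne_zero (y : Fin n → ℝ) (hy : ∀ i, 0 ≤ y i) (hy0 : y ≠ 0) :
    0 < ∑ i, y i := by
  rcases (Finset.sum_nonneg fun i _ => hy i).lt_or_eq with h | h
  · exact h
  · exfalso
    apply hy0
    funext i
    exact (Finset.sum_eq_zero_iff_of_nonneg fun i _ => hy i).1 h.symm i (Finset.mem_univ i)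

theorem exists_max
    (hpos : ∀ y : Fin n → ℝ, (∀ i, 0 ≤ y i) → y ≠ 0 → 0 < qf BR y)
    (y₀ : Fin n → ℝ) (hy₀ : ∀ i, 0 ≤ y₀ i) (hy₀0 : y₀ ≠ 0) :
    ∃ ys : Fin n → ℝ, (∀ i, 0 ≤ ys i) ∧ ys ≠ 0 ∧
      ∀ y : Fin n → ℝ, (∀ i, 0 ≤ y i) → y ≠ 0 → Fobj BR lR y ≤ Fobj BR lR ys := by
  have hne0 : ∀ y ∈ stdSimplex ℝ (Fin n), y ≠ 0 := by
    intro y hy h0
    have := hy.2
    rw [h0] at this
    simp at this
  have hscale : ∀ y : Fin n → ℝ, (∀ i, 0 ≤ y i) → y ≠ 0 →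
      (∑ i, y i)⁻¹ • y ∈ stdSimplex ℝ (Fin n) := by
    intro y hy hy0
    have hs := sum_pos_of_nonneg_ne_zero y hy hy0
    refine ⟨fun i => ?_, ?_⟩
    · simp only [Pi.smul_apply, smul_eq_mul]
      exact mul_nonneg (inv_nonneg.2 hs.le) (hy i)
    · simp only [Pi.smul_apply, smul_eq_mul]
      rw [← Finset.mul_sum, inv_mul_cancel₀ hs.ne']
  have hcont : ContinuousOn (Fobj BR lR) (stdSimplex ℝ (Fin n)) := by
    unfold Fobj
    refine ContinuousOn.div ?_ ?_ ?_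
    · exact (Continuous.dotProduct continuous_const continuous_id).continuousOn
    · refine (Real.continuous_sqrt.comp ?_).continuousOn
      unfold qf
      exact Continuous.dotProduct continuous_id (Continuous.matrix_mulVec continuous_const continuous_id)
    · intro y hy
      exact (Real.sqrt_pos.2 (hpos y hy.1 (hne0 y hy))).ne'
  obtain ⟨ys, hys, hmax⟩ := (isCompact_stdSimplex ℝ (Fin n)).exists_isMaxOn
    ⟨_, hscale y₀ hy₀ hy₀0⟩ hcont
  refine ⟨ys, hys.1, hne0 ys hys, fun y hy hy0 => ?_⟩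
  have hs := sum_pos_of_nonneg_ne_zero y hy hy0
  have := hmax (hscale y hy hy0)
  rw [Set.mem_ofPred_eq, Fobj_smul BR lR _ (inv_pos.2 hs)] at this
  exact this


theorem first_order
    (hpos : ∀ y : Fin n → ℝ, (∀ i, 0 ≤ y i) → y ≠ 0 → 0 < qf BR y)
    (ys : Fin n → ℝ) (hys : ∀ i, 0 ≤ ys i) (hys0 : ys ≠ 0)
    (hmax : ∀ y : Fin n → ℝ, (∀ i, 0 ≤ y i) → y ≠ 0 → Fobj BR lR y ≤ Fobj BR lR ys)
    (hLs : 0 < lR ⬝ᵥ ys) (i : Fin n) (hi : 0 < ys i) :
    (Fobj BR lR ys) ^ 2 * sf BR ys (Pi.single i 1) = 2 * (lR ⬝ᵥ ys) * lR i := by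
  have hqs : 0 < qf BR ys := hpos ys hys hys0
  have hM : lR ⬝ᵥ ys = Fobj BR lR ys * Real.sqrt (qf BR ys) := by
    unfold Fobj
    rw [div_mul_cancel₀ _ (Real.sqrt_pos.2 hqs).ne']
  have hM2 : (lR ⬝ᵥ ys) ^ 2 = (Fobj BR lR ys) ^ 2 * qf BR ys := by
    conv_lhs => rw [hM]
    rw [mul_pow, Real.sq_sqrt hqs.le]
  have key : ∀ y : Fin n → ℝ, (∀ i, 0 ≤ y i) → 0 < lR ⬝ᵥ y →
      (lR ⬝ᵥ y) ^ 2 ≤ (Fobj BR lR ys) ^ 2 * qf BR y := by
    intro y hy hLy
    have hy0 : y ≠ 0 := by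
      rintro rfl
      simp at hLy
    have hq := hpos y hy hy0
    have h1 := hmax y hy hy0
    have h2 : lR ⬝ᵥ y ≤ Fobj BR lR ys * Real.sqrt (qf BR y) := by
      have h3 : Fobj BR lR y = lR ⬝ᵥ y / Real.sqrt (qf BR y) := rfl
      rw [h3, div_le_iff₀ (Real.sqrt_pos.2 hq)] at h1
      exact h1
    calc (lR ⬝ᵥ y) ^ 2 ≤ (Fobj BR lR ys * Real.sqrt (qf BR y)) ^ 2 := pow_le_pow_left₀ hLy.le h2 2
      _ = (Fobj BR lR ys) ^ 2 * qf BR y := by rw [mul_pow, Real.sq_sqrt hq.le]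
  set M := Fobj BR lR ys with hMdef
  set Ls := lR ⬝ᵥ ys with hLsdef
  set e : Fin n → ℝ := Pi.single i 1 with hedef
  have hLe : lR ⬝ᵥ e = lR i := dotProduct_single_one lR i
  have hden : 0 < |lR i| + 1 := by positivity
  set δ := min (ys i) (Ls / (|lR i| + 1)) with hδdef
  have hδ : 0 < δ := lt_min hi (div_pos hLs hden)
  have hδ1 : δ ≤ ys i := min_le_left _ _
  have hδ2 : δ * (|lR i| + 1) ≤ Ls := by
    rw [← le_div_iff₀ hden]; exact min_le_right _ _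
  have hc := lin_zero (M ^ 2 * sf BR ys e - 2 * Ls * lR i) (M ^ 2 * qf BR e - (lR i) ^ 2) δ hδ ?_
  · linarith
  intro t ht
  have ht' := abs_le.1 ht
  have hnn : ∀ j, 0 ≤ (ys + t • e) j := by
    intro j
    simp only [Pi.add_apply, Pi.smul_apply, smul_eq_mul, hedef, Pi.single_apply]
    split_ifs with hji
    · subst hji
      linarith [ht'.1]
    · simp [hys j]
  have hL : lR ⬝ᵥ (ys + t • e) = Ls + t * lR i := by
    rw [dotProduct_add, dotProduct_smul, hLe, smul_eq_mul]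
  have hLpos : 0 < lR ⬝ᵥ (ys + t • e) := by
    rw [hL]
    have h1 : |t * lR i| ≤ δ * |lR i| := by
      rw [abs_mul]
      exact mul_le_mul_of_nonneg_right ht (abs_nonneg _)
    have h2 := neg_abs_le (t * lR i)
    nlinarith [abs_nonneg (lR i)]
  have h := key _ hnn hLpos
  rw [hL, qf_add_smul] at h
  have e1 : t * (M ^ 2 * sf BR ys e - 2 * Ls * lR i) + t ^ 2 * (M ^ 2 * qf BR e - (lR i) ^ 2) =
      M ^ 2 * (qf BR ys + t * sf BR ys e + t ^ 2 * qf BR e) - (Ls + t * lR i) ^ 2 +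
        (Ls ^ 2 - M ^ 2 * qf BR ys) := by ring
  rw [e1, hM2]
  linarith

end

/-- Rational points satisfying all rational linear relations of a real vector are dense near it. -/
theorem exists_rat_approx {ι : Type*} [Fintype ι] (w₀ : ι → ℝ) (U : Set (ι → ℝ))
    (hU : IsOpen U) (hw : w₀ ∈ U) :
    ∃ w : ι → ℚ, (fun i => (w i : ℝ)) ∈ U ∧
      ∀ c : ι → ℚ, ∑ i, (c i : ℝ) * w₀ i = 0 → ∑ i, c i * w i = 0 := by
  classical
  let V : Submodule ℚ ℝ := Submodule.span ℚ (Set.range w₀)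
  have hfd : FiniteDimensional ℚ V := FiniteDimensional.span_of_finite ℚ (Set.finite_range w₀)
  let b := Module.finBasis ℚ V
  let v : ι → V := fun i => ⟨w₀ i, Submodule.subset_span (Set.mem_range_self i)⟩
  let a : ι → Fin (finrank ℚ V) → ℚ := fun i j => b.repr (v i) j
  let T : (Fin (finrank ℚ V) → ℝ) → (ι → ℝ) := fun r i => ∑ j, (a i j : ℝ) * r j
  have hT : Continuous T := by
    refine continuous_pi fun i => continuous_finsetSum _ fun j _ => ?_
    exact continuous_const.mul (continuous_apply j)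
  have hTb : T (fun j => ((b j : V) : ℝ)) = w₀ := by
    funext i
    have h := congrArg Subtype.val (b.sum_repr (v i))
    simp only [Submodule.coe_sum, Submodule.coe_smul] at h
    change ∑ j, (a i j : ℝ) * ((b j : V) : ℝ) = w₀ i
    rw [← show ((v i : V) : ℝ) = w₀ i from rfl, ← h]
    refine Finset.sum_congr rfl fun j _ => ?_
    rw [Rat.smul_def]
  have hdense : DenseRange (fun r' : Fin (finrank ℚ V) → ℚ => fun j => ((r' j : ℚ) : ℝ)) := by
    have := DenseRange.piMap (ι := Fin (finrank ℚ V)) (X := fun _ => ℚ) (Y := fun _ => ℝ)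
      (f := fun _ => ((↑) : ℚ → ℝ)) (fun _ => Rat.denseRange_cast)
    exact this
  obtain ⟨r', hr'⟩ := hdense.exists_mem_open (hU.preimage hT)
    ⟨fun j => ((b j : V) : ℝ), by simpa [hTb] using hw⟩
  refine ⟨fun i => ∑ j, a i j * r' j, ?_, ?_⟩
  · have hh : (fun i => (((fun i => ∑ j, a i j * r' j) i : ℚ) : ℝ)) = T (fun j => ((r' j : ℚ) : ℝ)) := by
      funext i
      simp only [T]
      push_cast
      rfl
    rw [hh]
    exact hr'
  · intro c hc
    have h0 : ∑ i, c i • v i = 0 := by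
      apply Subtype.ext
      simp only [Submodule.coe_sum, Submodule.coe_smul, Submodule.coe_zero]
      rw [← hc]
      refine Finset.sum_congr rfl fun i _ => ?_
      rw [Rat.smul_def]
    have h1 : ∀ j, ∑ i, c i * a i j = 0 := by
      intro j
      have := congrArg (fun f => b.repr f j) h0
      simpa [map_sum, Finsupp.coe_finsetSum, Finset.sum_apply] using this
    calc ∑ i, c i * ∑ j, a i j * r' j = ∑ j, (∑ i, c i * a i j) * r' j := by
          simp_rw [Finset.mul_sum, Finset.sum_mul]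
          rw [Finset.sum_comm]
          refine Finset.sum_congr rfl fun j _ => Finset.sum_congr rfl fun i _ => by ring
      _ = 0 := by simp [h1]


theorem main (n : ℕ) (ℓ : Fin n → ℚ) (B : Matrix (Fin n) (Fin n) ℚ)
    (hnn : ∀ y : Fin n → ℝ, 0 ≤ y ⬝ᵥ (B.map (fun r : ℚ => (r : ℝ))) *ᵥ y)
    (hpos : ∀ y : Fin n → ℝ, (∀ i, 0 ≤ y i) → y ≠ 0 →
      0 < y ⬝ᵥ (B.map (fun r : ℚ => (r : ℝ))) *ᵥ y)
    (hℓ : ∃ y : Fin n → ℝ, (∀ i, 0 ≤ y i) ∧ 0 < (fun i => (ℓ i : ℝ)) ⬝ᵥ y) :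
    ∃ x : Fin n → ℚ, (∀ i, 0 ≤ x i) ∧ x ≠ 0 ∧
      ∀ y : Fin n → ℝ, (∀ i, 0 ≤ y i) → y ≠ 0 →
        (fun i => (ℓ i : ℝ)) ⬝ᵥ y / Real.sqrt (y ⬝ᵥ (B.map (fun r : ℚ => (r : ℝ))) *ᵥ y) ≤
          (fun i => (ℓ i : ℝ)) ⬝ᵥ (fun i => (x i : ℝ)) /
            Real.sqrt ((fun i => (x i : ℝ)) ⬝ᵥ (B.map (fun r : ℚ => (r : ℝ))) *ᵥ
              (fun i => (x i : ℝ))) := by
  classical
  set BR : Matrix (Fin n) (Fin n) ℝ := B.map (fun r : ℚ => (r : ℝ)) with hBR
  set lR : Fin n → ℝ := fun i => (ℓ i : ℝ) with hlR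
  change ∃ x : Fin n → ℚ, (∀ i, 0 ≤ x i) ∧ x ≠ 0 ∧ ∀ y : Fin n → ℝ, (∀ i, 0 ≤ y i) → y ≠ 0 →
      Fobj BR lR y ≤ Fobj BR lR (fun i => (x i : ℝ))
  have hnn' : ∀ y, 0 ≤ qf BR y := hnn
  have hpos' : ∀ y : Fin n → ℝ, (∀ i, 0 ≤ y i) → y ≠ 0 → 0 < qf BR y := hpos
  obtain ⟨y₀, hy₀, hLy₀⟩ := hℓ
  have hy₀0 : y₀ ≠ 0 := by
    rintro rfl
    simp at hLy₀
  obtain ⟨ys, hys, hys0, hmax⟩ := exists_max BR lR hpos' y₀ hy₀ hy₀0
  have hqs : 0 < qf BR ys := hpos' ys hys hys0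
  have hMpos : 0 < Fobj BR lR ys :=
    lt_of_lt_of_le (div_pos hLy₀ (Real.sqrt_pos.2 (hpos' y₀ hy₀ hy₀0))) (hmax y₀ hy₀ hy₀0)
  have hM : lR ⬝ᵥ ys = Fobj BR lR ys * Real.sqrt (qf BR ys) := by
    unfold Fobj
    rw [div_mul_cancel₀ _ (Real.sqrt_pos.2 hqs).ne']
  have hM2 : (lR ⬝ᵥ ys) ^ 2 = (Fobj BR lR ys) ^ 2 * qf BR ys := by
    conv_lhs => rw [hM]
    rw [mul_pow, Real.sq_sqrt hqs.le]
  have hLs : 0 < lR ⬝ᵥ ys := by
    rw [hM]
    exact mul_pos hMpos (Real.sqrt_pos.2 hqs)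
  have hfo := first_order BR lR hpos' ys hys hys0 hmax hLs
  set M := Fobj BR lR ys with hMdef
  set Ls := lR ⬝ᵥ ys with hLsdef
  set μ₀ : ℝ := 2 * Ls / M ^ 2 with hμ₀
  have hμ₀pos : 0 < μ₀ := by positivity
  let w₀ : Option (Fin n) → ℝ := fun o => o.elim μ₀ ys
  let U : Set (Option (Fin n) → ℝ) :=
    {w | 0 < w none} ∩ ⋂ j : Fin n, {w | 0 < ys j → 0 < w (some j)}
  have hU : IsOpen U := by
    refine IsOpen.inter (isOpen_lt continuous_const (continuous_apply none))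
      (isOpen_iInter_of_finite fun j => ?_)
    by_cases hj : 0 < ys j
    · simp only [hj, forall_true_left]
      exact isOpen_lt continuous_const (continuous_apply (some j))
    · simp only [hj, IsEmpty.forall_iff, Set.ofPred_true]
      exact isOpen_univ
  have hw₀ : w₀ ∈ U := ⟨hμ₀pos, Set.mem_iInter.2 fun j hj => hj⟩
  obtain ⟨w, hwU, hrel⟩ := exists_rat_approx w₀ U hU hw₀
  set μ : ℚ := w none with hμdef
  set z : Fin n → ℚ := fun j => w (some j) with hzdef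
  have hμpos : 0 < (μ : ℝ) := hwU.1
  have hzpos : ∀ j, 0 < ys j → 0 < (z j : ℝ) := fun j hj => Set.mem_iInter.1 hwU.2 j hj
  have hz0 : ∀ j, ys j = 0 → z j = 0 := by
    intro j hj
    have := hrel (fun o => if o = some j then 1 else 0) (by
      refine Finset.sum_eq_zero fun o _ => ?_
      by_cases ho : o = some j
      · subst ho
        simp [w₀, hj]
      · simp [ho])
    rw [Finset.sum_eq_single (some j)] at this
    · simpa using this
    · intro o _ ho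
      simp [ho]
    · simp
  have heq : ∀ i, 0 < ys i → ∑ j, (B j i + B i j) * z j = μ * ℓ i := by
    intro i hi
    have h1 := hfo i hi
    rw [sf_expand] at h1
    have h2 : ∑ k, (Pi.single i (1:ℝ) : Fin n → ℝ) k * ∑ j, (BR j k + BR k j) * ys j =
        ∑ j, (BR j i + BR i j) * ys j := by
      rw [Finset.sum_eq_single i]
      · simp
      · intro k _ hk
        simp [hk]
      · simp
    rw [h2] at h1
    have hS : ∑ j, (BR j i + BR i j) * ys j = μ₀ * lR i := by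
      rw [hμ₀]
      field_simp
      linarith [h1]
    have := hrel (fun o => o.elim (-ℓ i) (fun j => B j i + B i j)) (by
      rw [Fintype.sum_option]
      simp only [Option.elim, w₀]
      push_cast
      have hS' : ∑ j, ((B j i : ℝ) + (B i j : ℝ)) * ys j = μ₀ * lR i := hS
      rw [hS']
      simp only [hlR]
      ring)
    rw [Fintype.sum_option] at this
    simp only [Option.elim] at this
    linarith [this]
  have hznn : ∀ i, 0 ≤ z i := by
    intro i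
    rcases (hys i).lt_or_eq with hi | hi
    · exact_mod_cast (hzpos i hi).le
    · exact (hz0 i hi.symm).ge
  have hex : ∃ i, 0 < ys i := by
    by_contra hcon
    push Not at hcon
    exact hys0 (funext fun i => le_antisymm (hcon i) (hys i))
  obtain ⟨i₀, hi₀⟩ := hex
  have hzne : z ≠ 0 := by
    intro h
    have := hzpos i₀ hi₀
    rw [h] at this
    simp at this
  refine ⟨z, hznn, hzne, fun y hy hy0 => (hmax y hy hy0).trans ?_⟩
  set zR : Fin n → ℝ := fun i => (z i : ℝ) with hzR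
  have hzRnn : ∀ i, 0 ≤ zR i := fun i => Rat.cast_nonneg.2 (hznn i)
  have hzR0 : zR ≠ 0 := by
    intro h
    have := hzpos i₀ hi₀
    have h' := congrFun h i₀
    simp only [hzR, Pi.zero_apply] at h'
    rw [h'] at this
    exact lt_irrefl _ this
  have hqz : 0 < qf BR zR := hpos' zR hzRnn hzR0
  have hrelR : ∀ i, 0 < ys i → ∑ j, (BR j i + BR i j) * zR j = (μ : ℝ) * lR i := by
    intro i hi
    have := heq i hi
    have h3 : ((∑ j, (B j i + B i j) * z j : ℚ) : ℝ) = ((μ * ℓ i : ℚ) : ℝ) := by rw [this]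
    push_cast at h3
    exact h3
  have hsf : ∀ y' : Fin n → ℝ, (∀ j, ys j = 0 → y' j = 0) →
      sf BR zR y' = (μ : ℝ) * (lR ⬝ᵥ y') := by
    intro y' hy'
    rw [sf_expand]
    simp only [dotProduct]
    rw [Finset.mul_sum]
    refine Finset.sum_congr rfl fun i _ => ?_
    rcases (hys i).lt_or_eq with hi | hi
    · rw [hrelR i hi]
      ring
    · rw [hy' i hi.symm]
      simp
  have h_b : 2 * qf BR zR = (μ : ℝ) * (lR ⬝ᵥ zR) := by
    rw [← sf_self]
    exact hsf zR (fun j hj => by simp [hzR, hz0 j hj])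
  have h_c : sf BR zR ys = (μ : ℝ) * Ls := hsf ys (fun j hj => hj)
  have h_d := cauchy BR hnn' zR ys
  rw [h_c] at h_d
  have h4 : ((μ : ℝ) * M) ^ 2 ≤ 4 * qf BR zR := by
    have : ((μ : ℝ) * M) ^ 2 * qf BR ys ≤ (4 * qf BR zR) * qf BR ys := by
      calc ((μ : ℝ) * M) ^ 2 * qf BR ys = ((μ : ℝ) * Ls) ^ 2 := by
            rw [mul_pow, mul_pow, hM2]; ring
        _ ≤ 4 * qf BR zR * qf BR ys := h_d
    exact le_of_mul_le_mul_right this hqs
  have hsq : Real.sqrt (qf BR zR) * Real.sqrt (qf BR zR) = qf BR zR :=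
    Real.mul_self_sqrt hqz.le
  have hsp : 0 < Real.sqrt (qf BR zR) := Real.sqrt_pos.2 hqz
  have h5 : (μ : ℝ) * M ≤ 2 * Real.sqrt (qf BR zR) := by
    by_contra hcon
    push Not at hcon
    have := pow_lt_pow_left₀ hcon (by positivity) (two_ne_zero)
    nlinarith
  change M ≤ lR ⬝ᵥ zR / Real.sqrt (qf BR zR)
  rw [le_div_iff₀ hsp]
  have h6 := mul_le_mul_of_nonneg_right h5 hsp.le
  refine le_of_mul_le_mul_right ?_ hμpos
  nlinarith

end Groth.Agent.H95.RatMax
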