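import Mathlib

namespace Groth.Agent.H95.ReflIntClosure

open Module

universe u
variable (A K L : Type u) [CommRing A] [IsDomain A]
  [Field K] [Algebra A K] [IsFractionRing A K] [Field L] [Algebra K L]
  [Algebra A L] [IsScalarTower A K L]

section
variable {A K L}
variable {ι : Type*} [Fintype ι] (bL : Basis ι K L) (e : ι → ↥(integralClosure A L))
  (he : ∀ i, bL i = (e i : L))

/-- the `K`-linear extension of a functional on the integral closure -/
noncomputable def ext (f : ↥(integralClosure A L) →ₗ[A] A) : L →ₗ[K] K :=
  bL.constr K (fun i => algebraMap A K (f (e i)))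

theorem ext_basis (f : ↥(integralClosure A L) →ₗ[A] A) (i : ι) :
    ext bL e f (bL i) = algebraMap A K (f (e i)) := by
  rw [ext, Basis.constr_basis]

include he in
theorem ext_coe (f : ↥(integralClosure A L) →ₗ[A] A) (b : ↥(integralClosure A L)) :
    ext bL e f (b : L) = algebraMap A K (f b) := by
  classical
  obtain ⟨a, ha⟩ := IsLocalization.exist_integer_multiples_of_finite (nonZeroDivisors A)
    (fun i => bL.repr (b : L) i)
  choose c hc using ha
  have ha0 : algebraMap A K (a : A) ≠ 0 := by
    rw [Ne, map_eq_zero_iff _ (IsFractionRing.injective A K)]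
    exact nonZeroDivisors.ne_zero a.2
  have hb : (algebraMap A K (a : A)) • (b : L) = ∑ i, algebraMap A K (c i) • bL i := by
    conv_lhs => rw [← bL.sum_repr (b : L), Finset.smul_sum]
    refine Finset.sum_congr rfl fun i _ => ?_
    rw [smul_smul, hc i, Algebra.smul_def (a : A)]
  have h1 : (a : A) • b = ∑ i, c i • e i := by
    apply Subtype.ext
    have : ((a : A) • b : ↥(integralClosure A L)) = (a : A) • (b : L) := rfl
    rw [this, ← algebraMap_smul K (a : A) (b : L), hb, AddSubmonoidClass.coe_finsetSum]
    refine Finset.sum_congr rfl fun i _ => ?_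
    rw [algebraMap_smul, he i]; rfl
  have h2 : (a : A) • f b = ∑ i, c i • f (e i) := by
    rw [← map_smul, h1, map_sum]
    simp
  have h3 : ext bL e f ((algebraMap A K (a : A)) • (b : L)) = algebraMap A K ((a : A) • f b) := by
    rw [hb, map_sum, h2, map_sum]
    refine Finset.sum_congr rfl fun i _ => ?_
    rw [map_smul, ext_basis, smul_eq_mul, smul_eq_mul, map_mul]
  rw [map_smul, smul_eq_mul, smul_eq_mul, map_mul] at h3
  exact mul_left_cancel₀ ha0 h3

include he in
theorem ext_unique (T : L →ₗ[K] K) (g : ↥(integralClosure A L) →ₗ[A] A)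
    (h : ∀ b : ↥(integralClosure A L), T (b : L) = algebraMap A K (g b)) : T = ext bL e g := by
  apply bL.ext
  intro i
  rw [ext_basis, he i, h]

theorem ext_apply (f : ↥(integralClosure A L) →ₗ[A] A) (y : L) :
    ext bL e f y = ∑ i, bL.repr y i * algebraMap A K (f (e i)) := by
  rw [ext, Basis.constr_apply_fintype]
  simp [smul_eq_mul]

omit [Fintype ι] in
theorem exists_lift {M : Type*} [AddCommGroup M] [Module A M] (T : M →ₗ[A] K)
    (hT : ∀ m, T m ∈ Set.range (algebraMap A K)) :
    ∃ g : M →ₗ[A] A, ∀ m, algebraMap A K (g m) = T m := by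
  have hinj : Function.Injective (Algebra.linearMap A K) := IsFractionRing.injective A K
  let E := LinearEquiv.ofInjective (Algebra.linearMap A K) hinj
  have hT' : ∀ m, T m ∈ LinearMap.range (Algebra.linearMap A K) := fun m => by
    obtain ⟨a, ha⟩ := hT m
    exact ⟨a, ha⟩
  refine ⟨E.symm.toLinearMap ∘ₗ T.codRestrict _ hT', fun m => ?_⟩
  have h1 : E (E.symm (T.codRestrict _ hT' m)) = T.codRestrict _ hT' m :=
    E.apply_symm_apply (T.codRestrict _ hT' m)
  have h2 : ((E (E.symm (T.codRestrict _ hT' m)) : LinearMap.range (Algebra.linearMap A K)) : K)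
      = T m := by rw [h1]; rfl
  exact h2

/-- membership in the double dual, seen inside `L` -/
def InR (y : L) : Prop :=
  ∀ f : ↥(integralClosure A L) →ₗ[A] A, ext bL e f y ∈ Set.range (algebraMap A K)

include he in
theorem inR_coe (b : ↥(integralClosure A L)) : InR bL e (b : L) := fun f =>
  ⟨f b, (ext_coe bL e he f b).symm⟩

include he in
theorem inR_coe_mul (b : ↥(integralClosure A L)) (z : L) (hz : InR bL e z) :
    InR bL e ((b : L) * z) := by
  intro f
  let g : ↥(integralClosure A L) →ₗ[A] A := f ∘ₗ (LinearMap.mulLeft A b)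
  let T : L →ₗ[K] K := ext bL e f ∘ₗ (LinearMap.mulLeft K (b : L))
  have hTg : T = ext bL e g := by
    apply ext_unique bL e he
    intro b'
    change ext bL e f ((b : L) * (b' : L)) = algebraMap A K (f (b * b'))
    rw [← ext_coe bL e he f (b * b')]
    rfl
  have : ext bL e f ((b : L) * z) = ext bL e g z := by
    rw [← hTg]; rfl
  rw [this]
  exact hz g

include he in
theorem inR_mul (y z : L) (hy : InR bL e y) (hz : InR bL e z) : InR bL e (y * z) := by
  intro f
  let T₀ : ↥(integralClosure A L) →ₗ[A] K :=
    ((ext bL e f).restrictScalars A) ∘ₗ (LinearMap.mulRight A z) ∘ₗ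
      ((integralClosure A L).val.toLinearMap)
  have hT₀ : ∀ b, T₀ b ∈ Set.range (algebraMap A K) := by
    intro b
    change ext bL e f ((b : L) * z) ∈ _
    exact inR_coe_mul bL e he b z hz f
  obtain ⟨g, hg⟩ := exists_lift T₀ hT₀
  let T : L →ₗ[K] K := ext bL e f ∘ₗ (LinearMap.mulRight K z)
  have hTg : T = ext bL e g := by
    apply ext_unique bL e he
    intro b'
    change ext bL e f ((b' : L) * z) = algebraMap A K (g b')
    rw [hg]; rfl
  have : ext bL e f (y * z) = ext bL e g y := by
    rw [← hTg]; rfl
  rw [this]
  exact hy g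

/-- the double dual as a subalgebra of `L` -/
def Rsub (he : ∀ i, bL i = (e i : L)) : Subalgebra A L where
  carrier := {y | InR bL e y}
  mul_mem' := fun {y z} hy hz => inR_mul bL e he y z hy hz
  add_mem' := by
    intro y z hy hz f
    obtain ⟨a, ha⟩ := hy f
    obtain ⟨b, hb⟩ := hz f
    exact ⟨a + b, by rw [map_add, map_add, ha, hb]⟩
  algebraMap_mem' := by
    intro a
    have := inR_coe bL e he (algebraMap A ↥(integralClosure A L) a)
    exact this

variable [Module.Finite A ↥(integralClosure A L)]

include he in
/-- coordinate functionals with a common denominator -/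
theorem exists_coord :
    ∃ (d : A) (_ : d ≠ 0) (fc : ι → (↥(integralClosure A L) →ₗ[A] A)),
      ∀ i (b : ↥(integralClosure A L)),
        algebraMap A K (fc i b) = algebraMap A K d * bL.repr (b : L) i := by
  classical
  obtain ⟨S, hS⟩ := (Module.finite_def.mp (inferInstance : Module.Finite A ↥(integralClosure A L)))
  obtain ⟨d, hd⟩ := IsLocalization.exist_integer_multiples_of_finite (nonZeroDivisors A)
    (fun p : ↥S × ι => bL.repr ((p.1 : ↥(integralClosure A L)) : L) p.2)
  have hd0 : (d : A) ≠ 0 := nonZeroDivisors.ne_zero d.2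
  have key : ∀ i, ∃ g : ↥(integralClosure A L) →ₗ[A] A, ∀ b : ↥(integralClosure A L),
      algebraMap A K (g b) = algebraMap A K d * bL.repr (b : L) i := by
    intro i
    let T : ↥(integralClosure A L) →ₗ[A] K :=
      (algebraMap A K (d : A)) • ((bL.coord i).restrictScalars A ∘ₗ
        ((integralClosure A L).val.toLinearMap))
    have hT : ∀ b, T b ∈ Set.range (algebraMap A K) := by
      intro b
      have hb : b ∈ Submodule.span A (S : Set ↥(integralClosure A L)) := by rw [hS]; trivial
      induction hb using Submodule.span_induction with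
      | mem x hx =>
        obtain ⟨c, hc⟩ := hd (⟨x, hx⟩, i)
        refine ⟨c, ?_⟩
        rw [hc, Algebra.smul_def]
        rfl
      | zero => exact ⟨0, by simp⟩
      | add x y _ _ hx hy =>
        obtain ⟨a, ha⟩ := hx
        obtain ⟨b, hb⟩ := hy
        exact ⟨a + b, by rw [map_add, map_add, ha, hb]⟩
      | smul r x _ hx =>
        obtain ⟨a, ha⟩ := hx
        exact ⟨r * a, by rw [map_smul, map_mul, ha, Algebra.smul_def]⟩
    obtain ⟨g, hg⟩ := exists_lift T hT
    exact ⟨g, fun b => by rw [hg]; rfl⟩
  choose fc hfc using key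
  exact ⟨d, hd0, fc, hfc⟩

variable [IsNoetherianRing A]

include he in
theorem isIntegral_of_inR (y : L) (hy : InR bL e y) : IsIntegral A y := by
  classical
  obtain ⟨d, hd0, fc, hfc⟩ := exists_coord bL e he
  have hext : ∀ i, ext bL e (fc i) = (algebraMap A K d) • bL.coord i := by
    intro i
    symm
    apply ext_unique bL e he
    intro b
    rw [hfc]
    rfl
  -- the finitely generated container
  let F₀ : Submodule A L := Submodule.span A (Set.range bL)
  have hF₀ : IsNoetherian A F₀ :=
    isNoetherian_of_fg_of_noetherian F₀ (Submodule.fg_span (Set.finite_range _))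
  let μ : L →ₗ[A] L := LinearMap.lsmul A L d
  have hμ : Function.Injective μ := by
    intro y z hyz
    have hd' : algebraMap A L d ≠ 0 := by
      rw [IsScalarTower.algebraMap_apply A K L, Ne, map_eq_zero, map_eq_zero_iff _
        (IsFractionRing.injective A K)]
      exact hd0
    have : algebraMap A L d * y = algebraMap A L d * z := by
      simpa [μ, Algebra.smul_def] using hyz
    exact mul_left_cancel₀ hd' this
  have hle : (Rsub bL e he).toSubmodule.map μ ≤ F₀ := by
    rintro _ ⟨z, hz, rfl⟩
    have hz' : InR bL e z := hz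
    change d • z ∈ F₀
    have h1 : d • z = ∑ i, (algebraMap A K d * bL.repr z i) • bL i := by
      conv_lhs => rw [← bL.sum_repr z, Finset.smul_sum]
      refine Finset.sum_congr rfl fun i _ => ?_
      rw [← algebraMap_smul K d, smul_smul]
    rw [h1]
    refine Submodule.sum_mem _ fun i _ => ?_
    obtain ⟨c, hc⟩ := hz' (fc i)
    rw [hext i] at hc
    have : algebraMap A K d * bL.repr z i = algebraMap A K c := by
      rw [hc]; rfl
    rw [this, algebraMap_smul]
    exact Submodule.smul_mem _ _ (Submodule.subset_span ⟨i, rfl⟩)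
  have hfg : ((Rsub bL e he).toSubmodule.map μ).FG := by
    have : IsNoetherian A ↥((Rsub bL e he).toSubmodule.map μ) :=
      isNoetherian_of_le hle
    exact (isNoetherian_submodule.mp hF₀) _ hle
  have hfg2 : (Rsub bL e he).toSubmodule.FG := Submodule.fg_of_fg_map_injective μ hμ hfg
  exact IsIntegral.of_mem_of_fg (Rsub bL e he) hfg2 y hy

include he in
theorem reflexive_aux : Module.IsReflexive A ↥(integralClosure A L) := by
  classical
  obtain ⟨d, hd0, fc, hfc⟩ := exists_coord bL e he
  have hdK : algebraMap A K d ≠ 0 := by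
    rw [Ne, map_eq_zero_iff _ (IsFractionRing.injective A K)]; exact hd0
  have hinjAK : Function.Injective (algebraMap A K) := IsFractionRing.injective A K
  constructor
  constructor
  · -- injective
    rw [injective_iff_map_eq_zero]
    intro b hb
    apply Subtype.ext
    rw [ZeroMemClass.coe_zero]
    apply bL.repr.injective
    ext i
    have h1 : fc i b = 0 := by
      have := LinearMap.congr_fun hb (fc i)
      simpa using this
    have h2 := hfc i b
    rw [h1, map_zero] at h2
    rw [map_zero, Finsupp.zero_apply]
    exact (mul_eq_zero.mp h2.symm).resolve_left hdK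
  · -- surjective
    intro φ
    let x : L := ∑ i, ((algebraMap A K d)⁻¹ * algebraMap A K (φ (fc i))) • bL i
    have hreprx : ∀ i, bL.repr x i = (algebraMap A K d)⁻¹ * algebraMap A K (φ (fc i)) := by
      intro i
      simp only [x, map_sum, map_smul, Basis.repr_self, Finsupp.finsetSum_apply,
        Finsupp.smul_apply, Finsupp.single_apply, smul_eq_mul]
      rw [Finset.sum_eq_single i]
      · simp
      · intro j _ hj; simp [hj]
      · intro h; exact absurd (Finset.mem_univ i) h
    -- the functional identity
    have hident : ∀ f : ↥(integralClosure A L) →ₗ[A] A, ∑ i, f (e i) • fc i = d • f := by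
      intro f
      ext b
      apply hinjAK
      simp only [LinearMap.sum_apply, LinearMap.smul_apply, smul_eq_mul, map_sum, map_mul]
      rw [← ext_coe bL e he f b, ext_apply, Finset.mul_sum]
      refine Finset.sum_congr rfl fun i _ => ?_
      rw [hfc]; ring
    have hextx : ∀ f : ↥(integralClosure A L) →ₗ[A] A, ext bL e f x = algebraMap A K (φ f) := by
      intro f
      rw [ext_apply]
      have h1 : algebraMap A K (φ (d • f)) = ∑ i, algebraMap A K (f (e i)) * algebraMap A K (φ (fc i)) := by
        rw [← hident f, map_sum, map_sum]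
        refine Finset.sum_congr rfl fun i _ => ?_
        rw [map_smul, smul_eq_mul, map_mul]
      rw [map_smul, smul_eq_mul, map_mul] at h1
      have h2 : ∑ i, bL.repr x i * algebraMap A K (f (e i)) =
          (algebraMap A K d)⁻¹ * ∑ i, algebraMap A K (f (e i)) * algebraMap A K (φ (fc i)) := by
        rw [Finset.mul_sum]
        refine Finset.sum_congr rfl fun i _ => ?_
        rw [hreprx]; ring
      rw [h2, ← h1, ← mul_assoc, inv_mul_cancel₀ hdK, one_mul]
    have hxR : InR bL e x := fun f => ⟨φ f, (hextx f).symm⟩
    have hxint : IsIntegral A x := isIntegral_of_inR bL e he x hxR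
    refine ⟨⟨x, hxint⟩, ?_⟩
    ext f
    apply hinjAK
    change algebraMap A K (f ⟨x, hxint⟩) = algebraMap A K (φ f)
    rw [← ext_coe bL e he f ⟨x, hxint⟩]
    exact hextx f

end

theorem main [IsNoetherianRing A] [FiniteDimensional K L]
    [Module.Finite A ↥(integralClosure A L)] :
    Module.IsReflexive A ↥(integralClosure A L) := by
  obtain ⟨s, b, hb⟩ := FiniteDimensional.exists_is_basis_integral A K L
  exact reflexive_aux b (fun i => ⟨b i, hb i⟩) (fun i => rfl)

end Groth.Agent.H95.ReflIntClosure
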