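import Groth.Agent.H95.TopCech2
import Groth.Agent.H18.ProjSpaceVanish
import Groth.Agent.H18.ProjSpaceHH0
import Groth.Agent.H62.NL4

/-!
Top cohomology of `O(d)` on projective space: Laurent coefficients and scalars, the index set of
the top coefficients, and its identification with the monomials of degree `k` (helper95).
-/

set_option autoImplicit false
universe u
open CategoryTheory CategoryTheory.Limits AlgebraicGeometry TopologicalSpace Opposite MvPolynomial

namespace Groth.Agent.H95.TopCech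

open Groth.Agent.Lead.Cech Groth.Agent.H18.CechContract Groth.Agent.H18.PSL Groth.Agent.H18
  Groth.Agent.H62.NL

variable (n : ℕ) (R : Type u) [CommRing R]

/-! ### scalars -/

theorem IsRep.smulAb {d : ℤ} {W : (CohB1.ProjSpace n R).Opens}
    {s : Γ(Twist.twist (CohB1.polyGrading n R) d, W)} {m : MvPolynomial (Fin (n + 1)) R}
    {u : Fin (n + 1) →₀ ℕ} (h : IsRep n R d W s m u) (r : R) :
    IsRep n R d W ((Coh.smulAb (Twist.twistProjSpace n R d)
      (Coh.toGlobal (CohB1.ProjSpace.toSpec n R) r)).hom.app (op W) s) (C r * m) u := by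
  obtain ⟨N, hm, hN, hW, hval⟩ := h
  refine ⟨N, ?_, hN, hW, fun z => ?_⟩
  · rw [MvPolynomial.C_mul']
    exact Submodule.smul_mem _ r hm
  · have h2 := sval_smul n R (d := d) (W := W)
      (Coh.resTop (CohB1.ProjSpace n R) (op W) (Coh.toGlobal (CohB1.ProjSpace.toSpec n R) r)) s z
    refine h2.trans ?_
    rw [hval z]
    have h3 := toGlobal_val n R r z.1
    refine (congrArg (· * Localization.mk m ⟨mono n R u, hW z.1 z.2⟩) h3).trans ?_
    rw [Localization.mk_mul, one_mul]

theorem lau_C_mul (r : R) (m : MvPolynomial (Fin (n + 1)) R) (u : Fin (n + 1) →₀ ℕ) :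
    Lau.lau (C r * m) u = r • Lau.lau m u := by
  classical
  funext a
  by_cases c : ∀ i, 0 ≤ a i + (u i : ℤ)
  · simp only [Pi.smul_apply, Lau.lau_of_nonneg _ _ _ c, coeff_C_mul, smul_eq_mul]
  · simp only [Pi.smul_apply, Lau.lau_of_not_nonneg _ _ _ c, smul_zero]

theorem lauSect_smulAb {d : ℤ} {e : Fin (n + 1) →₀ ℕ} (he : 0 < e.degree)
    {W : (CohB1.ProjSpace n R).Opens} (hW : W = monoOpen n R e)
    (s : Γ(Twist.twist (CohB1.polyGrading n R) d, W)) (r : R) :
    lauSect n R d e he W hW ((Coh.smulAb (Twist.twistProjSpace n R d)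
      (Coh.toGlobal (CohB1.ProjSpace.toSpec n R) r)).hom.app (op W) s) =
      r • lauSect n R d e he W hW s := by
  obtain ⟨k, m, h0⟩ := exists_isRep' n R d e he W hW s
  rw [lauSect_eq_of_isRep n R he hW (IsRep.smulAb n R h0 r), lauSect_eq_of_isRep n R he hW h0,
    lau_C_mul]

theorem coeffSystem_c_smulAb (d : ℤ) {p : ℕ} (σ : Fin (p + 1) → ULift.{u} (Fin (n + 1))) (r : R)
    (s : ((Twist.twist (CohB1.polyGrading n R) d).presheaf.obj
      (op (cechOpen (stdU n R) σ)) : Type u)) :
    (coeffSystem n R d).c σ ((Coh.smulAb (Twist.twistProjSpace n R d)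
      (Coh.toGlobal (CohB1.ProjSpace.toSpec n R) r)).hom.app (op (cechOpen (stdU n R) σ)) s) =
      r • (coeffSystem n R d).c σ s :=
  lauSect_smulAb n R (expo_degree_pos n σ) (cechOpen_eq n R σ) s r

/-! ### the top index set -/

/-- exponents of the Laurent monomials of degree `d` with all exponents negative -/
def topSet (d : ℤ) : Set (Fin (n + 1) → ℤ) := {a | (∑ i, a i = d) ∧ ∀ i, a i < 0}

theorem topSet_finite (d : ℤ) : (topSet n d).Finite := by
  classical
  refine Set.Finite.subset (Set.Finite.pi (t := fun _ : Fin (n + 1) => Set.Icc d (-1))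
    (fun _ => Set.finite_Icc _ _)) ?_
  rintro a ⟨hs, hneg⟩ i -
  refine ⟨?_, by have := hneg i; omega⟩
  have h1 : ∑ j ∈ Finset.univ.erase i, a j ≤ 0 :=
    Finset.sum_nonpos fun j _ => (hneg j).le
  have h2 := Finset.add_sum_erase Finset.univ a (Finset.mem_univ i)
  omega

/-- the top indices correspond to the monomials of degree `k` -/
noncomputable def topSetEquiv (k : ℕ) :
    topSet n (-((n : ℤ) + 1 + k)) ≃ {m : Fin (n + 1) →₀ ℕ | m.degree = k} where
  toFun a := ⟨Finsupp.equivFunOnFinite.symm (fun i => (-(a.1 i) - 1).toNat), by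
    have h1 : ∀ i, (((-(a.1 i) - 1).toNat : ℕ) : ℤ) = -(a.1 i) - 1 := fun i => by
      have := a.2.2 i
      omega
    have h2 : ((Finsupp.degree (Finsupp.equivFunOnFinite.symm
        (fun i => (-(a.1 i) - 1).toNat) : Fin (n + 1) →₀ ℕ) : ℕ) : ℤ) = (k : ℤ) := by
      rw [Finsupp.degree_eq_sum]
      push_cast
      simp only [Finsupp.equivFunOnFinite_symm_apply_apply, h1, Finset.sum_sub_distrib,
        Finset.sum_neg_distrib, a.2.1, Finset.sum_const, Finset.card_univ, Fintype.card_fin,
        nsmul_eq_mul]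
      push_cast
      ring
    exact_mod_cast h2⟩
  invFun m := ⟨fun i => -(m.1 i : ℤ) - 1, by
    refine ⟨?_, fun i => by
      change -(m.1 i : ℤ) - 1 < 0
      omega⟩
    have h1 : ((m.1.degree : ℕ) : ℤ) = k := by exact_mod_cast m.2
    rw [Finsupp.degree_eq_sum] at h1
    push_cast at h1
    simp only [Finset.sum_sub_distrib, Finset.sum_neg_distrib, h1, Finset.sum_const,
      Finset.card_univ, Fintype.card_fin, nsmul_eq_mul]
    push_cast
    ring⟩
  left_inv a := by
    apply Subtype.ext
    funext i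
    have := a.2.2 i
    simp only [Finsupp.equivFunOnFinite_symm_apply_apply]
    omega
  right_inv m := by
    apply Subtype.ext
    ext i
    simp only [Finsupp.equivFunOnFinite_symm_apply_apply]
    omega

/-- functions on the top indices are the homogeneous polynomials of degree `k` -/
theorem nonempty_topSet_linearEquiv (k : ℕ) :
    Nonempty ((topSet n (-((n : ℤ) + 1 + k)) → R) ≃ₗ[R]
      ↥(MvPolynomial.homogeneousSubmodule (Fin (n + 1)) R k)) := by
  have hfin : Finite (topSet n (-((n : ℤ) + 1 + k))) := (topSet_finite n _).to_subtype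
  have hfin' : Finite {m : Fin (n + 1) →₀ ℕ | m.degree = k} :=
    Finite.of_equiv _ (topSetEquiv n k)
  have e1 : ↥(MvPolynomial.homogeneousSubmodule (Fin (n + 1)) R k) ≃ₗ[R]
      ({m : Fin (n + 1) →₀ ℕ | m.degree = k} →₀ R) :=
    (LinearEquiv.ofEq _ _ (MvPolynomial.homogeneousSubmodule_eq_finsupp_supported
      (Fin (n + 1)) R k)).trans (AddMonoidAlgebra.supportedEquivFinsupp _)
  have e2 : ({m : Fin (n + 1) →₀ ℕ | m.degree = k} →₀ R) ≃ₗ[R]
      ({m : Fin (n + 1) →₀ ℕ | m.degree = k} → R) := Finsupp.linearEquivFunOnFinite R R _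
  have e3 : ({m : Fin (n + 1) →₀ ℕ | m.degree = k} → R) ≃ₗ[R]
      (topSet n (-((n : ℤ) + 1 + k)) → R) := LinearEquiv.funCongrLeft R R (topSetEquiv n k)
  exact ⟨((e1.trans e2).trans e3).symm⟩

end Groth.Agent.H95.TopCech
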