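import Groth.Agent.H18.ProjSpaceLau
import Groth.Agent.H95.TopCech3
import Groth.Prelude.Def_Canon

/-!
Serre duality on projective space: shared interface definitions (helper95, coordinator).
-/

set_option autoImplicit false
universe u
open CategoryTheory CategoryTheory.Limits AlgebraicGeometry TopologicalSpace Opposite MvPolynomial

namespace Groth.Agent.H95.SD

open Groth.Agent.H18.PSL Groth.Agent.H95.TopCech

variable (n : ℕ) (R : Type u) [CommRing R]

/-- `φ : O(d) ⟶ O(d')` acts on sections as multiplication by the polynomial `q`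
(pointwise, in the localizations at the points). -/
def IsMulBy {d d' : ℤ} (φ : Twist.twistProjSpace n R d ⟶ Twist.twistProjSpace n R d')
    (q : MvPolynomial (Fin (n + 1)) R) : Prop :=
  ∀ (W : (CohB1.ProjSpace n R).Opens) (s : Γ(Twist.twist (CohB1.polyGrading n R) d, W)) (z : W),
    sval n R (φ.app W s) z =
      algebraMap (MvPolynomial (Fin (n + 1)) R) (Twist.Loc (CohB1.polyGrading n R) z.1) q *
        sval n R s z

/-- the induced map on cohomology, `R`-linear -/
noncomputable abbrev HHlin {F G : (CohB1.ProjSpace n R).Modules} (φ : F ⟶ G) (i : ℕ) :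
    Coh.HH (CohB1.ProjSpace n R) F i →ₗ[R] Coh.HH (CohB1.ProjSpace n R) G i :=
  Canon.HHlin R φ i

open Classical in
/-- extension by zero of a function on the top index set -/
noncomputable def ext0 {d : ℤ} (f : topSet n d → R) (a : Fin (n + 1) → ℤ) : R :=
  if h : a ∈ topSet n d then f ⟨a, h⟩ else 0

/-- **Interface (N)**: natural Laurent-coefficient description of the top cohomology of the
twists on `P^n_R`: linear isomorphisms `c d : H^n(O(d)) ≃ (topSet n d → R)` such that
multiplication by a homogeneous polynomial `q` acts by convolution of coefficients. -/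
def NatTopCoeff : Prop :=
  ∃ c : ∀ d : ℤ, Coh.HH (CohB1.ProjSpace n R) (Twist.twistProjSpace n R d) n ≃ₗ[R]
      (topSet n d → R),
    ∀ (d d' : ℤ) (k : ℕ) (_ : d' = d + k)
      (φ : Twist.twistProjSpace n R d ⟶ Twist.twistProjSpace n R d')
      (q : MvPolynomial (Fin (n + 1)) R) (_ : q ∈ CohB1.polyGrading n R k) (_ : IsMulBy n R φ q)
      (x : Coh.HH (CohB1.ProjSpace n R) (Twist.twistProjSpace n R d) n) (a : topSet n d'),
      c d' (HHlin n R φ n x) a =
        ∑ b ∈ q.support, q.coeff b * ext0 n R (c d x) (fun i => a.1 i - (b i : ℤ))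

/-- **Interface (P)/(T)**: the pair `(ω, t)` represents `F ↦ H^n(F)^∨` on the module `F`. -/
def Represents (ω : (CohB1.ProjSpace n R).Modules)
    (t : Coh.HH (CohB1.ProjSpace n R) ω n →ₗ[R] R) (F : (CohB1.ProjSpace n R).Modules) : Prop :=
  Function.Bijective (Canon.dualityMap R (CohB1.ProjSpace n R) n ω t F)

end Groth.Agent.H95.SD
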