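import Groth.Agent.H95.SDDefs
import Groth.Agent.H18.TwistAmple2
import Groth.Agent.H18.TwistMul

/-!
Serre duality on projective space, piece (M1): multiplication by a homogeneous element, as a
morphism of twisting sheaves `O(d) ⟶ O(d + k)` on `Proj` (helper95).
-/

set_option autoImplicit false
universe u
open CategoryTheory CategoryTheory.Limits AlgebraicGeometry TopologicalSpace Opposite

namespace Groth.Agent.H95.SD

open Groth.Agent.H18

section General

variable {R A : Type u} [CommRing R] [CommRing A] [Algebra R A]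
variable (𝒜 : ℕ → Submodule R A) [GradedAlgebra 𝒜]

/-- multiplication by the homogeneous element `q` of degree `k`, on sections -/
noncomputable def mulElSect {k : ℕ} {q : A} (hq : q ∈ 𝒜 k) (d d' : ℤ) (h : d' = d + k)
    (V : (Proj 𝒜).Opens) (s : Γ(Twist.twist 𝒜 d, V)) : Γ(Twist.twist 𝒜 d', V) :=
  TwMul.mulSect (ℳ := 𝒜) d k d' h V s (mres (Twist.twist 𝒜 k) (le_top : V ≤ ⊤) (secN 𝒜 hq))

theorem mulElSect_val {k : ℕ} {q : A} (hq : q ∈ 𝒜 k) (d d' : ℤ) (h : d' = d + k)
    (V : (Proj 𝒜).Opens) (s : Γ(Twist.twist 𝒜 d, V)) (z : V) :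
    (((mulElSect 𝒜 hq d d' h V s : Twist.sectN (𝒜 := 𝒜) d' (op V)).1 z :
      Twist.twistAt 𝒜 d' z.1) : Twist.Loc 𝒜 z.1) =
    algebraMap A (Twist.Loc 𝒜 z.1) q *
      (((s : Twist.sectN (𝒜 := 𝒜) d (op V)).1 z : Twist.twistAt 𝒜 d z.1) : Twist.Loc 𝒜 z.1) := by
  change Localization.mk q _ • _ = _
  rw [smul_eq_mul]
  congr 1

/-- multiplication by the homogeneous element `q` of degree `k`, as a morphism
`O(d) ⟶ O(d + k)` -/
noncomputable def mulEl {k : ℕ} {q : A} (hq : q ∈ 𝒜 k) (d d' : ℤ) (h : d' = d + k) :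
    Twist.twist 𝒜 d ⟶ Twist.twist 𝒜 d' :=
  ⟨PresheafOfModules.homMk
    { app := fun U => AddCommGrpCat.ofHom (AddMonoidHom.mk'
        (fun s : Γ(Twist.twist 𝒜 d, U.unop) => mulElSect 𝒜 hq d d' h U.unop s)
        (fun s s' => TwMul.mulSect_add_left (ℳ := 𝒜) d k d' h U.unop s s' _))
      naturality := fun U V f => by
        ext s
        rfl }
    (fun U r s => TwMul.mulSect_smul_left (ℳ := 𝒜) d k d' h U.unop r s _)⟩

theorem mulEl_app {k : ℕ} {q : A} (hq : q ∈ 𝒜 k) (d d' : ℤ) (h : d' = d + k)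
    (V : (Proj 𝒜).Opens) (s : Γ(Twist.twist 𝒜 d, V)) :
    (mulEl 𝒜 hq d d' h).app V s = mulElSect 𝒜 hq d d' h V s := rfl

end General

variable (n : ℕ) (R : Type u) [CommRing R]

/-- multiplication by a homogeneous polynomial of degree `k`, `O(d) ⟶ O(d + k)` on `P^n_R` -/
noncomputable def mulPoly (d d' : ℤ) (k : ℕ) (h : d' = d + k)
    (q : MvPolynomial (Fin (n + 1)) R) (hq : q ∈ CohB1.polyGrading n R k) :
    Twist.twistProjSpace n R d ⟶ Twist.twistProjSpace n R d' :=
  mulEl (CohB1.polyGrading n R) hq d d' h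

theorem isMulBy_mulPoly (d d' : ℤ) (k : ℕ) (h : d' = d + k)
    (q : MvPolynomial (Fin (n + 1)) R) (hq : q ∈ CohB1.polyGrading n R k) :
    IsMulBy n R (mulPoly n R d d' k h q hq) q :=
  fun W s z => mulElSect_val (CohB1.polyGrading n R) hq d d' h W s z

end Groth.Agent.H95.SD
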