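import Groth.Agent.H95.SDMul1
import Groth.Agent.H18.ProjSpaceH0

/-!
Serre duality on projective space, piece (M2), part 1: a morphism of twists is determined on a
standard chart by the image of the generator (helper95).
-/

set_option autoImplicit false
universe u
open CategoryTheory CategoryTheory.Limits AlgebraicGeometry TopologicalSpace Opposite MvPolynomial

namespace Groth.Agent.H95.SD

open Groth.Agent.H18 Groth.Agent.H18.PSL

variable (n : ℕ) (R : Type u) [CommRing R]

theorem app_mres {M N : (CohB1.ProjSpace n R).Modules} (φ : M ⟶ N)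
    {W W' : (CohB1.ProjSpace n R).Opens} (h : W' ≤ W) (s : Γ(M, W)) :
    φ.app W' (mres M h s) = mres N h (φ.app W s) := by
  have := ConcreteCategory.congr_hom (φ.mapPresheaf.naturality (homOfLE h).op) s
  exact this

/-- the exponent `k • e_i` -/
noncomputable abbrev ei (i : Fin (n + 1)) (k : ℕ) : Fin (n + 1) →₀ ℕ := k • Finsupp.single i 1

theorem ei_degree (i : Fin (n + 1)) (k : ℕ) : (ei n i k).degree = k := by
  rw [ei, map_nsmul, Finsupp.degree_single, smul_eq_mul, mul_one]

theorem mono_ei_notMem (i : Fin (n + 1)) (k : ℕ)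
    (x : ProjectiveSpectrum (CohB1.polyGrading n R)) (hx : x ∈ stdO n R i) :
    mono n R (ei n i k) ∉ x.asHomogeneousIdeal := by
  intro h
  rw [ei, ← mono_pow] at h
  exact (mem_monoOpen n R _ x).mp hx (x.isPrime.mem_of_pow_mem k h)

/-- the generator `x_i^α / x_i^β` of `O(d)` over an open inside `D₊(x_i)`, `d = α - β` -/
noncomputable def gen (i : Fin (n + 1)) (d : ℤ) (W : (CohB1.ProjSpace n R).Opens)
    (hW : W ≤ stdO n R i) : Γ(Twist.twist (CohB1.polyGrading n R) d, W) :=
  fracTw (CohB1.polyGrading n R) (mono_mem n R (ei n i d.toNat)) (mono_mem n R (ei n i (-d).toNat))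
    (by rw [ei_degree, ei_degree]; omega) W (fun x hx => mono_ei_notMem n R i _ x (hW hx))

theorem sval_gen (i : Fin (n + 1)) (d : ℤ) (W : (CohB1.ProjSpace n R).Opens)
    (hW : W ≤ stdO n R i) (z : W) :
    sval n R (gen n R i d W hW) z = Localization.mk (mono n R (ei n i d.toNat))
      ⟨mono n R (ei n i (-d).toNat), mono_ei_notMem n R i _ z.1 (hW z.2)⟩ := rfl

theorem mres_gen (i : Fin (n + 1)) (d : ℤ) {W W' : (CohB1.ProjSpace n R).Opens}
    (hW : W ≤ stdO n R i) (h : W' ≤ W) :
    mres (Twist.twist (CohB1.polyGrading n R) d) h (gen n R i d W hW) =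
      gen n R i d W' (h.trans hW) := rfl

/-- **(★)** on a chart, a morphism of twists is determined by the image of the generator -/
theorem sval_app_mul {d d' : ℤ}
    (φ : Twist.twist (CohB1.polyGrading n R) d ⟶ Twist.twist (CohB1.polyGrading n R) d')
    (i : Fin (n + 1)) (W : (CohB1.ProjSpace n R).Opens) (hW : W ≤ stdO n R i)
    (s : Γ(Twist.twist (CohB1.polyGrading n R) d, W)) (z : W) :
    sval n R (φ.app W s) z * sval n R (gen n R i d W hW) z =
      sval n R s z * sval n R (φ.app W (gen n R i d W hW)) z := by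
  obtain ⟨r, hr⟩ := smul_fracTw_surjective (CohB1.polyGrading n R)
    (mono_mem n R (ei n i d.toNat)) (mono_mem n R (ei n i (-d).toNat))
    (by rw [ei_degree, ei_degree]; omega) W
    (fun x hx => mono_ei_notMem n R i _ x (hW hx))
    (fun x hx => mono_ei_notMem n R i _ x (hW hx)) s
  have hs : s = r • gen n R i d W hW := hr.symm
  have h1 : φ.app W s = r • φ.app W (gen n R i d W hW) := by
    rw [hs]
    exact Scheme.Modules.Hom.app_smul φ r _
  rw [h1, sval_smul]
  conv_rhs => rw [hs, sval_smul]
  ring

end Groth.Agent.H95.SD
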