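import Groth.Agent.H95.SDMul2

/-!
Serre duality on projective space, piece (M2), part 2: the chart data of a morphism of twists
and the transition identity between two charts (helper95).
-/

set_option autoImplicit false
universe u
open CategoryTheory CategoryTheory.Limits AlgebraicGeometry TopologicalSpace Opposite MvPolynomial

namespace Groth.Agent.H95.SD

open Groth.Agent.H18 Groth.Agent.H18.PSL

variable (n : ℕ) (R : Type u) [CommRing R]

/-- two fractions with monomial denominators which agree in all localizations at the points of a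
monomial basic open agree as polynomial fractions -/
theorem mul_eq_of_forall_mk_eq {D : ℤ} (e' : Fin (n + 1) →₀ ℕ) (he' : 0 < e'.degree)
    {m m' : MvPolynomial (Fin (n + 1)) R} {u u' : Fin (n + 1) →₀ ℕ} {N N' : ℕ}
    (hm : m ∈ CohB1.polyGrading n R N) (hN : (N : ℤ) = (u.degree : ℤ) + D)
    (hm' : m' ∈ CohB1.polyGrading n R N') (hN' : (N' : ℤ) = (u'.degree : ℤ) + D)
    (hu : ∀ x : ProjectiveSpectrum (CohB1.polyGrading n R), x ∈ monoOpen n R e' →
      mono n R u ∉ x.asHomogeneousIdeal)
    (hu' : ∀ x : ProjectiveSpectrum (CohB1.polyGrading n R), x ∈ monoOpen n R e' →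
      mono n R u' ∉ x.asHomogeneousIdeal)
    (h : ∀ z : monoOpen n R e', (Localization.mk m ⟨mono n R u, hu z.1 z.2⟩ :
      Twist.Loc (CohB1.polyGrading n R) z.1) = Localization.mk m' ⟨mono n R u', hu' z.1 z.2⟩) :
    mono n R u' * m = mono n R u * m' := by
  have h1 : IsRep n R D (monoOpen n R e')
      (fracTw (CohB1.polyGrading n R) hm (mono_mem n R u) hN (monoOpen n R e') hu) m u :=
    ⟨N, hm, hN, hu, fun z => rfl⟩
  have h2 : IsRep n R D (monoOpen n R e')
      (fracTw (CohB1.polyGrading n R) hm' (mono_mem n R u') hN' (monoOpen n R e') hu') m' u' :=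
    ⟨N', hm', hN', hu', fun z => rfl⟩
  exact IsRep.mul_eq n R h1 h2 le_rfl (fun z => (h z).symm) e' he' rfl

variable {n R}

theorem ei_add (i : Fin (n + 1)) (a b : ℕ) : ei n i (a + b) = ei n i a + ei n i b := add_smul a b _

variable (n R)

/-- **(★★)** on the chart `D₊(x_i)`, in terms of a representation of the image of the
generator -/
theorem sval_app_mul_of_isRep {d d' : ℤ}
    (φ : Twist.twist (CohB1.polyGrading n R) d ⟶ Twist.twist (CohB1.polyGrading n R) d')
    (i : Fin (n + 1)) {k : ℕ} {m : MvPolynomial (Fin (n + 1)) R}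
    (hrep : IsRep n R d' (stdO n R i) (φ.app (stdO n R i) (gen n R i d (stdO n R i) le_rfl)) m
      (ei n i k))
    (W : (CohB1.ProjSpace n R).Opens) (hW : W ≤ stdO n R i)
    (s : Γ(Twist.twist (CohB1.polyGrading n R) d, W)) (z : W) :
    sval n R (φ.app W s) z * Localization.mk (mono n R (ei n i d.toNat))
        ⟨mono n R (ei n i (-d).toNat), mono_ei_notMem n R i _ z.1 (hW z.2)⟩ =
      sval n R s z * Localization.mk m
        ⟨mono n R (ei n i k), mono_ei_notMem n R i _ z.1 (hW z.2)⟩ := by
  have h1 := sval_app_mul n R φ i W hW s z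
  rw [sval_gen] at h1
  rw [h1]
  congr 1
  have h2 : φ.app W (gen n R i d W hW) =
      mres (Twist.twist (CohB1.polyGrading n R) d') hW
        (φ.app (stdO n R i) (gen n R i d (stdO n R i) le_rfl)) := by
    exact (app_mres n R φ hW (gen n R i d (stdO n R i) le_rfl))
  rw [h2]
  obtain ⟨N, hm, hN, hWn, hval⟩ := hrep.res n R hW
  exact hval z

end Groth.Agent.H95.SD
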