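import Groth.Agent.H95.SDMul3

/-!
Serre duality on projective space, piece (M2), part 3: the transition identity (helper95).
-/

set_option autoImplicit false
universe u
open CategoryTheory CategoryTheory.Limits AlgebraicGeometry TopologicalSpace Opposite MvPolynomial

namespace Groth.Agent.H95.SD

open Groth.Agent.H18 Groth.Agent.H18.PSL

variable (n : ℕ) (R : Type u) [CommRing R]

theorem sval_app_gen {d d' : ℤ}
    (φ : Twist.twist (CohB1.polyGrading n R) d ⟶ Twist.twist (CohB1.polyGrading n R) d')
    (i : Fin (n + 1)) {k : ℕ} {m : MvPolynomial (Fin (n + 1)) R}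
    (hrep : IsRep n R d' (stdO n R i) (φ.app (stdO n R i) (gen n R i d (stdO n R i) le_rfl)) m
      (ei n i k))
    (W : (CohB1.ProjSpace n R).Opens) (hW : W ≤ stdO n R i) (z : W) :
    sval n R (φ.app W (gen n R i d W hW)) z = Localization.mk m
        ⟨mono n R (ei n i k), mono_ei_notMem n R i _ z.1 (hW z.2)⟩ := by
  have h2 : φ.app W (gen n R i d W hW) =
      mres (Twist.twist (CohB1.polyGrading n R) d') hW
        (φ.app (stdO n R i) (gen n R i d (stdO n R i) le_rfl)) :=
    app_mres n R φ hW (gen n R i d (stdO n R i) le_rfl)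
  rw [h2]
  obtain ⟨N, hm, hN, hWn, hval⟩ := hrep.res n R hW
  exact hval z

theorem monoOpen_add_le_left (i j : Fin (n + 1)) :
    monoOpen n R (Finsupp.single i 1 + Finsupp.single j 1) ≤ stdO n R i := by
  refine monoOpen_le_iff n R _ _ fun l hl => ?_
  rw [Finsupp.add_apply]
  omega

theorem monoOpen_add_le_right (i j : Fin (n + 1)) :
    monoOpen n R (Finsupp.single i 1 + Finsupp.single j 1) ≤ stdO n R j := by
  refine monoOpen_le_iff n R _ _ fun l hl => ?_
  rw [Finsupp.add_apply]
  omega

/-- the transition identity between the chart data on `D₊(x_i)` and `D₊(x_j)` -/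
theorem transition {d d' : ℤ}
    (φ : Twist.twist (CohB1.polyGrading n R) d ⟶ Twist.twist (CohB1.polyGrading n R) d')
    (i j : Fin (n + 1)) {ki kj : ℕ} {mi mj : MvPolynomial (Fin (n + 1)) R}
    (hi : IsRep n R d' (stdO n R i) (φ.app (stdO n R i) (gen n R i d (stdO n R i) le_rfl)) mi
      (ei n i ki))
    (hj : IsRep n R d' (stdO n R j) (φ.app (stdO n R j) (gen n R j d (stdO n R j) le_rfl)) mj
      (ei n j kj)) :
    mono n R (ei n j (kj + d.toNat)) * (mi * mono n R (ei n i (-d).toNat)) =
      mono n R (ei n i (ki + d.toNat)) * (mj * mono n R (ei n j (-d).toNat)) := by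
  set e' : Fin (n + 1) →₀ ℕ := Finsupp.single i 1 + Finsupp.single j 1 with he'
  have he'pos : 0 < e'.degree := degree_add_pos n _ _ (degree_single_one n i)
  have hWi := monoOpen_add_le_left n R i j
  have hWj := monoOpen_add_le_right n R i j
  obtain ⟨Ni, hmi, hNi, -, -⟩ := id hi
  obtain ⟨Nj, hmj, hNj, -, -⟩ := id hj
  rw [ei_degree] at hNi hNj
  have hu : ∀ x : ProjectiveSpectrum (CohB1.polyGrading n R), x ∈ monoOpen n R e' →
      mono n R (ei n j kj + ei n i (-d).toNat) ∉ x.asHomogeneousIdeal := by
    intro x hx h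
    rw [← mono_mul] at h
    exact (x.isPrime.mem_or_mem h).elim (mono_ei_notMem n R j _ x (hWj hx))
      (mono_ei_notMem n R i _ x (hWi hx))
  have hu' : ∀ x : ProjectiveSpectrum (CohB1.polyGrading n R), x ∈ monoOpen n R e' →
      mono n R (ei n j (-d).toNat + ei n i ki) ∉ x.asHomogeneousIdeal := by
    intro x hx h
    rw [← mono_mul] at h
    exact (x.isPrime.mem_or_mem h).elim (mono_ei_notMem n R j _ x (hWj hx))
      (mono_ei_notMem n R i _ x (hWi hx))
  have hm1 : mj * mono n R (ei n i d.toNat) ∈ CohB1.polyGrading n R (Nj + d.toNat) := by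
    have := SetLike.mul_mem_graded hmj (mono_mem n R (ei n i d.toNat))
    rwa [ei_degree] at this
  have hm2 : mono n R (ei n j d.toNat) * mi ∈ CohB1.polyGrading n R (d.toNat + Ni) := by
    have := SetLike.mul_mem_graded (mono_mem n R (ei n j d.toNat)) hmi
    rwa [ei_degree] at this
  have key := mul_eq_of_forall_mk_eq n R (D := d' + d) e' he'pos hm1
    (by rw [map_add, ei_degree, ei_degree]; push_cast; omega) hm2
    (by rw [map_add, ei_degree, ei_degree]; push_cast; omega) hu hu' (fun z => by
      have A := sval_app_mul_of_isRep n R φ i hi (monoOpen n R e') hWi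
        (gen n R j d (monoOpen n R e') hWj) z
      rw [sval_app_gen n R φ j hj (monoOpen n R e') hWj z, sval_gen, Localization.mk_mul,
        Localization.mk_mul] at A
      refine Eq.trans ?_ (A.trans ?_)
      · congr 1
        exact Subtype.ext (mono_mul n R _ _).symm
      · congr 1
        exact Subtype.ext (mono_mul n R _ _))
  rw [ei_add, ei_add, ← mono_mul, ← mono_mul] at *
  linear_combination (-1 : MvPolynomial (Fin (n + 1)) R) * key

end Groth.Agent.H95.SD
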