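import Groth.Agent.H95.SDDefs

/-!
Serre duality on projective space, piece (N), part 1: Laurent coefficients of a product, and the
Laurent expansion of the image of a section under a morphism of twists which is multiplication
by a homogeneous polynomial (helper95).
-/

set_option autoImplicit false
universe u
open CategoryTheory CategoryTheory.Limits AlgebraicGeometry TopologicalSpace Opposite MvPolynomial

namespace Groth.Agent.H95.SD

open Groth.Agent.H18.PSL Groth.Agent.H18 Groth.Agent.H95.TopCech

section Lau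

variable {σ : Type*} [Finite σ] {R : Type*} [CommRing R]

theorem lau_monomial_mul (b : σ →₀ ℕ) (r : R) (m : MvPolynomial σ R) (u : σ →₀ ℕ) (a : σ → ℤ) :
    Lau.lau (monomial b r * m) u a = r * Lau.lau m u (fun i => a i - (b i : ℤ)) := by
  classical
  by_cases c : ∀ i, 0 ≤ a i + (u i : ℤ)
  · rw [Lau.lau_of_nonneg _ _ _ c, coeff_monomial_mul']
    by_cases c' : ∀ i, 0 ≤ (a i - (b i : ℤ)) + (u i : ℤ)
    · have hle : b ≤ Lau.shiftExp a u := by
        rw [Finsupp.le_def]
        intro i
        have := c' i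
        have := c i
        simp only [Lau.shiftExp_apply]
        omega
      rw [if_pos hle, Lau.lau_of_nonneg _ _ _ c']
      congr 2
      ext i
      have := c' i
      have := c i
      simp only [Finsupp.tsub_apply, Lau.shiftExp_apply]
      omega
    · have hle : ¬ b ≤ Lau.shiftExp a u := by
        intro hle
        apply c'
        intro i
        have h1 := (Finsupp.le_def.mp hle) i
        have := c i
        simp only [Lau.shiftExp_apply] at h1
        omega
      rw [if_neg hle, Lau.lau_of_not_nonneg _ _ _ c', mul_zero]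
  · have c' : ¬ ∀ i, 0 ≤ (a i - (b i : ℤ)) + (u i : ℤ) := by
      intro hh
      apply c
      intro i
      have := hh i
      omega
    rw [Lau.lau_of_not_nonneg _ _ _ c, Lau.lau_of_not_nonneg _ _ _ c', mul_zero]

theorem lau_mul (q m : MvPolynomial σ R) (u : σ →₀ ℕ) (a : σ → ℤ) :
    Lau.lau (q * m) u a =
      ∑ b ∈ q.support, q.coeff b * Lau.lau m u (fun i => a i - (b i : ℤ)) := by
  classical
  conv_lhs => rw [q.as_sum, Finset.sum_mul]
  have hsum : ∀ (s : Finset (σ →₀ ℕ)) (f : (σ →₀ ℕ) → MvPolynomial σ R),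
      Lau.lau (∑ b ∈ s, f b) u a = ∑ b ∈ s, Lau.lau (f b) u a := by
    intro s f
    induction s using Finset.induction_on with
    | empty => simp [Lau.lau_zero]
    | insert b s hb ih =>
      rw [Finset.sum_insert hb, Finset.sum_insert hb, Lau.lau_add, Pi.add_apply, ih]
  rw [hsum]
  exact Finset.sum_congr rfl fun b _ => lau_monomial_mul b _ m u a

end Lau

variable (n : ℕ) (R : Type u) [CommRing R]

theorem IsRep.of_isMulBy {d d' : ℤ} {k : ℕ} (hd : d' = d + k)
    {φ : Twist.twistProjSpace n R d ⟶ Twist.twistProjSpace n R d'}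
    {q : MvPolynomial (Fin (n + 1)) R} (hq : q ∈ CohB1.polyGrading n R k)
    (hφ : IsMulBy n R φ q) {W : (CohB1.ProjSpace n R).Opens}
    {s : Γ(Twist.twist (CohB1.polyGrading n R) d, W)} {m : MvPolynomial (Fin (n + 1)) R}
    {u : Fin (n + 1) →₀ ℕ} (h : IsRep n R d W s m u) :
    IsRep n R d' W (φ.app W s) (q * m) u := by
  obtain ⟨N, hm, hN, hW, hval⟩ := h
  refine ⟨k + N, SetLike.mul_mem_graded hq hm, by push_cast; omega, hW, fun z => ?_⟩
  rw [hφ W s z, hval z]
  change Localization.mk q 1 * _ = _
  rw [Localization.mk_mul, one_mul]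

theorem lauSect_of_isMulBy {d d' : ℤ} {k : ℕ} (hd : d' = d + k)
    {φ : Twist.twistProjSpace n R d ⟶ Twist.twistProjSpace n R d'}
    {q : MvPolynomial (Fin (n + 1)) R} (hq : q ∈ CohB1.polyGrading n R k)
    (hφ : IsMulBy n R φ q) {e : Fin (n + 1) →₀ ℕ} (he : 0 < e.degree)
    {W : (CohB1.ProjSpace n R).Opens} (hW : W = monoOpen n R e)
    (s : Γ(Twist.twist (CohB1.polyGrading n R) d, W)) (a : Fin (n + 1) → ℤ) :
    lauSect n R d' e he W hW (φ.app W s) a =
      ∑ b ∈ q.support, q.coeff b * lauSect n R d e he W hW s (fun i => a i - (b i : ℤ)) := by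
  obtain ⟨j, m, h0⟩ := exists_isRep' n R d e he W hW s
  rw [lauSect_eq_of_isRep n R he hW (IsRep.of_isMulBy n R hd hq hφ h0),
    lauSect_eq_of_isRep n R he hW h0, lau_mul]

end Groth.Agent.H95.SD
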