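import Groth.Agent.H95.SDMul4
import Groth.Agent.H95.SDNat1

/-!
Serre duality on projective space, piece (M2), part 4: every morphism of twists on `P^n_R`,
`n ≥ 1`, is multiplication by a homogeneous polynomial (helper95).
-/

set_option autoImplicit false
universe u
open CategoryTheory CategoryTheory.Limits AlgebraicGeometry TopologicalSpace Opposite MvPolynomial

namespace Groth.Agent.H95.SD

open Groth.Agent.H18 Groth.Agent.H18.PSL

section Lau

variable {σ : Type*} [Finite σ] {R : Type*} [CommRing R]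

theorem lau_inj {m m' : MvPolynomial σ R} {u : σ →₀ ℕ} (h : Lau.lau m u = Lau.lau m' u) :
    m = m' := by
  have h1 : Lau.lau (m + C (-1 : R) * m') u = 0 := by
    funext a
    have h2 := lau_monomial_mul (0 : σ →₀ ℕ) (-1 : R) m' u a
    simp only [Finsupp.coe_zero, Pi.zero_apply, Nat.cast_zero, sub_zero] at h2
    rw [Lau.lau_add, Pi.add_apply, show (C (-1 : R) : MvPolynomial σ R) = monomial 0 (-1) from rfl,
      h2, h]
    simp
  have h3 := Lau.eq_zero_of_lau_eq_zero h1
  have : m' = m' * 1 := (mul_one _).symm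
  calc m = m + C (-1 : R) * m' + m' := by
        rw [map_neg, map_one]; ring
    _ = m' := by rw [h3, zero_add]

theorem lau_monomial_mul_self (u : σ →₀ ℕ) (q : MvPolynomial σ R) :
    Lau.lau (monomial u (1 : R) * q) u = Lau.lau q 0 := by
  refine Lau.lau_eq_of_mul_eq ?_
  rw [show (monomial (0 : σ →₀ ℕ) (1 : R)) = 1 from rfl, one_mul]

end Lau

section Loc

variable {A : Type*} [CommRing A] (p : Ideal A) [p.IsPrime]

theorem loc_cancel {x y : Localization.AtPrime p} {a b c m q : A} (ha : a ∉ p) (hb : b ∉ p)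
    (hc : c ∉ p)
    (h : x * Localization.mk a ⟨b, hb⟩ = y * Localization.mk m ⟨c, hc⟩)
    (hq : m * b = c * a * q) :
    x = algebraMap A (Localization.AtPrime p) q * y := by
  have hca : c * a ∉ p := fun h => (Ideal.IsPrime.mem_or_mem ‹_› h).elim hc ha
  have h1 : (Localization.mk a ⟨b, hb⟩ : Localization.AtPrime p) * Localization.mk b ⟨a, ha⟩ = 1 := by
    rw [Localization.mk_mul]
    have : (⟨b, hb⟩ * ⟨a, ha⟩ : p.primeCompl) = ⟨a * b, fun h =>
        (Ideal.IsPrime.mem_or_mem ‹_› h).elim ha hb⟩ := Subtype.ext (mul_comm b a)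
    rw [this]
    exact Localization.mk_self (M := A) (S := p.primeCompl) ⟨a * b, fun h =>
        (Ideal.IsPrime.mem_or_mem ‹_› h).elim ha hb⟩
  have h2 : (Localization.mk m ⟨c, hc⟩ : Localization.AtPrime p) * Localization.mk b ⟨a, ha⟩ =
      algebraMap A (Localization.AtPrime p) q := by
    rw [Localization.mk_mul, hq]
    change _ = Localization.mk q 1
    rw [Localization.mk_eq_mk_iff, Localization.r_iff_exists]
    refine ⟨1, ?_⟩
    simp only [OneMemClass.coe_one, one_mul, Submonoid.coe_mul]
  calc x = x * (Localization.mk a ⟨b, hb⟩ * Localization.mk b ⟨a, ha⟩) := by rw [h1, mul_one]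
    _ = y * (Localization.mk m ⟨c, hc⟩ * Localization.mk b ⟨a, ha⟩) := by
        rw [← mul_assoc, h, mul_assoc]
    _ = algebraMap A (Localization.AtPrime p) q * y := by rw [h2, mul_comm]

end Loc

end Groth.Agent.H95.SD
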