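import Groth.Agent.H95.SDMul5

/-!
Serre duality on projective space, piece (M2), part 5: every morphism of twists on `P^n_R`,
`n ≥ 1`, is multiplication by a homogeneous polynomial (helper95).
-/

set_option autoImplicit false
universe u
open CategoryTheory CategoryTheory.Limits AlgebraicGeometry TopologicalSpace Opposite MvPolynomial

namespace Groth.Agent.H95.SD

open Groth.Agent.H18 Groth.Agent.H18.PSL

variable (n : ℕ) (R : Type u) [CommRing R]

theorem eq_of_ei_apply_pos {i l : Fin (n + 1)} {K : ℕ} (h : 0 < ei n i K l) : l = i := by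
  by_contra hne
  rw [ei, Finsupp.smul_apply, Finsupp.single_apply, if_neg (fun h' => hne h'.symm), smul_zero] at h
  exact lt_irrefl 0 h

/-- **(M2)** every morphism `O(d) ⟶ O(d')` on `P^n_R`, `n ≥ 1`, is multiplication by a homogeneous
polynomial of degree `d' - d` (zero if `d' < d`) -/
theorem exists_isMulBy (hn : 1 ≤ n) {d d' : ℤ}
    (φ : Twist.twistProjSpace n R d ⟶ Twist.twistProjSpace n R d') :
    ∃ (k : ℕ) (q : MvPolynomial (Fin (n + 1)) R), q ∈ CohB1.polyGrading n R k ∧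
      ((k : ℤ) = d' - d ∨ q = 0) ∧ IsMulBy n R φ q := by
  classical
  let φ' : Twist.twist (CohB1.polyGrading n R) d ⟶ Twist.twist (CohB1.polyGrading n R) d' := φ
  have hrep : ∀ i : Fin (n + 1), ∃ (k : ℕ) (m : MvPolynomial (Fin (n + 1)) R),
      IsRep n R d' (stdO n R i) (φ'.app (stdO n R i) (gen n R i d (stdO n R i) le_rfl)) m
        (ei n i k) := fun i =>
    exists_isRep n R d' (Finsupp.single i 1) (degree_single_one n i) _
  choose k m hkm using hrep
  let A : Fin (n + 1) → MvPolynomial (Fin (n + 1)) R := fun i => m i * mono n R (ei n i (-d).toNat)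
  let U : Fin (n + 1) → (Fin (n + 1) →₀ ℕ) := fun i => ei n i (k i + d.toNat)
  have htr : ∀ i j, mono n R (U j) * A i = mono n R (U i) * A j := fun i j =>
    transition n R φ' i j (hkm i) (hkm j)
  let L := Lau.lau (A 0) (U 0)
  have hL : ∀ i, Lau.lau (A i) (U i) = L := fun i => Lau.lau_eq_of_mul_eq (htr i 0)
  have hA : ∀ i, ∃ N : ℕ, (A i).IsHomogeneous N ∧ (N : ℤ) = k i + d' + (-d).toNat := by
    intro i
    obtain ⟨N, hm, hN, -, -⟩ := hkm i
    rw [ei_degree] at hN
    refine ⟨N + (-d).toNat, ?_, by push_cast; omega⟩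
    have := SetLike.mul_mem_graded hm (mono_mem n R (ei n i (-d).toNat))
    rw [ei_degree] at this
    exact (mem_homogeneousSubmodule _ _).mp this
  have h01 : (1 : Fin (n + 1)) ≠ 0 := by
    intro h
    have := congrArg Fin.val h
    rw [Fin.val_one', Fin.val_zero] at this
    have h2 : 1 % (n + 1) = 1 := Nat.mod_eq_of_lt (by omega)
    omega
  have hsupp : ∀ a, L a ≠ 0 → (∑ l, a l = d' - d) ∧ ∀ l, 0 ≤ a l := by
    intro a ha
    obtain ⟨N0, hN0, hN0'⟩ := hA 0
    obtain ⟨h1, h2⟩ := Lau.lau_ne_zero_imp hN0 ha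
    have ha1 : Lau.lau (A 1) (U 1) a ≠ 0 := by rw [hL 1]; exact ha
    obtain ⟨N1, hN1, hN1'⟩ := hA 1
    obtain ⟨-, h2'⟩ := Lau.lau_ne_zero_imp hN1 ha1
    refine ⟨?_, fun l => ?_⟩
    · rw [h1, ei_degree]
      push_cast
      omega
    · by_contra hl
      push Not at hl
      have e0 := eq_of_ei_apply_pos n (h2 l hl)
      have e1 := eq_of_ei_apply_pos n (h2' l hl)
      exact h01 (e1.symm.trans e0)
  obtain ⟨kq, q, hq, hkq, hlq⟩ : ∃ (kq : ℕ) (q : MvPolynomial (Fin (n + 1)) R),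
      q ∈ CohB1.polyGrading n R kq ∧ ((kq : ℤ) = d' - d ∨ q = 0) ∧ Lau.lau q 0 = L := by
    by_cases hdd : 0 ≤ d' - d
    · obtain ⟨k', N, q, hN, hqh, hlq⟩ := Lau.exists_lau_eq L (Lau.lau_support_finite _ _) 0
        (d' - d) (Or.inl hdd) (fun a ha => ⟨(hsupp a ha).1, fun i hi =>
          absurd ((hsupp a ha).2 i) (not_le.mpr hi)⟩)
      refine ⟨N, q, (mem_homogeneousSubmodule _ _).mpr hqh, Or.inl ?_, ?_⟩
      · rw [hN, map_zero]
        push_cast
        ring
      · rwa [smul_zero] at hlq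
    · refine ⟨0, 0, Submodule.zero_mem _, Or.inr rfl, ?_⟩
      rw [Lau.lau_zero]
      funext a
      by_contra ha
      obtain ⟨h1, h2⟩ := hsupp a (Ne.symm ha)
      have : 0 ≤ ∑ l, a l := Finset.sum_nonneg fun l _ => h2 l
      omega
  have hAq : ∀ i, A i = mono n R (U i) * q := fun i =>
    lau_inj ((hL i).trans (hlq.symm.trans (lau_monomial_mul_self (U i) q).symm))
  refine ⟨kq, q, hq, hkq, ?_⟩
  intro W s z
  obtain ⟨i, hi⟩ := exists_mem_stdO n R z.1
  have hW' : W ⊓ stdO n R i ≤ stdO n R i := inf_le_right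
  have hWW : W ⊓ stdO n R i ≤ W := inf_le_left
  let z' : (W ⊓ stdO n R i : (CohB1.ProjSpace n R).Opens) := ⟨z.1, ⟨z.2, hi⟩⟩
  have h1 : sval n R (φ.app W s) z =
      sval n R (φ'.app (W ⊓ stdO n R i)
        (mres (Twist.twist (CohB1.polyGrading n R) d) hWW s)) z' := by
    have h0 := app_mres n R φ' hWW s
    exact (congrArg (fun t => sval n R t z') h0).symm
  have h2 : sval n R s z =
      sval n R (mres (Twist.twist (CohB1.polyGrading n R) d) hWW s) z' := rfl
  rw [h1, h2]
  have h3 := sval_app_mul_of_isRep n R φ' i (hkm i) (W ⊓ stdO n R i) hW'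
    (mres (Twist.twist (CohB1.polyGrading n R) d) hWW s) z'
  refine loc_cancel _ (mono_ei_notMem n R i _ z.1 hi) _ _ h3 ?_
  have h4 := hAq i
  change m i * mono n R (ei n i (-d).toNat) = mono n R (ei n i (k i + d.toNat)) * q at h4
  rw [ei_add, ← mono_mul] at h4
  exact h4

end Groth.Agent.H95.SD
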