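import Groth.Agent.H95.SDMul6

/-!
Serre duality on projective space, piece (M3): a morphism of twists is determined by the
polynomial it multiplies by (helper95).
-/

set_option autoImplicit false
universe u
open CategoryTheory CategoryTheory.Limits AlgebraicGeometry TopologicalSpace Opposite MvPolynomial

namespace Groth.Agent.H95.SD

open Groth.Agent.H18 Groth.Agent.H18.PSL

variable (n : ℕ) (R : Type u) [CommRing R]

/-- two morphisms of twists which are multiplication by the same polynomial are equal -/
theorem hom_ext_of_isMulBy {d d' : ℤ}
    {φ φ' : Twist.twistProjSpace n R d ⟶ Twist.twistProjSpace n R d'}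
    {q : MvPolynomial (Fin (n + 1)) R} (h : IsMulBy n R φ q) (h' : IsMulBy n R φ' q) :
    φ = φ' := by
  refine Scheme.Modules.hom_ext _ _ fun U => ?_
  ext s
  refine sval_ext n R _ _ fun z => ?_
  exact (h U s z).trans (h' U s z).symm

theorem isMulBy_zero {d d' : ℤ} :
    IsMulBy n R (0 : Twist.twistProjSpace n R d ⟶ Twist.twistProjSpace n R d') 0 := by
  intro W s z
  rw [map_zero, zero_mul]
  rfl

end Groth.Agent.H95.SD
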