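import Groth.Agent.H95.TopCech3

/-!
Top cohomology of `O(-(n+1+k))` on `P^n_R`, `n ≥ 1` (helper95).
-/

set_option autoImplicit false
universe u
open CategoryTheory CategoryTheory.Limits AlgebraicGeometry TopologicalSpace Opposite MvPolynomial

namespace Groth.Agent.H95.TopCech

open Groth.Agent.Lead.Cech Groth.Agent.H18.CechContract Groth.Agent.H18.PSL Groth.Agent.H18
  Groth.Agent.H62.NL

variable (R : Type u) [CommRing R]

/-- `H^{p+1}(P^{p+1}_R, O(d))` is the module of functions on the top index set -/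
theorem nonempty_topSet_linearEquiv_HH (p : ℕ) (d : ℤ) :
    Nonempty ((topSet (p + 1) d → R) ≃ₗ[R]
      Coh.HH (CohB1.ProjSpace (p + 1) R) (Twist.twistProjSpace (p + 1) R d) (p + 1)) := by
  let e : Fin (p + 2) ≃ ULift.{u} (Fin (p + 1 + 1)) := Equiv.ulift.symm
  have hT1 : ∀ a ∈ topSet (p + 1) d, ∀ i, i ∈ (coeffSystem (p + 1) R d).N a :=
    fun a ha i => ha.2 i.down
  have hT2 : ∀ a, (coeffSystem (p + 1) R d).good a →
      (∀ i, i ∈ (coeffSystem (p + 1) R d).N a) → a ∈ topSet (p + 1) d :=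
    fun a hg h => ⟨hg, fun i => h (ULift.up i)⟩
  have hT3 : ∀ a ∈ topSet (p + 1) d, (coeffSystem (p + 1) R d).good a := fun a ha => ha.1
  refine nonempty_linearEquiv_HH (X := CohB1.ProjSpace (p + 1) R) (stdU (p + 1) R)
    (iSup_stdU (p + 1) R) (Twist.twistProjSpace (p + 1) R d)
    (acyc_of_isAffineOpen _ _ (isAffineOpen_iInf_stdU (p + 1) R) _) R p
    (topPi (coeffSystem (p + 1) R d) p e (topSet (p + 1) d))
    (topPi_surjective e hT3 (topSet_finite (p + 1) d))
    (fun z => topPi_eq_zero_iff e hT1 hT2 z) ?_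
  intro a z
  funext t
  refine Eq.trans (congrArg (fun s => (coeffSystem (p + 1) R d).c (⇑e) s t.1)
    (proj_cechSmul (X := CohB1.ProjSpace (p + 1) R) (stdU (p + 1) R)
      (Twist.twistProjSpace (p + 1) R d) _ (p + 1) z.1 (⇑e))) ?_
  exact congrFun (coeffSystem_c_smulAb (p + 1) R d (⇑e) a _) t.1

end Groth.Agent.H95.TopCech
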