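import Groth.Agent.H95.SDNat1
import Groth.Agent.H95.TopCech4

/-!
Serre duality on projective space, piece (N), part 2: naturality of the Čech class map, and the
packaging theorem with its specification (helper95).
-/

set_option autoImplicit false
universe u
open CategoryTheory CategoryTheory.Limits AlgebraicGeometry TopologicalSpace Opposite MvPolynomial

namespace Groth.Agent.H95.SD

open Groth.Agent.Lead.Cech Groth.Agent.H62.NL

variable {X : Scheme.{u}} {ι : Type u} (U : ι → X.Opens)

/-- the action of a morphism of modules on Čech cochains -/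
noncomputable def cechPush {M N : X.Modules} (φ : M ⟶ N) (p : ℕ) :
    ((K (X := X) U M.presheaf).X p : Type u) →+ ((K (X := X) U N.presheaf).X p : Type u) :=
  (((cechComplexFunctor (A := AddCommGrpCat.{u}) U).map
    ((SheafOfModules.toSheaf X.ringCatSheaf).map φ).hom).f p).hom

theorem proj_cechPush {M N : X.Modules} (φ : M ⟶ N) (p : ℕ)
    (x : ((K (X := X) U M.presheaf).X p : Type u)) (σ : Fin (p + 1) → ι) :
    proj (X := X) U N.presheaf p σ (cechPush U φ p x) =
      ((SheafOfModules.toSheaf X.ringCatSheaf).map φ).hom.app (op (cechOpen (X := X) U σ))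
        (proj (X := X) U M.presheaf p σ x) :=
  map_apply (X := X) U ((SheafOfModules.toSheaf X.ringCatSheaf).map φ).hom p x σ

theorem d_cechPush {M N : X.Modules} (φ : M ⟶ N) (p : ℕ)
    (x : ((K (X := X) U M.presheaf).X p : Type u)) :
    (K (X := X) U N.presheaf).d p (p + 1) (cechPush U φ p x) =
      cechPush U φ (p + 1) ((K (X := X) U M.presheaf).d p (p + 1) x) := by
  have h := ((cechComplexFunctor (A := AddCommGrpCat.{u}) U).map
    ((SheafOfModules.toSheaf X.ringCatSheaf).map φ).hom).comm p (p + 1)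
  exact ConcreteCategory.congr_hom h x

theorem cechPush_mem_cocyc {M N : X.Modules} (φ : M ⟶ N) (p : ℕ)
    (z : cocyc (K (X := X) U M.presheaf) p) :
    cechPush U φ p z.1 ∈ cocyc (K (X := X) U N.presheaf) p := by
  rw [mem_cocyc, d_cechPush, (mem_cocyc _ z.1).mp z.2, map_zero]

variable (hcov : ⨆ i, U i = ⊤)

/-- **naturality of the Čech class map** -/
theorem cechCls_naturality {M N : X.Modules} (hM : Acyc (X := X.toTopCat) U (Coh.toAb M))
    (hN : Acyc (X := X.toTopCat) U (Coh.toAb N)) (φ : M ⟶ N) (p : ℕ)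
    (z : cocyc (K (X := X) U M.presheaf) p) :
    Sheaf.H.map ((SheafOfModules.toSheaf X.ringCatSheaf).map φ) p (cechCls U hcov M hM p z) =
      cechCls U hcov N hN p ⟨cechPush U φ p z.1, cechPush_mem_cocyc U φ p z⟩ := by
  rw [cechCls_apply, cechCls_apply, ← cechEquiv_naturality U hcov hM hN]
  congr 1
  exact cls_map _ ((cechComplexFunctor (A := AddCommGrpCat.{u}) U).map
    ((SheafOfModules.toSheaf X.ringCatSheaf).map φ).hom) p z _ rfl

/-- **Packaging theorem with specification.** -/
theorem exists_linearEquiv_HH (M : X.Modules) (hM : Acyc (X := X.toTopCat) U (Coh.toAb M))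
    (A : Type u) [CommRing A] [X.Over (Spec (CommRingCat.of A))]
    (p : ℕ) {V : Type*} [AddCommGroup V] [Module A V]
    (π : cocyc (K (X := X) U M.presheaf) (p + 1) →+ V) (hπ : Function.Surjective π)
    (hker : ∀ z, π z = 0 ↔
      ∃ b : (K (X := X) U M.presheaf).X p, (K (X := X) U M.presheaf).d p (p + 1) b = z.1)
    (hlin : ∀ (a : A) (z : cocyc (K (X := X) U M.presheaf) (p + 1)),
      π ⟨cechSmul U M (Coh.toGlobal (X ↘ Spec (CommRingCat.of A)) a) (p + 1) z.1,
        cechSmul_mem_cocyc U M _ (p + 1) z⟩ = a • π z) :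
    ∃ e : Coh.HH X M (p + 1) ≃ₗ[A] V, ∀ z, e (cechCls U hcov M hM (p + 1) z) = π z := by
  let e : V ≃+ Coh.HH X M (p + 1) :=
    equivOfKerEq π (cechCls U hcov M hM (p + 1)) hπ (cechCls_surjective U hcov M hM (p + 1))
      (fun z => by rw [hker, cechCls_eq_zero_iff])
  have he : ∀ z, e (π z) = cechCls U hcov M hM (p + 1) z := fun z => equivOfKerEq_apply _ _ _ _ _ z
  let e' : V ≃ₗ[A] Coh.HH X M (p + 1) := { e with
    map_smul' := by
      intro a v
      obtain ⟨z, rfl⟩ := hπ v
      change e (a • π z) = a • e (π z)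
      rw [← hlin a z, he, he, cechCls_smul]
      rfl }
  refine ⟨e'.symm, fun z => ?_⟩
  rw [LinearEquiv.symm_apply_eq]
  exact (he z).symm

end Groth.Agent.H95.SD
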