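import Groth.Agent.H95.SDNat2

/-!
Serre duality on projective space, piece (N), part 3: the natural Laurent-coefficient description
of the top cohomology of the twists on `P^{p+1}_R` (helper95).
-/

set_option autoImplicit false
universe u
open CategoryTheory CategoryTheory.Limits AlgebraicGeometry TopologicalSpace Opposite MvPolynomial

namespace Groth.Agent.H95.SD

open Groth.Agent.Lead.Cech Groth.Agent.H18.CechContract Groth.Agent.H18.PSL Groth.Agent.H18
  Groth.Agent.H62.NL Groth.Agent.H95.TopCech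

variable (R : Type u) [CommRing R]

theorem sub_mem_topSet {n : ℕ} {d d' : ℤ} {k : ℕ} (hd : d' = d + k)
    {q : MvPolynomial (Fin (n + 1)) R} (hq : q ∈ CohB1.polyGrading n R k)
    {a : Fin (n + 1) → ℤ} (ha : a ∈ topSet n d') {b : Fin (n + 1) →₀ ℕ} (hb : b ∈ q.support) :
    (fun i => a i - (b i : ℤ)) ∈ topSet n d := by
  have hq' : q.IsHomogeneous k := (mem_homogeneousSubmodule _ _).mp hq
  have hdeg : b.degree = k := by
    have h0 := hq' (mem_support_iff.mp hb)
    exact (DFunLike.congr_fun (Finsupp.degree_eq_weight_one (R := ℕ) (σ := Fin (n + 1))) b).trans h0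
  refine ⟨?_, fun i => ?_⟩
  · have h1 : ((b.degree : ℕ) : ℤ) = k := by exact_mod_cast hdeg
    rw [Finsupp.degree_eq_sum] at h1
    push_cast at h1
    rw [Finset.sum_sub_distrib, ha.1, h1, hd]
    ring
  · have := ha.2 i
    have : (0 : ℤ) ≤ (b i : ℤ) := Int.natCast_nonneg _
    show a i - (b i : ℤ) < 0
    omega

/-- **(N)** the natural Laurent-coefficient description of the top cohomology of the twists -/
theorem natTopCoeff (p : ℕ) : NatTopCoeff (p + 1) R := by
  classical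
  let e : Fin (p + 2) ≃ ULift.{u} (Fin (p + 1 + 1)) := Equiv.ulift.symm
  have hT1 : ∀ d : ℤ, ∀ a ∈ topSet (p + 1) d, ∀ i, i ∈ (coeffSystem (p + 1) R d).N a :=
    fun d a ha i => ha.2 i.down
  have hT2 : ∀ d : ℤ, ∀ a, (coeffSystem (p + 1) R d).good a →
      (∀ i, i ∈ (coeffSystem (p + 1) R d).N a) → a ∈ topSet (p + 1) d :=
    fun d a hg h => ⟨hg, fun i => h (ULift.up i)⟩
  have hT3 : ∀ d : ℤ, ∀ a ∈ topSet (p + 1) d, (coeffSystem (p + 1) R d).good a :=
    fun d a ha => ha.1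
  have hM : ∀ d : ℤ, Acyc (X := (CohB1.ProjSpace (p + 1) R).toTopCat) (stdU (p + 1) R)
      (Coh.toAb (Twist.twistProjSpace (p + 1) R d)) := fun d =>
    acyc_of_isAffineOpen _ _ (isAffineOpen_iInf_stdU (p + 1) R) _
  have H : ∀ d : ℤ, ∃ c : Coh.HH (CohB1.ProjSpace (p + 1) R) (Twist.twistProjSpace (p + 1) R d)
      (p + 1) ≃ₗ[R] (topSet (p + 1) d → R),
      ∀ z, c (cechCls (X := CohB1.ProjSpace (p + 1) R) (stdU (p + 1) R) (iSup_stdU (p + 1) R)
        (Twist.twistProjSpace (p + 1) R d) (hM d) (p + 1) z) =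
        topPi (coeffSystem (p + 1) R d) p e (topSet (p + 1) d) z := by
    intro d
    refine exists_linearEquiv_HH (X := CohB1.ProjSpace (p + 1) R) (stdU (p + 1) R)
      (iSup_stdU (p + 1) R) (Twist.twistProjSpace (p + 1) R d) (hM d) R p
      (topPi (coeffSystem (p + 1) R d) p e (topSet (p + 1) d))
      (topPi_surjective e (hT3 d) (topSet_finite (p + 1) d))
      (fun z => topPi_eq_zero_iff e (hT1 d) (hT2 d) z) ?_
    intro a z
    funext t
    refine Eq.trans (congrArg (fun s => (coeffSystem (p + 1) R d).c (⇑e) s t.1)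
      (proj_cechSmul (X := CohB1.ProjSpace (p + 1) R) (stdU (p + 1) R)
        (Twist.twistProjSpace (p + 1) R d) _ (p + 1) z.1 (⇑e))) ?_
    exact congrFun (coeffSystem_c_smulAb (p + 1) R d (⇑e) a _) t.1
  choose c hc using H
  refine ⟨c, ?_⟩
  intro d d' k hd φ q hq hφ x a
  obtain ⟨z, rfl⟩ := cechCls_surjective (X := CohB1.ProjSpace (p + 1) R) (stdU (p + 1) R)
    (iSup_stdU (p + 1) R) (Twist.twistProjSpace (p + 1) R d) (hM d) (p + 1) x
  have h1 : HHlin (p + 1) R φ (p + 1) (cechCls (X := CohB1.ProjSpace (p + 1) R) (stdU (p + 1) R)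
      (iSup_stdU (p + 1) R) (Twist.twistProjSpace (p + 1) R d) (hM d) (p + 1) z) =
      cechCls (X := CohB1.ProjSpace (p + 1) R) (stdU (p + 1) R)
      (iSup_stdU (p + 1) R) (Twist.twistProjSpace (p + 1) R d') (hM d') (p + 1)
      ⟨cechPush (stdU (p + 1) R) φ (p + 1) z.1, cechPush_mem_cocyc (stdU (p + 1) R) φ (p + 1) z⟩ :=
    cechCls_naturality (X := CohB1.ProjSpace (p + 1) R) (stdU (p + 1) R) (iSup_stdU (p + 1) R)
      (hM d) (hM d') φ (p + 1) z
  rw [h1, hc, hc]
  refine Eq.trans (topPi_apply (coeffSystem (p + 1) R d') p e (topSet (p + 1) d') _ a) ?_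
  have h2 := proj_cechPush (X := CohB1.ProjSpace (p + 1) R) (stdU (p + 1) R) φ (p + 1) z.1 (⇑e)
  refine Eq.trans (congrArg (fun s => (coeffSystem (p + 1) R d').c (⇑e) s a.1) h2) ?_
  refine Eq.trans (lauSect_of_isMulBy (p + 1) R hd hq hφ (expo_degree_pos (p + 1) (⇑e))
    (cechOpen_eq (p + 1) R (⇑e)) _ a.1) ?_
  refine Finset.sum_congr rfl fun b hb => ?_
  congr 1
  have hmem := sub_mem_topSet R hd hq a.2 hb
  rw [ext0, dif_pos hmem]
  rfl

end Groth.Agent.H95.SD
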