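import Groth.Agent.H95.SDMul7
import Groth.Agent.H95.SDNat3

/-!
Serre duality on projective space, piece (T), part 1: the pairing formula on the Laurent basis
of the top cohomology (helper95).
-/

set_option autoImplicit false
universe u
open CategoryTheory CategoryTheory.Limits AlgebraicGeometry TopologicalSpace Opposite MvPolynomial

namespace Groth.Agent.H95.SD

open Groth.Agent.H18 Groth.Agent.H18.PSL Groth.Agent.H95.TopCech

variable (n : ℕ)

/-- the exponent `-1 - a` of the dual monomial -/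
noncomputable def bExp (a : Fin (n + 1) → ℤ) : Fin (n + 1) →₀ ℕ :=
  Finsupp.equivFunOnFinite.symm (fun i => (-1 - a i).toNat)

theorem bExp_apply {d : ℤ} {a : Fin (n + 1) → ℤ} (ha : a ∈ topSet n d) (i : Fin (n + 1)) :
    ((bExp n a i : ℕ) : ℤ) = -1 - a i := by
  have := ha.2 i
  simp only [bExp, Finsupp.equivFunOnFinite_symm_apply_apply]
  omega

theorem bExp_injOn {d : ℤ} {a a' : Fin (n + 1) → ℤ} (ha : a ∈ topSet n d) (ha' : a' ∈ topSet n d)
    (h : bExp n a = bExp n a') : a = a' := by
  funext i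
  have h1 := bExp_apply n ha i
  have h2 := bExp_apply n ha' i
  rw [h] at h1
  omega

theorem bExp_degree {d : ℤ} {a : Fin (n + 1) → ℤ} (ha : a ∈ topSet n d) :
    ((bExp n a).degree : ℤ) = -((n : ℤ) + 1) - d := by
  rw [Finsupp.degree_eq_sum]
  push_cast
  simp only [bExp_apply n ha, Finset.sum_sub_distrib, ha.1, Finset.sum_const, Finset.card_univ,
    Fintype.card_fin, nsmul_eq_mul]
  push_cast
  ring

/-- the point `(-1, …, -1)` of the top index set of `O(-n-1)` -/
def a0 : Fin (n + 1) → ℤ := fun _ => -1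

theorem a0_mem : a0 n ∈ topSet n (-((n : ℤ) + 1)) := by
  refine ⟨?_, fun i => by show (-1 : ℤ) < 0; omega⟩
  simp only [a0, Finset.sum_const, Finset.card_univ, Fintype.card_fin, nsmul_eq_mul]
  push_cast
  ring

theorem eq_a0_of_mem {a : Fin (n + 1) → ℤ} (ha : a ∈ topSet n (-((n : ℤ) + 1))) : a = a0 n := by
  have h1 : ∑ i, (a i + 1) = 0 := by
    rw [Finset.sum_add_distrib, ha.1]
    simp only [Finset.sum_const, Finset.card_univ, Fintype.card_fin, nsmul_eq_mul]
    push_cast
    ring
  have h2 : ∀ i ∈ Finset.univ, a i + 1 ≤ 0 := fun i _ => by have := ha.2 i; omega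
  have h3 := (Finset.sum_eq_zero_iff_of_nonpos h2).mp h1
  funext i
  have := h3 i (Finset.mem_univ i)
  show a i = -1
  omega

noncomputable instance : Unique (topSet n (-((n : ℤ) + 1))) where
  default := ⟨a0 n, a0_mem n⟩
  uniq a := Subtype.ext (eq_a0_of_mem n a.2)

theorem a0_sub_eq_iff {d : ℤ} {a : Fin (n + 1) → ℤ} (ha : a ∈ topSet n d) (b : Fin (n + 1) →₀ ℕ) :
    (fun i => a0 n i - (b i : ℤ)) = a ↔ b = bExp n a := by
  constructor
  · intro h
    ext i
    have h1 := congrFun h i
    have h2 := bExp_apply n ha i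
    simp only [a0] at h1
    omega
  · rintro rfl
    funext i
    have h2 := bExp_apply n ha i
    simp only [a0]
    omega

variable (R : Type u) [CommRing R]

/-- **the pairing formula**: with `c` a natural family of top-coefficient isomorphisms,
the value at `(-1, …, -1)` of the image of the basis class `e_a` under multiplication by `q` is
the coefficient of `x^{-1-a}` in `q` -/
theorem pairing_formula
    (c : ∀ d : ℤ, Coh.HH (CohB1.ProjSpace n R) (Twist.twistProjSpace n R d) n ≃ₗ[R]
      (topSet n d → R))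
    (hc : ∀ (d d' : ℤ) (k : ℕ) (_ : d' = d + k)
      (φ : Twist.twistProjSpace n R d ⟶ Twist.twistProjSpace n R d')
      (q : MvPolynomial (Fin (n + 1)) R) (_ : q ∈ CohB1.polyGrading n R k) (_ : IsMulBy n R φ q)
      (x : Coh.HH (CohB1.ProjSpace n R) (Twist.twistProjSpace n R d) n) (a : topSet n d'),
      c d' (HHlin n R φ n x) a =
        ∑ b ∈ q.support, q.coeff b * ext0 n R (c d x) (fun i => a.1 i - (b i : ℤ)))
    (d : ℤ) (k : ℕ) (hd : -((n : ℤ) + 1) = d + k)
    (φ : Twist.twistProjSpace n R d ⟶ Twist.twistProjSpace n R (-((n : ℤ) + 1)))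
    (q : MvPolynomial (Fin (n + 1)) R) (hq : q ∈ CohB1.polyGrading n R k) (hφ : IsMulBy n R φ q)
    (a : topSet n d) [DecidableEq (topSet n d)] :
    c (-((n : ℤ) + 1)) (HHlin n R φ n ((c d).symm (Pi.single a 1))) ⟨a0 n, a0_mem n⟩ =
      q.coeff (bExp n a.1) := by
  classical
  rw [hc d _ k hd φ q hq hφ, LinearEquiv.apply_symm_apply]
  have hterm : ∀ b : Fin (n + 1) →₀ ℕ,
      ext0 n R (Pi.single a (1 : R)) (fun i => a0 n i - (b i : ℤ)) =
        if b = bExp n a.1 then 1 else 0 := by
    intro b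
    rw [ext0]
    by_cases hb : b = bExp n a.1
    · have h1 : (fun i => a0 n i - (b i : ℤ)) = a.1 := (a0_sub_eq_iff n a.2 b).mpr hb
      rw [if_pos hb, dif_pos (h1 ▸ a.2)]
      have : (⟨fun i => a0 n i - (b i : ℤ), h1 ▸ a.2⟩ : topSet n d) = a := Subtype.ext h1
      rw [this, Pi.single_eq_same]
    · rw [if_neg hb]
      by_cases hm : (fun i => a0 n i - (b i : ℤ)) ∈ topSet n d
      · rw [dif_pos hm, Pi.single_apply, if_neg]
        intro h2
        exact hb ((a0_sub_eq_iff n a.2 b).mp (congrArg Subtype.val h2))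
      · rw [dif_neg hm]
  simp only [hterm, mul_ite, mul_one, mul_zero]
  rw [Finset.sum_ite_eq' q.support (bExp n a.1) fun b => coeff b q]
  split_ifs with h
  · rfl
  · exact (notMem_support_iff.mp h).symm

end Groth.Agent.H95.SD
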