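import Mathlib.Algebra.DirectSum.Decomposition
import Mathlib.Algebra.DirectSum.Module
import Mathlib.LinearAlgebra.DFinsupp
import Mathlib.RingTheory.Finiteness.Basic
import Mathlib.Tactic

set_option autoImplicit false
set_option linter.style.haveILetI false
universe u v w

namespace Groth.Agent.H95

open DirectSum

section proj
variable {Γ : Type w} [LinearOrder Γ] {R : Type u} [CommRing R] {N : Type v} [AddCommGroup N]
  [Module R N] (𝒢 : Γ → Submodule R N) [DirectSum.Decomposition 𝒢]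

/-- projection onto the `γ`-component of a decomposition -/
noncomputable def compProj (γ : Γ) : N →ₗ[R] N :=
  (𝒢 γ).subtype ∘ₗ (DirectSum.component R Γ (fun γ => 𝒢 γ) γ) ∘ₗ
    (DirectSum.decomposeLinearEquiv 𝒢).toLinearMap

theorem compProj_apply (γ : Γ) (x : N) : compProj 𝒢 γ x = (DirectSum.decompose 𝒢 x γ : N) := rfl

theorem compProj_mem (γ : Γ) (x : N) : compProj 𝒢 γ x ∈ 𝒢 γ := (DirectSum.decompose 𝒢 x γ).2

theorem compProj_of_mem_same {γ : Γ} {x : N} (hx : x ∈ 𝒢 γ) : compProj 𝒢 γ x = x :=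
  DirectSum.decompose_of_mem_same 𝒢 hx

theorem compProj_of_mem_ne {γ η : Γ} {x : N} (hx : x ∈ 𝒢 η) (h : η ≠ γ) : compProj 𝒢 γ x = 0 :=
  DirectSum.decompose_of_mem_ne 𝒢 hx h

theorem sub_compProj_mem {γ : Γ} {x : N} (hx : x ∈ ⨆ η ∈ Set.Ici γ, 𝒢 η) :
    x - compProj 𝒢 γ x ∈ ⨆ η ∈ Set.Ioi γ, 𝒢 η := by
  have hle : (⨆ η ∈ Set.Ici γ, 𝒢 η) ≤
      Submodule.comap (LinearMap.id - compProj 𝒢 γ) (⨆ η ∈ Set.Ioi γ, 𝒢 η) := by
    refine iSup₂_le fun η hη y hy => ?_
    rw [Submodule.mem_comap, LinearMap.sub_apply, LinearMap.id_apply]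
    rcases eq_or_lt_of_le (Set.mem_Ici.mp hη) with rfl | hlt
    · rw [compProj_of_mem_same 𝒢 hy, sub_self]
      exact Submodule.zero_mem _
    · rw [compProj_of_mem_ne 𝒢 hy hlt.ne', sub_zero]
      exact (le_iSup₂ (f := fun η (_ : η ∈ Set.Ioi γ) => 𝒢 η) η hlt) hy
  exact hle hx

theorem compProj_eq_zero_of_mem_Ioi {γ : Γ} {x : N} (hx : x ∈ ⨆ η ∈ Set.Ioi γ, 𝒢 η) :
    compProj 𝒢 γ x = 0 := by
  have hle : (⨆ η ∈ Set.Ioi γ, 𝒢 η) ≤ LinearMap.ker (compProj 𝒢 γ) := by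
    refine iSup₂_le fun η hη y hy => ?_
    rw [LinearMap.mem_ker]
    exact compProj_of_mem_ne 𝒢 hy (ne_of_gt (Set.mem_Ioi.mp hη))
  exact hle hx

theorem finite_support_of_finite [Module.Finite R N] : {η | 𝒢 η ≠ ⊥}.Finite := by
  classical
  obtain ⟨S, hS⟩ := (Module.Finite.fg_top : (⊤ : Submodule R N).FG)
  let T : Finset Γ := S.biUnion fun s => (DirectSum.decompose 𝒢 s).support
  refine T.finite_toSet.subset ?_
  intro η hη
  by_contra hηT
  apply hη
  have hzero : compProj 𝒢 η = 0 := by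
    apply LinearMap.ext_on_range (v := fun s : S => (s : N))
    · simpa using hS
    · rintro ⟨s, hs⟩
      rw [compProj_apply, LinearMap.zero_apply]
      have : η ∉ (DirectSum.decompose 𝒢 s).support := by
        intro h
        exact hηT (Finset.mem_coe.mpr (Finset.mem_biUnion.mpr ⟨s, hs, h⟩))
      rw [DFinsupp.notMem_support_iff] at this
      rw [this]
      rfl
  rw [eq_bot_iff]
  intro x hx
  rw [Submodule.mem_bot, ← compProj_of_mem_same 𝒢 hx, hzero, LinearMap.zero_apply]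

end proj

section retract
variable {Γ : Type w} [LinearOrder Γ] [Nonempty Γ] {R : Type u} [CommRing R]
  {N : Type v} [AddCommGroup N] [Module R N] [Module.Finite R N]
  {M' : Type v} [AddCommGroup M'] [Module R M']

theorem split_of_retract (𝒢 : Γ → Submodule R N) (h𝒢 : DirectSum.IsInternal 𝒢)
    (F' : Γ → Submodule R M') (hF' : Antitone F')
    (ι : M' →ₗ[R] N) (π : N →ₗ[R] M') (hπι : ∀ x, π (ι x) = x)
    (h1 : ∀ γ, ∀ x ∈ F' γ, ι x ∈ ⨆ η ∈ Set.Ici γ, 𝒢 η)
    (h2 : ∀ γ, ∀ y ∈ ⨆ η ∈ Set.Ici γ, 𝒢 η, π y ∈ F' γ) :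
    ∃ G' : Γ → Submodule R M', DirectSum.IsInternal G' ∧ ∀ γ, F' γ = ⨆ η ∈ Set.Ici γ, G' η := by
  classical
  letI : DirectSum.Decomposition 𝒢 := h𝒢.chooseDecomposition
  -- the idempotent-like maps
  let T : Γ → (M' →ₗ[R] M') := fun γ => π ∘ₗ compProj 𝒢 γ ∘ₗ ι
  have hT : ∀ γ x, T γ x = π (compProj 𝒢 γ (ι x)) := fun γ x => rfl
  let G' : Γ → Submodule R M' := fun γ => (F' γ).map (T γ)
  have h𝒢le : ∀ γ, 𝒢 γ ≤ ⨆ η ∈ Set.Ici γ, 𝒢 η := fun γ =>
    le_iSup₂ (f := fun η (_ : η ∈ Set.Ici γ) => 𝒢 η) γ (Set.mem_Ici.mpr le_rfl)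
  -- (G1)
  have hG1 : ∀ γ, G' γ ≤ F' γ := by
    rintro γ _ ⟨x, hx, rfl⟩
    rw [hT]
    exact h2 γ _ (h𝒢le γ (compProj_mem 𝒢 γ _))
  -- π maps the strict part into the strict part
  have hπp : ∀ γ, ∀ y ∈ ⨆ η ∈ Set.Ioi γ, 𝒢 η, π y ∈ ⨆ η ∈ Set.Ioi γ, F' η := by
    intro γ
    have hle : (⨆ η ∈ Set.Ioi γ, 𝒢 η) ≤ Submodule.comap π (⨆ η ∈ Set.Ioi γ, F' η) := by
      refine iSup₂_le fun η hη y hy => ?_
      rw [Submodule.mem_comap]
      exact (le_iSup₂ (f := fun η (_ : η ∈ Set.Ioi γ) => F' η) η hη) (h2 η y (h𝒢le η hy))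
    exact fun y hy => hle hy
  -- (G2)
  have hG2 : ∀ γ, ∀ x ∈ F' γ, x - T γ x ∈ ⨆ η ∈ Set.Ioi γ, F' η := by
    intro γ x hx
    have : x - T γ x = π (ι x - compProj 𝒢 γ (ι x)) := by
      rw [map_sub, hπι, hT]
    rw [this]
    exact hπp γ _ (sub_compProj_mem 𝒢 (h1 γ x hx))
  -- ι maps the strict part into the strict part
  have hιp : ∀ γ, ∀ x ∈ ⨆ η ∈ Set.Ioi γ, F' η, ι x ∈ ⨆ η ∈ Set.Ioi γ, 𝒢 η := by
    intro γ
    have hle : (⨆ η ∈ Set.Ioi γ, F' η) ≤ Submodule.comap ι (⨆ η ∈ Set.Ioi γ, 𝒢 η) := by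
      refine iSup₂_le fun η hη x hx => ?_
      rw [Submodule.mem_comap]
      have hle2 : (⨆ η' ∈ Set.Ici η, 𝒢 η') ≤ ⨆ η' ∈ Set.Ioi γ, 𝒢 η' := by
        refine iSup₂_le fun η' hη' => ?_
        exact le_iSup₂ (f := fun η (_ : η ∈ Set.Ioi γ) => 𝒢 η) η'
          (lt_of_lt_of_le (Set.mem_Ioi.mp hη) (Set.mem_Ici.mp hη'))
      exact hle2 (h1 η x hx)
    exact fun x hx => hle hx
  -- (G3)
  have hG3 : ∀ γ, ∀ x ∈ ⨆ η ∈ Set.Ioi γ, F' η, T γ x = 0 := by
    intro γ x hx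
    rw [hT, compProj_eq_zero_of_mem_Ioi 𝒢 (hιp γ x hx), map_zero]
  -- (G4)
  have hG4 : ∀ γ, ∀ z ∈ G' γ, z ∈ ⨆ η ∈ Set.Ioi γ, F' η → z = 0 := by
    rintro γ _ ⟨x, hx, rfl⟩ hz
    have e1 : T γ (T γ x) = T γ x := by
      have := hG3 γ _ (hG2 γ x hx)
      rw [map_sub, sub_eq_zero] at this
      exact this.symm
    rw [← e1]
    exact hG3 γ _ hz
  -- finiteness of the support
  have hfin : {η | 𝒢 η ≠ ⊥}.Finite := finite_support_of_finite 𝒢
  let T₀ : Finset Γ := hfin.toFinset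
  have hT₀ : ∀ η, η ∈ T₀ ↔ 𝒢 η ≠ ⊥ := fun η => by simp [T₀]
  -- Claim A
  have hA : ∀ n : ℕ, ∀ γ, (T₀.filter (fun η => γ ≤ η)).card = n →
      F' γ ≤ ⨆ η ∈ Set.Ici γ, G' η := by
    intro n
    induction n using Nat.strong_induction_on with
    | _ n ih =>
      intro γ hn x hx
      by_cases hempty : (T₀.filter (fun η => γ ≤ η)) = ∅
      · -- then everything above γ vanishes
        have hbot : (⨆ η ∈ Set.Ici γ, 𝒢 η) = ⊥ := by
          rw [eq_bot_iff]
          refine iSup₂_le fun η hη => ?_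
          by_contra hne
          have : η ∈ T₀.filter (fun η => γ ≤ η) := by
            rw [Finset.mem_filter, hT₀]
            exact ⟨fun h => hne (h ▸ le_rfl), Set.mem_Ici.mp hη⟩
          rw [hempty] at this
          exact absurd this (Finset.notMem_empty _)
        have := h1 γ x hx
        rw [hbot, Submodule.mem_bot] at this
        have hx0 : x = 0 := by rw [← hπι x, this, map_zero]
        rw [hx0]
        exact Submodule.zero_mem _
      · have hne : (T₀.filter (fun η => γ ≤ η)).Nonempty := Finset.nonempty_iff_ne_empty.mpr hempty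
        set γ' := (T₀.filter (fun η => γ ≤ η)).min' hne with hγ'
        have hγ'mem := Finset.min'_mem _ hne
        rw [← hγ', Finset.mem_filter] at hγ'mem
        have hγγ' : γ ≤ γ' := hγ'mem.2
        have hΦ : (⨆ η ∈ Set.Ici γ, 𝒢 η) ≤ ⨆ η ∈ Set.Ici γ', 𝒢 η := by
          refine iSup₂_le fun η hη => ?_
          by_cases hb : 𝒢 η = ⊥
          · rw [hb]; exact bot_le
          · have : η ∈ T₀.filter (fun η => γ ≤ η) := by
              rw [Finset.mem_filter, hT₀]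
              exact ⟨hb, Set.mem_Ici.mp hη⟩
            have hle := Finset.min'_le _ η this
            exact le_iSup₂ (f := fun η (_ : η ∈ Set.Ici γ') => 𝒢 η) η hle
        have hxγ' : x ∈ F' γ' := by
          have := h2 γ' _ (hΦ (h1 γ x hx))
          rwa [hπι] at this
        have hdec : x = T γ' x + (x - T γ' x) := by abel
        rw [hdec]
        refine Submodule.add_mem _ ?_ ?_
        · exact (le_iSup₂ (f := fun η (_ : η ∈ Set.Ici γ) => G' η) γ' hγγ')
            (Submodule.mem_map_of_mem hxγ')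
        · have hle : (⨆ η ∈ Set.Ioi γ', F' η) ≤ ⨆ η ∈ Set.Ici γ, G' η := by
            refine iSup₂_le fun η hη => ?_
            have hη' : γ' < η := Set.mem_Ioi.mp hη
            have hcard : (T₀.filter (fun η' => η ≤ η')).card < n := by
              rw [← hn]
              apply Finset.card_lt_card
              rw [Finset.ssubset_iff_of_subset]
              · refine ⟨γ', ?_, ?_⟩
                · rw [Finset.mem_filter]
                  exact ⟨hγ'mem.1, hγγ'⟩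
                · rw [Finset.mem_filter]
                  rintro ⟨-, h⟩
                  exact absurd hη' (not_lt.mpr h)
              · intro η' hη''
                rw [Finset.mem_filter] at hη'' ⊢
                exact ⟨hη''.1, le_trans (le_trans hγγ' hη'.le) hη''.2⟩
            have := ih _ hcard η rfl
            refine this.trans ?_
            refine iSup₂_le fun η' hη'' => ?_
            exact le_iSup₂ (f := fun η (_ : η ∈ Set.Ici γ) => G' η) η'
              (le_trans (le_trans hγγ' hη'.le) (Set.mem_Ici.mp hη''))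
          exact hle (hG2 γ' x hxγ')
  have hA' : ∀ γ, F' γ = ⨆ η ∈ Set.Ici γ, G' η := by
    intro γ
    apply le_antisymm (hA _ γ rfl)
    refine iSup₂_le fun η hη => ?_
    exact (hG1 η).trans (hF' (Set.mem_Ici.mp hη))
  refine ⟨G', ?_, hA'⟩
  rw [DirectSum.isInternal_submodule_iff_iSupIndep_and_iSup_eq_top]
  constructor
  · -- independence
    apply iSupIndep_of_dfinsupp_lsum_injective
    rw [injective_iff_map_eq_zero]
    intro v hv
    by_contra hv0
    have hsupp : v.support.Nonempty := by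
      rw [Finset.nonempty_iff_ne_empty]
      intro h
      exact hv0 (DFinsupp.support_eq_empty.mp h)
    set γ₀ := v.support.min' hsupp with hγ₀
    have hγ₀mem : γ₀ ∈ v.support := Finset.min'_mem _ hsupp
    have hsum : ∑ γ ∈ v.support, ((v γ : G' γ) : M') = 0 := by
      rw [DFinsupp.lsum_apply_apply, DFinsupp.sumAddHom_apply] at hv
      exact hv
    rw [← Finset.add_sum_erase _ _ hγ₀mem] at hsum
    have hrest : ∑ γ ∈ v.support.erase γ₀, ((v γ : G' γ) : M') ∈ ⨆ η ∈ Set.Ioi γ₀, F' η := by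
      refine Submodule.sum_mem _ fun γ hγ => ?_
      have hγ' := Finset.mem_erase.mp hγ
      have hlt : γ₀ < γ := lt_of_le_of_ne (Finset.min'_le _ γ hγ'.2) (Ne.symm hγ'.1)
      exact (le_iSup₂ (f := fun η (_ : η ∈ Set.Ioi γ₀) => F' η) γ hlt) (hG1 γ (v γ).2)
    have hv0' : ((v γ₀ : G' γ₀) : M') = 0 := by
      apply hG4 γ₀ _ (v γ₀).2
      have : ((v γ₀ : G' γ₀) : M') = -∑ γ ∈ v.support.erase γ₀, ((v γ : G' γ) : M') :=
        eq_neg_of_add_eq_zero_left hsum
      rw [this]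
      exact Submodule.neg_mem _ hrest
    rw [DFinsupp.mem_support_iff] at hγ₀mem
    exact hγ₀mem (Subtype.ext hv0')
  · -- the sum is everything
    rw [eq_top_iff]
    intro x _
    obtain ⟨γ₀, hγ₀⟩ : ∃ γ₀ : Γ, ∀ i ∈ T₀, γ₀ ≤ i := by
      by_cases hT₀e : T₀.Nonempty
      · exact ⟨T₀.min' hT₀e, fun i hi => Finset.min'_le _ i hi⟩
      · rw [Finset.not_nonempty_iff_eq_empty] at hT₀e
        obtain ⟨γ₀⟩ := ‹Nonempty Γ›
        exact ⟨γ₀, fun i hi => by rw [hT₀e] at hi; exact absurd hi (Finset.notMem_empty _)⟩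
    have htop : (⨆ η ∈ Set.Ici γ₀, 𝒢 η) = ⊤ := by
      rw [eq_top_iff, ← h𝒢.submodule_iSup_eq_top]
      refine iSup_le fun η => ?_
      by_cases hb : 𝒢 η = ⊥
      · rw [hb]; exact bot_le
      · exact le_iSup₂ (f := fun η (_ : η ∈ Set.Ici γ₀) => 𝒢 η) η (hγ₀ η ((hT₀ η).mpr hb))
    have hx : x ∈ F' γ₀ := by
      have := h2 γ₀ (ι x) (by rw [htop]; exact Submodule.mem_top)
      rwa [hπι] at this
    have := (hA' γ₀).le hx
    refine (iSup₂_le fun η _ => ?_ : (⨆ η ∈ Set.Ici γ₀, G' η) ≤ ⨆ η, G' η) this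
    exact le_iSup G' η

end retract
end Groth.Agent.H95
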