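import Mathlib
import Groth.Agent.H95.SplitFilt

set_option autoImplicit false
universe u v w

namespace Groth.Agent.H95.SplitCrit

open scoped TensorProduct

section minidx
variable {Γ : Type w} [LinearOrder Γ] {R : Type u} [Ring R] {N : Type v} [AddCommGroup N]
  [Module R N]

/-- minimal-index argument -/
theorem coeff_zero_of_lower (G E : Γ → Submodule R N)
    (hdisj : ∀ γ, Disjoint (G γ) (E γ))
    (hle : ∀ γ η, γ < η → G η ≤ E γ)
    (P : Set Γ) (hP : IsLowerSet P)
    (f : Π₀ i, G i) (hx : ∀ γ ∈ P, (DFinsupp.lsum ℕ (fun i => (G i).subtype) f) ∈ E γ) :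
    ∀ γ ∈ P, f γ = 0 := by
  classical
  by_contra hcon
  push_neg at hcon
  obtain ⟨γ₁, hγ₁P, hγ₁⟩ := hcon
  set s : Finset Γ := f.support.filter (fun i => i ∈ P) with hs
  have hne : s.Nonempty := ⟨γ₁, by rw [hs, Finset.mem_filter, DFinsupp.mem_support_iff]; exact ⟨hγ₁, hγ₁P⟩⟩
  set γ₀ := s.min' hne with hγ₀
  have hγ₀mem : γ₀ ∈ s := Finset.min'_mem s hne
  rw [hs, Finset.mem_filter, DFinsupp.mem_support_iff] at hγ₀mem
  obtain ⟨hfγ₀, hγ₀P⟩ := hγ₀mem
  have hxγ₀ := hx γ₀ hγ₀P
  have hsum : DFinsupp.lsum ℕ (fun i => (G i).subtype) f = ∑ i ∈ f.support, ((f i : G i) : N) := by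
    rw [DFinsupp.lsum_apply_apply, DFinsupp.sumAddHom_apply, DFinsupp.sum]
    rfl
  have hγ₀supp : γ₀ ∈ f.support := DFinsupp.mem_support_iff.mpr hfγ₀
  rw [hsum, ← Finset.add_sum_erase _ _ hγ₀supp] at hxγ₀
  have hrest : ∑ i ∈ f.support.erase γ₀, ((f i : G i) : N) ∈ E γ₀ := by
    refine Submodule.sum_mem _ fun i hi => ?_
    rw [Finset.mem_erase] at hi
    rcases lt_or_gt_of_ne hi.1 with hlt | hgt
    · exfalso
      have : i ∈ s := by
        rw [hs, Finset.mem_filter]
        exact ⟨hi.2, hP hlt.le hγ₀P⟩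
      exact absurd (Finset.min'_le s i this) (not_le.mpr hlt)
    · exact hle γ₀ i hgt (f i).2
  have hmem : ((f γ₀ : G γ₀) : N) ∈ E γ₀ := by
    have := Submodule.sub_mem _ hxγ₀ hrest
    rwa [add_sub_cancel_right] at this
  have := (Submodule.disjoint_def.mp (hdisj γ₀)) _ (f γ₀).2 hmem
  exact hfγ₀ (Subtype.ext this)

theorem iSupIndep_of_disjoint (G E : Γ → Submodule R N)
    (hdisj : ∀ γ, Disjoint (G γ) (E γ))
    (hle : ∀ γ η, γ < η → G η ≤ E γ) : iSupIndep G := by
  classical
  apply iSupIndep_of_dfinsupp_lsum_injective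
  rw [injective_iff_map_eq_zero]
  intro f hf
  ext γ : 1
  have := coeff_zero_of_lower G E hdisj hle Set.univ isLowerSet_univ f
    (by intro γ _; rw [hf]; exact Submodule.zero_mem _) γ trivial
  rw [this]
  rfl

end minidx

section finrank
variable {K : Type u} [DivisionRing K] {V : Type v} [AddCommGroup V] [Module K V]
  [FiniteDimensional K V] {ι : Type w}

theorem finrank_biSup_of_iSupIndep (W : ι → Submodule K V) (h : iSupIndep W) (S : Finset ι) :
    Module.finrank K ↥(⨆ i ∈ S, W i) = ∑ i ∈ S, Module.finrank K ↥(W i) := by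
  classical
  induction S using Finset.induction_on with
  | empty => simp
  | insert a S ha ih =>
    rw [Finset.iSup_insert, Finset.sum_insert ha, ← ih]
    have hd : Disjoint (W a) (⨆ i ∈ S, W i) := by
      have := h.disjoint_biSup (x := a) (y := (S : Set ι)) (by simpa using ha)
      simpa using this
    have := Submodule.finrank_sup_add_finrank_inf_eq (W a) (⨆ i ∈ S, W i)
    rw [hd.eq_bot, finrank_bot, add_zero] at this
    exact this

end finrank

section bc
variable {R : Type u} [CommRing R] (A : Type w) [CommRing A] [Algebra R A] {M : Type v}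
  [AddCommGroup M] [Module R M] {ι : Sort*}

theorem baseChange_iSup (p : ι → Submodule R M) :
    (⨆ i, p i).baseChange A = ⨆ i, (p i).baseChange A := by
  apply le_antisymm
  · rw [Submodule.baseChange_eq_span, Submodule.span_le]
    rintro _ ⟨m, hm, rfl⟩
    refine Submodule.iSup_induction p
      (motive := fun m => (TensorProduct.mk R A M 1) m ∈ ⨆ i, (p i).baseChange A) hm ?_ ?_ ?_
    · intro i x hx
      exact (le_iSup (fun i => (p i).baseChange A) i) (Submodule.tmul_mem_baseChange_of_mem 1 hx)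
    · simp
    · intro x y hx hy
      rw [map_add]
      exact add_mem hx hy
  · exact iSup_le fun i => Submodule.baseChange_mono A (le_iSup p i)

theorem baseChange_sup (p q : Submodule R M) :
    (p ⊔ q).baseChange A = p.baseChange A ⊔ q.baseChange A := by
  rw [sup_eq_iSup, baseChange_iSup, sup_eq_iSup]
  congr 1
  ext b
  cases b <;> rfl

end bc

end Groth.Agent.H95.SplitCrit
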