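import Mathlib
import Groth.Agent.H95.SplitCrit

set_option autoImplicit false
universe u v w x

namespace Groth.Agent.H95.SplitCrit

open scoped TensorProduct

section fwd0
variable {Γ : Type w} [LinearOrder Γ] {R : Type u} [CommRing R] {M : Type v} [AddCommGroup M]
  [Module R M]

theorem Fp_eq_of_split (F G Fp : Γ → Submodule R M)
    (hFp : ∀ γ, Fp γ = ⨆ η ∈ Set.Ioi γ, F η)
    (hFG : ∀ γ, F γ = ⨆ η ∈ Set.Ici γ, G η) (γ : Γ) : Fp γ = ⨆ η ∈ Set.Ioi γ, G η := by
  rw [hFp]
  apply le_antisymm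
  · refine iSup₂_le fun η hη => ?_
    rw [hFG]
    refine iSup₂_le fun η' hη' => ?_
    exact le_iSup₂ (f := fun η (_ : η ∈ Set.Ioi γ) => G η) η'
      (lt_of_lt_of_le (Set.mem_Ioi.mp hη) (Set.mem_Ici.mp hη'))
  · refine iSup₂_le fun η hη => ?_
    refine le_trans ?_ (le_iSup₂ (f := fun η (_ : η ∈ Set.Ioi γ) => F η) η hη)
    rw [hFG]
    exact le_iSup₂ (f := fun η' (_ : η' ∈ Set.Ici η) => G η') η (Set.mem_Ici.mpr le_rfl)

end fwd0

section fwd
variable {Γ : Type w} [LinearOrder Γ] {R : Type u} [CommRing R] {M : Type v} [AddCommGroup M]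
  [Module R M] [Module.Finite R M] [Module.Projective R M]

theorem gr_finite_projective_of_split (F G Fp : Γ → Submodule R M)
    (hFp : ∀ γ, Fp γ = ⨆ η ∈ Set.Ioi γ, F η)
    (hG : DirectSum.IsInternal G)
    (hFG : ∀ γ, F γ = ⨆ η ∈ Set.Ici γ, G η) (γ : Γ) :
    Module.Finite R (↥(F γ) ⧸ Submodule.comap (F γ).subtype (Fp γ)) ∧
      Module.Projective R (↥(F γ) ⧸ Submodule.comap (F γ).subtype (Fp γ)) := by
  classical
  let _ : DirectSum.Decomposition G := hG.chooseDecomposition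
  have hFp' := Fp_eq_of_split F G Fp hFp hFG γ
  have hGF : G γ ≤ F γ := by
    rw [hFG]
    exact le_iSup₂ (f := fun η' (_ : η' ∈ Set.Ici γ) => G η') γ (Set.mem_Ici.mpr le_rfl)
  -- the projection `M → G γ`
  let ρ : M →ₗ[R] ↥(G γ) := LinearMap.codRestrict (G γ) (compProj G γ) (fun x => compProj_mem G γ x)
  have hρ : ∀ x, ((ρ x : G γ) : M) = compProj G γ x := fun x => rfl
  have hρι : ρ ∘ₗ (G γ).subtype = LinearMap.id := by
    ext g
    simp only [LinearMap.comp_apply, Submodule.subtype_apply, LinearMap.id_apply, hρ]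
    exact compProj_of_mem_same G g.2
  have hρsurj : Function.Surjective ρ := fun g => ⟨g, by
    have := LinearMap.congr_fun hρι g
    simpa using this⟩
  have hfinG : Module.Finite R ↥(G γ) := Module.Finite.of_surjective ρ hρsurj
  have hprojG : Module.Projective R ↥(G γ) := Module.Projective.of_split (G γ).subtype ρ hρι
  -- the induced map `F γ → G γ`
  let φ : ↥(F γ) →ₗ[R] ↥(G γ) := ρ ∘ₗ (F γ).subtype
  have hφsurj : Function.Surjective φ := fun g => ⟨⟨g, hGF g.2⟩, by
    apply Subtype.ext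
    change compProj G γ (g : M) = g
    exact compProj_of_mem_same G g.2⟩
  have hker : LinearMap.ker φ = Submodule.comap (F γ).subtype (Fp γ) := by
    ext x
    rw [LinearMap.mem_ker, Submodule.mem_comap, Submodule.subtype_apply, hFp']
    constructor
    · intro h
      have h0 : compProj G γ (x : M) = 0 := by
        have := congrArg (fun z : G γ => (z : M)) h
        simpa [φ, hρ] using this
      have hx : (x : M) ∈ ⨆ η ∈ Set.Ici γ, G η := by rw [← hFG]; exact x.2
      have := sub_compProj_mem G hx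
      rwa [h0, sub_zero] at this
    · intro h
      apply Subtype.ext
      change compProj G γ (x : M) = 0
      exact compProj_eq_zero_of_mem_Ioi G h
  let e : (↥(F γ) ⧸ Submodule.comap (F γ).subtype (Fp γ)) ≃ₗ[R] ↥(G γ) :=
    (Submodule.quotEquivOfEq _ _ hker.symm).trans (φ.quotKerEquivOfSurjective hφsurj)
  exact ⟨Module.Finite.equiv e.symm, Module.Projective.of_equiv e.symm⟩

end fwd

section fwdfib
variable {Γ : Type w} [LinearOrder Γ] {R : Type u} [CommRing R] {M : Type v} [AddCommGroup M]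
  [Module R M] [Module.Finite R M]

theorem fibre_rank_of_split (F G Fp : Γ → Submodule R M)
    (hFp : ∀ γ, Fp γ = ⨆ η ∈ Set.Ioi γ, F η)
    (hG : DirectSum.IsInternal G)
    (hFG : ∀ γ, F γ = ⨆ η ∈ Set.Ici γ, G η)
    (K : Type x) [Field K] [Algebra R K]
    (Fx : Γ → Submodule K (K ⊗[R] M))
    (hFx : ∀ γ, Fx γ = LinearMap.range ((F γ).subtype.baseChange K)) :
    Module.finrank K (K ⊗[R] M) =
      ∑ᶠ γ, (Module.finrank K ↥(Fx γ) - Module.finrank K ↥(⨆ η ∈ Set.Ioi γ, Fx η)) := by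
  classical
  have hFx' : ∀ γ, Fx γ = (F γ).baseChange K := hFx
  set V : Γ → Submodule K (K ⊗[R] M) := fun η => (G η).baseChange K with hVdef
  have hV : DirectSum.IsInternal V := hG.baseChange
  have hind : iSupIndep V := hV.submodule_iSupIndep
  have htop : iSup V = ⊤ := hV.submodule_iSup_eq_top
  have h1 : ∀ γ, Fx γ = ⨆ η ∈ Set.Ici γ, V η := by
    intro γ
    rw [hFx', hFG, baseChange_iSup]
    simp_rw [baseChange_iSup]
    rfl
  have h2 : ∀ γ, (⨆ η ∈ Set.Ioi γ, Fx η) = ⨆ η ∈ Set.Ioi γ, V η := by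
    intro γ
    have e1 : (Fp γ).baseChange K = ⨆ η ∈ Set.Ioi γ, Fx η := by
      rw [hFp, baseChange_iSup]
      simp_rw [baseChange_iSup, hFx']
    have e2 : (Fp γ).baseChange K = ⨆ η ∈ Set.Ioi γ, V η := by
      rw [Fp_eq_of_split F G Fp hFp hFG γ, baseChange_iSup]
      simp_rw [baseChange_iSup]
      rfl
    rw [← e1, e2]
  have h3 : ∀ γ, (⨆ η ∈ Set.Ici γ, V η) = V γ ⊔ ⨆ η ∈ Set.Ioi γ, V η := by
    intro γ
    apply le_antisymm
    · refine iSup₂_le fun η hη => ?_
      rcases eq_or_lt_of_le (Set.mem_Ici.mp hη) with rfl | hlt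
      · exact le_sup_left
      · exact le_trans (le_iSup₂ (f := fun η (_ : η ∈ Set.Ioi γ) => V η) η hlt) le_sup_right
    · refine sup_le ?_ ?_
      · exact le_iSup₂ (f := fun η (_ : η ∈ Set.Ici γ) => V η) γ (Set.mem_Ici.mpr le_rfl)
      · refine iSup₂_le fun η hη => ?_
        exact le_iSup₂ (f := fun η (_ : η ∈ Set.Ici γ) => V η) η (le_of_lt (Set.mem_Ioi.mp hη))
  have h4 : ∀ γ, Disjoint (V γ) (⨆ η ∈ Set.Ioi γ, V η) := fun γ =>
    hind.disjoint_biSup (x := γ) (y := Set.Ioi γ) (by simp)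
  have h5 : ∀ γ, Module.finrank K ↥(Fx γ) - Module.finrank K ↥(⨆ η ∈ Set.Ioi γ, Fx η) =
      Module.finrank K ↥(V γ) := by
    intro γ
    rw [h2, h1, h3]
    have := Submodule.finrank_sup_add_finrank_inf_eq (V γ) (⨆ η ∈ Set.Ioi γ, V η)
    rw [(h4 γ).eq_bot, finrank_bot, add_zero] at this
    rw [this, Nat.add_sub_cancel]
  simp_rw [h5]
  have hfin : {γ | V γ ≠ ⊥}.Finite := WellFoundedGT.finite_ne_bot_of_iSupIndep hind
  set T : Finset Γ := hfin.toFinset with hT
  have hsupp : Function.support (fun γ => Module.finrank K ↥(V γ)) ⊆ ↑T := by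
    intro γ hγ
    rw [Function.mem_support] at hγ
    rw [hT, Finset.mem_coe, Set.Finite.mem_toFinset]
    show V γ ≠ ⊥
    intro h
    apply hγ
    rw [h, finrank_bot]
  rw [finsum_eq_sum_of_support_subset _ hsupp, ← finrank_biSup_of_iSupIndep V hind T]
  have : (⨆ γ ∈ T, V γ) = ⊤ := by
    rw [eq_top_iff, ← htop]
    refine iSup_le fun γ => ?_
    by_cases h : V γ = ⊥
    · rw [h]; exact bot_le
    · exact le_iSup₂ (f := fun γ (_ : γ ∈ T) => V γ) γ (by
        rw [hT, Set.Finite.mem_toFinset]; exact h)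
  rw [this, finrank_top]

end fwdfib

end Groth.Agent.H95.SplitCrit
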