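import Mathlib
import Groth.Agent.H95.SplitCrit2

set_option autoImplicit false
universe u v w x

namespace Groth.Agent.H95.SplitCrit

open scoped TensorProduct

section fibconv
variable {Γ : Type w} [LinearOrder Γ] {K : Type u} [Field K] {V : Type v} [AddCommGroup V]
  [Module K V] [FiniteDimensional K V]

/-- linear algebra over a field: generators of the graded pieces span when the graded
dimensions add up. -/
theorem iSup_eq_top_of_rank (Fx W : Γ → Submodule K V) (hanti : Antitone Fx)
    (hW : ∀ γ, W γ ≤ Fx γ)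
    (hgen : ∀ γ, Fx γ ≤ W γ ⊔ ⨆ η ∈ Set.Ioi γ, Fx η)
    (hrank : Module.finrank K V =
      ∑ᶠ γ, (Module.finrank K ↥(Fx γ) - Module.finrank K ↥(⨆ η ∈ Set.Ioi γ, Fx η))) :
    iSup W = ⊤ := by
  classical
  set B : Γ → Submodule K V := fun γ => ⨆ η ∈ Set.Ioi γ, Fx η with hB
  have hBle : ∀ γ, B γ ≤ Fx γ := fun γ => iSup₂_le fun η hη => hanti (le_of_lt (Set.mem_Ioi.mp hη))
  -- choose complements
  have hex : ∀ γ, ∃ W' : Submodule K V, W' ≤ W γ ∧ Disjoint W' (B γ) ∧ W γ ≤ W' ⊔ B γ := by
    intro γ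
    obtain ⟨q, hq⟩ := exists_isCompl (W γ ⊓ B γ)
    refine ⟨W γ ⊓ q, inf_le_left, ?_, ?_⟩
    · rw [disjoint_iff, inf_assoc, inf_comm q, ← inf_assoc]
      exact hq.disjoint.eq_bot
    · intro x hx
      have hx' : x ∈ (W γ ⊓ B γ) ⊔ q := by rw [hq.sup_eq_top]; trivial
      obtain ⟨a, ha, b, hb, rfl⟩ := Submodule.mem_sup.mp hx'
      have hbW : b ∈ W γ := by
        have := Submodule.sub_mem _ hx ha.1
        rwa [add_sub_cancel_left] at this
      rw [add_comm]
      exact Submodule.add_mem_sup ⟨hbW, hb⟩ ha.2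
  choose W' hW'le hW'disj hW'gen using hex
  have hFxeq : ∀ γ, Fx γ = W' γ ⊔ B γ := by
    intro γ
    apply le_antisymm
    · refine (hgen γ).trans (sup_le (hW'gen γ) le_sup_right)
    · exact sup_le ((hW'le γ).trans (hW γ)) (hBle γ)
  have h5 : ∀ γ, Module.finrank K ↥(Fx γ) - Module.finrank K ↥(B γ) =
      Module.finrank K ↥(W' γ) := by
    intro γ
    rw [hFxeq γ]
    have := Submodule.finrank_sup_add_finrank_inf_eq (W' γ) (B γ)
    rw [(hW'disj γ).eq_bot, finrank_bot, add_zero] at this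
    rw [this, Nat.add_sub_cancel]
  have hind : iSupIndep W' := by
    refine iSupIndep_of_disjoint W' B hW'disj ?_
    intro γ η hlt
    exact ((hW'le η).trans (hW η)).trans
      (le_iSup₂ (f := fun η (_ : η ∈ Set.Ioi γ) => Fx η) η hlt)
  have hrank' : Module.finrank K V = ∑ᶠ γ, Module.finrank K ↥(W' γ) := by
    rw [hrank]
    exact finsum_congr h5
  have hfin : {γ | W' γ ≠ ⊥}.Finite := WellFoundedGT.finite_ne_bot_of_iSupIndep hind
  set T : Finset Γ := hfin.toFinset with hT
  have hsupp : Function.support (fun γ => Module.finrank K ↥(W' γ)) ⊆ ↑T := by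
    intro γ hγ
    rw [Function.mem_support] at hγ
    rw [hT, Finset.mem_coe, Set.Finite.mem_toFinset]
    show W' γ ≠ ⊥
    intro h
    apply hγ
    rw [h, finrank_bot]
  rw [finsum_eq_sum_of_support_subset _ hsupp, ← finrank_biSup_of_iSupIndep W' hind T] at hrank'
  have htop : (⨆ γ ∈ T, W' γ) = ⊤ := Submodule.eq_top_of_finrank_eq hrank'.symm
  rw [eq_top_iff, ← htop]
  exact iSup₂_le fun γ _ => (hW'le γ).trans (le_iSup W γ)

end fibconv

section nak
variable {R : Type u} [CommRing R] {M : Type v} [AddCommGroup M] [Module R M] [Module.Finite R M]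

/-- a submodule of a finite module is everything if it is so on all fibres -/
theorem eq_top_of_baseChange_residueField (N : Submodule R M)
    (h : ∀ p : PrimeSpectrum R, N.baseChange p.asIdeal.ResidueField = ⊤) : N = ⊤ := by
  rw [← Submodule.Quotient.subsingleton_iff, ← Module.support_eq_empty_iff (R := R)]
  ext p
  simp only [Set.mem_empty_iff_false, iff_false]
  rw [Module.mem_support_iff_nontrivial_residueField_tensorProduct, not_nontrivial_iff_subsingleton]
  set κ := p.asIdeal.ResidueField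
  have hsurj : Function.Surjective (N.mkQ.baseChange κ) := by
    rw [LinearMap.baseChange_eq_ltensor]
    exact LinearMap.lTensor_surjective κ (Submodule.mkQ_surjective N)
  have hzero : ∀ v : κ ⊗[R] M, N.mkQ.baseChange κ v = 0 := by
    intro v
    have hv : v ∈ N.baseChange κ := by rw [h p]; trivial
    obtain ⟨w, rfl⟩ := hv
    rw [← LinearMap.comp_apply, ← LinearMap.baseChange_comp]
    have : N.mkQ ∘ₗ N.subtype = 0 := by
      ext n
      simp
    rw [this, LinearMap.baseChange_zero, LinearMap.zero_apply]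
  refine ⟨fun a b => ?_⟩
  obtain ⟨a', rfl⟩ := hsurj a
  obtain ⟨b', rfl⟩ := hsurj b
  rw [hzero, hzero]

end nak

section conv
variable {Γ : Type w} [LinearOrder Γ] {R : Type u} [CommRing R] {M : Type v} [AddCommGroup M]
  [Module R M] [Module.Finite R M]

theorem split_of_gr_projective_and_fibre (F : Γ → Submodule R M) (hF : Antitone F)
    (Fp : Γ → Submodule R M) (hFp : ∀ γ, Fp γ = ⨆ η ∈ Set.Ioi γ, F η)
    (hproj : ∀ γ, Module.Projective R (↥(F γ) ⧸ Submodule.comap (F γ).subtype (Fp γ)))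
    (hfib : ∀ (p : PrimeSpectrum R)
      (Fx : Γ → Submodule p.asIdeal.ResidueField (p.asIdeal.ResidueField ⊗[R] M)),
        (∀ γ, Fx γ = LinearMap.range ((F γ).subtype.baseChange p.asIdeal.ResidueField)) →
        Module.finrank p.asIdeal.ResidueField (p.asIdeal.ResidueField ⊗[R] M) =
          ∑ᶠ γ, (Module.finrank p.asIdeal.ResidueField ↥(Fx γ) -
            Module.finrank p.asIdeal.ResidueField ↥(⨆ η ∈ Set.Ioi γ, Fx η))) :
    ∃ G : Γ → Submodule R M, DirectSum.IsInternal G ∧ ∀ γ, F γ = ⨆ η ∈ Set.Ici γ, G η := by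
  classical
  -- sections
  have hsec : ∀ γ, ∃ s : (↥(F γ) ⧸ Submodule.comap (F γ).subtype (Fp γ)) →ₗ[R] ↥(F γ),
      (Submodule.comap (F γ).subtype (Fp γ)).mkQ ∘ₗ s = LinearMap.id := fun γ =>
    Module.projective_lifting_property _ _ (Submodule.mkQ_surjective _)
  choose s hs using hsec
  have hs' : ∀ γ q, (Submodule.comap (F γ).subtype (Fp γ)).mkQ (s γ q) = q := fun γ q =>
    LinearMap.congr_fun (hs γ) q
  set G : Γ → Submodule R M := fun γ => Submodule.map (F γ).subtype (LinearMap.range (s γ))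
    with hGdef
  have hP1 : ∀ γ, G γ ≤ F γ := fun γ => Submodule.map_subtype_le _ _
  have hP4 : ∀ γ, Fp γ ≤ F γ := fun γ => by
    rw [hFp]
    exact iSup₂_le fun η hη => hF (le_of_lt (Set.mem_Ioi.mp hη))
  have hP2 : ∀ γ, Disjoint (G γ) (Fp γ) := by
    intro γ
    rw [Submodule.disjoint_def]
    rintro x ⟨y, ⟨q, rfl⟩, rfl⟩ hx
    have hmem : s γ q ∈ Submodule.comap (F γ).subtype (Fp γ) := hx
    have h0 : (Submodule.comap (F γ).subtype (Fp γ)).mkQ (s γ q) = 0 := by
      rw [Submodule.mkQ_apply, Submodule.Quotient.mk_eq_zero]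
      exact hmem
    rw [hs'] at h0
    rw [h0, map_zero, map_zero]
  have hP3 : ∀ γ, F γ ≤ G γ ⊔ Fp γ := by
    intro γ x hx
    set x' : ↥(F γ) := ⟨x, hx⟩ with hx'
    set y : ↥(F γ) := s γ ((Submodule.comap (F γ).subtype (Fp γ)).mkQ x') with hy
    have hmem : x' - y ∈ Submodule.comap (F γ).subtype (Fp γ) := by
      rw [← Submodule.Quotient.mk_eq_zero, Submodule.Quotient.mk_sub]
      have := hs' γ ((Submodule.comap (F γ).subtype (Fp γ)).mkQ x')
      rw [Submodule.mkQ_apply, Submodule.mkQ_apply] at this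
      rw [hy, Submodule.mkQ_apply, this, sub_self]
    have hyG : (y : M) ∈ G γ := ⟨y, ⟨_, rfl⟩, rfl⟩
    have hxy : x = (y : M) + ((x' - y : ↥(F γ)) : M) := by
      rw [Submodule.coe_sub]
      simp [hx']
    rw [hxy]
    exact Submodule.add_mem_sup hyG hmem
  have hle : ∀ γ η, γ < η → G η ≤ Fp γ := by
    intro γ η hlt
    rw [hFp]
    exact (hP1 η).trans (le_iSup₂ (f := fun η (_ : η ∈ Set.Ioi γ) => F η) η hlt)
  have hind : iSupIndep G := iSupIndep_of_disjoint G Fp hP2 hle
  -- the sum is everything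
  have htop : iSup G = ⊤ := by
    apply eq_top_of_baseChange_residueField
    intro p
    set κ := p.asIdeal.ResidueField
    rw [baseChange_iSup]
    refine iSup_eq_top_of_rank (fun γ => (F γ).baseChange κ) (fun γ => (G γ).baseChange κ)
      ?_ ?_ ?_ ?_
    · intro a b hab
      exact Submodule.baseChange_mono κ (hF hab)
    · intro γ
      exact Submodule.baseChange_mono κ (hP1 γ)
    · intro γ
      have e1 : (Fp γ).baseChange κ = ⨆ η ∈ Set.Ioi γ, (F η).baseChange κ := by
        rw [hFp, baseChange_iSup]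
        simp_rw [baseChange_iSup]
      show (F γ).baseChange κ ≤ (G γ).baseChange κ ⊔ ⨆ η ∈ Set.Ioi γ, (F η).baseChange κ
      rw [← e1, ← baseChange_sup]
      exact Submodule.baseChange_mono κ (hP3 γ)
    · exact hfib p (fun γ => (F γ).baseChange κ) (fun γ => rfl)
  refine ⟨G, DirectSum.isInternal_submodule_of_iSupIndep_of_iSup_eq_top hind htop, ?_⟩
  intro γ
  apply le_antisymm
  · intro x hx
    have hxtop : x ∈ iSup G := by rw [htop]; trivial
    obtain ⟨f, rfl⟩ := (Submodule.mem_iSup_iff_exists_dfinsupp G x).mp hxtop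
    have hzero := coeff_zero_of_lower G Fp hP2 hle (Set.Iio γ) (isLowerSet_Iio γ) f (by
      intro γ' hγ'
      have : F γ ≤ Fp γ' := by
        rw [hFp]
        exact le_iSup₂ (f := fun η (_ : η ∈ Set.Ioi γ') => F η) γ hγ'
      exact this hx)
    have hsum : DFinsupp.lsum ℕ (fun i => (G i).subtype) f = ∑ i ∈ f.support, ((f i : G i) : M) := by
      rw [DFinsupp.lsum_apply_apply, DFinsupp.sumAddHom_apply, DFinsupp.sum]
      rfl
    rw [hsum]
    refine Submodule.sum_mem _ fun i hi => ?_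
    have hi' : γ ≤ i := by
      by_contra hlt
      rw [not_le] at hlt
      rw [DFinsupp.mem_support_iff] at hi
      exact hi (hzero i hlt)
    exact (le_iSup₂ (f := fun η (_ : η ∈ Set.Ici γ) => G η) i hi') (f i).2
  · exact iSup₂_le fun η hη => (hP1 η).trans (hF (Set.mem_Ici.mp hη))

end conv

end Groth.Agent.H95.SplitCrit
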