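import Groth.Agent.H95.HHLes
import Groth.Agent.H18.SectionHom
import Groth.Agent.H18.ProjSpaceVanish

/-!
Extensions of `O` by a module with vanishing `H^1` split (helper95); application to `P^1`.
-/

set_option autoImplicit false
universe u
open CategoryTheory CategoryTheory.Limits AlgebraicGeometry TopologicalSpace Opposite

namespace Groth.Agent.H95.SplitP1

open Groth.Agent.H95.HHLes Groth.Agent.H18

variable {X : Scheme.{u}}

/-- a short exact sequence `0 → K → F → O_X → 0` with `H^1(X, K) = 0` splits -/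
theorem exists_section_of_subsingleton_H1 (E : ShortComplex X.Modules) (hE : E.ShortExact)
    (h3 : E.X₃ = Coh.structureModule X) (h1 : Subsingleton (Coh.HH X E.X₁ 1)) :
    ∃ t : Γ(E.X₂, (⊤ : X.Opens)), (E.g.app ⊤).hom t = (h3 ▸ (1 : Γ(X, (⊤ : X.Opens))) :
      Γ(E.X₃, (⊤ : X.Opens))) := by
  let one : Γ(E.X₃, (⊤ : X.Opens)) := (h3 ▸ (1 : Γ(X, (⊤ : X.Opens))) : Γ(E.X₃, (⊤ : X.Opens)))
  let x₃ : Coh.HH X E.X₃ 0 := (HH0.equiv E.X₃).symm one
  have hx₃ : x₃ ∈ LinearMap.ker (deltaΓ E hE 0) := by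
    rw [LinearMap.mem_ker]
    exact Subsingleton.elim _ _
  rw [← range_mapΓ_g_eq_ker E hE 0] at hx₃
  obtain ⟨x₂, hx₂⟩ := hx₃
  refine ⟨HH0.equiv E.X₂ x₂, ?_⟩
  have hnat := Sheaf.H.equiv₀_naturality (T := (⊤ : X.Opens))
    (isTerminalTop : IsTerminal (⊤ : X.Opens))
    ((SheafOfModules.toSheaf X.ringCatSheaf).map E.g) x₂
  refine hnat.trans ?_
  have h4 : Sheaf.H.map ((SheafOfModules.toSheaf X.ringCatSheaf).map E.g) 0 x₂ = x₃ := hx₂
  rw [h4]
  exact (HH0.equiv E.X₃).apply_symm_apply one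

/-- a morphism `F ⟶ O_X` which hits `1` on global sections has a section -/
theorem exists_section_of_app_top {F : X.Modules} (p : F ⟶ Coh.structureModule X)
    (t : Γ(F, (⊤ : X.Opens))) (ht : (p.app ⊤).hom t = (1 : Γ(X, (⊤ : X.Opens)))) :
    ∃ s : Coh.structureModule X ⟶ F, s ≫ p = 𝟙 _ := by
  refine ⟨sectionHom F t, ?_⟩
  apply (SheafOfModules.unitHomEquiv (R := X.ringCatSheaf) (Coh.structureModule X)).injective
  apply Subtype.ext
  funext V
  change (p.app V.unop).hom ((sectionHom F t).app V.unop (1 : Γ(X, V.unop))) = (1 : Γ(X, V.unop))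
  rw [sectionHom_app_one]
  have hnat : (p.app V.unop).hom (mres F (le_top : V.unop ≤ ⊤) t) =
      mres (Coh.structureModule X) (le_top : V.unop ≤ ⊤) ((p.app ⊤).hom t) :=
    ConcreteCategory.congr_hom (p.mapPresheaf.naturality (homOfLE (le_top : V.unop ≤ ⊤)).op) t
  rw [hnat, ht]
  exact map_one (X.presheaf.map (homOfLE (le_top : V.unop ≤ ⊤)).op).hom

variable (R : Type u) [CommRing R]

/-- on `P^1_R`, every extension of `O` by `O(m)`, `m ≥ -1`, splits -/
theorem exists_section_P1 (m : ℤ) (hm : -2 < m) (F : (CohB1.ProjSpace 1 R).Modules)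
    (i : Twist.twistProjSpace 1 R m ⟶ F) (p : F ⟶ Coh.structureModule (CohB1.ProjSpace 1 R))
    (w : i ≫ p = 0) (hex : (ShortComplex.mk i p w).ShortExact) :
    ∃ s : Coh.structureModule (CohB1.ProjSpace 1 R) ⟶ F, s ≫ p = 𝟙 _ := by
  have h1 : Subsingleton (Coh.HH (CohB1.ProjSpace 1 R) (Twist.twistProjSpace 1 R m) 1) :=
    PSL.subsingleton_HH_twist 1 R m 1 (fun h => by omega) (fun h => by
      have := h.2
      push_cast at this
      omega)
  obtain ⟨t, ht⟩ := exists_section_of_subsingleton_H1 (ShortComplex.mk i p w) hex rfl h1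
  exact exists_section_of_app_top p t ht

end Groth.Agent.H95.SplitP1
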