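import Mathlib
import Groth.Agent.H68.FlatOrbit

namespace Groth.Agent.H95.SymSpan

open Groth.Agent.H68.FV Groth.Agent.H68.LC Groth.Agent.H68.CR
open scoped TensorProduct

universe u

section Interp

variable {k : Type u} [Field k] [Infinite k] {l : ℕ}

/-- the vector of monomial values -/
noncomputable def ev (K : Finset (Fin l →₀ ℕ)) (t : Fin l → k) : (↥K → k) :=
  fun κ => κ.1.prod (fun j e => t j ^ e)

theorem span_ev (K : Finset (Fin l →₀ ℕ)) :
    Submodule.span k (Set.range (ev (k := k) K)) = ⊤ := by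
  classical
  by_contra hne
  obtain ⟨f, hf0, hf⟩ := Submodule.exists_le_ker_of_lt_top _ (lt_top_iff_ne_top.mpr hne)
  apply hf0
  set P : MvPolynomial (Fin l) k :=
    ∑ κ : ↥K, MvPolynomial.monomial κ.1 (f (Pi.single κ 1)) with hP
  have heval : ∀ t : Fin l → k, MvPolynomial.eval t P = 0 := by
    intro t
    have h1 : f (ev K t) = 0 := hf (Submodule.subset_span ⟨t, rfl⟩)
    have h2 : ev K t = ∑ κ : ↥K, (ev K t κ) • (Pi.single κ (1 : k) : ↥K → k) := by
      ext κ'
      simp [Finset.sum_apply, Pi.single_apply]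
    rw [h2, map_sum] at h1
    rw [hP, map_sum, ← h1]
    refine Finset.sum_congr rfl fun κ _ => ?_
    rw [MvPolynomial.eval_monomial, map_smul, smul_eq_mul, mul_comm]
    rfl
  have hP0 : P = 0 := MvPolynomial.funext (fun t => by rw [heval t, map_zero])
  have hcoef : ∀ κ : ↥K, f (Pi.single κ 1) = 0 := by
    intro κ
    have := congrArg (MvPolynomial.coeff κ.1) hP0
    rw [hP, MvPolynomial.coeff_sum, MvPolynomial.coeff_zero] at this
    rw [← this]
    symm
    rw [Finset.sum_eq_single κ]
    · rw [MvPolynomial.coeff_monomial, if_pos rfl]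
    · intro κ' _ hne'
      rw [MvPolynomial.coeff_monomial, if_neg]
      exact fun h => hne' (Subtype.ext h)
    · intro h; exact absurd (Finset.mem_univ κ) h
  apply LinearMap.pi_ext
  intro κ c
  have : (Pi.single κ c : ↥K → k) = c • Pi.single κ (1 : k) := by
    ext κ'; simp [Pi.single_apply]
  rw [this, map_smul, hcoef κ, smul_zero, LinearMap.zero_apply]

end Interp

section Main

variable {k : Type u} [Field k] {V : Type u} [AddCommGroup V] [Module k V] {l m : ℕ}

theorem prod_kk (t : Fin l → k) (c : Fin m → Fin l) :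
    (kk c).prod (fun j e => t j ^ e) = ∏ i, t (c i) := by
  rw [kk, ← Finsupp.prod_finsetSum_index (fun _ => pow_zero _) (fun _ _ _ => pow_add _ _ _)]
  refine Finset.prod_congr rfl fun i _ => ?_
  rw [Finsupp.prod_single_index (h := fun j e => t j ^ e) (pow_zero _), pow_one]

theorem pow_expand (y : Fin l → V) (t : Fin l → k) :
    PiTensorProduct.tprod k (fun _ : Fin m => ∑ j, t j • y j) =
      ∑ κ ∈ Finset.univ.image (fun c : Fin m → Fin l => kk c),
        (κ.prod (fun j e => t j ^ e)) • orbitSum (R := k) (n := m) y κ := by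
  rw [tprod_expand (fun _ => t) y]
  exact sum_eq_sum_orbitSum y (fun c' => ∏ i, t (c' i)) (fun κ => κ.prod (fun j e => t j ^ e))
    (fun c => prod_kk t c)

variable [Infinite k]

theorem orbitSum_mem (y : Fin l → V) (κ : Fin l →₀ ℕ) :
    orbitSum (R := k) (n := m) y κ ∈
      Submodule.span k (Set.range fun v : V => PiTensorProduct.tprod k (fun _ : Fin m => v)) := by
  classical
  set S := Submodule.span k (Set.range fun v : V => PiTensorProduct.tprod k (fun _ : Fin m => v))
  set K := Finset.univ.image (fun c : Fin m → Fin l => kk c) with hK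
  by_cases hκ : κ ∈ K
  · let Ψ : (↥K → k) →ₗ[k] (⨂[k] _ : Fin m, V) :=
      ∑ κ' : ↥K, (LinearMap.proj κ').smulRight (orbitSum (R := k) (n := m) y κ'.1)
    have hΨ : ∀ e : ↥K → k, Ψ e = ∑ κ' : ↥K, e κ' • orbitSum (R := k) (n := m) y κ'.1 := by
      intro e
      simp [Ψ, LinearMap.sum_apply]
    have h1 : Submodule.span k (Set.range (ev (k := k) K)) ≤ S.comap Ψ := by
      rw [Submodule.span_le]
      rintro _ ⟨t, rfl⟩
      rw [SetLike.mem_coe, Submodule.mem_comap, hΨ]
      have := pow_expand (m := m) y t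
      rw [← hK, ← Finset.sum_coe_sort K] at this
      have h2 : ∑ κ' : ↥K, ev K t κ' • orbitSum (R := k) (n := m) y κ'.1 =
          PiTensorProduct.tprod k (fun _ : Fin m => ∑ j, t j • y j) := by
        rw [this]; rfl
      rw [h2]
      exact Submodule.subset_span ⟨_, rfl⟩
    rw [span_ev, top_le_iff] at h1
    have h3 : (Pi.single ⟨κ, hκ⟩ (1 : k) : ↥K → k) ∈ S.comap Ψ := by rw [h1]; trivial
    rw [Submodule.mem_comap, hΨ] at h3
    rw [Finset.sum_eq_single ⟨κ, hκ⟩] at h3
    · simpa using h3
    · intro κ' _ hne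
      rw [Pi.single_apply, if_neg hne, zero_smul]
    · intro h; exact absurd (Finset.mem_univ _) h
  · have : orbitSum (R := k) (n := m) y κ = 0 := by
      rw [orbitSum]
      apply Finset.sum_eq_zero
      intro c hc
      rw [Finset.mem_filter] at hc
      exact absurd (hK ▸ Finset.mem_image.mpr ⟨c, Finset.mem_univ _, hc.2⟩) hκ
    rw [this]; exact Submodule.zero_mem _

theorem main (x : ⨂[k] _ : Fin m, V)
    (hx : ∀ σ : Equiv.Perm (Fin m), PiTensorProduct.reindex k (fun _ : Fin m => V) σ x = x) :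
    x ∈ Submodule.span k (Set.range fun v : V => PiTensorProduct.tprod k (fun _ : Fin m => v)) := by
  classical
  obtain ⟨l, y, W, hW, -, hz⟩ := exists_sym_rep (R := k) (Q := k) (Q₂ := k) (0 : k →ₗ[k] k) m
    ((1 : k) ⊗ₜ[k] x) (fun σ => by rw [LinearMap.lTensor_tmul, LinearEquiv.coe_coe, hx σ])
    (by simp)
  have hz' : x = ∑ c', W c' • PiTensorProduct.tprod k (fun i => y (c' i)) := by
    have := congrArg (TensorProduct.lid k (⨂[k] _ : Fin m, V)) hz
    rw [TensorProduct.lid_tmul, one_smul, map_sum] at this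
    rw [this]
    refine Finset.sum_congr rfl fun c' _ => ?_
    rw [TensorProduct.lid_tmul]
  obtain ⟨Wbar, hbar⟩ := exists_bar W hW
  rw [hz', sum_eq_sum_orbitSum y W Wbar hbar]
  exact Submodule.sum_mem _ fun κ _ => Submodule.smul_mem _ _ (orbitSum_mem y κ)

end Main

end Groth.Agent.H95.SymSpan
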