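import Mathlib

open MvPolynomial

namespace Groth.Agent.H95.TernFormBasis

variable {σ : Type*} {R : Type*} [CommRing R]

theorem eq_single_of_degree (j : σ) (k : σ →₀ ℕ) (hk : k.degree = 2) (hj : 2 ≤ k j) :
    k = Finsupp.single j 2 := by
  have h1 : k = Finsupp.single j (k j) + k.erase j := (Finsupp.single_add_erase j k).symm
  have h2 : k.degree = k j + (k.erase j).degree := by
    conv_lhs => rw [h1]
    rw [map_add, Finsupp.degree_single]
  have h3 : (k.erase j).degree = 0 := by omega
  have h4 : k j = 2 := by omega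
  rw [Finsupp.degree_eq_zero_iff] at h3
  rw [h1, h3, add_zero, h4]

theorem degree_of_mem_support {q : MvPolynomial σ R} {n : ℕ} (hq : q.IsHomogeneous n)
    {k : σ →₀ ℕ} (hk : coeff k q ≠ 0) : k.degree = n := by
  rw [Finsupp.degree_eq_weight_one]
  exact hq hk

/-- key lemma: `q * P` having no monomial with `X_j`-exponent `≥ 2` forces `P = 0`. -/
theorem key [DecidableEq σ] (j : σ) (q : MvPolynomial σ R) (hq : q.IsHomogeneous 2)
    (hu : IsUnit (q.coeff (Finsupp.single j 2))) (P : MvPolynomial σ R)
    (h : ∀ d : σ →₀ ℕ, 2 ≤ d j → coeff d (q * P) = 0) : P = 0 := by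
  by_contra hP
  have hne : P.support.Nonempty := by
    rw [Finset.nonempty_iff_ne_empty, Ne, MvPolynomial.support_eq_empty]
    exact hP
  obtain ⟨d₀, hd₀, hmax⟩ := Finset.exists_max_image P.support (fun d => d j) hne
  have hc := h (Finsupp.single j 2 + d₀) (by simp)
  rw [coeff_mul, Finset.sum_eq_single (Finsupp.single j 2, d₀)] at hc
  · rw [MvPolynomial.mem_support_iff] at hd₀
    exact hd₀ ((hu.mul_right_eq_zero).mp hc)
  · rintro ⟨k, l⟩ hkl hne'
    rw [Finset.HasAntidiagonal.mem_antidiagonal] at hkl
    by_contra hnz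
    have hk0 : coeff k q ≠ 0 := left_ne_zero_of_mul hnz
    have hl0 : coeff l P ≠ 0 := right_ne_zero_of_mul hnz
    have hlmax : l j ≤ d₀ j := hmax l (MvPolynomial.mem_support_iff.mpr hl0)
    have hsum : k j + l j = 2 + d₀ j := by
      have := congrArg (fun f : σ →₀ ℕ => f j) hkl
      simpa using this
    have hkj : 2 ≤ k j := by omega
    have hk : k = Finsupp.single j 2 := eq_single_of_degree j k (degree_of_mem_support hq hk0) hkj
    apply hne'
    subst hk
    have : l = d₀ := add_left_cancel hkl
    rw [this]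
  · intro hnot
    exfalso
    apply hnot
    rw [Finset.HasAntidiagonal.mem_antidiagonal]

end Groth.Agent.H95.TernFormBasis
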