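import Mathlib
import Groth.Agent.H95.TernFormBasis0

open MvPolynomial

namespace Groth.Agent.H95.TernFormBasis

variable {σ : Type*} [DecidableEq σ] {R : Type*} [CommRing R]

/-- the family of the statement. -/
noncomputable def fam (j : σ) (q : MvPolynomial σ R) (n : ℕ) :
    ({m : σ →₀ ℕ // m.degree = n ∧ m j < 2} ⊕ {m : σ →₀ ℕ // m.degree + 2 = n}) →
      MvPolynomial σ R :=
  Sum.elim (fun m => monomial m.1 (1 : R)) (fun m => q * monomial m.1 (1 : R))

theorem span_le (j : σ) (q : MvPolynomial σ R) (hq : q.IsHomogeneous 2) (n : ℕ) :
    Submodule.span R (Set.range (fam j q n)) ≤ homogeneousSubmodule σ R n := by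
  rw [Submodule.span_le]
  rintro _ ⟨m | m, rfl⟩
  · exact isHomogeneous_monomial _ m.2.1
  · have h1 : IsHomogeneous (monomial m.1 (1 : R)) m.1.degree := isHomogeneous_monomial _ rfl
    have h2 := hq.mul h1
    rw [add_comm, m.2] at h2
    exact h2

theorem monomial_mem (j : σ) (q : MvPolynomial σ R) (hq : q.IsHomogeneous 2)
    (hu : IsUnit (q.coeff (Finsupp.single j 2))) (n : ℕ) :
    ∀ (N : ℕ) (d : σ →₀ ℕ), d j = N → d.degree = n →
      monomial d (1 : R) ∈ Submodule.span R (Set.range (fam j q n)) := by
  intro N
  induction N using Nat.strong_induction_on with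
  | _ N ih =>
    intro d hdN hdn
    by_cases hlt : d j < 2
    · exact Submodule.subset_span ⟨Sum.inl ⟨d, hdn, hlt⟩, rfl⟩
    · push Not at hlt
      set e : σ →₀ ℕ := Finsupp.single j 2 with he
      have hle : e ≤ d := by
        rw [he, Finsupp.single_le_iff]
        exact hlt
      set d' : σ →₀ ℕ := d - e with hd'
      have hd : d = e + d' := (add_tsub_cancel_of_le hle).symm
      have hd'n : d'.degree + 2 = n := by
        rw [← hdn, hd, map_add, he, Finsupp.degree_single]; ring
      have hd'j : d' j + 2 = d j := by
        rw [hd]; simp [he]; ring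
      -- expansion of q * monomial d' 1
      have hexp : q * monomial d' (1 : R) =
          ∑ k ∈ q.support, monomial (k + d') (coeff k q) := by
        conv_lhs => rw [q.as_sum, Finset.sum_mul]
        refine Finset.sum_congr rfl (fun k _ => ?_)
        rw [monomial_mul, mul_one]
      have hsplit : ∑ k ∈ q.support, monomial (k + d') (coeff k q) =
          monomial (e + d') (coeff e q) + ∑ k ∈ q.support.erase e, monomial (k + d') (coeff k q) := by
        by_cases hmem : e ∈ q.support
        · exact (Finset.add_sum_erase q.support (fun k => monomial (k + d') (coeff k q)) hmem).symm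
        · rw [Finset.erase_eq_of_notMem hmem]
          rw [MvPolynomial.notMem_support_iff.mp hmem, monomial_zero, zero_add]
      have hrest : ∑ k ∈ q.support.erase e, monomial (k + d') (coeff k q) ∈
          Submodule.span R (Set.range (fam j q n)) := by
        refine Submodule.sum_mem _ (fun k hk => ?_)
        rw [Finset.mem_erase] at hk
        have hk0 : coeff k q ≠ 0 := MvPolynomial.mem_support_iff.mp hk.2
        have hkdeg : k.degree = 2 := degree_of_mem_support hq hk0
        have hkj : k j < 2 := by
          by_contra hge
          push Not at hge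
          exact hk.1 (eq_single_of_degree j k hkdeg hge)
        have hmon : monomial (k + d') (coeff k q) = coeff k q • monomial (k + d') (1 : R) := by
          rw [smul_monomial, smul_eq_mul, mul_one]
        rw [hmon]
        refine Submodule.smul_mem _ _ (ih ((k + d') j) ?_ (k + d') rfl ?_)
        · rw [← hdN, Finsupp.add_apply]; omega
        · rw [map_add, hkdeg, add_comm]; exact hd'n
      have hq2 : q * monomial d' (1 : R) ∈ Submodule.span R (Set.range (fam j q n)) :=
        Submodule.subset_span ⟨Sum.inr ⟨d', hd'n⟩, rfl⟩
      have hmain : monomial (e + d') (coeff e q) ∈ Submodule.span R (Set.range (fam j q n)) := by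
        have : monomial (e + d') (coeff e q) = q * monomial d' (1 : R) -
            ∑ k ∈ q.support.erase e, monomial (k + d') (coeff k q) := by
          rw [hexp, hsplit, add_sub_cancel_right]
        rw [this]
        exact Submodule.sub_mem _ hq2 hrest
      obtain ⟨v, hv⟩ := hu
      have hfin : monomial d (1 : R) = (↑v⁻¹ : R) • monomial (e + d') (coeff e q) := by
        rw [smul_monomial, smul_eq_mul, ← hv, Units.inv_mul, ← hd]
      rw [hfin]
      exact Submodule.smul_mem _ _ hmain

theorem span_eq (j : σ) (q : MvPolynomial σ R) (hq : q.IsHomogeneous 2)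
    (hu : IsUnit (q.coeff (Finsupp.single j 2))) (n : ℕ) :
    Submodule.span R (Set.range (fam j q n)) = homogeneousSubmodule σ R n := by
  refine le_antisymm (span_le j q hq n) (fun p hp => ?_)
  rw [p.as_sum]
  refine Submodule.sum_mem _ (fun d hd => ?_)
  have hd0 : coeff d p ≠ 0 := MvPolynomial.mem_support_iff.mp hd
  have hdeg : d.degree = n := degree_of_mem_support hp hd0
  have hmon : monomial d (coeff d p) = coeff d p • monomial d (1 : R) := by
    rw [smul_monomial, smul_eq_mul, mul_one]
  rw [hmon]
  exact Submodule.smul_mem _ _ (monomial_mem j q hq hu n (d j) d rfl hdeg)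

end Groth.Agent.H95.TernFormBasis
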