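import Mathlib
import Groth.Agent.H95.TernFormBasis1

open MvPolynomial

namespace Groth.Agent.H95.TernFormBasis

variable {σ : Type*} [DecidableEq σ] {R : Type*} [CommRing R]

theorem linInd (j : σ) (q : MvPolynomial σ R) (hq : q.IsHomogeneous 2)
    (hu : IsUnit (q.coeff (Finsupp.single j 2))) (n : ℕ) :
    LinearIndependent R (fam j q n) := by
  have hmono : LinearIndependent R (fun d : σ →₀ ℕ => monomial d (1 : R)) := by
    have := (MvPolynomial.basisMonomials σ R).linearIndependent
    simpa [MvPolynomial.coe_basisMonomials] using this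
  have h₁ : LinearIndependent R
      (fun m : {m : σ →₀ ℕ // m.degree = n ∧ m j < 2} => monomial m.1 (1 : R)) :=
    hmono.comp _ Subtype.val_injective
  have hker : LinearMap.ker (LinearMap.mulLeft R q) = ⊥ := by
    rw [LinearMap.ker_eq_bot']
    intro P hP
    rw [LinearMap.mulLeft_apply] at hP
    exact key j q hq hu P (fun d _ => by rw [hP, coeff_zero])
  have h₂' : LinearIndependent R
      (fun m : {m : σ →₀ ℕ // m.degree + 2 = n} => monomial m.1 (1 : R)) :=
    hmono.comp _ Subtype.val_injective
  have h₂ : LinearIndependent R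
      (fun m : {m : σ →₀ ℕ // m.degree + 2 = n} => q * monomial m.1 (1 : R)) :=
    h₂'.map' (LinearMap.mulLeft R q) hker
  refine LinearIndependent.sum_type h₁ h₂ ?_
  rw [Submodule.disjoint_def]
  intro x hx1 hx2
  -- x has no monomials with exponent ≥ 2 at j
  let W : Submodule R (MvPolynomial σ R) :=
    { carrier := {x | ∀ d : σ →₀ ℕ, 2 ≤ d j → coeff d x = 0}
      add_mem' := by
        intro a b ha hb d hd
        rw [coeff_add, ha d hd, hb d hd, add_zero]
      zero_mem' := fun d _ => coeff_zero d
      smul_mem' := by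
        intro c a ha d hd
        rw [coeff_smul, ha d hd, smul_zero] }
  have hW : x ∈ W := by
    refine (Submodule.span_le (p := W)).mpr ?_ hx1
    rintro _ ⟨m, rfl⟩ d hd
    rw [coeff_monomial, if_neg]
    intro h
    have := m.2.2
    rw [h] at this
    omega
  have hq' : x ∈ LinearMap.range (LinearMap.mulLeft R q) := by
    refine (Submodule.span_le (p := LinearMap.range (LinearMap.mulLeft R q))).mpr ?_ hx2
    rintro _ ⟨m, rfl⟩
    exact ⟨monomial m.1 1, rfl⟩
  obtain ⟨P, rfl⟩ := hq'
  rw [LinearMap.mulLeft_apply] at hW ⊢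
  rw [key j q hq hu P hW, mul_zero]

end Groth.Agent.H95.TernFormBasis
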