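import Mathlib
set_option autoImplicit false
open PowerSeries

namespace Groth.Agent.H95.Todd


theorem constCoeff_eq_one (f : PowerSeries ℚ) (hf : f * (exp ℚ - 1) = X * exp ℚ) :
    coeff 0 f = 1 := by
  have := congrArg (coeff 1) hf
  simpa [coeff_mul, Finset.Nat.antidiagonal_succ, coeff_exp, coeff_one] using this

theorem exp_sub_one_ne_zero : (exp ℚ - 1 : PowerSeries ℚ) ≠ 0 := by
  intro h
  have := congrArg (coeff 1) h
  simp [coeff_exp, coeff_one] at this

theorem ode (f : PowerSeries ℚ) (hf : f * (exp ℚ - 1) = X * exp ℚ) :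
    X * d⁄dX ℚ f = f * (1 + X) - f ^ 2 := by
  have hD := congrArg (d⁄dX ℚ) hf
  rw [Derivation.leibniz, Derivation.leibniz, map_sub, derivative_exp, derivative_one, sub_zero,
    derivative_X, smul_eq_mul, smul_eq_mul, smul_eq_mul, smul_eq_mul] at hD
  have key : (exp ℚ - 1) * (X * d⁄dX ℚ f - (f * (1 + X) - f ^ 2)) = 0 := by
    linear_combination X * hD + (f - 1 - X) * hf
  rcases mul_eq_zero.mp key with h | h
  · exact absurd h exp_sub_one_ne_zero
  · exact sub_eq_zero.mp h



/-- coefficient recurrence -/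
theorem recurrence (f g : PowerSeries ℚ) (m : ℚ)
    (hode : X * d⁄dX ℚ f = f * (1 + X) - f ^ 2) (hg : d⁄dX ℚ g = C m * g) (n : ℕ) :
    ((n : ℚ) + 1) * coeff (n + 1) (g * f ^ (n + 2)) = (m + n + 1) * coeff n (g * f ^ (n + 1)) := by
  set G := g * f ^ (n + 1) with hG
  have hDG : d⁄dX ℚ G = C m * G + g * (C ((n : ℚ) + 1) * f ^ n * d⁄dX ℚ f) := by
    rw [hG, Derivation.leibniz, derivative_pow, hg, smul_eq_mul, smul_eq_mul]
    have : ((n + 1 : ℕ) : PowerSeries ℚ) = C ((n : ℚ) + 1) := by
      rw [map_add, map_one]; simp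
    rw [this]
    simp only [Nat.add_sub_cancel]
    ring
  have hXDG : X * d⁄dX ℚ G = C m * (X * G) + C ((n : ℚ) + 1) * (G + X * G)
      - C ((n : ℚ) + 1) * (g * f ^ (n + 2)) := by
    rw [hDG, hG]
    linear_combination (g * C ((n : ℚ) + 1) * f ^ n) * hode
  have h1 := congrArg (coeff (n + 1)) hXDG
  rw [coeff_succ_X_mul, coeff_derivative, map_sub, map_add, coeff_C_mul, coeff_C_mul, coeff_C_mul,
    map_add, coeff_succ_X_mul] at h1
  linear_combination h1



theorem coeff_pow_of_todd (f : PowerSeries ℚ) (hf : f * (exp ℚ - 1) = X * exp ℚ) (n : ℕ) :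
    coeff n (f ^ (n + 1)) = 1 := by
  induction n with
  | zero => simpa using constCoeff_eq_one f hf
  | succ n ih =>
    have h := recurrence f 1 0 (ode f hf) (by simp) n
    simp only [one_mul, zero_add] at h
    rw [ih] at h
    have hn : ((n : ℚ) + 1) ≠ 0 := by positivity
    have : coeff (n + 1) (f ^ (n + 2)) = 1 := by
      apply mul_left_cancel₀ hn
      rw [h]
    exact this

theorem derivative_rescale_exp (m : ℚ) :
    d⁄dX ℚ (rescale m (exp ℚ)) = C m * rescale m (exp ℚ) := by
  ext n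
  rw [coeff_derivative, coeff_C_mul, coeff_rescale, coeff_rescale, coeff_exp, coeff_exp]
  simp only [Algebra.algebraMap_self, RingHom.id_apply]
  rw [Nat.factorial_succ]
  push_cast
  have : ((n : ℚ) + 1) ≠ 0 := by positivity
  have h2 : ((n.factorial : ℚ)) ≠ 0 := by positivity
  field_simp
  ring

theorem choose_rec (m : ℤ) (n : ℕ) :
    ((n : ℚ) + 1) * ((Ring.choose (m + (n + 1 : ℕ) : ℤ) (n + 1) : ℤ) : ℚ) =
      ((m : ℚ) + n + 1) * ((Ring.choose (m + n : ℤ) n : ℤ) : ℚ) := by
  have h := Ring.choose_smul_choose (m + (n + 1 : ℕ) : ℤ) (n := n + 1) (k := 1) (by omega)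
  rw [Ring.choose_one_right, Nat.choose_one_right, Nat.add_sub_cancel] at h
  have h2 : (m + ((n + 1 : ℕ) : ℤ) - ((1 : ℕ) : ℤ)) = m + n := by push_cast; ring
  rw [h2] at h
  have h3 := congrArg (fun z : ℤ => (z : ℚ)) h
  simp only [nsmul_eq_mul, Int.cast_mul, Int.cast_natCast, Int.cast_add] at h3
  push_cast at h3 ⊢
  linear_combination h3

theorem coeff_todd_choose (f : PowerSeries ℚ)
    (hf : f * (exp ℚ - 1) = X * exp ℚ) (m : ℤ) (n : ℕ) :
    coeff n (rescale (m : ℚ) (exp ℚ) * f ^ (n + 1)) =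
      ((Ring.choose (m + n : ℤ) n : ℤ) : ℚ) := by
  induction n with
  | zero =>
    have h0 := constCoeff_eq_one f hf
    rw [coeff_zero_eq_constantCoeff_apply] at h0
    have h1 : constantCoeff (rescale (m : ℚ) (exp ℚ)) = 1 := by
      rw [← coeff_zero_eq_constantCoeff_apply, coeff_rescale, coeff_exp]
      simp
    simp [h0, h1]
  | succ n ih =>
    have h := recurrence f (rescale (m : ℚ) (exp ℚ)) m (ode f hf) (derivative_rescale_exp m) n
    rw [ih] at h
    have hn : ((n : ℚ) + 1) ≠ 0 := by positivity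
    apply mul_left_cancel₀ hn
    rw [h, choose_rec]



theorem exists_todd : ∃ T : PowerSeries ℚ, T * (exp ℚ - 1) = X * exp ℚ := by
  set u : PowerSeries ℚ := PowerSeries.mk (fun n => (1 : ℚ) / ((n + 1).factorial : ℚ)) with hu
  have h1 : exp ℚ - 1 = X * u := by
    ext n
    cases n with
    | zero => simp
    | succ n =>
      rw [coeff_succ_X_mul, hu, coeff_mk, map_sub, coeff_exp, coeff_one]
      simp
  have hu0 : constantCoeff u ≠ 0 := by
    rw [← coeff_zero_eq_constantCoeff_apply, hu, coeff_mk]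
    simp
  refine ⟨exp ℚ * u⁻¹, ?_⟩
  rw [h1]
  have := PowerSeries.mul_inv_cancel u hu0
  linear_combination (X * exp ℚ) * this

theorem unique (f g : PowerSeries ℚ) (hf : ∀ n, coeff n (f ^ (n + 1)) = 1)
    (hg : ∀ n, coeff n (g ^ (n + 1)) = 1) : f = g := by
  have hf0 : coeff 0 f = 1 := by simpa using hf 0
  have hg0 : coeff 0 g = 1 := by simpa using hg 0
  ext n
  induction n using Nat.strong_induction_on with
  | _ n ih =>
    rcases Nat.eq_zero_or_pos n with rfl | hn
    · rw [hf0, hg0]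
    · have hdvd : (X : PowerSeries ℚ) ^ n ∣ f - g := by
        rw [X_pow_dvd_iff]
        intro m hm
        rw [map_sub, ih m hm, sub_self]
      obtain ⟨h, hh⟩ := hdvd
      have hfg : f = g + X ^ n * h := by rw [← hh]; ring
      obtain ⟨k, hk⟩ := Polynomial.powAddExpansion g (X ^ n * h) (n + 1)
      have h1 := hf n
      rw [hfg, hk] at h1
      have e1 : ((n + 1 : ℕ) : PowerSeries ℚ) * g ^ (n + 1 - 1) * (X ^ n * h) =
          X ^ n * (C ((n : ℚ) + 1) * g ^ n * h) := by
        have : ((n + 1 : ℕ) : PowerSeries ℚ) = C ((n : ℚ) + 1) := by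
          rw [map_add, map_one]; simp
        rw [this, Nat.add_sub_cancel]; ring
      have e2 : k * (X ^ n * h) ^ 2 = X ^ (2 * n) * (k * h ^ 2) := by ring
      rw [e1, e2, map_add, map_add, hg n, coeff_X_pow_mul', coeff_X_pow_mul', if_pos le_rfl,
        if_neg (by omega), Nat.sub_self, mul_assoc, coeff_C_mul, coeff_zero_eq_constantCoeff_apply,
        map_mul, map_pow, ← coeff_zero_eq_constantCoeff_apply, hg0, one_pow, one_mul] at h1
      have hn1 : ((n : ℚ) + 1) ≠ 0 := by positivity
      have hh0 : constantCoeff h = 0 := by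
        have : ((n : ℚ) + 1) * constantCoeff h = 0 := by linear_combination h1
        rcases mul_eq_zero.mp this with h' | h'
        · exact absurd h' hn1
        · exact h'
      rw [hfg, map_add, coeff_X_pow_mul', if_pos le_rfl, Nat.sub_self,
        coeff_zero_eq_constantCoeff_apply, hh0, add_zero]


theorem todd_iff (f : PowerSeries ℚ) :
    (∀ n : ℕ, PowerSeries.coeff n (f ^ (n + 1)) = 1) ↔
      f * (PowerSeries.exp ℚ - 1) = PowerSeries.X * PowerSeries.exp ℚ := by
  constructor
  · intro h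
    obtain ⟨T, hT⟩ := exists_todd
    have := unique f T h (coeff_pow_of_todd T hT)
    rw [this]; exact hT
  · intro h n
    exact coeff_pow_of_todd f h n

end Groth.Agent.H95.Todd
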