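import Groth.Agent.H18.CechContract
import Groth.Agent.H62.NL3

/-!
Top-degree Čech cohomology for a cover by `p + 2` opens, via coefficient systems (helper95).

Setting: a coefficient system `S` (helper18's `CoeffSystem`) for a cover indexed by `ι ≃ Fin (p+2)`.
The "top" indices `a ∈ T` are those which are allowed only on the full intersection.  We show that
the map sending a `(p+1)`-cocycle to its `T`-coefficients on the standard simplex is surjective with
kernel the coboundaries.
-/

set_option autoImplicit false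
open CategoryTheory Opposite Limits TopologicalSpace
universe u w w'

namespace Groth.Agent.H95.TopCech

open Groth.Agent.Lead.Cech Groth.Agent.H18.CechContract Groth.Agent.H62.NL

variable {X : Type u} [TopologicalSpace X] {ι : Type u} {U : ι → Opens X}
  {P : (Opens X)ᵒᵖ ⥤ AddCommGrpCat.{u}}

/-- helper18's contraction, with the hypothesis only on the coefficients which occur in `x` -/
theorem exists_d_eq' [Finite ι] {I : Type w} {G : Type w'} [AddCommGroup G]
    (S : CoeffSystem U P I G) (p : ℕ)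
    (x : (K U P).X (p + 1)) (hx : (K U P).d (p + 1) (p + 2) x = 0)
    (hj : ∀ a, (∃ σ : Fin (p + 2) → ι, S.c σ (proj U P (p + 1) σ x) a ≠ 0) → ∃ i, i ∉ S.N a) :
    ∃ y : (K U P).X p, (K U P).d p (p + 1) y = x := by
  classical
  rcases isEmpty_or_nonempty ι with hι | hι
  · refine ⟨0, ?_⟩
    apply ext_elem
    intro σ
    exact (hι.false (σ 0)).elim
  let j : I → ι := fun a => if h : ∃ i, i ∉ S.N a then h.choose else Classical.arbitrary ι
  have hjspec : ∀ a, (∃ i, i ∉ S.N a) → j a ∉ S.N a := by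
    intro a h
    simp only [j, dif_pos h]
    exact h.choose_spec
  let cx : (Fin (p + 2) → ι) → I → G := fun σ => S.c σ (proj U P (p + 1) σ x)
  let L : (Fin (p + 1) → ι) → I → G := fun τ a => cx (Fin.cons (j a) τ) a
  have hLfin : ∀ τ, (Function.support (L τ)).Finite := by
    intro τ
    refine Set.Finite.subset (Set.finite_iUnion (fun i : ι => S.fin (Fin.cons i τ)
      (proj U P (p + 1) (Fin.cons i τ) x))) ?_
    intro a ha
    exact Set.mem_iUnion.mpr ⟨j a, ha⟩
  have hLsupp : ∀ τ a, L τ a ≠ 0 → S.good a ∧ S.N a ⊆ Set.range τ := by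
    intro τ a ha
    obtain ⟨hg, hN⟩ := S.supp (Fin.cons (j a) τ) _ a ha
    have hja : j a ∉ S.N a := hjspec a (hj a ⟨_, ha⟩)
    refine ⟨hg, fun i hi => ?_⟩
    obtain ⟨k, hk⟩ := hN hi
    revert hk
    refine Fin.cases ?_ (fun k' => ?_) k
    · intro hk
      rw [Fin.cons_zero] at hk
      exact absurd (hk ▸ hi) hja
    · intro hk
      rw [Fin.cons_succ] at hk
      exact ⟨k', hk⟩
  choose yτ hyτ using fun τ => S.surj τ (L τ) (hLfin τ) (hLsupp τ)
  refine ⟨(coords U P p).symm yτ, ?_⟩
  apply ext_elem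
  intro σ
  rw [d_apply]
  simp only [proj_coords_symm]
  -- compare coefficients
  have hsub : ∀ s t : (P.obj (op (cechOpen U σ)) : Type u), S.c σ s = S.c σ t → s = t := by
    intro s t h
    have : S.c σ (s - t) = 0 := by rw [map_sub, h, sub_self]
    exact sub_eq_zero.mp (S.inj σ _ this)
  apply hsub
  rw [map_sum]
  funext a
  rw [Finset.sum_apply]
  have h1 : ∀ k : Fin (p + 2), S.c σ ((-1 : ℤ) ^ (k : ℕ) •
      P.map (homOfLE (cechOpen_le_face U σ k)).op (yτ (σ ∘ k.succAbove))) a =
      (-1 : ℤ) ^ (k : ℕ) • cx (Fin.cons (j a) (σ ∘ k.succAbove)) a := by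
    intro k
    rw [map_zsmul, S.res, hyτ]
    rfl
  rw [Finset.sum_congr rfl (fun k _ => h1 k)]
  -- the cocycle condition at `cons (j a) σ`
  have hc := congrArg (fun z => S.c (Fin.cons (j a) σ : Fin (p + 3) → ι)
    (proj U P (p + 2) (Fin.cons (j a) σ) z) a) hx
  simp only [d_apply, map_zero, map_sum, Finset.sum_apply, map_zsmul, S.res, Pi.smul_apply,
    Pi.zero_apply] at hc
  rw [Fin.sum_univ_succ] at hc
  have h0 : S.c ((Fin.cons (j a) σ : Fin (p + 3) → ι) ∘ (0 : Fin (p + 3)).succAbove)
      (proj U P (p + 1) ((Fin.cons (j a) σ : Fin (p + 3) → ι) ∘ (0 : Fin (p + 3)).succAbove) x) a =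
      cx σ a := by
    rw [cons_comp_succAbove_zero]
  have h2 : ∀ k : Fin (p + 2),
      S.c ((Fin.cons (j a) σ : Fin (p + 3) → ι) ∘ (k.succ).succAbove)
        (proj U P (p + 1) ((Fin.cons (j a) σ : Fin (p + 3) → ι) ∘ (k.succ).succAbove) x) a =
      cx (Fin.cons (j a) (σ ∘ k.succAbove)) a := by
    intro k
    rw [cons_comp_succAbove_succ]
  rw [h0, Finset.sum_congr rfl (fun k _ => by rw [h2 k])] at hc
  simp only [Fin.val_zero, pow_zero, one_smul, Fin.val_succ, pow_succ, mul_neg, mul_one,
    neg_smul, Finset.sum_neg_distrib] at hc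
  exact (add_neg_eq_zero.mp hc).symm

/-! ### signs of tuples, via determinants -/

section sign

open Classical in
/-- the `0/1` matrix of a tuple of indices -/
noncomputable def tupMat {q : ℕ} (e : Fin q ≃ ι) (σ : Fin q → ι) : Matrix (Fin q) (Fin q) ℤ :=
  Matrix.of fun k i => if σ k = e i then 1 else 0

/-- the sign of a tuple of indices: `±1` on bijective tuples, `0` otherwise -/
noncomputable def sgn {q : ℕ} (e : Fin q ≃ ι) (σ : Fin q → ι) : ℤ := (tupMat e σ).det

theorem sgn_self {q : ℕ} (e : Fin q ≃ ι) : sgn e e = 1 := by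
  classical
  have h : tupMat e e = 1 := by
    ext k i
    simp only [tupMat, Matrix.of_apply, Matrix.one_apply, e.injective.eq_iff]
  rw [sgn, h, Matrix.det_one]

theorem sgn_eq_zero {q : ℕ} (e : Fin q ≃ ι) (σ : Fin q → ι) (h : ¬ Function.Surjective σ) :
    sgn e σ = 0 := by
  classical
  simp only [Function.Surjective, not_forall, not_exists] at h
  obtain ⟨i, hi⟩ := h
  refine Matrix.det_eq_zero_of_column_eq_zero (e.symm i) fun k => ?_
  simp only [tupMat, Matrix.of_apply, Equiv.apply_symm_apply, if_neg (hi k)]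

theorem sum_sgn_face {q : ℕ} (e : Fin (q + 1) ≃ ι) (τ : Fin (q + 2) → ι) :
    ∑ k : Fin (q + 2), (-1 : ℤ) ^ (k : ℕ) * sgn e (τ ∘ k.succAbove) = 0 := by
  classical
  let B : Matrix (Fin (q + 2)) (Fin (q + 2)) ℤ :=
    Matrix.of fun k i => Fin.cases (1 : ℤ) (fun i' => if τ k = e i' then 1 else 0) i
  have hB : B.det = 0 := by
    rw [← Matrix.exists_mulVec_eq_zero_iff]
    refine ⟨Fin.cases (1 : ℤ) (fun _ => -1), ?_, ?_⟩
    · intro h
      have := congrFun h 0
      simp at this
    · funext k
      change ∑ i, B k i * (Fin.cases (1 : ℤ) (fun _ => -1) i : ℤ) = 0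
      rw [Fin.sum_univ_succ]
      simp only [B, Matrix.of_apply, Fin.cases_zero, Fin.cases_succ, mul_one, mul_neg,
        Finset.sum_neg_distrib]
      have h1 : ∑ i' : Fin (q + 1), (if τ k = e i' then (1 : ℤ) else 0) = 1 := by
        have h2 : ∀ i' : Fin (q + 1), (τ k = e i') ↔ (i' = e.symm (τ k)) := fun i' =>
          ⟨fun h => by rw [h, Equiv.symm_apply_apply], fun h => by rw [h, Equiv.apply_symm_apply]⟩
        simp only [h2, Finset.sum_ite_eq', Finset.mem_univ, if_true]
      rw [h1]
      ring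
  have hL := Matrix.det_succ_column_zero B
  rw [hB] at hL
  rw [hL]
  refine Finset.sum_congr rfl fun k _ => ?_
  have h3 : B k 0 = 1 := rfl
  have h4 : B.submatrix k.succAbove Fin.succ = tupMat e (τ ∘ k.succAbove) := by
    ext k' i'
    rfl
  rw [h3, h4, mul_one, sgn]

end sign

end Groth.Agent.H95.TopCech
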