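import Groth.Agent.H95.TopCech1

/-!
Top-degree Čech cohomology for a cover by `p + 2` opens, via coefficient systems (helper95):
the map `topPi` sending a `(p+1)`-cocycle to its top coefficients on the standard simplex is
surjective, and its kernel consists of the coboundaries.
-/

set_option autoImplicit false
open CategoryTheory Opposite Limits TopologicalSpace
universe u w w'

namespace Groth.Agent.H95.TopCech

open Groth.Agent.Lead.Cech Groth.Agent.H18.CechContract Groth.Agent.H62.NL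

variable {X : Type u} [TopologicalSpace X] {ι : Type u} {U : ι → Opens X}
  {P : (Opens X)ᵒᵖ ⥤ AddCommGrpCat.{u}} {I : Type w} {G : Type w'} [AddCommGroup G]
  (S : CoeffSystem U P I G) (p : ℕ) (e : Fin (p + 2) ≃ ι) (T : Set I)

/-- the `T`-coefficients of a cocycle on the standard simplex -/
noncomputable def topPi : cocyc (K U P) (p + 1) →+ (T → G) where
  toFun z a := S.c (⇑e) (proj U P (p + 1) (⇑e) z.1) a.1
  map_zero' := by
    funext a
    change S.c (⇑e) (proj U P (p + 1) (⇑e) (0 : (K U P).X (p + 1))) a.1 = 0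
    rw [map_zero, map_zero]
    rfl
  map_add' z z' := by
    funext a
    change S.c (⇑e) (proj U P (p + 1) (⇑e) (z.1 + z'.1)) a.1 = _
    rw [map_add, map_add]
    rfl

theorem topPi_apply (z : cocyc (K U P) (p + 1)) (a : T) :
    topPi S p e T z a = S.c (⇑e) (proj U P (p + 1) (⇑e) z.1) a.1 := rfl

variable {S p T}

/-- top coefficients vanish on non-surjective tuples -/
theorem coeff_eq_zero_of_not_surjective (hT1 : ∀ a ∈ T, ∀ i, i ∈ S.N a) {q : ℕ}
    (σ : Fin (q + 1) → ι) (hσ : ¬ Function.Surjective σ)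
    (s : (P.obj (op (cechOpen U σ)) : Type u)) (a : I) (ha : a ∈ T) : S.c σ s a = 0 := by
  by_contra h
  obtain ⟨-, hN⟩ := S.supp σ s a h
  exact hσ fun i => hN (hT1 a ha i)

theorem not_surjective_face {q : ℕ} (e' : Fin (q + 1) ≃ ι) (k : Fin (q + 1)) :
    ¬ Function.Surjective ((⇑e' : Fin (q + 1) → ι) ∘ k.succAbove) := by
  intro h
  obtain ⟨m, hm⟩ := h (e' k)
  exact Fin.succAbove_ne k m (e'.injective hm)

/-- the top coefficients of a coboundary vanish -/
theorem topPi_eq_zero_of_d (hT1 : ∀ a ∈ T, ∀ i, i ∈ S.N a) (z : cocyc (K U P) (p + 1))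
    (b : (K U P).X p) (hb : (K U P).d p (p + 1) b = z.1) : topPi S p e T z = 0 := by
  funext a
  rw [topPi_apply, ← hb, d_apply, map_sum, Finset.sum_apply]
  refine Finset.sum_eq_zero fun k _ => ?_
  rw [map_zsmul, S.res, Pi.smul_apply,
    coeff_eq_zero_of_not_surjective hT1 _ (not_surjective_face e k) _ a.1 a.2, smul_zero]

/-- every family of top coefficients is realized by a cocycle -/
theorem topPi_surjective (hT3 : ∀ a ∈ T, S.good a)
    (hfin : T.Finite) : Function.Surjective (topPi S p e T) := by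
  classical
  intro L
  let Lσ : (Fin (p + 2) → ι) → I → G := fun σ a =>
    if h : a ∈ T then sgn e σ • L ⟨a, h⟩ else 0
  have hfinσ : ∀ σ, (Function.support (Lσ σ)).Finite := fun σ =>
    hfin.subset fun a ha => by
      by_contra h
      exact ha (dif_neg h)
  have hsupp : ∀ σ a, Lσ σ a ≠ 0 → S.good a ∧ S.N a ⊆ Set.range σ := by
    intro σ a ha
    have haT : a ∈ T := by
      by_contra h
      exact ha (dif_neg h)
    have hs : Function.Surjective σ := by
      by_contra hns
      apply ha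
      simp only [Lσ, dif_pos haT, sgn_eq_zero e σ hns, zero_smul]
    exact ⟨hT3 a haT, fun i _ => hs i⟩
  choose s hs using fun σ => S.surj σ (Lσ σ) (hfinσ σ) (hsupp σ)
  have hx : (K U P).d (p + 1) (p + 2) ((coords U P (p + 1)).symm s) = 0 := by
    apply ext_elem
    intro τ
    rw [d_apply, map_zero]
    simp only [proj_coords_symm]
    apply S.inj τ
    rw [map_sum]
    funext a
    rw [Finset.sum_apply]
    have h1 : ∀ k : Fin (p + 3), S.c τ ((-1 : ℤ) ^ (k : ℕ) •
        P.map (homOfLE (cechOpen_le_face U τ k)).op (s (τ ∘ k.succAbove))) a =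
        (-1 : ℤ) ^ (k : ℕ) • Lσ (τ ∘ k.succAbove) a := by
      intro k
      rw [map_zsmul, S.res, hs]
      rfl
    rw [Finset.sum_congr rfl (fun k _ => h1 k)]
    by_cases haT : a ∈ T
    · simp only [Lσ, dif_pos haT, smul_smul]
      rw [← Finset.sum_smul, sum_sgn_face, zero_smul]
      rfl
    · simp only [Lσ, dif_neg haT, smul_zero, Finset.sum_const_zero]
      rfl
  refine ⟨⟨(coords U P (p + 1)).symm s, (mem_cocyc _ _).mpr hx⟩, ?_⟩
  funext a
  rw [topPi_apply]
  simp only [proj_coords_symm, hs, Lσ, dif_pos a.2, sgn_self, one_smul]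

/-! ### the kernel -/

/-- the permutations which preserve the vanishing of a function on tuples -/
def stab {q : ℕ} (f : (Fin q → ι) → G) : Subgroup (Equiv.Perm (Fin q)) where
  carrier := {π | ∀ σ : Fin q → ι, f (σ ∘ ⇑π) = 0 ↔ f σ = 0}
  one_mem' := fun _ => Iff.rfl
  mul_mem' := fun {π₁ π₂} h₁ h₂ σ => (h₂ (σ ∘ ⇑π₁)).trans (h₁ σ)
  inv_mem' := fun {π} h σ => by
    have h1 := h (σ ∘ ⇑π⁻¹)
    have e1 : (σ ∘ ⇑π⁻¹) ∘ ⇑π = σ := by
      funext x
      simp
    rw [e1] at h1
    exact h1.symm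

theorem mem_stab {q : ℕ} (f : (Fin q → ι) → G) (π : Equiv.Perm (Fin q)) :
    π ∈ stab f ↔ ∀ σ : Fin q → ι, f (σ ∘ ⇑π) = 0 ↔ f σ = 0 := Iff.rfl

theorem cycleRange_one_symm (q : ℕ) :
    (Fin.cycleRange (1 : Fin (q + 2))).symm = Equiv.swap (0 : Fin (q + 2)) 1 := by
  ext i
  refine Fin.cases ?_ (fun m => ?_) i
  · rw [Fin.cycleRange_symm_zero, Equiv.swap_apply_left]
  · rw [Fin.cycleRange_symm_succ]
    refine Fin.cases ?_ (fun m' => ?_) m
    · rw [← Fin.succ_zero_eq_one, Fin.succ_succAbove_zero, Fin.succ_zero_eq_one,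
        Equiv.swap_apply_right]
    · rw [← Fin.succ_zero_eq_one, Fin.succ_succAbove_succ, Fin.succAbove_zero,
        Equiv.swap_apply_of_ne_of_ne (Fin.succ_ne_zero _)
          (fun h => Fin.succ_ne_zero m' (Fin.succ_injective _ h))]

theorem stab_eq_top {q : ℕ} (f : (Fin (q + 2) → ι) → G)
    (h : ∀ j : Fin (q + 2), (Fin.cycleRange j).symm ∈ stab f) : stab f = ⊤ := by
  have hrot : finRotate (q + 2) ∈ stab f := by
    have h1 := (stab f).inv_mem (h (Fin.last (q + 1)))
    rw [Fin.cycleRange_last] at h1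
    exact h1
  have hswap : Equiv.swap (0 : Fin (q + 2)) (finRotate (q + 2) 0) ∈ stab f := by
    have h1 := h 1
    rw [cycleRange_one_symm] at h1
    rw [finRotate_apply, zero_add]
    exact h1
  rw [eq_top_iff, ← Equiv.Perm.closure_cycle_adjacent_swap isCycle_finRotate
    support_finRotate (0 : Fin (q + 2)), Subgroup.closure_le]
  intro π hπ
  rcases hπ with rfl | hπ
  · exact hrot
  · rw [Set.mem_singleton_iff] at hπ
    rw [hπ]
    exact hswap

theorem cons_eq_comp_cycleRange_symm {q : ℕ} (σ : Fin (q + 1) → ι) (j : Fin (q + 1)) :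
    (Fin.cons (σ j) (σ ∘ j.succAbove) : Fin (q + 1) → ι) = σ ∘ ⇑(Fin.cycleRange j).symm := by
  funext m
  refine Fin.cases ?_ (fun m' => ?_) m
  · rw [Fin.cons_zero, Function.comp_apply, Fin.cycleRange_symm_zero]
  · rw [Fin.cons_succ, Function.comp_apply, Function.comp_apply, Fin.cycleRange_symm_succ]

include e in
/-- the cocycle condition at the tuple `(σ j, σ 0, …, σ (p+1))` -/
theorem mtf_step (hT1 : ∀ a ∈ T, ∀ i, i ∈ S.N a) (x : (K U P).X (p + 1))
    (hx : (K U P).d (p + 1) (p + 2) x = 0) (a : I) (ha : a ∈ T) (σ : Fin (p + 2) → ι)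
    (j : Fin (p + 2)) :
    S.c σ (proj U P (p + 1) σ x) a = (-1 : ℤ) ^ (j : ℕ) •
      S.c (Fin.cons (σ j) (σ ∘ j.succAbove) : Fin (p + 2) → ι)
        (proj U P (p + 1) (Fin.cons (σ j) (σ ∘ j.succAbove)) x) a := by
  let cx : (Fin (p + 2) → ι) → I → G := fun σ => S.c σ (proj U P (p + 1) σ x)
  have hc := congrArg (fun z => S.c (Fin.cons (σ j) σ : Fin (p + 3) → ι)
    (proj U P (p + 2) (Fin.cons (σ j) σ) z) a) hx
  simp only [d_apply, map_zero, map_sum, Finset.sum_apply, map_zsmul, S.res, Pi.smul_apply,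
    Pi.zero_apply] at hc
  rw [Fin.sum_univ_succ] at hc
  have h0 : S.c ((Fin.cons (σ j) σ : Fin (p + 3) → ι) ∘ (0 : Fin (p + 3)).succAbove)
      (proj U P (p + 1) ((Fin.cons (σ j) σ : Fin (p + 3) → ι) ∘ (0 : Fin (p + 3)).succAbove) x) a =
      cx σ a := by
    rw [cons_comp_succAbove_zero]
  have h2 : ∀ k : Fin (p + 2),
      S.c ((Fin.cons (σ j) σ : Fin (p + 3) → ι) ∘ (k.succ).succAbove)
        (proj U P (p + 1) ((Fin.cons (σ j) σ : Fin (p + 3) → ι) ∘ (k.succ).succAbove) x) a =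
      cx (Fin.cons (σ j) (σ ∘ k.succAbove)) a := by
    intro k
    rw [cons_comp_succAbove_succ]
  rw [h0, Finset.sum_congr rfl (fun k _ => by rw [h2 k])] at hc
  rw [Finset.sum_eq_single j] at hc
  · simp only [Fin.val_zero, pow_zero, one_smul, Fin.val_succ, pow_succ, mul_neg, mul_one,
      neg_smul] at hc
    exact add_neg_eq_zero.mp hc
  · intro k _ hkj
    have hns : ¬ Function.Surjective (Fin.cons (σ j) (σ ∘ k.succAbove) : Fin (p + 2) → ι) := by
      intro hs
      have hinj := (Finite.injective_iff_surjective_of_equiv e).mpr hs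
      obtain ⟨m, hm⟩ := Fin.exists_succAbove_eq (Ne.symm hkj)
      have h3 : (Fin.cons (σ j) (σ ∘ k.succAbove) : Fin (p + 2) → ι) 0 =
          (Fin.cons (σ j) (σ ∘ k.succAbove) : Fin (p + 2) → ι) m.succ := by
        rw [Fin.cons_zero, Fin.cons_succ, Function.comp_apply, hm]
      exact Fin.succ_ne_zero m (hinj h3).symm
    change (-1 : ℤ) ^ ((k.succ : Fin (p + 3)) : ℕ) •
      S.c (Fin.cons (σ j) (σ ∘ k.succAbove) : Fin (p + 2) → ι)
        (proj U P (p + 1) (Fin.cons (σ j) (σ ∘ k.succAbove)) x) a = 0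
    rw [coeff_eq_zero_of_not_surjective hT1 _ hns _ a ha, smul_zero]
  · intro h
    exact absurd (Finset.mem_univ j) h

/-- if the top coefficients of a cocycle vanish on the standard simplex, they vanish on every
simplex -/
theorem coeff_eq_zero_of_topPi_eq_zero (hT1 : ∀ a ∈ T, ∀ i, i ∈ S.N a)
    (z : cocyc (K U P) (p + 1)) (hz : topPi S p e T z = 0) (a : I) (ha : a ∈ T)
    (σ : Fin (p + 2) → ι) : S.c σ (proj U P (p + 1) σ z.1) a = 0 := by
  by_cases hs : Function.Surjective σ
  swap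
  · exact coeff_eq_zero_of_not_surjective hT1 σ hs _ a ha
  let f : (Fin (p + 2) → ι) → G := fun σ => S.c σ (proj U P (p + 1) σ z.1) a
  have hx := (mem_cocyc _ z.1).mp z.2
  have hstab : stab f = ⊤ := by
    apply stab_eq_top
    intro j
    rw [mem_stab]
    intro σ'
    rw [← cons_eq_comp_cycleRange_symm]
    have h1 : f σ' = (-1 : ℤ) ^ (j : ℕ) • f (Fin.cons (σ' j) (σ' ∘ j.succAbove)) :=
      mtf_step e hT1 z.1 hx a ha σ' j
    constructor
    · intro h
      rw [h1, h, smul_zero]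
    · intro h
      rw [h] at h1
      rcases neg_one_pow_eq_or ℤ (j : ℕ) with h2 | h2
      · rw [h2, one_smul] at h1
        exact h1.symm
      · rw [h2, neg_smul, one_smul, zero_eq_neg] at h1
        exact h1
  have hinj : Function.Injective σ := (Finite.injective_iff_surjective_of_equiv e).mpr hs
  let π : Equiv.Perm (Fin (p + 2)) := (Equiv.ofBijective σ ⟨hinj, hs⟩).trans e.symm
  have hπ : π ∈ stab f := hstab ▸ Subgroup.mem_top π
  have hσ : (⇑e : Fin (p + 2) → ι) ∘ ⇑π = σ := by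
    funext m
    change e (e.symm (σ m)) = σ m
    exact e.apply_symm_apply _
  have h4 := (mem_stab f π).mp hπ (⇑e)
  rw [hσ] at h4
  exact h4.mpr (congrFun hz ⟨a, ha⟩)

/-- the kernel of `topPi` consists of the coboundaries -/
theorem topPi_eq_zero_iff (hT1 : ∀ a ∈ T, ∀ i, i ∈ S.N a)
    (hT2 : ∀ a, S.good a → (∀ i, i ∈ S.N a) → a ∈ T) (z : cocyc (K U P) (p + 1)) :
    topPi S p e T z = 0 ↔ ∃ b : (K U P).X p, (K U P).d p (p + 1) b = z.1 := by
  constructor
  · intro hz
    have : Finite ι := Finite.of_equiv _ e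
    refine exists_d_eq' S p z.1 ((mem_cocyc _ z.1).mp z.2) ?_
    rintro a ⟨σ, hσ⟩
    by_contra hall
    push Not at hall
    exact hσ (coeff_eq_zero_of_topPi_eq_zero e hT1 z hz a (hT2 a (S.supp σ _ a hσ).1 hall) σ)
  · rintro ⟨b, hb⟩
    exact topPi_eq_zero_of_d e hT1 z b hb

end Groth.Agent.H95.TopCech
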