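import Mathlib
import Groth.Agent.H95.TopFromClass

/-!
# Sheaves for the topology generated by a class `C`: Zariski sheaf + `C`-singleton condition
-/

universe v u

namespace Groth.Agent.H95.TopFromClassSheaf

open CategoryTheory CategoryTheory.Limits AlgebraicGeometry
open Groth.Agent.H95.TopFromClass

variable {S : Scheme.{u}}

theorem inSieve_iff_overEquiv {X : Over S} (R : Sieve X) {V : Scheme.{u}} (a : V ⟶ X.left) :
    InSieve R a ↔ (Sieve.overEquiv X R).arrows a := by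
  rw [Sieve.overEquiv_iff]; rfl

/-- A sieve containing an open cover is Zariski-covering. -/
theorem mem_zariski_over {X : Over S} (R : Sieve X) (𝒰 : Scheme.OpenCover.{u} X.left)
    (h : ∀ i, InSieve R (𝒰.f i)) : R ∈ (Scheme.zariskiTopology.over S) X := by
  rw [GrothendieckTopology.mem_over_iff, Scheme.mem_grothendieckTopology_iff]
  refine ⟨𝒰, ?_⟩
  rintro Y g ⟨i⟩
  exact (inSieve_iff_overEquiv R _).mp (h i)

section Finest

variable (F : (Over S)ᵒᵖ ⥤ Type v)

theorem zariski_le_finest (hZ : Presieve.IsSheaf (Scheme.zariskiTopology.over S) F) :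
    Scheme.zariskiTopology.over S ≤ Sheaf.finestTopologySingle F := by
  intro X R hR Y f
  exact hZ _ ((Scheme.zariskiTopology.over S).pullback_stable f hR)

variable (C : MorphismProperty Scheme.{u}) [C.IsStableUnderBaseChange]

theorem generate_singleton_mem_finest
    (hC : ∀ (X X' : Over S) (f : X' ⟶ X), C f.left → Presieve.IsSheafFor F (Presieve.singleton f))
    {X X' : Over S} (f : X' ⟶ X) (hf : C f.left) :
    Sieve.generate (Presieve.singleton f) ∈ Sheaf.finestTopologySingle F X := by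
  intro Y h
  rw [← Sieve.pullbackArrows_comm, Presieve.pullback_singleton, ← Presieve.isSheafFor_iff_generate]
  apply hC
  have := (IsPullback.of_hasPullback f h).map (Over.forget S)
  exact C.of_isPullback this hf

theorem cov_mem_finest
    (hZ : Presieve.IsSheaf (Scheme.zariskiTopology.over S) F)
    (hC : ∀ (X X' : Over S) (f : X' ⟶ X), C f.left → Presieve.IsSheafFor F (Presieve.singleton f))
    {X : Over S} (R : Sieve X) (hR : Cov C R) : R ∈ Sheaf.finestTopologySingle F X := by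
  obtain ⟨ι, U, hU, hsup, hloc⟩ := hR
  let Z : Sieve X := Sieve.ofArrows (fun i => Over.mk ((U i).ι ≫ X.hom))
    (fun i => toOver X (U i).ι)
  have hZmem : Z ∈ Sheaf.finestTopologySingle F X := by
    refine zariski_le_finest F hZ _ (mem_zariski_over Z
      (X.left.openCoverOfIsOpenCover U hsup) (fun i => ?_))
    exact Sieve.ofArrows_mk _ _ i
  refine (Sheaf.finestTopologySingle F).transitive hZmem R ?_
  intro Y g hg
  obtain ⟨i, h, rfl⟩ := (Sieve.mem_ofArrows_iff _ _ g).mp hg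
  rw [Sieve.pullback_comp]
  apply (Sheaf.finestTopologySingle F).pullback_stable
  obtain ⟨κ, hκ, V, ψ, hV, hRψ, hCψ⟩ := hloc i
  let Ui : Over S := Over.mk ((U i).ι ≫ X.hom)
  let σ : Over.mk (Limits.Sigma.desc ψ ≫ Ui.hom) ⟶ Ui := toOver Ui (Limits.Sigma.desc ψ)
  have hG : Sieve.generate (Presieve.singleton σ) ∈ Sheaf.finestTopologySingle F Ui :=
    generate_singleton_mem_finest F C hC σ hCψ
  refine (Sheaf.finestTopologySingle F).transitive hG _ ?_
  intro Y' g' hg'
  obtain ⟨W, a, b, ⟨⟩, rfl⟩ := hg'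
  rw [Sieve.pullback_comp]
  apply (Sheaf.finestTopologySingle F).pullback_stable
  apply zariski_le_finest F hZ
  refine mem_zariski_over _ (sigmaOpenCover V) ?_
  intro (j : κ)
  change InSieve (X := Over.mk (Limits.Sigma.desc ψ ≫ Ui.hom)) _ (Sigma.ι V j)
  rw [inSieve_pullback, inSieve_pullback]
  rw [inSieve_congr R (show (Sigma.ι V j ≫ σ.left) ≫ (toOver X (U i).ι).left =
    ψ j ≫ (U i).ι from by
      simp only [σ, Over.homMk_left]
      rw [Limits.Sigma.ι_desc])]
  exact hRψ j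

end Finest

section Forward

variable (C : MorphismProperty Scheme.{u}) [C.IsStableUnderBaseChange]

omit [C.IsStableUnderBaseChange] in
theorem cov_of_mem_zariski
    (haff : ∀ (U : Scheme.{u}) [IsAffine U] (κ : Type u) [Finite κ] (V : κ → U.Opens),
      (∀ j, IsAffineOpen (V j)) → ⨆ j, V j = ⊤ → C (Limits.Sigma.desc fun j => (V j).ι))
    {X : Over S} (R : Sieve X) (hR : R ∈ (Scheme.zariskiTopology.over S) X) : Cov C R := by
  rw [GrothendieckTopology.mem_over_iff, Scheme.mem_grothendieckTopology_iff] at hR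
  obtain ⟨𝒰, h𝒰⟩ := hR
  have hin : ∀ i, InSieve R (𝒰.f i) := fun i => (inSieve_iff_overEquiv R _).mpr (h𝒰 _ _ (Presieve.ofArrows.mk i))
  refine ⟨{W : X.left.affineOpens // ∃ i, W.1 ≤ (𝒰.f i).opensRange}, fun W => W.1.1,
    fun W => W.1.2, ?_, fun W => ?_⟩
  · rw [eq_top_iff]
    intro x _
    obtain ⟨i, y, hy⟩ := 𝒰.exists_eq x
    obtain ⟨_, ⟨W, hW, rfl⟩, hxW, hWU⟩ := X.left.isBasis_affineOpens.exists_subset_of_mem_open
      (show x ∈ ((𝒰.f i).opensRange : Set X.left) from ⟨y, hy⟩) (𝒰.f i).opensRange.2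
    exact TopologicalSpace.Opens.mem_iSup.mpr ⟨⟨⟨W, hW⟩, i, hWU⟩, hxW⟩
  · obtain ⟨i, hi⟩ := W.2
    have hW : IsAffineOpen W.1.1 := W.1.2
    have : IsAffine (W.1.1 : Scheme.{u}) := hW
    refine ⟨PUnit.{u+1}, inferInstance, fun _ => ((⊤ : (W.1.1 : Scheme.{u}).Opens) : Scheme.{u}),
      fun _ => (⊤ : (W.1.1 : Scheme.{u}).Opens).ι, fun _ => isAffineOpen_top _, fun _ => ?_,
      haff _ PUnit.{u+1} (fun _ => ⊤) (fun _ => isAffineOpen_top _) (by simp)⟩
    let l := IsOpenImmersion.lift (𝒰.f i) W.1.1.ι (by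
      rw [Scheme.Opens.range_ι]; exact hi)
    have hl : l ≫ 𝒰.f i = W.1.1.ι := IsOpenImmersion.lift_fac _ _ _
    rw [inSieve_congr R (show (⊤ : (W.1.1 : Scheme.{u}).Opens).ι ≫ W.1.1.ι =
      ((⊤ : (W.1.1 : Scheme.{u}).Opens).ι ≫ l) ≫ 𝒰.f i from by rw [Category.assoc, hl])]
    exact (hin i).comp _

theorem cov_generate_singleton
    (hqc : ∀ {A B : Scheme.{u}} (f : A ⟶ B), C f → QuasiCompact f)
    (hres : ∀ (W X' : Scheme.{u}) [IsAffine W] (f : X' ⟶ W), C f →
      ∀ (κ : Type u) [Finite κ] (A : κ → X'.Opens), (∀ l, IsAffineOpen (A l)) → ⨆ l, A l = ⊤ →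
        C (Limits.Sigma.desc fun l => (A l).ι ≫ f))
    {X X' : Over S} (f : X' ⟶ X) (hf : C f.left) :
    Cov C (Sieve.generate (Presieve.singleton f)) := by
  have hfin : InSieve (Sieve.generate (Presieve.singleton f)) f.left :=
    (inSieve_iff _ f).mp (Sieve.le_generate _ _ _ (Presieve.singleton_self f))
  refine ⟨X.left.affineOpens, fun W => W.1, fun W => W.2, iSup_affineOpens_eq_top _, fun W => ?_⟩
  have hW : IsAffineOpen W.1 := W.2
  have : IsAffine (W.1 : Scheme.{u}) := hW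
  let P : X'.left.Opens := f.left ⁻¹ᵁ W.1
  let fW : (P : Scheme.{u}) ⟶ (W.1 : Scheme.{u}) := f.left ∣_ W.1
  have hCf : C fW := C.of_isPullback (isPullback_morphismRestrict f.left W.1).flip hf
  have : QuasiCompact fW := hqc _ hCf
  have : CompactSpace (P : Scheme.{u}) := QuasiCompact.compactSpace_of_compactSpace fW
  obtain ⟨t, ht⟩ := exists_finite_subcover (Y := (P : Scheme.{u}))
    (fun A : (P : Scheme.{u}).affineOpens => A.1) (iSup_affineOpens_eq_top _)
  refine ⟨t, inferInstance, fun l => ((l.1.1 : (P : Scheme.{u}).Opens) : Scheme.{u}),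
    fun l => l.1.1.ι ≫ fW, fun l => l.1.2, fun l => ?_,
    hres _ _ fW hCf t (fun l => l.1.1) (fun l => l.1.2) ht⟩
  rw [inSieve_congr _ (show (l.1.1.ι ≫ fW) ≫ W.1.ι = (l.1.1.ι ≫ P.ι) ≫ f.left from by
    simp [fW, P])]
  exact hfin.comp _

end Forward

theorem main (S : Scheme.{u})
    (C : MorphismProperty Scheme.{u}) [C.IsStableUnderComposition] [C.IsStableUnderBaseChange]
    (hqc : ∀ {A B : Scheme.{u}} (f : A ⟶ B), C f → QuasiCompact f)
    (haff : ∀ (U : Scheme.{u}) [IsAffine U] (κ : Type u) [Finite κ] (V : κ → U.Opens),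
      (∀ j, IsAffineOpen (V j)) → ⨆ j, V j = ⊤ → C (Limits.Sigma.desc fun j => (V j).ι))
    (hres : ∀ (W X' : Scheme.{u}) [IsAffine W] (f : X' ⟶ W), C f →
      ∀ (κ : Type u) [Finite κ] (A : κ → X'.Opens), (∀ l, IsAffineOpen (A l)) → ⨆ l, A l = ⊤ →
        C (Limits.Sigma.desc fun l => (A l).ι ≫ f))
    (J : GrothendieckTopology (Over S))
    (hJ : ∀ (X : Over S) (R : Sieve X), R ∈ J X ↔
      ∃ (ι : Type u) (U : ι → X.left.Opens), (∀ i, IsAffineOpen (U i)) ∧ ⨆ i, U i = ⊤ ∧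
        ∀ i, ∃ (κ : Type u) (_ : Finite κ) (V : κ → Over S) (φ : ∀ j, V j ⟶ X)
          (ψ : ∀ j, (V j).left ⟶ (U i : Scheme.{u})),
          (∀ j, IsAffine (V j).left) ∧ (∀ j, R.arrows (φ j)) ∧ (∀ j, ψ j ≫ (U i).ι = (φ j).left) ∧
            C (Limits.Sigma.desc ψ))
    (F : (Over S)ᵒᵖ ⥤ Type v) :
    Presieve.IsSheaf J F ↔
      (Presieve.IsSheaf (Scheme.zariskiTopology.over S) F ∧
        ∀ (X X' : Over S) (f : X' ⟶ X), C f.left →
          Presieve.IsSheafFor F (Presieve.singleton f)) := by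
  have hJ' : ∀ (X : Over S) (R : Sieve X), R ∈ J X ↔ Cov C R := by
    intro X R
    rw [hJ X R]
    unfold Cov
    simp only [locCov_iff]
  constructor
  · intro hF
    refine ⟨Presieve.isSheaf_of_le F (fun X R hR => ?_) hF, fun X X' f hf => ?_⟩
    · exact (hJ' X R).mpr (cov_of_mem_zariski C haff R hR)
    · rw [Presieve.isSheafFor_iff_generate]
      exact hF _ ((hJ' X _).mpr (cov_generate_singleton C hqc hres f hf))
  · rintro ⟨hZ, hC⟩ X R hR
    have := cov_mem_finest F C hZ hC R ((hJ' X R).mp hR) X (𝟙 X)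
    rwa [Sieve.pullback_id] at this

end Groth.Agent.H95.TopFromClassSheaf
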