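import Mathlib
import Groth.Agent.H80.TraceFilt

/-!
# Trace on `S ⧸ P ^ n` and on finite products; length of `S ⧸ P ^ n` in a Dedekind domain
-/

namespace Groth.Agent.H95.TraceCRT

open Module

/-- The trace on a finite product of finite free algebras is the sum of the traces. -/
theorem trace_pi {k ι : Type*} [CommRing k] [Fintype ι] (C : ι → Type*) [∀ i, CommRing (C i)]
    [∀ i, Algebra k (C i)] [∀ i, Module.Free k (C i)] [∀ i, Module.Finite k (C i)]
    (x : ∀ i, C i) :
    Algebra.trace k (∀ i, C i) x = ∑ i, Algebra.trace k (C i) (x i) := by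
  classical
  let b : ∀ i, Basis (Module.Free.ChooseBasisIndex k (C i)) k (C i) :=
    fun i => Module.Free.chooseBasis k (C i)
  rw [Algebra.trace_eq_matrix_trace (Pi.basis b)]
  simp_rw [Algebra.trace_eq_matrix_trace (b _)]
  rw [Matrix.trace, Fintype.sum_sigma]
  refine Finset.sum_congr rfl fun i _ => Finset.sum_congr rfl fun j _ => ?_
  simp only [Matrix.diag_apply, Algebra.leftMulMatrix_apply, LinearMap.toMatrix_apply,
    Pi.basis_repr, Pi.basis_apply, Algebra.coe_lmul_eq_mul,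
    LinearMap.mul_apply_apply, Pi.mul_apply, Pi.single_eq_same]

/-- `S ⧸ P ^ n` is local when `P` is maximal and `n ≠ 0`. -/
theorem isLocalRing_quot_pow {S : Type*} [CommRing S] (P : Ideal S) [hP : P.IsMaximal] {n : ℕ}
    (hn : n ≠ 0) : IsLocalRing (S ⧸ P ^ n) := by
  have hne : P ^ n ≠ ⊤ := fun h => hP.ne_top (top_le_iff.mp (h ▸ Ideal.pow_le_self hn))
  have : Nontrivial (S ⧸ P ^ n) := Ideal.Quotient.nontrivial_iff.mpr hne
  refine IsLocalRing.of_isUnit_or_isUnit_one_sub_self fun a => ?_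
  obtain ⟨x, rfl⟩ := Ideal.Quotient.mk_surjective a
  by_cases hx : x ∈ P
  · right
    rw [← map_one (Ideal.Quotient.mk (P ^ n)), ← map_sub]
    refine (Ideal.Quotient.isUnit_mk_pow_iff_notMem P hn).mpr fun h => ?_
    exact hP.ne_top ((Ideal.eq_top_iff_one _).2 (by simpa using add_mem hx h))
  · left
    exact (Ideal.Quotient.isUnit_mk_pow_iff_notMem P hn).mpr hx


open IsLocalRing in
/-- trace on `S ⧸ P ^ n` in terms of the trace on `S ⧸ P`. -/
theorem trace_quot_pow {k S : Type*} [Field k] [CommRing S] (P : Ideal S) [hP : P.IsMaximal]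
    {n : ℕ} (hn : n ≠ 0) [Algebra k (S ⧸ P ^ n)] [Algebra k (S ⧸ P)]
    [Module.Finite k (S ⧸ P ^ n)]
    (hcompat : ∀ c : k, Ideal.Quotient.factor (Ideal.pow_le_self hn)
      (algebraMap k (S ⧸ P ^ n) c) = algebraMap k (S ⧸ P) c) (y : S) :
    Algebra.trace k (S ⧸ P ^ n) (Ideal.Quotient.mk _ y) =
      (Module.length (S ⧸ P ^ n) (S ⧸ P ^ n)).toNat •
        Algebra.trace k (S ⧸ P) (Ideal.Quotient.mk _ y) := by
  have hloc := isLocalRing_quot_pow P hn
  rw [H80.TraceFilt.trace_eq_length_smul k]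
  congr 1
  let _ : Field (S ⧸ P) := Ideal.Quotient.field P
  have hker : ∀ a ∈ P, ((residue (S ⧸ P ^ n)).comp (Ideal.Quotient.mk (P ^ n))) a = 0 := by
    intro a ha
    rw [RingHom.comp_apply, residue_eq_zero_iff, mem_maximalIdeal, mem_nonunits_iff,
      Ideal.Quotient.isUnit_mk_pow_iff_notMem P hn]
    exact fun h => h ha
  let ψ : S ⧸ P →+* ResidueField (S ⧸ P ^ n) :=
    Ideal.Quotient.lift P ((residue (S ⧸ P ^ n)).comp (Ideal.Quotient.mk (P ^ n))) hker
  have hψ : ∀ s : S, ψ (Ideal.Quotient.mk P s) = residue _ (Ideal.Quotient.mk (P ^ n) s) :=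
    fun s => rfl
  have hcomm : ∀ c : k, ψ (algebraMap k (S ⧸ P) c) = algebraMap k (ResidueField (S ⧸ P ^ n)) c := by
    intro c
    rw [← hcompat c]
    obtain ⟨s, hs⟩ := Ideal.Quotient.mk_surjective (algebraMap k (S ⧸ P ^ n) c)
    rw [← hs, Ideal.Quotient.factor_mk, hψ, hs]
    rfl
  have hbij : Function.Bijective ψ := by
    refine ⟨ψ.injective, fun z => ?_⟩
    obtain ⟨w, rfl⟩ := residue_surjective z
    obtain ⟨s, rfl⟩ := Ideal.Quotient.mk_surjective w
    exact ⟨Ideal.Quotient.mk P s, hψ s⟩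
  let e : (S ⧸ P) ≃ₐ[k] ResidueField (S ⧸ P ^ n) :=
    AlgEquiv.ofBijective ⟨ψ, hcomm⟩ hbij
  exact Algebra.trace_eq_of_algEquiv e (Ideal.Quotient.mk P y)

/-- In a Dedekind domain, `S ⧸ P ^ n` has length `n` over itself. -/
theorem length_quot_pow {S : Type*} [CommRing S] [IsDedekindDomain S] (P : Ideal S)
    [hP : P.IsMaximal] (hP0 : P ≠ ⊥) (n : ℕ) :
    Module.length (S ⧸ P ^ n) (S ⧸ P ^ n) = n := by
  let Sq := Localization.AtPrime P
  have : IsDiscreteValuationRing Sq :=
    IsLocalization.AtPrime.isDiscreteValuationRing_of_dedekind_domain S hP0 Sq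
  let e := IsLocalization.AtPrime.equivQuotMaximalIdealPow P Sq n
  have hsurj : Function.Surjective (algebraMap S (Sq ⧸ IsLocalRing.maximalIdeal Sq ^ n)) := by
    intro z
    obtain ⟨w, rfl⟩ := e.surjective z
    obtain ⟨s, rfl⟩ := Ideal.Quotient.mk_surjective w
    exact ⟨s, rfl⟩
  rw [← Module.length_eq_of_surjective (S := S) Ideal.Quotient.mk_surjective,
    e.toLinearEquiv.length_eq, Module.length_eq_of_surjective hsurj,
    ← Module.length_eq_of_surjective (S := Sq) Ideal.Quotient.mk_surjective,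
    IsDiscreteValuationRing.length_quotient_pow_maximalIdeal]

end Groth.Agent.H95.TraceCRT
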