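import Mathlib
import Groth.Agent.H95.TraceCRT

/-!
# The trace on `B ⧸ pB` as a sum over the primes above `p`
-/

set_option linter.deprecated false

namespace Groth.Agent.H95.TraceCRT

open Module UniqueFactorizationMonoid Ideal

universe u

attribute [local instance] Ideal.Quotient.algebraQuotientOfRamificationIdxNeZero
attribute [local instance] Ideal.Quotient.field

theorem trace_quot_map_eq_sum (A B : Type u) [CommRing A] [CommRing B]
    [IsDedekindDomain A] [IsDedekindDomain B] [Algebra A B] [Module.Finite A B]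
    [Module.IsTorsionFree A B] (p : Ideal A) [hpm : p.IsMaximal] (hp : p ≠ ⊥) (y : B) :
    Algebra.trace (A ⧸ p) (B ⧸ p.map (algebraMap A B)) (Ideal.Quotient.mk _ y) =
      ∑ P : (factors (p.map (algebraMap A B))).toFinset,
        p.ramificationIdx' P.1 • Algebra.trace (A ⧸ p) (B ⧸ P.1) (Ideal.Quotient.mk P.1 y) := by
  classical
  have hI : p.map (algebraMap A B) ≠ ⊥ := map_ne_bot_of_ne_bot hp
  let L := Factors.piQuotientLinearEquiv B p hI
  have h1 : Algebra.trace (A ⧸ p) (B ⧸ p.map (algebraMap A B)) (Ideal.Quotient.mk _ y) =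
      Algebra.trace (A ⧸ p) (∀ P : (factors (p.map (algebraMap A B))).toFinset,
        B ⧸ P.1 ^ p.ramificationIdx' P.1) (fun P => Ideal.Quotient.mk _ y) := by
    rw [Algebra.trace_apply, Algebra.trace_apply, ← LinearMap.trace_conj' _ L]
    congr 1
    apply LinearMap.ext
    intro z
    rw [LinearEquiv.conj_apply]
    obtain ⟨w, rfl⟩ := L.surjective z
    simp only [LinearMap.coe_comp, LinearEquiv.coe_coe, Function.comp_apply,
      LinearEquiv.symm_apply_apply, Algebra.coe_lmul_eq_mul, LinearMap.mul_apply_apply]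
    exact map_mul (Factors.piQuotientEquiv p hI) _ _
  rw [h1, trace_pi]
  refine Finset.sum_congr rfl fun P _ => ?_
  have hPmax : P.1.IsMaximal := (Factors.isPrime p P).isMaximal (Factors.ne_bot p P)
  rw [trace_quot_pow P.1 (Factors.ramificationIdx_ne_zero p P) (fun c => ?_) y,
    length_quot_pow P.1 (Factors.ne_bot p P), ENat.toNat_coe]
  obtain ⟨a, rfl⟩ := Ideal.Quotient.mk_surjective c
  rfl

end Groth.Agent.H95.TraceCRT
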