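import Mathlib.Topology.Algebra.OpenSubgroup
import Mathlib.Topology.Separation.Profinite
import Mathlib.Topology.Algebra.Group.Quotient
import Mathlib.GroupTheory.FiniteAbelian.Basic
import Mathlib.Algebra.Module.CharacterModule
import Mathlib.Tactic

set_option autoImplicit false
set_option linter.style.haveILetI false
universe u v

namespace Groth.Agent.H95

open Topology Set

section VD
variable {B : Type u} [AddCommGroup B] [TopologicalSpace B] [IsTopologicalAddGroup B]

/-- van Dantzig: in a locally compact Hausdorff totally disconnected abelian group every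
neighbourhood of `0` contains a compact open subgroup. -/
theorem exists_compact_open_addSubgroup [T2Space B] [LocallyCompactSpace B]
    [TotallyDisconnectedSpace B] {N : Set B} (hN : N ∈ 𝓝 (0 : B)) :
    ∃ U : AddSubgroup B, IsOpen (U : Set B) ∧ IsCompact (U : Set B) ∧ (U : Set B) ⊆ N := by
  obtain ⟨N', hN'N, hN'o, h0N'⟩ := mem_nhds_iff.mp hN
  obtain ⟨K, hK, h0K, hKN'⟩ := exists_compact_subset hN'o h0N'
  obtain ⟨W, hWclopen, h0W, hWK⟩ :=
    (loc_compact_Haus_tot_disc_of_zero_dim (H := B)).exists_subset_of_mem_open h0K isOpen_interior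
  have hWcl : IsClopen W := hWclopen
  have hWcompact : IsCompact W :=
    hK.of_isClosed_subset hWcl.isClosed (hWK.trans interior_subset)
  -- the tube lemma gives an open nhd `v` of 0 with `W + v ⊆ W`
  have hcont : Continuous (fun p : B × B => p.1 + p.2) := continuous_fst.add continuous_snd
  have hopen : IsOpen ((fun p : B × B => p.1 + p.2) ⁻¹' W) := hWcl.isOpen.preimage hcont
  have hsub : W ×ˢ ({0} : Set B) ⊆ (fun p : B × B => p.1 + p.2) ⁻¹' W := by
    rintro ⟨w, z⟩ ⟨hw, hz⟩
    simp only [mem_singleton_iff] at hz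
    simp only [mem_preimage, hz, add_zero]
    exact hw
  obtain ⟨u, v, _, hvo, hWu, h0v, huv⟩ :=
    generalized_tube_lemma hWcompact isCompact_singleton hopen hsub
  have h0v' : (0 : B) ∈ v := h0v (mem_singleton 0)
  have hWv : ∀ w ∈ W, ∀ t ∈ v, w + t ∈ W := fun w hw t ht => huv (mk_mem_prod (hWu hw) ht)
  -- the subgroup of elements translating `W` into itself in both directions
  let U : AddSubgroup B :=
    { carrier := {g | ∀ w ∈ W, w + g ∈ W ∧ w - g ∈ W}
      zero_mem' := fun w hw => by simp [hw]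
      add_mem' := by
        intro a b ha hb w hw
        refine ⟨?_, ?_⟩
        · have := (hb (w + a) (ha w hw).1).1
          rwa [add_assoc] at this
        · have := (hb (w - a) (ha w hw).2).2
          rwa [sub_sub] at this
      neg_mem' := by
        intro a ha w hw
        refine ⟨?_, ?_⟩
        · have := (ha w hw).2
          rwa [sub_eq_add_neg] at this
        · have := (ha w hw).1
          rwa [sub_neg_eq_add] }
  have hUW : (U : Set B) ⊆ W := by
    intro g hg
    have := (hg 0 h0W).1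
    rwa [zero_add] at this
  have hvU : v ∩ (-v) ⊆ (U : Set B) := by
    rintro g ⟨hg1, hg2⟩ w hw
    refine ⟨hWv w hw g hg1, ?_⟩
    rw [sub_eq_add_neg]
    exact hWv w hw (-g) hg2
  have hUopen : IsOpen (U : Set B) := by
    apply AddSubgroup.isOpen_of_mem_nhds U (g := 0)
    refine Filter.mem_of_superset ?_ hvU
    refine Filter.inter_mem (hvo.mem_nhds h0v') ?_
    have : IsOpen (-v) := hvo.neg
    exact this.mem_nhds (by simpa using h0v')
  refine ⟨U, hUopen, ?_, ?_⟩
  · exact hWcompact.of_isClosed_subset (AddSubgroup.isClosed_of_isOpen U hUopen) hUW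
  · exact hUW.trans ((hWK.trans interior_subset).trans (hKN'.trans hN'N))

end VD

section Ext
variable {A : Type u} {B : Type v} [AddCommGroup A] [TopologicalSpace A]
  [AddCommGroup B] [TopologicalSpace B] [IsTopologicalAddGroup B]
  [T2Space B] [LocallyCompactSpace B] [TotallyDisconnectedSpace B]

theorem exists_char_extension (i : A →+ B) (hind : IsInducing i)
    (χ : A →+ ℚ ⧸ AddSubgroup.zmultiples (1 : ℚ)) (hχ : IsOpen (χ.ker : Set A)) :
    ∃ ψ : B →+ ℚ ⧸ AddSubgroup.zmultiples (1 : ℚ), IsOpen (ψ.ker : Set B) ∧ ψ.comp i = χ := by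
  obtain ⟨N₀, hN₀o, hN₀⟩ := hind.isOpen_iff.mp hχ
  have h0 : (0 : B) ∈ N₀ := by
    have : (0 : A) ∈ i ⁻¹' N₀ := by
      rw [hN₀]
      exact χ.ker.zero_mem
    simpa using this
  obtain ⟨U, hUo, -, hUN⟩ := exists_compact_open_addSubgroup (hN₀o.mem_nhds h0)
  have hle : U.comap i ≤ χ.ker := by
    intro a ha
    have : a ∈ i ⁻¹' N₀ := hUN ha
    rw [hN₀] at this
    exact this
  let g : A ⧸ U.comap i →+ ℚ ⧸ AddSubgroup.zmultiples (1 : ℚ) :=
    QuotientAddGroup.lift (U.comap i) χ hle
  let f : A ⧸ U.comap i →+ B ⧸ U := QuotientAddGroup.map (U.comap i) U i le_rfl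
  have hf : Function.Injective f := by
    rw [injective_iff_map_eq_zero]
    intro x hx
    obtain ⟨a, rfl⟩ := QuotientAddGroup.mk_surjective x
    simp only [f, QuotientAddGroup.map_mk] at hx
    rw [QuotientAddGroup.eq_zero_iff] at hx ⊢
    exact hx
  obtain ⟨h', hh'⟩ :=
    (Module.Baer.of_divisible (ℚ ⧸ AddSubgroup.zmultiples (1 : ℚ))).extension_property_addMonoidHom f hf g
  refine ⟨h'.comp (QuotientAddGroup.mk' U), ?_, ?_⟩
  · apply AddSubgroup.isOpen_mono (H₁ := U) _ hUo
    intro b hb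
    rw [AddMonoidHom.mem_ker, AddMonoidHom.comp_apply, QuotientAddGroup.mk'_apply,
      (QuotientAddGroup.eq_zero_iff b).mpr hb, map_zero]
  · ext a
    have := DFunLike.congr_fun hh' (QuotientAddGroup.mk a)
    simp only [AddMonoidHom.comp_apply, f, g, QuotientAddGroup.map_mk, QuotientAddGroup.lift_mk] at this
    simpa using this

end Ext

section FG
variable {B : Type u} [AddCommGroup B] [TopologicalSpace B] [IsTopologicalAddGroup B]

theorem quotient_fg_of_compactly_generated
    (hcg : ∃ K : Set B, IsCompact K ∧ AddSubgroup.closure K = ⊤) (H : AddSubgroup B)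
    (hH : IsOpen (H : Set B)) : AddGroup.FG (B ⧸ H) := by
  obtain ⟨K, hK, hKtop⟩ := hcg
  haveI : DiscreteTopology (B ⧸ H) := QuotientAddGroup.discreteTopology hH
  have hfin : ((QuotientAddGroup.mk' H) '' K).Finite := by
    have : IsCompact ((QuotientAddGroup.mk' H) '' K) :=
      hK.image (QuotientAddGroup.continuous_mk (N := H))
    exact this.finite_of_discrete
  rw [AddGroup.fg_iff]
  refine ⟨(QuotientAddGroup.mk' H) '' K, ?_, hfin⟩
  rw [← AddMonoidHom.map_closure, hKtop,
    AddSubgroup.map_top_of_surjective _ (QuotientAddGroup.mk'_surjective H)]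

end FG

section RF

theorem exists_finiteIndex_not_mem_of_fg {Q : Type u} [AddCommGroup Q] [AddGroup.FG Q]
    (q : Q) (hq : q ≠ 0) : ∃ H : AddSubgroup Q, H.FiniteIndex ∧ q ∉ H := by
  classical
  obtain ⟨n, ι, _, p, hp, e, ⟨φ⟩⟩ := AddCommGroup.equiv_free_prod_directSum_zmod Q
  haveI : ∀ i : ι, NeZero (p i ^ e i) := fun i => ⟨pow_ne_zero _ (hp i).ne_zero⟩
  haveI : Finite (DirectSum ι fun i => ZMod (p i ^ e i)) :=
    Finite.of_equiv _ DFinsupp.equivFunOnFintype.symm
  by_cases hx : (φ q).1 = 0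
  · -- the torsion component is non-zero
    let f : Q →+ (DirectSum ι fun i => ZMod (p i ^ e i)) :=
      (AddMonoidHom.snd _ _).comp φ.toAddMonoidHom
    refine ⟨f.ker, inferInstance, ?_⟩
    intro hmem
    rw [AddMonoidHom.mem_ker] at hmem
    have h2 : (φ q).2 = 0 := hmem
    apply hq
    apply φ.injective
    rw [map_zero]
    exact Prod.ext hx h2
  · obtain ⟨j, hj⟩ : ∃ j, (φ q).1 j ≠ 0 := by
      by_contra hcon
      push Not at hcon
      apply hx
      ext j
      exact hcon j
    set m : ℕ := ((φ q).1 j).natAbs + 1 with hm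
    haveI : NeZero m := ⟨by omega⟩
    let f : Q →+ ZMod m :=
      (Int.castAddHom (ZMod m)).comp ((Finsupp.applyAddHom j).comp
        ((AddMonoidHom.fst _ _).comp φ.toAddMonoidHom))
    refine ⟨f.ker, inferInstance, ?_⟩
    intro hmem
    rw [AddMonoidHom.mem_ker] at hmem
    have h1 : (((φ q).1 j : ℤ) : ZMod m) = 0 := hmem
    rw [ZMod.intCast_zmod_eq_zero_iff_dvd] at h1
    have h2 := Int.natAbs_dvd_natAbs.mpr h1
    simp only [Int.natAbs_natCast] at h2
    have h3 : ((φ q).1 j).natAbs ≠ 0 := Int.natAbs_ne_zero.mpr hj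
    have := Nat.le_of_dvd (Nat.pos_of_ne_zero h3) h2
    omega

end RF

section QZ

theorem QZ_isAddTorsion (x : ℚ ⧸ AddSubgroup.zmultiples (1 : ℚ)) :
    ∃ n : ℕ, 0 < n ∧ n • x = 0 := by
  obtain ⟨q, rfl⟩ := QuotientAddGroup.mk_surjective x
  refine ⟨q.den, q.den_pos, ?_⟩
  rw [← QuotientAddGroup.mk_nsmul, QuotientAddGroup.eq_zero_iff, AddSubgroup.mem_zmultiples_iff]
  refine ⟨q.num, ?_⟩
  rw [nsmul_eq_mul, zsmul_eq_mul, mul_one, mul_comm, Rat.mul_den_eq_num]

variable {B : Type u} [AddCommGroup B] [TopologicalSpace B] [IsTopologicalAddGroup B]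

theorem ker_finiteIndex_of_compactly_generated
    (hcg : ∃ K : Set B, IsCompact K ∧ AddSubgroup.closure K = ⊤)
    (ψ : B →+ ℚ ⧸ AddSubgroup.zmultiples (1 : ℚ)) (hψ : IsOpen (ψ.ker : Set B)) :
    ψ.ker.FiniteIndex := by
  haveI : AddGroup.FG (B ⧸ ψ.ker) := quotient_fg_of_compactly_generated hcg ψ.ker hψ
  have htors : IsAddTorsion (B ⧸ ψ.ker) := by
    intro x
    obtain ⟨b, rfl⟩ := QuotientAddGroup.mk_surjective x
    obtain ⟨n, hn, hnb⟩ := QZ_isAddTorsion (ψ b)
    rw [isOfFinAddOrder_iff_nsmul_eq_zero]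
    refine ⟨n, hn, ?_⟩
    rw [← QuotientAddGroup.mk_nsmul, QuotientAddGroup.eq_zero_iff, AddMonoidHom.mem_ker, map_nsmul]
    exact hnb
  haveI : Finite (B ⧸ ψ.ker) := AddCommGroup.finite_of_fg_isAddTorsion _ htors
  exact AddSubgroup.finiteIndex_of_finite_quotient

end QZ
end Groth.Agent.H95
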