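import Mathlib.AlgebraicGeometry.EllipticCurve.Projective.Basic
import Mathlib.Algebra.Polynomial.SpecificDegree
import Mathlib.Algebra.CubicDiscriminant
import Mathlib.Algebra.MvPolynomial.Equiv
import Mathlib.Tactic

set_option autoImplicit false
universe u

namespace Groth.Agent.H95

open Polynomial

theorem weierstrass_no_root (T : Type u) [CommRing T] [IsDomain T] (z : T) (hz : z ≠ 0)
    (a₁ a₂ a₃ a₄ a₆ : T) (r : T[X]) :
    r ^ 3 + C (a₂ * z) * r ^ 2 + (C (a₄ * z ^ 2) - C (a₁ * z) * X) * r +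
      (C (a₆ * z ^ 3) - C z * X ^ 2 - C (a₃ * z ^ 2) * X) ≠ 0 := by
  intro h
  by_cases hd : r.natDegree = 0
  · obtain ⟨c, rfl⟩ : ∃ c, r = C c := ⟨r.coeff 0, eq_C_of_natDegree_eq_zero hd⟩
    have e : (C c) ^ 3 + C (a₂ * z) * (C c) ^ 2 + (C (a₄ * z ^ 2) - C (a₁ * z) * X) * C c +
        (C (a₆ * z ^ 3) - C z * X ^ 2 - C (a₃ * z ^ 2) * X) =
        C (c ^ 3 + a₂ * z * c ^ 2 + a₄ * z ^ 2 * c + a₆ * z ^ 3) + C (-(a₁ * z * c) - a₃ * z ^ 2) * X
          + C (-z) * X ^ 2 := by
      simp only [map_add, map_mul, map_pow, map_neg, map_sub]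
      ring
    rw [e] at h
    have h2 := congrArg (fun p => p.coeff 2) h
    simp only [coeff_add, coeff_C, coeff_C_mul, coeff_X, coeff_X_pow, coeff_zero] at h2
    norm_num at h2
    exact hz h2
  · have hd1 : 1 ≤ r.natDegree := Nat.one_le_iff_ne_zero.mpr hd
    have hA : (r ^ 3).natDegree = 3 * r.natDegree := natDegree_pow r 3
    set B := C (a₂ * z) * r ^ 2 + (C (a₄ * z ^ 2) - C (a₁ * z) * X) * r +
      (C (a₆ * z ^ 3) - C z * X ^ 2 - C (a₃ * z ^ 2) * X) with hB
    have hB1 : (C (a₂ * z) * r ^ 2).natDegree ≤ 2 * r.natDegree := by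
      refine (natDegree_C_mul_le _ _).trans ?_
      rw [natDegree_pow]
    have hB2 : ((C (a₄ * z ^ 2) - C (a₁ * z) * X) * r).natDegree ≤ 1 + r.natDegree := by
      refine natDegree_mul_le.trans ?_
      gcongr
      compute_degree
    have hB3 : (C (a₆ * z ^ 3) - C z * X ^ 2 - C (a₃ * z ^ 2) * X).natDegree ≤ 2 := by
      compute_degree
    have hBdeg : B.natDegree < (r ^ 3).natDegree := by
      rw [hA]
      refine lt_of_le_of_lt (natDegree_add_le _ _) ?_
      rw [max_lt_iff]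
      constructor
      · refine lt_of_le_of_lt (natDegree_add_le _ _) ?_
        rw [max_lt_iff]
        constructor <;> omega
      · omega
    have hsum : r ^ 3 + B = 0 := by
      rw [hB]
      rw [← h]
      ring
    have := natDegree_add_eq_left_of_natDegree_lt hBdeg
    rw [hsum, natDegree_zero, hA] at this
    omega


theorem finSuccEquiv_C' (k : Type u) [CommRing k] (n : ℕ) (a : k) :
    MvPolynomial.finSuccEquiv k n (MvPolynomial.C a) = C (MvPolynomial.C a) := by
  rw [MvPolynomial.finSuccEquiv_apply, MvPolynomial.coe_eval₂Hom, MvPolynomial.eval₂_C]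
  rfl

theorem finSuccEquiv_X_one (k : Type u) [CommRing k] :
    MvPolynomial.finSuccEquiv k 2 (MvPolynomial.X 1) = C (MvPolynomial.X 0) :=
  MvPolynomial.finSuccEquiv_X_succ (j := (0 : Fin 2))

theorem finSuccEquiv_X_two (k : Type u) [CommRing k] :
    MvPolynomial.finSuccEquiv k 2 (MvPolynomial.X 2) = C (MvPolynomial.X 1) :=
  MvPolynomial.finSuccEquiv_X_succ (j := (1 : Fin 2))

theorem finSuccEquiv1_X_one (k : Type u) [CommRing k] :
    MvPolynomial.finSuccEquiv k 1 (MvPolynomial.X 1) = C (MvPolynomial.X 0) :=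
  MvPolynomial.finSuccEquiv_X_succ (j := (0 : Fin 1))

theorem finSuccEquiv_weierstrass (k : Type u) [Field k] (W : WeierstrassCurve k) :
    MvPolynomial.finSuccEquiv k 2 (WeierstrassCurve.Projective.polynomial W) =
      -(X ^ 3 + C (MvPolynomial.C W.a₂ * MvPolynomial.X 1) * X ^ 2 +
        C (MvPolynomial.C W.a₄ * MvPolynomial.X 1 ^ 2 - MvPolynomial.C W.a₁ * MvPolynomial.X 0 * MvPolynomial.X 1) * X +
        C (MvPolynomial.C W.a₆ * MvPolynomial.X 1 ^ 3 - MvPolynomial.X 0 ^ 2 * MvPolynomial.X 1 -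
          MvPolynomial.C W.a₃ * MvPolynomial.X 0 * MvPolynomial.X 1 ^ 2)) := by
  unfold WeierstrassCurve.Projective.polynomial
  simp only [map_sub, map_add, map_mul, map_pow, finSuccEquiv_C', finSuccEquiv_X_one,
    finSuccEquiv_X_two, MvPolynomial.finSuccEquiv_X_zero]
  ring

theorem weierstrass_projective_irreducible (k : Type u) [Field k] (W : WeierstrassCurve k) :
    Irreducible (WeierstrassCurve.Projective.polynomial W) := by
  rw [← MulEquiv.irreducible_iff (MvPolynomial.finSuccEquiv k 2), finSuccEquiv_weierstrass]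
  set b : MvPolynomial (Fin 2) k := MvPolynomial.C W.a₂ * MvPolynomial.X 1 with hb
  set c : MvPolynomial (Fin 2) k :=
    MvPolynomial.C W.a₄ * MvPolynomial.X 1 ^ 2 - MvPolynomial.C W.a₁ * MvPolynomial.X 0 * MvPolynomial.X 1 with hc
  set d : MvPolynomial (Fin 2) k := MvPolynomial.C W.a₆ * MvPolynomial.X 1 ^ 3 -
    MvPolynomial.X 0 ^ 2 * MvPolynomial.X 1 - MvPolynomial.C W.a₃ * MvPolynomial.X 0 * MvPolynomial.X 1 ^ 2 with hd
  have hcubic : (X ^ 3 + C b * X ^ 2 + C c * X + C d : (MvPolynomial (Fin 2) k)[X]) =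
      Cubic.toPoly ⟨1, b, c, d⟩ := by
    simp [Cubic.toPoly]
  have hmonic : (X ^ 3 + C b * X ^ 2 + C c * X + C d : (MvPolynomial (Fin 2) k)[X]).Monic := by
    rw [hcubic]
    exact Cubic.monic_of_a_eq_one rfl
  have hdeg : (X ^ 3 + C b * X ^ 2 + C c * X + C d : (MvPolynomial (Fin 2) k)[X]).natDegree = 3 := by
    rw [hcubic]
    exact Cubic.natDegree_of_a_ne_zero (by simp)
  have hirr : Irreducible (X ^ 3 + C b * X ^ 2 + C c * X + C d : (MvPolynomial (Fin 2) k)[X]) := by
    rw [hmonic.irreducible_iff_roots_eq_zero_of_degree_le_three (by omega) (by omega)]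
    rw [Multiset.eq_zero_iff_forall_notMem]
    intro ρ hρ
    rw [mem_roots hmonic.ne_zero, IsRoot.def] at hρ
    simp only [eval_add, eval_mul, eval_pow, eval_X, eval_C] at hρ
    -- transport to polynomials in `y` over `k[z]`
    have h2 := congrArg (MvPolynomial.finSuccEquiv k 1) hρ
    rw [hb, hc, hd] at h2
    simp only [map_sub, map_add, map_mul, map_pow, finSuccEquiv_C', finSuccEquiv1_X_one,
      MvPolynomial.finSuccEquiv_X_zero, map_zero] at h2
    refine weierstrass_no_root (MvPolynomial (Fin 1) k) (MvPolynomial.X 0) (MvPolynomial.X_ne_zero 0)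
      (MvPolynomial.C W.a₁) (MvPolynomial.C W.a₂) (MvPolynomial.C W.a₃) (MvPolynomial.C W.a₄)
      (MvPolynomial.C W.a₆) (MvPolynomial.finSuccEquiv k 1 ρ) ?_
    rw [← h2]
    simp only [map_mul, map_pow]
    ring
  exact Associated.irreducible ⟨-1, by simp⟩ hirr

end Groth.Agent.H95
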